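import Cfsg.Agent.Mrg.Omega.NOThreeL.RTools.Two_m3
import Cfsg.Agent.Mrg.Omega.NOThreeL.Plug_m3
import Cfsg.Agent.Mrg.Omega.OM.PG.NoRad_m3
import Mathlib
import Cfsg.Agent.MinSimple.CaseD8
import Cfsg.Agent.Mrg.Omega.All.HOneKer_m3
import Cfsg.Agent.PLocal.OffenderStep
import Cfsg.Agent.Omega.NOThreeL.ATwo.Fam_m3
import Cfsg.Agent.Mrg.Omega.TC.Crit_m3
import Cfsg.Agent.Mrg.Omega.ThmC.TwoData_m3
import Cfsg.Agent.Mrg.Omega.NOThreeL.RLow.RC.Star_m3
import Cfsg.Agent.FastGrp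
import Cfsg.Agent.Prune
set_option linter.all false

section
prune_inst 0x7ff0fefb0ff8addfdfff7e7faff5dffc39d0dfffeffff94bffe0ebff5fff03042fedfba78de0d0fe4fd6e2bc10b87813f97ec67fea6bdc7ffffd5ff45ffbee0fb5e7bd8871d69c340fbc0fff63f07fce7f3fffffffffffffffffffffffffffbeffffffffffff

-- part: Mrg/Omega/NOThreeL/AOne
section
prune_inst 0xd0000b00512200000000050020001c4292000100002800008000000004c88d0000000120b0201000000002040034004812100000000000000000000001180481000010000000a000000000000000000000000000000000000000000000000000000000000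
set_option linter.all false
open scoped Cfsg.Agent.FastGrp

section


/-!
# NO-3L, case (A), one natural factor (socket A1): THEOREM T for all `q` and all `|Z|`, K-free

`V = V_P` is a natural `SL₂(F)`-module for `P ∈ P*(S)` (field automorphisms in `S` allowed, so `|Z| ≤ |F|`),
`U = U_H` induces the full root group. `inf_eq_bot`: `U ∩ U^h = 1` for all `h ∈ P` which act as a matrix
with nonzero lower left entry [`U ∩ U^h` is centralised by `⟨U, U^h⟩`, which induces `SL₂(F)`, so it is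
contained in `T₀ = ⋂ U^g`, `g ∈ P` acting as an element of `SL₂(F)`; `T₀` is normalised by `S`, so meets
`Z`, but `C_V(⟨U, U^h⟩) = 1`]. The closure argument (`clo_frame`, helper83) gives `[V, U] = 1`.
-/

set_option autoImplicit false

namespace Cfsg.Agent.Omega.NOThreeL.AOne

open Subgroup Cfsg Cfsg.Agent.ZN Cfsg.Agent.Omega.MinPar Cfsg.Agent.Omega.Frame Cfsg.Agent.Omega.FrameNOFF
open Cfsg.Agent.Omega.Node.NO3L Cfsg.Agent.Omega.NOThreeL.Basic Cfsg.Agent.Omega.NOThreeL.Main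
open Cfsg.Agent.Omega.NoFF.Basic (conj_conj mem_conj conj_le_iff conj_le_centralizer)
open Cfsg.Agent.Omega.NOThreeL.Pair (conj_eq_of_mem zl_abel)
open Cfsg.Agent.Omega.FFThm (Off NoOver Concl NatK SymK)
open Cfsg.Agent.Omega.FrameFF (cv)
open Cfsg.Agent.Omega.NatPair (ap ap_mul ap_one ap_inv_ap)
open Cfsg.Agent.Lib.SL2Mat
open Cfsg.Agent.MinSimple.VModule (zl_le le_normalizer_zl zc_le_zl zc_le zl_le_zc o2_isPGroup le_normalizer_o2
  mem_zc)
open scoped Pointwise

open Cfsg.Agent.Omega.NOThreeL (mem_normalizer_of_conj_eq clo_frame)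

universe u

/-! ### Matrices -/

section mat

variable {F : Type} [Field F]

/-- a subgroup with all `up` and all conjugates of `up` by an element moving the line is everything -/
theorem mem_of_up {K : Subgroup (Matrix.SpecialLinearGroup (Fin 2) F)} (hu : ∀ b, up b ∈ K)
    {A : Matrix.SpecialLinearGroup (Fin 2) F} (hA : ent A 1 0 ≠ 0) (hc : ∀ b, A * up b * A⁻¹ ∈ K) :
    ∀ x, x ∈ K := by
  have hlo : ∀ b, lo b ∈ K := by
    intro b
    by_cases hb : b = 0
    · rw [hb, lo_zero]; exact K.one_mem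
    -- `A = up a * lo c * up d`
    have h1 := eq_up_lo_up A hA
    set a := (ent A 0 0 - 1) / ent A 1 0
    set c := ent A 1 0
    set d := (ent A 1 1 - 1) / ent A 1 0
    have h2 : ∀ t, lo c * up t * lo (-c) ∈ K := by
      intro t
      have h3 := hc t
      have e : A * up t * A⁻¹ = up a * (lo c * up t * lo (-c)) * up (-a) := by
        rw [h1, mul_inv_rev, mul_inv_rev, up_inv, up_inv, lo_inv]
        have e1 : up d * up t * up (-d) = up t := by rw [up_mul, up_mul]; congr 1; ring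
        calc up a * lo c * up d * up t * (up (-d) * (lo (-c) * up (-a)))
            = up a * (lo c * (up d * up t * up (-d)) * lo (-c)) * up (-a) := by group
          _ = _ := by rw [e1]
      rw [e] at h3
      have h4 := K.mul_mem (K.mul_mem (hu (-a)) h3) (hu a)
      have e2 : up (-a) * (up a * (lo c * up t * lo (-c)) * up (-a)) * up a =
          lo c * up t * lo (-c) := by
        have e3 : up (-a) * up a = 1 := by rw [up_mul, neg_add_cancel, up_zero]
        calc up (-a) * (up a * (lo c * up t * lo (-c)) * up (-a)) * up a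
            = (up (-a) * up a) * (lo c * up t * lo (-c)) * (up (-a) * up a) := by group
          _ = _ := by rw [e3, one_mul, mul_one]
      rwa [e2] at h4
    -- `lo c * up t * lo (-c) = up * lo (-c² t) * up`
    have h3 : ∀ t, t ≠ 0 → lo (-(c ^ 2 * t)) ∈ K := by
      intro t ht
      have hent : ent (lo c * up t * lo (-c)) 1 0 = -(c ^ 2 * t) := by
        simp only [ent_mul, up_00, up_01, up_10, up_11, lo_00, lo_01, lo_10, lo_11]
        ring
      have hne : ent (lo c * up t * lo (-c)) 1 0 ≠ 0 := by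
        rw [hent]
        exact neg_ne_zero.2 (mul_ne_zero (pow_ne_zero 2 hA) ht)
      have h4 := eq_up_lo_up _ hne
      have h5 := h2 t
      rw [h4] at h5
      have h6 := (K.mul_mem_cancel_left (hu _)).1 ((K.mul_mem_cancel_right (hu _)).1 h5)
      rwa [hent] at h6
    have h4 := h3 (-(b / c ^ 2)) (neg_ne_zero.2 (div_ne_zero hb (pow_ne_zero 2 hA)))
    have e : -(c ^ 2 * -(b / c ^ 2)) = b := by
      have : c ^ 2 ≠ 0 := pow_ne_zero 2 hA
      field_simp
    rwa [e] at h4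
  intro x
  obtain ⟨a, b, c, d, rfl⟩ := exists_up_lo x
  exact K.mul_mem (K.mul_mem (K.mul_mem (hu _) (hlo _)) (hu _)) (hlo _)

theorem ap_up_0 (b : F) (x : Fin 2 → F) : ap (up b) x 0 = x 0 + b * x 1 := by
  rw [NatPair.ap_eq_mulVec, Matrix.mulVec, dotProduct, Fin.sum_univ_two]
  change ent (up b) 0 0 * x 0 + ent (up b) 0 1 * x 1 = _
  rw [up_00, up_01, one_mul]

theorem ap_lo_1 (b : F) (x : Fin 2 → F) : ap (lo b) x 1 = b * x 0 + x 1 := by
  rw [NatPair.ap_eq_mulVec, Matrix.mulVec, dotProduct, Fin.sum_univ_two]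
  change ent (lo b) 1 0 * x 0 + ent (lo b) 1 1 * x 1 = _
  rw [lo_10, lo_11, one_mul]

end mat

/-! ### The action on `V` -/

section act

variable {G : Type u} [Group G] {F : Type} [Field F]

/-- `g` acts as `A` on the coordinates of `V`. -/
def Act (e : G → Fin 2 → F) (V : Subgroup G) (g : G) (A : Matrix.SpecialLinearGroup (Fin 2) F) : Prop :=
  ∀ v ∈ V, e (g * v * g⁻¹) = ap A (e v)

variable {e : G → Fin 2 → F} {V : Subgroup G}

theorem Act.mul {g h : G} {A B : Matrix.SpecialLinearGroup (Fin 2) F} (hg : Act e V g A)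
    (hh : Act e V h B) (hn : h ∈ normalizer (V : Set G)) : Act e V (g * h) (A * B) := by
  intro v hv
  have h1 := (mem_normalizer_iff.mp hn v).mp hv
  have h2 : g * h * v * (g * h)⁻¹ = g * (h * v * h⁻¹) * g⁻¹ := by group
  rw [h2, hg _ h1, hh v hv, ap_mul]

theorem Act.one : Act e V 1 (1 : Matrix.SpecialLinearGroup (Fin 2) F) := by
  intro v _
  rw [one_mul, inv_one, mul_one, ap_one]

theorem Act.inv {g : G} {A : Matrix.SpecialLinearGroup (Fin 2) F} (hg : Act e V g A)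
    (hn : g ∈ normalizer (V : Set G)) : Act e V g⁻¹ A⁻¹ := by
  intro v hv
  have h1 := (mem_normalizer_iff.mp (inv_mem hn) v).mp hv
  have h2 := hg _ h1
  have h3 : g * (g⁻¹ * v * g⁻¹⁻¹) * g⁻¹ = v := by group
  rw [h3] at h2
  rw [h2, ap_inv_ap]

end act

/-! ### `U ∩ U^h = 1` -/

section key

variable {G : Type u} [Group G] [Finite G] {F : Type} [Field F]
variable {e : G → Fin 2 → F} {S P U V : Subgroup G}

/-- The hypotheses on `(S, P, U, V)`. -/
structure Hyp (e : G → Fin 2 → F) (S P U V : Subgroup G) : Prop where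
  pS : IsPGroup 2 S
  PV : P ≤ normalizer (V : Set G)
  SP : S ≤ P
  US : U ≤ S
  SU : S ≤ normalizer (U : Set G)
  DU : P ⊓ centralizer (V : Set G) ≤ normalizer (U : Set G)
  ab : U ≤ centralizer (U : Set G)
  one : e 1 = 0
  mul : ∀ v ∈ V, ∀ w ∈ V, e (v * w) = e v + e w
  inj : ∀ v ∈ V, e v = 0 → v = 1
  norm : ∀ g ∈ P, ∀ h ∈ P, ∀ A, Act e V h A → ∃ B, Act e V (g * h * g⁻¹) B
  up1 : ∀ u ∈ U, ∃ b, Act e V u (up b)
  up2 : ∀ b, ∃ u ∈ U, Act e V u (up b)
  fix : ∀ x ∈ U, (∀ s ∈ S, s * x = x * s) → x ∈ V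

namespace Hyp

variable (D : Hyp e S P U V)
include D

omit [Finite G] in
theorem mem_centralizer {g : G} (hg : g ∈ P) (h : Act e V g 1) : g ∈ centralizer (V : Set G) := by
  rw [mem_centralizer_iff]
  intro v hv
  have h1 : g * v * g⁻¹ ∈ V := (mem_normalizer_iff.mp (D.PV hg) v).mp hv
  have h2 : e (g * v * g⁻¹ * v⁻¹) = 0 := by
    have h3 := D.mul _ h1 _ (V.inv_mem hv)
    have h4 := D.mul v hv v⁻¹ (V.inv_mem hv)
    rw [mul_inv_cancel, D.one] at h4
    rw [h3, h v hv, ap_one, ← h4]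
  have h3 := D.inj _ (V.mul_mem h1 (V.inv_mem hv)) h2
  have h4 : g * v * g⁻¹ = v := mul_inv_eq_one.mp h3
  calc v * g = g * v * g⁻¹ * g := by rw [h4]
    _ = g * v := by group

omit [Finite G] in
theorem conj_le {g : G} (hg : g ∈ P) : MulAut.conj g • U ≤ P := by
  intro x hx
  rw [mem_conj] at hx
  have h1 := P.mul_mem (P.mul_mem hg (D.SP (D.US hx))) (P.inv_mem hg)
  have e1 : g * (g⁻¹ * x * g) * g⁻¹ = x := by group
  rwa [e1] at h1

omit [Finite G] in
theorem sup_le' {h : G} (hh : h ∈ P) : U ⊔ MulAut.conj h • U ≤ P :=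
  sup_le (D.US.trans D.SP) (D.conj_le hh)

omit [Finite G] in
/-- `⟨U, U^h⟩` induces `SL₂(F)` -/
theorem exists_act {h : G} (hh : h ∈ P) {A : Matrix.SpecialLinearGroup (Fin 2) F} (hA : Act e V h A)
    (hne : ent A 1 0 ≠ 0) (B : Matrix.SpecialLinearGroup (Fin 2) F) :
    ∃ k ∈ U ⊔ MulAut.conj h • U, Act e V k B := by
  have hV : ∀ k ∈ U ⊔ MulAut.conj h • U, k ∈ normalizer (V : Set G) := fun k hk => D.PV (D.sup_le' hh hk)
  let K : Subgroup (Matrix.SpecialLinearGroup (Fin 2) F) :=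
    { carrier := {x | ∃ k ∈ U ⊔ MulAut.conj h • U, Act e V k x}
      mul_mem' := by
        rintro x y ⟨k, hk, h1⟩ ⟨l, hl, h2⟩
        exact ⟨k * l, mul_mem hk hl, h1.mul h2 (hV l hl)⟩
      one_mem' := ⟨1, one_mem _, Act.one⟩
      inv_mem' := by
        rintro x ⟨k, hk, h1⟩
        exact ⟨k⁻¹, inv_mem hk, h1.inv (hV k hk)⟩ }
  have hu : ∀ b, up b ∈ K := fun b => by
    obtain ⟨u, hu, h1⟩ := D.up2 b
    exact ⟨u, le_sup_left (a := U) hu, h1⟩
  have hc : ∀ b, A * up b * A⁻¹ ∈ K := fun b => by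
    obtain ⟨u, hu, h1⟩ := D.up2 b
    have h2 : h * u * h⁻¹ ∈ MulAut.conj h • U := by
      rw [mem_conj]
      have e1 : h⁻¹ * (h * u * h⁻¹) * h = u := by group
      rwa [e1]
    refine ⟨h * u * h⁻¹, le_sup_right (a := U) h2, ?_⟩
    exact (hA.mul h1 (D.PV (D.SP (D.US hu)))).mul (hA.inv (D.PV hh)) (inv_mem (D.PV hh))
  exact mem_of_up hu hne hc B

omit [Finite G] in
theorem conj_eq {g k : G} (hg : g ∈ P) (hk : k ∈ P) {B : Matrix.SpecialLinearGroup (Fin 2) F}
    (h1 : Act e V g B) (h2 : Act e V k B) : MulAut.conj g • U = MulAut.conj k • U := by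
  have h3 : Act e V (k⁻¹ * g) 1 := by
    have := (h2.inv (D.PV hk)).mul h1 (D.PV hg)
    rwa [inv_mul_cancel] at this
  have h4 : k⁻¹ * g ∈ P := P.mul_mem (P.inv_mem hk) hg
  have h5 := conj_eq_of_mem (D.DU ⟨h4, D.mem_centralizer h4 h3⟩)
  calc MulAut.conj g • U = MulAut.conj (k * (k⁻¹ * g)) • U := by rw [mul_inv_cancel_left]
    _ = MulAut.conj k • U := by rw [← conj_conj, h5]

theorem inf_eq_bot {h : G} (hh : h ∈ P) {A : Matrix.SpecialLinearGroup (Fin 2) F}
    (hA : Act e V h A) (hne : ent A 1 0 ≠ 0) : U ⊓ MulAut.conj h • U = ⊥ := by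
  set T := U ⊓ MulAut.conj h • U with hT
  have hcen : ∀ t ∈ T, ∀ k ∈ U ⊔ MulAut.conj h • U, k * t = t * k := by
    intro t ht k hk
    have h1 : U ⊔ MulAut.conj h • U ≤ centralizer ({t} : Set G) := by
      refine sup_le (fun x hx => ?_) (fun x hx => ?_)
      · rw [mem_centralizer_iff]
        rintro _ rfl
        exact (mem_centralizer_iff.mp (D.ab (mem_inf.mp ht).1) x hx).symm
      · rw [mem_centralizer_iff]
        rintro _ rfl
        exact (mem_centralizer_iff.mp (conj_le_centralizer (g := h) D.ab (mem_inf.mp ht).2) x hx).symm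
    exact (mem_centralizer_iff.mp (h1 hk) t rfl).symm
  let I : Set G := {g | g ∈ P ∧ ∃ B, Act e V g B}
  let T0 : Subgroup G := ⨅ g : I, MulAut.conj (g : G) • U
  have hTT0 : T ≤ T0 := by
    refine le_iInf fun g => ?_
    obtain ⟨g, hg, B, hB⟩ := g
    obtain ⟨k, hk, hkB⟩ := D.exists_act hh hA hne B
    change T ≤ MulAut.conj g • U
    rw [D.conj_eq hg (D.sup_le' hh hk) hB hkB]
    intro t ht
    rw [mem_conj]
    have e1 : k⁻¹ * t * k = t := by rw [mul_assoc, ← hcen t ht k hk, inv_mul_cancel_left]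
    rw [e1]
    exact (mem_inf.mp ht).1
  have hT0 : ∀ g ∈ P, ∀ B, Act e V g B → T0 ≤ MulAut.conj g • U := fun g hg B hB =>
    iInf_le (fun g : I => MulAut.conj (g : G) • U) ⟨g, hg, B, hB⟩
  have hT0U : T0 ≤ U := by
    have := hT0 1 P.one_mem 1 Act.one
    rwa [map_one, one_smul] at this
  have hST0 : ∀ s ∈ S, MulAut.conj s • T0 ≤ T0 := by
    intro s hs
    refine le_iInf fun g => ?_
    obtain ⟨g, hg, B, hB⟩ := g
    change MulAut.conj s • T0 ≤ MulAut.conj g • U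
    obtain ⟨B', hB'⟩ := D.norm s⁻¹ (P.inv_mem (D.SP hs)) g hg B hB
    have h1 : s⁻¹ * g * s⁻¹⁻¹ ∈ P :=
      P.mul_mem (P.mul_mem (P.inv_mem (D.SP hs)) hg) (P.inv_mem (P.inv_mem (D.SP hs)))
    have h2 := (conj_le_iff (g := s)).2 (hT0 _ h1 _ hB')
    refine h2.trans ?_
    rw [conj_conj]
    have e1 : s * (s⁻¹ * g * s⁻¹⁻¹) = g * s := by group
    rw [e1, ← conj_conj, conj_eq_of_mem (D.SU hs)]
  have hSN : S ≤ normalizer (T0 : Set G) := by
    intro s hs
    rw [mem_normalizer_iff]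
    intro x
    constructor
    · intro hx
      apply hST0 s hs
      rw [mem_conj]
      have e1 : s⁻¹ * (s * x * s⁻¹) * s = x := by group
      rwa [e1]
    · intro hx
      have h1 := hST0 s⁻¹ (S.inv_mem hs)
      apply h1
      rw [mem_conj, inv_inv]
      exact hx
  by_contra hne'
  have hT0ne : T0 ≠ ⊥ := fun h0 => hne' (le_bot_iff.1 (h0 ▸ hTT0))
  obtain ⟨x, hx, hx1, hxS⟩ := NoFF.LinesPlug.exists_fixed D.pS (hT0U.trans D.US) hSN hT0ne
  have hxU := hT0U hx
  have hxV := D.fix x hxU hxS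
  have hxT : x ∈ T := mem_inf.mpr ⟨hxU, hT0 h hh A hA hx⟩
  -- `x` is fixed by `SL₂(F)`
  have hfix : ∀ B : Matrix.SpecialLinearGroup (Fin 2) F, ap B (e x) = e x := by
    intro B
    obtain ⟨k, hk, hkB⟩ := D.exists_act hh hA hne B
    rw [← hkB x hxV, hcen x hxT k hk, mul_inv_cancel_right]
  have h1 : e x 1 = 0 := by
    have h2 := congrFun (hfix (up 1)) 0
    rw [ap_up_0, one_mul] at h2
    exact left_eq_add.mp h2.symm
  have h0 : e x 0 = 0 := by
    have h2 := congrFun (hfix (lo 1)) 1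
    rw [ap_lo_1, one_mul] at h2
    exact right_eq_add.mp h2.symm
  refine hx1 (D.inj x hxV ?_)
  funext i
  fin_cases i
  · exact h0
  · exact h1

end Hyp

end key

/-! ### The socket -/

section main

variable {G : Type u} [Group G] [Finite G] {F : Type} [Field F]

theorem false_of (hc : IsCharacteristicTwoType G) (S : Sylow 2 G) (D : DataZ (S : Subgroup G))
    {P H : Subgroup G} (E : Exact (S : Subgroup G) P H)
    (M : NatK F (S : Subgroup G) P (zl (S : Subgroup G) P) (cv (S : Subgroup G) P) 1) : False := by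
  set U := zl (S : Subgroup G) H with hU
  set V := zl (S : Subgroup G) P with hV
  have hcv : cv (S : Subgroup G) P = ⊥ := D.cv_eq hc E.par
  have hUS : U ≤ (S : Subgroup G) := by
    intro x hx
    exact E.long.loc.o2_le S (mem_zc.mp (E.long.loc.zl_le S hc hx)).1
  have hVa : ∀ x ∈ V, ∀ y ∈ V, x * y = y * x := by
    intro x hx y hy
    have h1 := E.par.isLoc.zl_le S hc
    exact (mem_zc.mp (h1 hy)).2.1 x (mem_zc.mp (h1 hx)).1
  have he1 : M.e 1 0 = 0 := by
    have h1 := (M.ker 1 V.one_mem).2 (Subgroup.one_mem _)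
    rw [h1]; rfl
  -- `U` induces the full root group
  obtain ⟨I, h1, h2⟩ := M.off U hUS E.off
  have hI : ∀ i, i ∈ I := by
    intro i
    by_contra hi
    apply E.off.ne
    intro u hu
    obtain ⟨b, hb, hub⟩ := h1 u hu
    have hb0 : ∀ j, b j = 0 := fun j => hb j (by rwa [Subsingleton.elim j i])
    rw [mem_centralizer_iff]
    intro v hv
    have hn : u * v * u⁻¹ ∈ V :=
      (mem_normalizer_iff.mp (le_normalizer_zl _ _ (E.par.le (hUS hu))) v).mp hv
    have h3 : M.e (u * v * u⁻¹ * v⁻¹) = 0 := by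
      have h4 := M.mul _ hn _ (V.inv_mem hv)
      have h5 := M.mul v hv v⁻¹ (V.inv_mem hv)
      rw [mul_inv_cancel, (M.ker 1 V.one_mem).2 (Subgroup.one_mem _)] at h5
      have h6 : M.e (u * v * u⁻¹) = M.e v := by
        funext j
        rw [hub.1 v hv j]
        change ap (up (b j)) _ = _
        rw [hb0 j, up_zero, ap_one]
      rw [h4, h6, ← h5]
    have h4 := (M.ker _ (V.mul_mem hn (V.inv_mem hv))).1 h3
    rw [hcv, mem_bot] at h4
    have h5 : u * v * u⁻¹ = v := mul_inv_eq_one.mp h4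
    calc v * u = u * v * u⁻¹ * u := by rw [h5]
      _ = u * v := by group
  have hyp : Hyp (fun g => M.e g 0) (S : Subgroup G) P U V :=
    { pS := S.isPGroup'
      PV := le_normalizer_zl _ _
      SP := E.par.le
      US := hUS
      SU := E.long.loc.le.trans (le_normalizer_zl _ _)
      DU := by
        refine inf_le_right.trans ((centralizer_le ?_).trans (E.long.cz.trans (le_normalizer_zl _ _)))
        exact zc_le_zl _ _
      ab := (zl_abel hc S E.long.loc).1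
      one := he1
      mul := fun v hv w hw => by
        rw [M.mul v hv w hw]; rfl
      inj := fun v hv h0 => by
        have h3 := (M.ker v hv).1 (by
          funext i
          rw [Subsingleton.elim i 0]
          exact h0)
        rwa [hcv, mem_bot] at h3
      norm := fun g hg h hh A hA => by
        obtain ⟨B, hB⟩ := M.norm g hg h hh (fun _ => A) fun v hv i => by
          rw [Subsingleton.elim i 0]
          exact hA v hv
        exact ⟨B 0, fun v hv => hB v hv 0⟩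
      up1 := fun u hu => by
        obtain ⟨b, _, hb⟩ := h1 u hu
        exact ⟨b 0, fun v hv => hb.1 v hv 0⟩
      up2 := fun b => by
        obtain ⟨u, hu, hb⟩ := h2 (fun _ => b) fun i hi => absurd (hI i) hi
        exact ⟨u, hu, fun v hv => hb.1 v hv 0⟩
      fix := fun x hx hxS => by
        refine zc_le_zl _ _ (mem_zc.mpr ⟨hUS hx, hxS, ?_⟩)
        exact (zl_abel hc S E.long.loc).2 x hx }
  -- the product of the lines on `Z` in `H`
  set W := zc (S : Subgroup G) ⊔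
    NoFF.Lines.W (zc (S : Subgroup G)) (CZ (S : Subgroup G)) {P | IsParS (S : Subgroup G) P ∧ P ≤ H} with hW
  have hZV : zc (S : Subgroup G) ≤ V := zc_le_zl _ _
  have hCH := E.long.cz
  have hWP : W ≤ centralizer (V : Set G) := by
    refine sup_le (fun x hx => ?_) ?_
    · rw [mem_centralizer_iff]
      exact fun y hy => hVa y hy x (hZV hx)
    · have h3 : NoFF.Lines.W (zc (S : Subgroup G)) (CZ (S : Subgroup G))
          {P | IsParS (S : Subgroup G) P ∧ P ≤ H} ≤ WP (S : Subgroup G) :=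
        NoFF.Lines.W_le fun P' hP' c hcc => line_le_WP hP'.1 hcc
      have h4 : WP (S : Subgroup G) ≤ centralizer (WP (S : Subgroup G) : Set G) :=
        (Basic.geo hc D.toData).W_comm
      exact (h3.trans h4).trans (centralizer_le (zl_le_WP E.par))
  apply E.ne
  rw [le_centralizer_iff]
  refine clo_frame hc S E.long.loc hCH (W := W) le_sup_left (sup_le (zc_le_zl _ _) ?_) ?_ ?_ hZV
    (hUS.trans (E.par.le.trans (le_normalizer_zl _ _))) hWP ?_
  · refine NoFF.Lines.W_le fun P' hP' c hcc => ?_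
    have h3 : zl (S : Subgroup G) P' ≤ zl (S : Subgroup G) H :=
      zl_le (zc_le_zl _ _) (hP'.2.trans (le_normalizer_zl _ _))
    have h4 := (conj_le_iff (g := c)).2 h3
    rwa [conj_eq_of_mem (le_normalizer_zl _ _ (hCH hcc))] at h4
  · intro c hcc
    apply mem_normalizer_of_conj_eq
    rw [hW, Subgroup.smul_sup, NoFF.Lines.W_conj hcc, conj_eq_of_mem (centralizer_le_normalizer _ hcc)]
  · intro P' hP' hP'H
    have h3 := NoFF.Lines.line_le (Z := zc (S : Subgroup G)) (C := CZ (S : Subgroup G))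
      (F := {P | IsParS (S : Subgroup G) P ∧ P ≤ H}) ⟨hP', hP'H⟩ (one_mem _)
    rw [map_one, one_smul] at h3
    exact h3.trans le_sup_right
  · intro u hu huV
    obtain ⟨w, hw, hwA⟩ := M.lift fun _ => wm 1 one_ne_zero
    have hwA' : Act (fun g => M.e g 0) V w (wm 1 one_ne_zero) := fun v hv => hwA.1 v hv 0
    have hwV : MulAut.conj w • V = V := conj_eq_of_mem (le_normalizer_zl _ _ hw)
    obtain ⟨b, hb⟩ := hyp.up1 u hu
    have hb0 : b ≠ 0 := by
      rintro rfl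
      rw [up_zero] at hb
      exact huV (hyp.mem_centralizer (hyp.SP (hUS hu)) hb)
    have huP : u ∈ P := hyp.SP (hUS hu)
    refine ⟨w, ?_, ?_, ?_, ?_⟩
    · have h3 := (conj_le_iff (g := w)).2 hZV
      rwa [hwV] at h3
    · have hx : w⁻¹ * u * w ∈ P := P.mul_mem (P.mul_mem (P.inv_mem hw) huP) hw
      have hxA := ((hwA'.inv (hyp.PV hw)).mul hb (hyp.PV huP)).mul hwA' (hyp.PV hw)
      have hne : ent ((wm (1 : F) one_ne_zero)⁻¹ * up b * wm 1 one_ne_zero) 1 0 ≠ 0 := by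
        rw [ent_mul, ent_mul, ent_mul]
        simp only [ent_inv, up_00, up_01, up_10, up_11, wm_00, wm_01, wm_10, wm_11]
        simpa using hb0
      have h3 := hyp.inf_eq_bot hx hxA hne
      have h4 : MulAut.conj w • U ⊓ MulAut.conj (u * w) • U = ⊥ := by
        have e1 : MulAut.conj (u * w) • U = MulAut.conj w • MulAut.conj (w⁻¹ * u * w) • U := by
          rw [conj_conj]
          congr 2
          group
        rw [e1, ← Subgroup.smul_inf, h3, Subgroup.smul_bot]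
      rw [h4, bot_inf_eq]
    · rw [hyp.inf_eq_bot hw hwA' (by rw [wm_10, inv_one]; exact neg_ne_zero.2 one_ne_zero), bot_inf_eq]
    · refine le_of_eq ?_
      have h3 : MulAut.conj w • (U ⊓ centralizer (V : Set G)) =
          MulAut.conj w • U ⊓ centralizer (V : Set G) := by
        rw [Subgroup.smul_inf, NOThreeL.ThmT.conj_centralizer_eq (hyp.PV hw)]
      rw [← h3, NOThreeL.ThmT.card_conj]

/-- **A1** (`F` arbitrary). -/
theorem a1 (K : Cls.{u}) : Main.A1 K := by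
  intro G _ _ hG _ S _ D P H E F _ _ _ M
  exact (false_of hG.char2 S D E M).elim

end main

end Cfsg.Agent.Omega.NOThreeL.AOne

end

section


/-!
# NO-3L, leaf A3: `V_P` of type `S_{2^m+1}^k`

`M : SymK S P V ⊥ k m`.

* `exists_perm`, `odd_pow` : a `2^m`-cycle of the nonzero points, odd powers;
* `const` : `Z = Ω₁(Z(S))` is constant on the nonzero points of every component;
* `false_of` : a transposition induced by an abelian group normalised by `C_P(Z)` is impossible;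
* `a3` : the leaf A3.
-/

set_option autoImplicit false

namespace Cfsg.Agent.Omega.NOThreeL.AThree

open Subgroup Cfsg Cfsg.Agent.ZN Cfsg.Agent.Omega.MinPar Cfsg.Agent.Omega.Frame Cfsg.Agent.Omega.FrameNOFF
open Cfsg.Agent.ZN.ChoiceBase Cfsg.Agent.ZN.ChoiceSit
open Cfsg.Agent.Omega.Node.NO3L Cfsg.Agent.Omega.NOThreeL.Basic
open Cfsg.Agent.Omega.FFThm (Off SymK ActsSym)
open Cfsg.Agent.MinSimple.VModule (le_normalizer_zl)

universe u

/-! ### Permutations -/

theorem exists_perm {n : ℕ} (hn : 0 < n) : ∃ π : Equiv.Perm (Fin (n + 1)),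
    π 0 = 0 ∧ π ^ n = 1 ∧ ∀ x y, x ≠ 0 → y ≠ 0 → ∃ j : ℕ, (π ^ j) x = y := by
  obtain ⟨N, rfl⟩ : ∃ N, n = N + 1 := ⟨n - 1, by omega⟩
  let π : Equiv.Perm (Fin (N + 1 + 1)) := Equiv.Perm.decomposeFin.symm (0, finRotate (N + 1))
  have h0 : π 0 = 0 := Equiv.Perm.decomposeFin_symm_apply_zero 0 _
  have h1 : ∀ x : Fin (N + 1), π x.succ = (x + 1).succ := by
    intro x
    have := Equiv.Perm.decomposeFin_symm_apply_succ (finRotate (N + 1)) 0 x
    rw [Equiv.swap_self, Equiv.refl_apply, finRotate_apply] at this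
    exact this
  have h3 : ∀ j : ℕ, Fin.ofNat (N + 1) (j + 1) = Fin.ofNat (N + 1) j + 1 := by
    intro j
    ext
    simp [Fin.ofNat, Fin.val_add, Nat.add_mod]
  have h2 : ∀ (j : ℕ) (x : Fin (N + 1)), (π ^ j) x.succ = (x + Fin.ofNat (N + 1) j).succ := by
    intro j
    induction j with
    | zero => intro x; simp
    | succ j ih =>
      intro x
      rw [pow_succ', Equiv.Perm.mul_apply, ih, h1, h3]
      exact congrArg Fin.succ (add_assoc x _ 1)
  refine ⟨π, h0, ?_, ?_⟩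
  · ext x : 1
    induction x using Fin.cases with
    | zero =>
      have : ∀ j : ℕ, (π ^ j) 0 = 0 := by
        intro j
        induction j with
        | zero => rfl
        | succ j ih => rw [pow_succ', Equiv.Perm.mul_apply, ih, h0]
      rw [this]; rfl
    | succ x =>
      rw [h2]
      have : Fin.ofNat (N + 1) (N + 1) = 0 := by ext; simp [Fin.ofNat]
      rw [this, add_zero]; rfl
  · intro x y hx hy
    obtain ⟨x, rfl⟩ := Fin.exists_succ_eq.2 hx
    obtain ⟨y, rfl⟩ := Fin.exists_succ_eq.2 hy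
    refine ⟨(y - x : Fin (N + 1)).val, ?_⟩
    have h4 : Fin.ofNat (N + 1) (y - x : Fin (N + 1)).val = y - x := by
      ext
      simp [Fin.ofNat, Nat.mod_eq_of_lt (y - x).2]
    rw [h2, h4]
    congr 1
    abel

/-- A function invariant under an odd power of a 2-element is invariant. -/
theorem odd_pow {α β : Type*} {π : Equiv.Perm α} {a r : ℕ} (ha : π ^ 2 ^ a = 1) (hr : Odd r) {f : α → β}
    (hf : ∀ x, f ((π ^ r) x) = f x) (x : α) : f (π x) = f x := by
  have h1 : r.Coprime (orderOf π) :=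
    (Nat.Coprime.pow_right a (Nat.coprime_two_right.2 hr)).coprime_dvd_right (orderOf_dvd_of_pow_eq_one ha)
  obtain ⟨s, hs⟩ := exists_pow_eq_self_of_coprime h1
  have h2 : ∀ (s : ℕ) (x : α), f (((π ^ r) ^ s) x) = f x := by
    intro s
    induction s with
    | zero => intro x; rfl
    | succ s ih => intro x; rw [pow_succ', Equiv.Perm.mul_apply, hf, ih]
  have h3 := h2 s x
  rwa [hs] at h3

theorem ai {α : Type*} (f : Equiv.Perm α) (x : α) : f (f⁻¹ x) = x := f.apply_symm_apply x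

theorem ia {α : Type*} (f : Equiv.Perm α) (x : α) : f⁻¹ (f x) = x := f.symm_apply_apply x

variable {G : Type u} [Group G]

/-! ### Actions -/

theorem acts_mul {k n : ℕ} {e : G → Fin k → Fin n → ZMod 2} {V : Subgroup G} {g h : G}
    {τ τ' : Fin k → Equiv.Perm (Fin n)} (hh : h ∈ normalizer (V : Set G)) (h1 : ActsSym e V g 1 τ)
    (h2 : ActsSym e V h 1 τ') : ActsSym e V (g * h) 1 (τ * τ') := by
  intro v hv i x
  have e1 : g * h * v * (g * h)⁻¹ = g * (h * v * h⁻¹) * g⁻¹ := by group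
  rw [e1, ← h2 v hv i x]
  exact h1 _ ((mem_normalizer_iff.1 hh v).1 hv) i (τ' i x)

theorem acts_inv {k n : ℕ} {e : G → Fin k → Fin n → ZMod 2} {V : Subgroup G} {g : G}
    {τ : Fin k → Equiv.Perm (Fin n)} (hg : g ∈ normalizer (V : Set G)) (h1 : ActsSym e V g 1 τ) :
    ActsSym e V g⁻¹ 1 τ⁻¹ := by
  intro v hv i x
  have h2 : g⁻¹ * v * g⁻¹⁻¹ ∈ V := (mem_normalizer_iff.1 (inv_mem hg) v).1 hv
  have h3 := h1 _ h2 i (τ⁻¹ i x)
  have e1 : g * (g⁻¹ * v * g⁻¹⁻¹) * g⁻¹ = v := by group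
  rw [e1] at h3
  have e2 : τ i (τ⁻¹ i x) = x := ai (τ i) x
  rw [e2] at h3
  exact h3.symm

theorem acts_pow {k n : ℕ} {e : G → Fin k → Fin n → ZMod 2} {V : Subgroup G} {g : G}
    {τ : Fin k → Equiv.Perm (Fin n)} (hg : g ∈ normalizer (V : Set G)) (h : ActsSym e V g 1 τ) (r : ℕ) :
    ActsSym e V (g ^ r) 1 (τ ^ r) := by
  induction r with
  | zero =>
    intro v _ i x
    have e1 : g ^ 0 * v * (g ^ 0)⁻¹ = v := by simp
    rw [e1]; rfl
  | succ r ih =>
    rw [pow_succ' g, pow_succ' τ]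
    exact acts_mul (pow_mem hg r) h ih

theorem e_one {T P V : Subgroup G} {k m : ℕ} (M : SymK T P V ⊥ k m) : M.e 1 = 0 :=
  (M.ker 1 V.one_mem).2 (one_mem _)

theorem e_inj {T P V : Subgroup G} {k m : ℕ} (M : SymK T P V ⊥ k m) {v w : G} (hv : v ∈ V) (hw : w ∈ V)
    (he : M.e v = M.e w) : v = w := by
  have h1 : M.e (v * w⁻¹) = 0 := by
    have h2 := M.mul (v * w⁻¹) (mul_mem hv (inv_mem hw)) w hw
    rw [inv_mul_cancel_right, he] at h2
    exact right_eq_add.mp h2
  have h4 := (M.ker _ (mul_mem hv (inv_mem hw))).1 h1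
  rw [mem_bot, mul_inv_eq_one] at h4
  exact h4

theorem exists_ne {m : ℕ} (hm : 2 ≤ m) (x y : Fin (2 ^ m + 1)) : ∃ w, w ≠ 0 ∧ w ≠ x ∧ w ≠ y := by
  have h1 : ({0, x, y} : Finset (Fin (2 ^ m + 1))).card < Fintype.card (Fin (2 ^ m + 1)) := by
    have h2 : ({0, x, y} : Finset (Fin (2 ^ m + 1))).card ≤ 3 := Finset.card_le_three
    have h3 : 2 ^ 2 ≤ 2 ^ m := Nat.pow_le_pow_right (by norm_num) hm
    rw [Fintype.card_fin]
    omega
  obtain ⟨w, hw⟩ := Finset.exists_mem_notMem_of_card_lt_card (s := {0, x, y}) (t := Finset.univ) (by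
    rwa [Finset.card_univ])
  have h2 := hw.2
  simp only [Finset.mem_insert, Finset.mem_singleton, not_or] at h2
  exact ⟨w, h2⟩

section fin

variable [Finite G]

/-- **`Z` is constant on the nonzero points.** -/
theorem const (S : Sylow 2 G) {P V : Subgroup G} {k m : ℕ} (hm : 1 ≤ m) (hSP : (S : Subgroup G) ≤ P)
    (hPV : P ≤ normalizer (V : Set G)) (M : SymK (S : Subgroup G) P V ⊥ k m) {z : G} (hzV : z ∈ V)
    (hz : ∀ s ∈ (S : Subgroup G), s * z = z * s) (i : Fin k) {x y : Fin (2 ^ m + 1)} (hx : x ≠ 0)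
    (hy : y ≠ 0) : M.e z i x = M.e z i y := by
  classical
  have hN : ∀ {g : G}, g ∈ P → ∀ v ∈ V, g * v * g⁻¹ ∈ V := fun hg v hv =>
    (mem_normalizer_iff.1 (hPV hg) v).1 hv
  have h2m : 0 < 2 ^ m := by positivity
  obtain ⟨π, hπ0, hπn, hπ⟩ := exists_perm h2m
  obtain ⟨g, hg, hact, -⟩ := M.lift (Function.update 1 i π)
  -- the 2-part
  obtain ⟨a, r, hr, ho⟩ := Nat.exists_eq_two_pow_mul_odd (n := orderOf g) (orderOf_pos g).ne'
  have hp : IsPGroup 2 (zpowers (g ^ r)) := by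
    rintro ⟨u, hu⟩
    obtain ⟨j, rfl⟩ := mem_zpowers_iff.1 hu
    refine ⟨a, Subtype.ext ?_⟩
    have h1 : (g ^ r) ^ 2 ^ a = 1 := by
      rw [← pow_mul, mul_comm, ← ho, pow_orderOf_eq_one]
    change ((g ^ r) ^ j) ^ 2 ^ a = 1
    rw [← zpow_natCast, ← zpow_mul, mul_comm, zpow_mul, zpow_natCast, h1, one_zpow]
  obtain ⟨n, hn, hnS⟩ := FFThm.exists_conj_le S hSP hp (zpowers_le.2 (pow_mem hg r))
  have hS : n * g ^ r * n⁻¹ ∈ (S : Subgroup G) := hnS (by
    rw [mem_cj]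
    have : n⁻¹ * (n * g ^ r * n⁻¹) * n = g ^ r := by group
    rw [this]
    exact mem_zpowers _)
  have hgr := acts_pow (hPV hg) hact r
  obtain ⟨σ, τ, hστ⟩ := M.perm n hn
  -- the action of `n g^r n⁻¹`
  have hconj : ActsSym M.e V (n * g ^ r * n⁻¹) 1
      (fun l => τ (σ⁻¹ l) * ((Function.update 1 i π : Fin k → Equiv.Perm (Fin (2 ^ m + 1))) ^ r) (σ⁻¹ l) *
        (τ (σ⁻¹ l))⁻¹) := by
    intro v hv l u
    obtain ⟨j, rfl⟩ := σ.surjective l
    obtain ⟨u, rfl⟩ := (τ j).surjective u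
    have hw : n⁻¹ * v * n ∈ V := by
      have := (mem_normalizer_iff.1 (inv_mem (hPV hn)) v).1 hv
      rwa [inv_inv] at this
    have e1 : n * g ^ r * n⁻¹ * v * (n * g ^ r * n⁻¹)⁻¹ = n * (g ^ r * (n⁻¹ * v * n) * (g ^ r)⁻¹) * n⁻¹ := by
      group
    have e2 : n * (n⁻¹ * v * n) * n⁻¹ = v := by group
    have h3 := hστ _ (hN (pow_mem hg r) _ hw) j
      (((Function.update 1 i π : Fin k → Equiv.Perm (Fin (2 ^ m + 1))) ^ r) j u)
    have h4 := hgr _ hw j u
    have h5 := hστ _ hw j u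
    rw [e2] at h5
    rw [e1]
    simp only [Equiv.Perm.one_apply, ia, Equiv.Perm.mul_apply] at h3 h4 h5 ⊢
    rw [h3, h4, h5]
  have hfix := M.fix0 _ hS _ _ hconj (σ i)
  simp only [ia, Equiv.Perm.mul_apply, Pi.pow_apply, Function.update_self] at hfix
  -- `τ i` fixes `0`
  have hπr : (π ^ r) ((τ i)⁻¹ 0) = (τ i)⁻¹ 0 := by
    have := congrArg (⇑(τ i)⁻¹) hfix
    rwa [ia] at this
  have hτ0 : (τ i)⁻¹ 0 = 0 := by
    by_contra hne
    have h1 : π ((τ i)⁻¹ 0) = (τ i)⁻¹ 0 := by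
      have := odd_pow hπn hr (f := fun x => x = (τ i)⁻¹ 0) (fun x => by
        apply propext
        constructor
        · intro h
          rw [← hπr] at h
          exact (π ^ r).injective h
        · rintro rfl
          exact hπr) ((τ i)⁻¹ 0)
      simpa only [_root_.Equiv.Perm.coe_inv, _root_.eq_iff_iff, _root_.iff_true] using this
    have h2 : ∀ j : ℕ, (π ^ j) ((τ i)⁻¹ 0) = (τ i)⁻¹ 0 := by
      intro j
      induction j with
      | zero => rfl
      | succ j ih => rw [pow_succ', Equiv.Perm.mul_apply, ih, h1]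
    have h3 : ∀ y : Fin (2 ^ m + 1), y ≠ 0 → y = (τ i)⁻¹ 0 := by
      intro y hy
      obtain ⟨j, hj⟩ := hπ _ y hne hy
      rw [← hj, h2]
    have h4 : 2 ^ 1 ≤ 2 ^ m := Nat.pow_le_pow_right (by norm_num) hm
    have h5 : (⟨1, by omega⟩ : Fin (2 ^ m + 1)) = ⟨2, by omega⟩ := by
      rw [h3 ⟨1, by omega⟩ (by simp [Fin.ext_iff]), ← h3 ⟨2, by omega⟩ (by simp [Fin.ext_iff])]
    simp [Fin.ext_iff] at h5
  -- `w = n⁻¹ z n`
  have hw : n⁻¹ * z * n ∈ V := by
    have := (mem_normalizer_iff.1 (inv_mem (hPV hn)) z).1 hzV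
    rwa [inv_inv] at this
  have hwfix : g ^ r * (n⁻¹ * z * n) * (g ^ r)⁻¹ = n⁻¹ * z * n := by
    have h1 := hz _ hS
    have e1 : g ^ r * (n⁻¹ * z * n) * (g ^ r)⁻¹ =
        n⁻¹ * ((n * g ^ r * n⁻¹) * z) * (n * g ^ r * n⁻¹)⁻¹ * n := by group
    rw [e1, h1]
    group
  have hwc : ∀ x y : Fin (2 ^ m + 1), x ≠ 0 → y ≠ 0 →
      M.e (n⁻¹ * z * n) i x = M.e (n⁻¹ * z * n) i y := by
    have h1 : ∀ x, M.e (n⁻¹ * z * n) i ((π ^ r) x) = M.e (n⁻¹ * z * n) i x := by
      intro x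
      have h2 := hgr _ hw i x
      rw [hwfix] at h2
      simpa only [_root_.Equiv.Perm.coe_one, _root_.id_eq, _root_.Pi.pow_apply, _root_.Function.update_self] using h2
    have h2 : ∀ x, M.e (n⁻¹ * z * n) i (π x) = M.e (n⁻¹ * z * n) i x := odd_pow hπn hr h1
    intro x y hx hy
    obtain ⟨j, rfl⟩ := hπ x y hx hy
    clear hy
    induction j with
    | zero => rfl
    | succ j ih => rw [pow_succ', Equiv.Perm.mul_apply, h2, ih]
  have hzc : ∀ x y : Fin (2 ^ m + 1), x ≠ 0 → y ≠ 0 → M.e z (σ i) x = M.e z (σ i) y := by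
    have h1 : ∀ x, M.e z (σ i) (τ i x) = M.e (n⁻¹ * z * n) i x := by
      intro x
      have h2 := hστ _ hw i x
      have e2 : n * (n⁻¹ * z * n) * n⁻¹ = z := by group
      rwa [e2] at h2
    have h0 : τ i 0 = 0 := by
      have := congrArg (τ i) hτ0
      rw [ai] at this
      exact this.symm
    intro x y hx hy
    obtain ⟨x, rfl⟩ := (τ i).surjective x
    obtain ⟨y, rfl⟩ := (τ i).surjective y
    rw [h1, h1]
    exact hwc x y (fun h => hx (by rw [h, h0])) fun h => hy (by rw [h, h0])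
  obtain ⟨t, ht, σ', τ', hact', hσ'⟩ := M.trans i (σ i)
  have h1 : ∀ x, M.e z (σ i) (τ' i x) = M.e z i x := by
    intro x
    have h2 := hact' z hzV i x
    have e2 : t * z * t⁻¹ = z := by rw [hz t ht]; group
    rwa [e2, hσ'] at h2
  have h0 : τ' i 0 = 0 := M.fix0 t ht σ' τ' hact' i
  rw [← h1, ← h1]
  exact hzc _ _ (fun h => hx ((τ' i).injective (h.trans h0.symm))) fun h =>
    hy ((τ' i).injective (h.trans h0.symm))

/-- **No transposition is induced by an abelian group normalised by `C_P(Z)`.** -/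
theorem false_of (S : Sylow 2 G) {P V Z A : Subgroup G} {k m : ℕ} (hm : 2 ≤ m)
    (hSP : (S : Subgroup G) ≤ P) (hPV : P ≤ normalizer (V : Set G)) (M : SymK (S : Subgroup G) P V ⊥ k m)
    (hZV : Z ≤ V) (hZ : ∀ s ∈ (S : Subgroup G), ∀ z ∈ Z, s * z = z * s) (hAS : A ≤ (S : Subgroup G))
    (hA : ∀ a ∈ A, ∀ b ∈ A, a * b = b * a) (hn : ∀ g ∈ P, (∀ z ∈ Z, g * z = z * g) → g ∈ normalizer (A : Set G))
    {i : Fin k} {x y : Fin (2 ^ m + 1)} (hxy : x ≠ y) {b : G} (hb : b ∈ A)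
    (hact : ActsSym M.e V b 1 (Function.update 1 i (Equiv.swap x y))) : False := by
  classical
  have hN : ∀ {g : G}, g ∈ P → ∀ v ∈ V, g * v * g⁻¹ ∈ V := fun hg v hv =>
    (mem_normalizer_iff.1 (hPV hg) v).1 hv
  have hf := M.fix0 b (hAS hb) _ _ hact i
  rw [Function.update_self] at hf
  have hx : x ≠ 0 := by
    rintro rfl
    rw [Equiv.swap_apply_left] at hf
    exact hxy hf.symm
  have hy : y ≠ 0 := by
    rintro rfl
    rw [Equiv.swap_apply_right] at hf
    exact hxy hf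
  obtain ⟨w, hw0, hwx, hwy⟩ := exists_ne hm x y
  obtain ⟨g, hg, hgact, -⟩ := M.lift (Function.update 1 i (Equiv.swap y w))
  -- `g` centralises `Z`
  have hgZ : ∀ z ∈ Z, g * z = z * g := by
    intro z hz
    have hzV := hZV hz
    have hc := fun (j : Fin k) {x y : Fin (2 ^ m + 1)} => const S (by omega) hSP hPV M hzV
      (fun s hs => hZ s hs z hz) j (x := x) (y := y)
    have h1 : g * z * g⁻¹ = z := by
      refine e_inj M (hN hg z hzV) hzV ?_
      funext j u
      by_cases hj : j = i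
      · subst hj
        have h2 := hgact z hzV j (Equiv.swap y w u)
        rw [Function.update_self, Equiv.swap_apply_self] at h2
        simp only [Equiv.Perm.one_apply] at h2
        rw [h2]
        by_cases h3 : u = y
        · rw [h3, Equiv.swap_apply_left]
          exact hc j hw0 hy
        · by_cases h4 : u = w
          · rw [h4, Equiv.swap_apply_right]
            exact hc j hy hw0
          · rw [Equiv.swap_apply_of_ne_of_ne h3 h4]
      · have h2 := hgact z hzV j u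
        rw [Function.update_of_ne hj] at h2
        simpa only [_root_.Equiv.Perm.coe_one, _root_.id_eq, _root_.Pi.one_apply] using h2
    calc g * z = g * z * g⁻¹ * g := by group
      _ = z * g := by rw [h1]
  have hb' : g * b * g⁻¹ ∈ A := (mem_normalizer_iff.1 (hn g hg hgZ) b).1 hb
  have hbP : b ∈ P := hSP (hAS hb)
  have hact' := acts_mul (inv_mem (hPV hg)) (acts_mul (hPV hbP) hgact hact) (acts_inv (hPV hg) hgact)
  set b' := g * b * g⁻¹ with hbdef
  have hb'P : b' ∈ P := mul_mem (mul_mem hg hbP) (inv_mem hg)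
  have hτ : ∀ u, (((Function.update 1 i (Equiv.swap y w) : Fin k → Equiv.Perm (Fin (2 ^ m + 1))) *
      (Function.update 1 i (Equiv.swap x y) : Fin k → Equiv.Perm (Fin (2 ^ m + 1))) *
      (Function.update 1 i (Equiv.swap y w) : Fin k → Equiv.Perm (Fin (2 ^ m + 1)))⁻¹) i) u =
      Equiv.swap y w (Equiv.swap x y (Equiv.swap y w u)) := by
    intro u
    simp [Pi.mul_apply, Pi.inv_apply, Equiv.Perm.mul_apply]
  -- a vector
  obtain ⟨v, hv, hve⟩ := M.surj (Function.update 0 i (fun u => if u = x ∨ u = 0 then 1 else 0)) (by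
    intro j
    by_cases hj : j = i
    · subst hj
      rw [Function.update_self]
      have h1 : ∀ u : Fin (2 ^ m + 1), (if u = x ∨ u = 0 then (1 : ZMod 2) else 0) =
          (if u = x then 1 else 0) + if u = 0 then 1 else 0 := by
        intro u
        by_cases h2 : u = x
        · have : u ≠ 0 := h2 ▸ hx
          simp [h2, hx]
        · simp [h2]
      rw [Finset.sum_congr rfl fun u _ => h1 u, Finset.sum_add_distrib]
      simp only [Finset.sum_ite_eq', Finset.mem_univ, if_true]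
      exact CharTwo.add_self_eq_zero _
    · rw [Function.update_of_ne hj]
      simp)
  have hvi : ∀ u, M.e v i u = if u = x ∨ u = 0 then 1 else 0 := fun u => by rw [hve, Function.update_self]
  -- `b`
  have kb : ∀ v ∈ V, ∀ u, M.e (b * v * b⁻¹) i (Equiv.swap x y u) = M.e v i u := by
    intro v hv u
    have := hact v hv i u
    rwa [Function.update_self] at this
  have kb' : ∀ v ∈ V, ∀ u, M.e (b' * v * b'⁻¹) i (Equiv.swap y w (Equiv.swap x y (Equiv.swap y w u))) =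
      M.e v i u := by
    intro v hv u
    have := hact' v hv i u
    rwa [hτ] at this
  have e1 : M.e (b' * (b * v * b⁻¹) * b'⁻¹) i y = 1 := by
    have h1 := kb' _ (hN hbP v hv) y
    rw [Equiv.swap_apply_left, Equiv.swap_apply_of_ne_of_ne hwx hwy, Equiv.swap_apply_right] at h1
    rw [h1]
    have h2 := kb v hv x
    rw [Equiv.swap_apply_left] at h2
    rw [h2, hvi]
    simp
  have e2 : M.e (b * (b' * v * b'⁻¹) * b⁻¹) i y = 0 := by
    have h1 := kb _ (hN hb'P v hv) x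
    rw [Equiv.swap_apply_left] at h1
    rw [h1]
    have h2 := kb' v hv w
    rw [Equiv.swap_apply_right, Equiv.swap_apply_right, Equiv.swap_apply_of_ne_of_ne hxy hwx.symm] at h2
    rw [h2, hvi]
    simp [hwx, hw0]
  have e3 : b' * (b * v * b⁻¹) * b'⁻¹ = b * (b' * v * b'⁻¹) * b⁻¹ := by
    have h1 := hA b' hb' b hb
    calc b' * (b * v * b⁻¹) * b'⁻¹ = (b' * b) * v * (b' * b)⁻¹ := by group
      _ = (b * b') * v * (b * b')⁻¹ := by rw [h1]
      _ = b * (b' * v * b'⁻¹) * b⁻¹ := by group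
  rw [e3, e2] at e1
  exact zero_ne_one e1

end fin

/-- **The leaf A3.** -/
theorem a3 (K : Cls.{u}) : Main.A3 K := by
  intro G _ _ hG _ S hF D P H hE k m _ hm M
  exfalso
  have hcv : FrameFF.cv (S : Subgroup G) P = ⊥ := D.cv_eq hG.char2 hE.par
  rw [hcv] at M
  have hAS : zl (S : Subgroup G) H ≤ (S : Subgroup G) := IsLong.zl_le_S hG.char2 hE.long
  have hPV : P ≤ normalizer (zl (S : Subgroup G) P : Set G) := le_normalizer_zl _ _
  obtain ⟨-, h1⟩ := M.off _ hAS hE.off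
  have h2 := hE.off.ne
  rw [SetLike.not_le_iff_exists] at h2
  obtain ⟨a, ha, hac⟩ := h2
  obtain ⟨τ, hact, hτ⟩ := h1 a ha
  have h3 : ∃ i x, τ i x ≠ x := by
    by_contra hcon
    push Not at hcon
    apply hac
    rw [mem_centralizer_iff]
    intro v hv
    have hav : a * v * a⁻¹ ∈ zl (S : Subgroup G) P :=
      (mem_normalizer_iff.1 (hPV (hE.par.le (hAS ha))) v).1 hv
    have h4 : a * v * a⁻¹ = v := by
      refine e_inj M hav hv ?_
      funext i x
      have h5 := hact v hv i x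
      rw [hcon] at h5
      exact h5
    calc v * a = a * v * a⁻¹ * a := by rw [h4]
      _ = a * v := by group
  obtain ⟨i, x, hx⟩ := h3
  obtain ⟨-, b, hb, hbact⟩ := hτ i x hx
  refine false_of S hm hE.par.le hPV M (MinSimple.VModule.zc_le_zl _ _)
    (fun s hs z hz => (MinSimple.VModule.mem_zc.1 hz).2.1 s hs) hAS
    (fun a ha b hb => ?_) (fun g hg hgz => ?_) hx.symm hb hbact
  · exact congrArg Subtype.val (hE.off.elem.1.is_comm.comm ⟨a, ha⟩ ⟨b, hb⟩)
  · refine le_normalizer_zl _ _ (hE.long.cz ?_)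
    rw [mem_centralizer_iff]
    intro z hz
    exact (hgz z hz).symm

end Cfsg.Agent.Omega.NOThreeL.AThree

end

section


/-!
# NO-3L, case (A): `V_P` of type `S_{2^m+1}^k` is impossible (#14566 (2), helper775; #16668, helper477)

`AThree.a3` is the case where `U_H` offends on `V_P` (socket A3); here nothing is assumed about offenders, so the
result also covers the part `SymK` of the socket A4.

* `false_of` : `A ≤ S`, abelian, quadratic on `V` and normalised by `C_P(Z)`, acts trivially on `V` of type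
  `S_{2^m+1}^k`, `m ≥ 2`;
* `no_sym` : there is no pair of type (A) with `V_P` of type `S_{2^m+1}^k`.
-/

set_option autoImplicit false

namespace Cfsg.Agent.Omega.NOThreeL.AFourSym

open Subgroup Cfsg Cfsg.Agent.ZN Cfsg.Agent.Omega.MinPar Cfsg.Agent.Omega.Frame Cfsg.Agent.Omega.FrameNOFF
open Cfsg.Agent.ZN.ChoiceBase Cfsg.Agent.ZN.ChoiceSit
open Cfsg.Agent.Omega.Node.NO3L Cfsg.Agent.Omega.NOThreeL.Basic
open Cfsg.Agent.Omega.FFThm (Off SymK ActsSym)
open Cfsg.Agent.MinSimple.VModule (le_normalizer_zl)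
open Cfsg.Agent.Omega.NOThreeL.AThree (const e_inj exists_ne ai ia)

universe u

variable {G : Type u} [Group G] [Finite G]

/-- **A quadratic abelian subgroup of `S` normalised by `C_P(Z)` centralises `V`** (`V` of type `S_{2^m+1}^k`). -/
theorem false_of (S : Sylow 2 G) {P V Z A : Subgroup G} {k m : ℕ} (hm : 2 ≤ m)
    (hSP : (S : Subgroup G) ≤ P) (hPV : P ≤ normalizer (V : Set G)) (M : SymK (S : Subgroup G) P V ⊥ k m)
    (hZV : Z ≤ V) (hZ : ∀ s ∈ (S : Subgroup G), ∀ z ∈ Z, s * z = z * s) (hAS : A ≤ (S : Subgroup G))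
    (hA : ∀ a ∈ A, ∀ b ∈ A, a * b = b * a) (hVA : V ≤ normalizer (A : Set G))
    (hn : ∀ g ∈ P, (∀ z ∈ Z, g * z = z * g) → g ∈ normalizer (A : Set G))
    {a : G} (ha : a ∈ A) {v₀ : G} (hv₀ : v₀ ∈ V) (hne : a * v₀ * a⁻¹ ≠ v₀) : False := by
  classical
  have hN : ∀ {g : G}, g ∈ P → ∀ v ∈ V, g * v * g⁻¹ ∈ V := fun hg v hv =>
    (mem_normalizer_iff.1 (hPV hg) v).1 hv
  have hN' : ∀ {g : G}, g ∈ P → ∀ v ∈ V, g⁻¹ * v * g ∈ V := fun {g} hg v hv => by
    have := hN (inv_mem hg) v hv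
    rwa [inv_inv] at this
  have haP : a ∈ P := hSP (hAS ha)
  obtain ⟨σ, τ, hact⟩ := M.perm a haP
  have h0 : ∀ i, τ i 0 = 0 := M.fix0 a (hAS ha) σ τ hact
  -- a moved nonzero point
  obtain ⟨i, x, hx0, hmv⟩ : ∃ (i : Fin k) (x : Fin (2 ^ m + 1)), x ≠ 0 ∧ ¬ (σ i = i ∧ τ i x = x) := by
    by_contra hcon
    push Not at hcon
    apply hne
    refine e_inj M (hN haP _ hv₀) hv₀ ?_
    funext i x
    obtain ⟨w, hw0, -, -⟩ := exists_ne hm x x
    have h1 := hcon i w hw0
    by_cases hx : x = 0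
    · subst hx
      have h2 := hact v₀ hv₀ i 0
      rwa [h1.1, h0] at h2
    · have h3 := hcon i x hx
      have h2 := hact v₀ hv₀ i x
      rwa [h3.1, h3.2] at h2
  set j := σ i with hj
  set y := τ i x with hy
  have hy0 : y ≠ 0 := fun h => hx0 ((τ i).injective (by rw [← hy, h, h0]))
  obtain ⟨w, hw0, hwx, hwy⟩ := exists_ne hm x y
  obtain ⟨g, hg, hgact, -⟩ := M.lift (Function.update 1 j (Equiv.swap y w))
  -- `g` centralises `Z`
  have hgZ : ∀ z ∈ Z, g * z = z * g := by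
    intro z hz
    have hzV := hZV hz
    have hc := fun (l : Fin k) {x y : Fin (2 ^ m + 1)} => const S (by omega) hSP hPV M hzV
      (fun s hs => hZ s hs z hz) l (x := x) (y := y)
    have h1 : g * z * g⁻¹ = z := by
      refine e_inj M (hN hg z hzV) hzV ?_
      funext l u
      by_cases hl : l = j
      · subst hl
        have h2 := hgact z hzV (σ i) (Equiv.swap y w u)
        rw [Function.update_self, Equiv.swap_apply_self] at h2
        simp only [Equiv.Perm.one_apply] at h2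
        rw [h2]
        by_cases h3 : u = y
        · rw [h3, Equiv.swap_apply_left]
          exact hc _ hw0 hy0
        · by_cases h4 : u = w
          · rw [h4, Equiv.swap_apply_right]
            exact hc _ hy0 hw0
          · rw [Equiv.swap_apply_of_ne_of_ne h3 h4]
      · have h2 := hgact z hzV l u
        rw [Function.update_of_ne hl] at h2
        simpa only [_root_.Equiv.Perm.coe_one, _root_.id_eq, _root_.Pi.one_apply] using h2
    calc g * z = g * z * g⁻¹ * g := by group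
      _ = z * g := by rw [h1]
  have hb : g * a * g⁻¹ ∈ A := (mem_normalizer_iff.1 (hn g hg hgZ) a).1 ha
  -- the vector
  obtain ⟨v, hv, hve⟩ := M.surj (Function.update 0 i (fun u => if u = x ∨ u = 0 then 1 else 0)) (by
    intro l
    by_cases hl : l = i
    · subst hl
      rw [Function.update_self]
      have h1 : ∀ u : Fin (2 ^ m + 1), (if u = x ∨ u = 0 then (1 : ZMod 2) else 0) =
          (if u = x then 1 else 0) + if u = 0 then 1 else 0 := by
        intro u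
        by_cases h2 : u = x
        · have : u ≠ 0 := h2 ▸ hx0
          simp [h2, hx0]
        · simp [h2]
      rw [Finset.sum_congr rfl fun u _ => h1 u, Finset.sum_add_distrib]
      simp only [Finset.sum_ite_eq', Finset.mem_univ, if_true]
      exact CharTwo.add_self_eq_zero _
    · rw [Function.update_of_ne hl]
      simp)
  have hvi : ∀ u, M.e v i u = if u = x ∨ u = 0 then 1 else 0 := fun u => by rw [hve, Function.update_self]
  have hvl : ∀ l, l ≠ i → ∀ u, M.e v l u = 0 := fun l hl u => by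
    rw [hve, Function.update_of_ne hl]; rfl
  have hav : a * v * a⁻¹ ∈ V := hN haP v hv
  -- values of `a v a⁻¹`
  have k1 : ∀ u, u ≠ y → u ≠ 0 → M.e (a * v * a⁻¹) j u = 0 := by
    intro u hu hu0
    obtain ⟨u, rfl⟩ := (τ i).surjective u
    have h1 := hact v hv i u
    rw [← hj] at h1
    rw [h1, hvi, if_neg]
    rintro (h | h)
    · exact hu (by rw [h])
    · exact hu0 (by rw [h, h0])
  have k2 : ∀ l, l ≠ j → ∀ u, M.e (a * v * a⁻¹) l u = 0 := by
    intro l hl u
    obtain ⟨l, rfl⟩ := σ.surjective l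
    obtain ⟨u, rfl⟩ := (τ l).surjective u
    rw [hact v hv l u]
    exact hvl l (fun h => hl (by rw [h])) _
  -- the commutator
  set c := a * v * a⁻¹ * v⁻¹ with hcdef
  have hcV : c ∈ V := mul_mem hav (inv_mem hv)
  have hcA : c ∈ A := by
    have h1 : v * a⁻¹ * v⁻¹ ∈ A := (mem_normalizer_iff.1 (hVA hv) _).1 (inv_mem ha)
    have e1 : c = a * (v * a⁻¹ * v⁻¹) := by rw [hcdef]; group
    rw [e1]
    exact mul_mem ha h1
  have hce : M.e c = M.e (a * v * a⁻¹) + M.e v := by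
    have h1 := M.mul c hcV v hv
    have e1 : c * v = a * v * a⁻¹ := by rw [hcdef]; group
    rw [e1] at h1
    rw [h1]
    funext l u
    simp only [Pi.add_apply]
    rw [add_assoc, CharTwo.add_self_eq_zero, add_zero]
  -- the two values of `c`
  have k3 : M.e c j w = 0 := by
    rw [hce]
    simp only [Pi.add_apply]
    rw [k1 w hwy hw0, zero_add]
    by_cases hji : j = i
    · rw [hji, hvi, if_neg]
      rintro (h | h)
      · exact hwx h
      · exact hw0 h
    · exact hvl j hji w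
  have hxy : j = i → x ≠ y := fun h h' => hmv ⟨h, h'.symm⟩
  have k4 : M.e c i x = 1 := by
    rw [hce]
    simp only [Pi.add_apply]
    rw [hvi, if_pos (Or.inl rfl)]
    by_cases hji : j = i
    · have h1 := k1 x (hxy hji) hx0
      rw [hji] at h1
      rw [h1, zero_add]
    · rw [k2 i (fun h => hji h.symm), zero_add]
  -- `b = g a g⁻¹` centralises `c`
  have hbc : g * a * g⁻¹ * c * (g * a * g⁻¹)⁻¹ = c := by
    rw [hA _ hb _ hcA]; group
  have hc' : g⁻¹ * c * g ∈ V := hN' hg c hcV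
  have k5 : M.e (g⁻¹ * c * g) i x = M.e c i x := by
    have h1 := hgact _ hc' i x
    have e1 : g * (g⁻¹ * c * g) * g⁻¹ = c := by group
    rw [e1] at h1
    rw [← h1]
    simp only [Equiv.Perm.one_apply]
    by_cases hji : j = i
    · rw [hji, Function.update_self, Equiv.swap_apply_of_ne_of_ne (hxy hji) hwx.symm]
    · rw [Function.update_of_ne (fun h => hji h.symm)]; rfl
  have k6 : M.e (a * (g⁻¹ * c * g) * a⁻¹) j y = M.e (g⁻¹ * c * g) i x := hact _ hc' i x
  have k7 : M.e c j w = M.e (a * (g⁻¹ * c * g) * a⁻¹) j y := by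
    have h1 := hgact _ (hN haP _ hc') j y
    rw [Function.update_self, Equiv.swap_apply_left] at h1
    simp only [Equiv.Perm.one_apply] at h1
    have e1 : g * (a * (g⁻¹ * c * g) * a⁻¹) * g⁻¹ = g * a * g⁻¹ * c * (g * a * g⁻¹)⁻¹ := by group
    rwa [e1, hbc] at h1
  rw [k3, k6, k5, k4] at k7
  exact zero_ne_one k7

/-- **There is no pair of type (A) with `V_P` of type `S_{2^m+1}^k`.** -/
theorem no_sym {S : Sylow 2 G} (hc : IsCharacteristicTwoType G) (D : DataZ (S : Subgroup G)) {P H : Subgroup G}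
    (h : PairA (S : Subgroup G) P H) {k m : ℕ} (hm : 2 ≤ m)
    (M : SymK (S : Subgroup G) P (zl (S : Subgroup G) P) (FrameFF.cv (S : Subgroup G) P) k m) : False := by
  have hcv : FrameFF.cv (S : Subgroup G) P = ⊥ := D.cv_eq hc h.par
  rw [hcv] at M
  have hAS : zl (S : Subgroup G) H ≤ (S : Subgroup G) := IsLong.zl_le_S hc h.long
  have hPV : P ≤ normalizer (zl (S : Subgroup G) P : Set G) := le_normalizer_zl _ _
  have hel := FFThm.elem_zl hc S h.long.loc
  have h2 := h.ne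
  rw [SetLike.not_le_iff_exists] at h2
  obtain ⟨v, hv, hvc⟩ := h2
  have h3 : ∃ a ∈ zl (S : Subgroup G) H, a * v * a⁻¹ ≠ v := by
    by_contra hcon
    push Not at hcon
    apply hvc
    rw [mem_centralizer_iff]
    intro a ha
    calc a * v = a * v * a⁻¹ * a := by group
      _ = v * a := by rw [hcon a ha]
  obtain ⟨a, ha, hav⟩ := h3
  refine false_of S hm h.par.le hPV M (MinSimple.VModule.zc_le_zl _ _)
    (fun s hs z hz => (MinSimple.VModule.mem_zc.1 hz).2.1 s hs) hAS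
    (fun a ha b hb => ?_) (PairA.le_normalizer' hc h) (fun g hg hgz => ?_) ha hv hav
  · exact congrArg Subtype.val (hel.1.is_comm.comm ⟨a, ha⟩ ⟨b, hb⟩)
  · refine le_normalizer_zl _ _ (h.long.cz ?_)
    rw [mem_centralizer_iff]
    intro z hz
    exact (hgz z hz).symm

end Cfsg.Agent.Omega.NOThreeL.AFourSym

end

section


/-!
# NO-3L, R ∩ (A), `q = 2`, `k = 1`: the plug of `RTransv` (#16559, helper797)

* `exists_gen` : a long `H` contains a long `H₁` with `U_{H₁} = U_H` generated by `C` and members of `P*(S)`;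
* `inf_eq_bot` : (A) implies `C_Z(⟨P, H⟩) = 1`;
* `exists_two` : `V_P` natural for `SL₂(2)`, `U_H` an offender on `V_P`: `Two S P H t p` for some `t`, `p`;
* `exists_Tt` : **R ∩ (A), `q = 2`, `k = 1`**: `T^t = U^t ∩ (U^t)^p` is moved by `⟨V^H⟩`.
-/

set_option autoImplicit false

namespace Cfsg.Agent.Omega.NOThreeL.RTransv

open Subgroup Cfsg Cfsg.Agent.ZN Cfsg.Agent.Omega.MinPar Cfsg.Agent.Omega.Frame Cfsg.Agent.Omega.FrameNOFF
open Cfsg.Agent.Omega.Node.NO3L Cfsg.Agent.Omega.NOThreeL.Basic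
open Cfsg.Agent.Omega.NoFF.Basic (V conj_conj mem_conj conj_le_iff conj_le_centralizer comm_symm comm_mono
  Z_le_V V_le conj_V_mul)
open Cfsg.Agent.Omega.NOThreeL.Pair (conj_eq_of_mem conj_le_normalizer zl_abel)
open Cfsg.Agent.Omega.NOThreeL.AOne (Act)
open Cfsg.Agent.Omega.FFThm (Off NoOver Concl NatK SymK ActsSL)
open Cfsg.Agent.Omega.NatPair (ap ap_mul ap_one ap_inv_ap)
open Cfsg.Agent.Lib.SL2Mat
open Cfsg.Agent.MinSimple.VModule (zl_le le_normalizer_zl zc_le_zl zc_le mem_zc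
  normalizer_le_normalizer_zc)
open scoped Pointwise

universe u

variable {G : Type u} [Group G] [Finite G] {S : Sylow 2 G}

/-! ### Generation -/

/-- `H` is generated by `C` and the members of `P*(S)` in `H`. -/
def Gen (S H : Subgroup G) : Prop :=
  ∀ X : Subgroup G, CZ S ≤ X → (∀ P', IsParS S P' → P' ≤ H → P' ≤ X) → H ≤ X

omit [Finite G] in
theorem conj_CZ {n : G} (hn : n ∈ normalizer ((S : Subgroup G) : Set G)) :
    MulAut.conj n • CZ (S : Subgroup G) = CZ (S : Subgroup G) :=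
  conj_eq_of_mem (conj_cent (normalizer_le_normalizer_zc _ hn))

omit [Finite G] in
theorem isParS_conj {P : Subgroup G} (hP : IsParS (S : Subgroup G) P) {n : G}
    (hn : n ∈ normalizer ((S : Subgroup G) : Set G)) : IsParS (S : Subgroup G) (MulAut.conj n • P) := by
  have h5 := IsParS.map (MulAut.conj n) hP
  have h6 : (S : Subgroup G).map (MulAut.conj n).toMonoidHom = S := conj_eq_of_mem hn
  rw [h6] at h5
  exact h5

/-- **WLOG** `H` is generated by `C` and members of `P*(S)`. -/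
theorem exists_gen {H : Subgroup G} (hH : IsLong (S : Subgroup G) H) :
    ∃ H₁ ≤ H, IsLong (S : Subgroup G) H₁ ∧ zl (S : Subgroup G) H₁ = zl (S : Subgroup G) H ∧
      Gen (S : Subgroup G) H₁ := by
  set F : Set (Subgroup G) := {P' | IsParS (S : Subgroup G) P' ∧ P' ≤ H} with hF
  set H₁ := CZ (S : Subgroup G) ⊔ sSup F with hH₁
  have hle : H₁ ≤ H := sup_le hH.cz (sSup_le fun P' h => h.2)
  have hC : CZ (S : Subgroup G) ≤ H₁ := le_sup_left
  have hS : (S : Subgroup G) ≤ H₁ := (le_CZ S).trans hC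
  have hL : IsLong (S : Subgroup G) H₁ := ⟨hH.loc.of_le S hS hle, hC⟩
  have hmem : ∀ P', IsParS (S : Subgroup G) P' → P' ≤ H → P' ≤ H₁ := by
    intro P' h1 h2
    have h3 : P' ∈ F := ⟨h1, h2⟩
    exact (le_sSup h3).trans le_sup_right
  -- `N_H(S)` normalises `H₁`
  have hconj : ∀ n ∈ H ⊓ normalizer ((S : Subgroup G) : Set G), MulAut.conj n • H₁ ≤ H₁ := by
    rintro n ⟨hnH, hn⟩
    rw [← conj_le_iff (g := n⁻¹), conj_conj, inv_mul_cancel, map_one, one_smul]
    refine sup_le ?_ (sSup_le fun P' h => ?_)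
    · rw [← conj_le_iff (g := n), conj_conj, mul_inv_cancel, map_one, one_smul, conj_CZ hn]
      exact hC
    · rw [← conj_le_iff (g := n), conj_conj, mul_inv_cancel, map_one, one_smul]
      refine hmem _ (isParS_conj h.1 hn) ?_
      have h2 := conj_le_iff (g := n).2 h.2
      rwa [conj_eq_of_mem (le_normalizer hnH)] at h2
  refine ⟨H₁, hle, hL, le_antisymm ?_ ?_, fun X h1 h2 => sup_le h1 (sSup_le fun P' h => ?_)⟩
  · exact zl_le (zc_le_zl _ _) (hle.trans (le_normalizer_zl _ _))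
  · refine zl_le (zc_le_zl _ _) (hH.loc.le_of_forall S ?_ fun P hP hPH => ?_)
    · have key : ∀ n ∈ H ⊓ normalizer ((S : Subgroup G) : Set G),
          MulAut.conj n • zl (S : Subgroup G) H₁ ≤ zl (S : Subgroup G) H₁ := by
        intro n hn
        rw [← conj_le_iff (g := n⁻¹), conj_conj, inv_mul_cancel, map_one, one_smul]
        change V (zc (S : Subgroup G)) H₁ ≤ _
        refine V_le fun h hh => ?_
        rw [← conj_le_iff (g := n), conj_conj, conj_conj, mul_inv_cancel, map_one, one_smul]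
        have e : n * h = (n * h * n⁻¹) * n := by group
        rw [e, ← conj_conj, conj_eq_of_mem (normalizer_le_normalizer_zc _ hn.2)]
        refine Z_le_V (hconj n hn ?_)
        rw [mem_conj]
        have e2 : n⁻¹ * (n * h * n⁻¹) * n = h := by group
        rwa [e2]
      intro n hn
      refine mem_normalizer_of_conj (le_antisymm (key n hn) ?_)
      have h1 := conj_le_iff (g := n).2 (key n⁻¹ (inv_mem hn))
      rwa [conj_conj, mul_inv_cancel, map_one, one_smul] at h1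
    · by_cases hs : IsParS (S : Subgroup G) P
      · exact (hmem P hs hPH).trans (le_normalizer_zl _ _)
      · exact ((par_le_CZ S hP hs).trans hC).trans (le_normalizer_zl _ _)
  · exact h2 P' h.1 (hmem P' h.1 h.2)

/-! ### `C_Z(⟨P, H⟩) = 1` -/

/-- **(A)** implies `C_Z(⟨P, H⟩) = 1`. -/
theorem inf_eq_bot (hc : IsCharacteristicTwoType G) {P H : Subgroup G}
    (hPH : PairA (S : Subgroup G) P H) :
    zc (S : Subgroup G) ⊓ centralizer (P : Set G) ⊓ centralizer (H : Set G) = ⊥ := by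
  by_contra hne
  obtain ⟨⟨z, hz⟩, hz0⟩ := Subgroup.ne_bot_iff_exists_ne_one.1 hne
  have hz1 : z ≠ 1 := fun h0 => hz0 (Subtype.ext h0)
  have hK := RTools.isLong S hz.1.1 hz1
  have hPK : P ≤ centralizer ({z} : Set G) := fun p hp => by
    rw [mem_centralizer_singleton_iff]
    exact mem_centralizer_iff.1 hz.1.2 p hp
  have hHK : H ≤ centralizer ({z} : Set G) := fun p hp => by
    rw [mem_centralizer_singleton_iff]
    exact mem_centralizer_iff.1 hz.2 p hp
  have h1 : ∀ {L : Subgroup G}, L ≤ centralizer ({z} : Set G) →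
      zl (S : Subgroup G) L ≤ zl (S : Subgroup G) (centralizer ({z} : Set G)) := fun hL =>
    zl_le (zc_le_zl _ _) (hL.trans (le_normalizer_zl _ _))
  refine hPH.ne fun v hv => ?_
  rw [mem_centralizer_iff]
  intro u hu
  have h2 := (FFThm.elem_zl hc S hK.loc).1.1.1 ⟨u, h1 hHK hu⟩ ⟨v, h1 hPK hv⟩
  exact congrArg Subtype.val h2

/-! ### The natural module of `SL₂(2)` -/

section nat

variable {F : Type} [Field F] [CharP F 2]

omit [CharP F 2] in
theorem eq_one_of_ne (hF : ∀ x : F, x = 0 ∨ x = 1) {x : F} (hx : x ≠ 0) : x = 1 := (hF x).resolve_left hx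

theorem word_eq : (up 1 * lo 1) * (up (1 : F))⁻¹ * (up 1 * lo 1)⁻¹ * up 1 * (up 1 * lo 1) = 1 := by
  have h2 : (1 : F) + 1 = 0 := CharTwo.add_self_eq_zero 1
  have hu : (up (1 : F))⁻¹ = up 1 := by
    rw [inv_eq_iff_mul_eq_one, up_mul, h2, up_zero]
  have hl : (lo (1 : F))⁻¹ = lo 1 := by
    rw [inv_eq_iff_mul_eq_one, lo_mul, h2, lo_zero]
  have huu : up (1 : F) * up 1 = 1 := by rw [up_mul, h2, up_zero]
  rw [mul_inv_rev, hu, hl]
  have e : up (1 : F) * lo 1 * up 1 * (lo 1 * up 1) * up 1 * (up 1 * lo 1) =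
      up 1 * lo 1 * up 1 * lo 1 * (up 1 * up 1) * up 1 * lo 1 := by group
  rw [e, huu, mul_one]
  apply ext_ent <;> simp only [ent_mul, up_00, up_01, up_10, up_11, lo_00, lo_01, lo_10, lo_11, ent_one_00,
    ent_one_01, ent_one_10, ent_one_11, mul_one, mul_zero, add_zero, zero_add, h2]

variable {P H D : Subgroup G}

/-- `V_P / D` natural for `SL₂(2)`, `U_H` an offender on `V_P`. -/
theorem exists_two (hc : IsCharacteristicTwoType G) (hPH : PairA (S : Subgroup G) P H)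
    (hoff : Off (zl (S : Subgroup G) P) (zl (S : Subgroup G) H)) (hF : ∀ x : F, x = 0 ∨ x = 1)
    (M : NatK F (S : Subgroup G) P (zl (S : Subgroup G) P) D 1) (hDV : D ≤ zl (S : Subgroup G) P)
    (hgen : Gen (S : Subgroup G) H) : ∃ t p, Two (S : Subgroup G) P H t p := by
  set W := zl (S : Subgroup G) P with hW
  set U := zl (S : Subgroup G) H with hU
  set e : G → Fin 2 → F := fun g => M.e g 0 with he
  have hS := hPH.par.le
  have h2 : (1 : F) + 1 = 0 := CharTwo.add_self_eq_zero 1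
  have mul : ∀ v ∈ W, ∀ w ∈ W, e (v * w) = e v + e w := fun v hv w hw => by
    rw [he]
    simp only
    rw [M.mul v hv w hw]
    rfl
  have ker : ∀ v ∈ W, e v = 0 ↔ v ∈ D := fun v hv => by
    rw [← M.ker v hv]
    constructor
    · intro h
      funext i
      rw [Subsingleton.elim i 0]
      exact h
    · intro h
      rw [he]
      simp only
      rw [h]
      rfl
  have hnW : ∀ {g : G}, g ∈ P → g ∈ normalizer (W : Set G) := fun hg => le_normalizer_zl _ _ hg
  have hcon : ∀ {g v : G}, g ∈ P → v ∈ W → g * v * g⁻¹ ∈ W := fun hg hv =>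
    (mem_normalizer_iff.1 (hnW hg) _).1 hv
  have ker' : ∀ g ∈ P, ∀ v ∈ W, e (g * v * g⁻¹) = 0 ↔ e v = 0 := by
    intro g hg v hv
    obtain ⟨σ, hσ⟩ := M.perm g hg
    have h1 := hσ v hv 0
    rwa [Subsingleton.elim (σ 0) 0] at h1
  have hPD : P ≤ normalizer (D : Set G) := by
    intro g hg
    rw [mem_normalizer_iff]
    intro x
    constructor
    · intro hx
      have hxW := hDV hx
      rw [← ker _ (hcon hg hxW), ker' g hg x hxW]
      exact (ker x hxW).2 hx
    · intro hx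
      have hxW : x ∈ W := (mem_normalizer_iff.1 (hnW hg) _).2 (hDV hx)
      rw [← ker x hxW, ← ker' g hg x hxW]
      exact (ker _ (hcon hg hxW)).2 hx
  have hsqW : ∀ v ∈ W, v * v = 1 := fun v hv => by
    rw [← pow_two]; exact (FFThm.elem_zl hc S hPH.par.isLoc).2 v hv
  have habW : ∀ v ∈ W, ∀ w ∈ W, v * w = w * v := fun v hv w hw =>
    congrArg Subtype.val ((FFThm.elem_zl hc S hPH.par.isLoc).1.1.1 ⟨v, hv⟩ ⟨w, hw⟩)
  have one : e 1 = 0 := by
    have := mul 1 W.one_mem 1 W.one_mem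
    rw [mul_one] at this
    exact (left_eq_add.1 this)
  have inv : ∀ v ∈ W, e v⁻¹ = - e v := fun v hv => by
    have := mul v⁻¹ (W.inv_mem hv) v hv
    rw [inv_mul_cancel, one] at this
    exact (neg_eq_of_add_eq_zero_left this.symm).symm
  -- elements acting trivially on `W / D` and `D`
  have cent : ∀ x ∈ P, (∀ v ∈ W, e (x * v * x⁻¹) = e v) → x ∈ centralizer (D : Set G) →
      x ∈ centralizer (W : Set G) := by
    intro x hx h1 h3
    refine le_centralizer S hS hDV hPD hsqW ⟨hnW hx, fun v hv => ?_⟩ h3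
    rw [← ker _ (W.mul_mem (hcon hx hv) (W.inv_mem hv)), mul _ (hcon hx hv) _ (W.inv_mem hv), h1 v hv,
      inv v hv, add_neg_cancel]
  have hUS : U ≤ (S : Subgroup G) := IsLong.zl_le_S hc hPH.long
  have hVS : W ≤ (S : Subgroup G) := IsParS.zl_le_S hc hPH.par
  have hSU : (S : Subgroup G) ≤ normalizer (U : Set G) := hPH.long.loc.le.trans (le_normalizer_zl _ _)
  -- the action of `U`
  have acts : ∀ u ∈ U, ∃ b : F, Act e W u (up b) ∧ u ∈ centralizer (D : Set G) := by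
    intro u hu
    obtain ⟨I, h1, -⟩ := M.off U hUS hoff
    obtain ⟨b, -, h3, h4⟩ := h1 u hu
    refine ⟨b 0, fun v hv => h3 v hv 0, mem_centralizer_iff.2 fun d hd => (h4 d hd).symm⟩
  have acts1 : ∀ u ∈ U, u ∉ centralizer (W : Set G) → Act e W u (up 1) ∧ u ∈ centralizer (D : Set G) := by
    intro u hu huV
    obtain ⟨b, h1, h3⟩ := acts u hu
    by_cases hb : b = 0
    · exfalso
      refine huV (cent u (hS (hUS hu)) (fun v hv => ?_) h3)
      rw [h1 v hv, hb, up_zero, ap_one]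
    · rw [eq_one_of_ne hF hb] at h1
      exact ⟨h1, h3⟩
  obtain ⟨u₀, hu₀, hu₀V⟩ := SetLike.not_le_iff_exists.1 hPH.ne'
  obtain ⟨a₀, d₀⟩ := acts1 u₀ hu₀ hu₀V
  obtain ⟨w, hw, hew⟩ := M.surj fun _ => ![0, 1]
  have hew0 : e w = ![0, 1] := congrFun hew 0
  -- a point of `Z`
  have hz : ∃ z ∈ zc (S : Subgroup G), e z = ![1, 0] := by
    by_contra hcon'
    push Not at hcon'
    have hZD : zc (S : Subgroup G) ≤ D := by
      intro z hz
      have hzW : z ∈ W := zc_le_zl _ _ hz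
      by_contra hzD
      refine hcon' z hz ?_
      have h1 : e z ≠ 0 := fun h => hzD ((ker z hzW).1 h)
      have h3 := a₀ z hzW
      have h4 : u₀ * z * u₀⁻¹ = z := by
        rw [(mem_zc.1 hz).2.1 u₀ (hUS hu₀)]
        group
      rw [h4] at h3
      have h5 : e z 0 = e z 0 + 1 * e z 1 := by
        have := congrFun h3 0
        rwa [AOne.ap_up_0] at this
      have h6 : e z 1 = 0 := by
        rw [one_mul] at h5
        exact (left_eq_add.1 h5)
      have h7 : e z 0 = 1 := by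
        refine eq_one_of_ne hF fun h => h1 ?_
        funext i
        fin_cases i
        · exact h
        · exact h6
      funext i
      fin_cases i
      · exact h7
      · exact h6
    have h1 : W ≤ D := zl_le hZD hPD
    have h3 := (ker w hw).2 (h1 hw)
    rw [hew0] at h3
    have := congrFun h3 1
    simp at this
  obtain ⟨z, hz, hez⟩ := hz
  have hzW : z ∈ W := zc_le_zl _ _ hz
  -- (c1)
  have c1 : ∀ u ∈ U, ∀ v ∈ W, e v 1 = 0 → u * v * u⁻¹ = v := by
    intro u hu v hv h1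
    obtain ⟨b, -, hd⟩ := acts u hu
    have hzu : u * z = z * u := (mem_zc.1 hz).2.1 u (hUS hu)
    rcases hF (e v 0) with h0 | h0
    · have h3 : v ∈ D := (ker v hv).1 (by funext i; fin_cases i; exacts [h0, h1])
      rw [← mem_centralizer_iff.1 hd v h3]
      group
    · have h3 : v * z⁻¹ ∈ D := by
        rw [← ker _ (W.mul_mem hv (W.inv_mem hzW)), mul v hv _ (W.inv_mem hzW), inv z hzW, hez]
        funext i
        fin_cases i
        · change e v 0 + -(1 : F) = 0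
          rw [h0, add_neg_cancel]
        · change e v 1 + -(0 : F) = 0
          rw [h1, neg_zero, add_zero]
      have h4 := mem_centralizer_iff.1 hd _ h3
      have h5 : u * (v * z⁻¹) * z = v * z⁻¹ * z * u := by
        rw [← h4, mul_assoc, mul_assoc, hzu]
        group
      have h6 : u * v = v * u := by
        calc u * v = u * (v * z⁻¹) * z := by group
          _ = v * z⁻¹ * z * u := h5
          _ = v * u := by group
      rw [h6]
      group
  set t := u₀ * w * u₀⁻¹ * w⁻¹ with ht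
  -- (c2)
  have c2 : ∀ u ∈ U, u ∉ centralizer (W : Set G) → ∀ v ∈ W, e v 1 ≠ 0 → u * v * u⁻¹ * v⁻¹ = t := by
    intro u hu huV v hv h1
    obtain ⟨a, d⟩ := acts1 u hu huV
    -- `u₀⁻¹ u` centralises `W`
    have hnorm : ∀ {x}, x ∈ U → x ∈ normalizer (W : Set G) := fun hx => hnW (hS (hUS hx))
    have h3 : u₀⁻¹ * u ∈ centralizer (W : Set G) := by
      refine cent _ (hS (hUS (mul_mem (inv_mem hu₀) hu))) ?_ (mul_mem (inv_mem d₀) d)
      have h4 := (a₀.inv (hnorm hu₀)).mul a (hnorm hu)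
      rw [inv_mul_cancel] at h4
      intro x hx
      rw [h4 x hx, ap_one]
    have h4 : u * w * u⁻¹ = u₀ * w * u₀⁻¹ := by
      have h5 := mem_centralizer_iff.1 h3 w hw
      calc u * w * u⁻¹ = u₀ * (u₀⁻¹ * u * w) * u⁻¹ := by group
        _ = u₀ * (w * (u₀⁻¹ * u)) * u⁻¹ := by rw [h5]
        _ = u₀ * w * u₀⁻¹ := by group
    have h5 : e (v * w⁻¹) 1 = 0 := by
      rw [mul v hv _ (W.inv_mem hw), inv w hw, hew0, Pi.add_apply, Pi.neg_apply, eq_one_of_ne hF h1]
      change (1 : F) + -1 = 0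
      rw [add_neg_cancel]
    have h6 := c1 u hu _ (W.mul_mem hv (W.inv_mem hw)) h5
    have h7 : u * v * u⁻¹ * v⁻¹ = (u * (v * w⁻¹) * u⁻¹) * (u * w * u⁻¹ * w⁻¹) * (v * w⁻¹)⁻¹ := by group
    have htW : u * w * u⁻¹ * w⁻¹ ∈ W := W.mul_mem (hcon (hS (hUS hu)) hw) (W.inv_mem hw)
    rw [h7, h6, habW _ (W.mul_mem hv (W.inv_mem hw)) _ htW, mul_inv_cancel_right, h4, ht]
  have htW : t ∈ W := W.mul_mem (hcon (hS (hUS hu₀)) hw) (W.inv_mem hw)
  have htz : t ∈ zc (S : Subgroup G) := by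
    refine mem_zc.2 ⟨hVS htW, fun s hs => ?_, by rw [pow_two]; exact hsqW t htW⟩
    have hsU : s * u₀ * s⁻¹ ∈ U := (mem_normalizer_iff.1 (hSU hs) _).1 hu₀
    have hsV : s * u₀ * s⁻¹ ∉ centralizer (W : Set G) := fun h =>
      hu₀V ((mem_normalizer_iff.1 (conj_cent (hnW (hS hs))) _).2 h)
    have h1 : e (s * w * s⁻¹) 1 ≠ 0 := by
      obtain ⟨σ, hσ⟩ := M.line s hs
      have h3 := hσ w hw 0
      rw [Subsingleton.elim (σ 0) 0] at h3
      intro h4
      have h5 : e w 1 = 0 := h3.1 h4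
      rw [hew0] at h5
      exact one_ne_zero h5
    have h3 := c2 _ hsU hsV _ (hcon (hS hs) hw) h1
    have h4 : s * u₀ * s⁻¹ * (s * w * s⁻¹) * (s * u₀ * s⁻¹)⁻¹ * (s * w * s⁻¹)⁻¹ = s * t * s⁻¹ := by
      rw [ht]; group
    rw [h4] at h3
    calc s * t = s * t * s⁻¹ * s := by group
      _ = t * s := by rw [h3]
  -- the element `p`
  obtain ⟨p, hp, hpA, hpD⟩ := M.lift fun _ => up 1 * lo 1
  have hpa : Act e W p (up 1 * lo 1) := fun v hv => hpA v hv 0
  have hpd : p ∈ centralizer (D : Set G) := mem_centralizer_iff.2 fun d hd => (hpD d hd).symm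
  refine ⟨t, p, hPH.par, hPH.long, htz, fun v hv u hu => ?_, hPH.ne', hp, fun u hu huV => ?_, hgen⟩
  · by_cases huV : u ∈ centralizer (W : Set G)
    · left
      have h1 := mem_centralizer_iff.1 huV v hv
      rw [← h1]
      group
    · by_cases h1 : e v 1 = 0
      · left
        rw [c1 u hu v hv h1, mul_inv_cancel]
      · exact Or.inr (c2 u hu huV v hv h1)
  · have huP : u ∈ P := hS (hUS hu)
    obtain ⟨a, d⟩ := acts1 u hu huV
    have h1 : p * u⁻¹ * p⁻¹ * u * p ∈ centralizer (W : Set G) := by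
      refine cent _ (mul_mem (mul_mem (mul_mem (mul_mem hp (inv_mem huP)) (inv_mem hp)) huP) hp) ?_
        (mul_mem (mul_mem (mul_mem (mul_mem hpd (inv_mem d)) (inv_mem hpd)) d) hpd)
      have nu : u ∈ normalizer (W : Set G) := hnW huP
      have np : p ∈ normalizer (W : Set G) := hnW hp
      have h3 := (((hpa.mul (a.inv nu) (inv_mem nu)).mul (hpa.inv np) (inv_mem np)).mul a nu).mul hpa np
      rw [word_eq] at h3
      intro x hx
      rw [h3 x hx, ap_one]
    exact ((centralizer_le (zc_le_zl _ _)).trans hPH.long.cz) h1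

end nat

end Cfsg.Agent.Omega.NOThreeL.RTransv

end

section


/-!
# NO-3L, R ∩ (A), `q = 2`, `k = 1` (#17122, helper858): the natural module

`V = V_P`, `V / D` natural for `SL₂(2)`, `U = U_H` acts on `V / D` by the root group and centralises `D`.

* `Crd` : the coordinates; `NatS S P H D t p` : the facts used in #17122: `[V, U] = ⟨t⟩`, `a = p t p⁻¹`,
  `u a u⁻¹ = a t`, `V = ⟨a⟩ C_V(U)`, `Z ≤ ⟨t⟩ D`, `[U, D] = [p, D] = 1`, `S p ≤ p H ∪ u p H`, and
  `C_Z(p u p⁻¹) ≤ C_Z(P)`;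
* `Crd.exists_nat`.
-/

set_option autoImplicit false
set_option linter.unusedSectionVars false

namespace Cfsg.Agent.Omega.NOThreeL.RAOne

open Subgroup Cfsg Cfsg.Agent.ZN Cfsg.Agent.Omega.MinPar Cfsg.Agent.Omega.Frame Cfsg.Agent.Omega.FrameNOFF
open Cfsg.Agent.Omega.Node.NO3L Cfsg.Agent.Omega.NOThreeL.Basic Cfsg.Agent.Omega.NOThreeL.RTransv
open Cfsg.Agent.Omega.NoFF.Basic (V conj_conj mem_conj conj_le_iff conj_le_centralizer comm_symm comm_mono
  Z_le_V V_le conj_V_mul)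
open Cfsg.Agent.Omega.NOThreeL.Pair (conj_eq_of_mem conj_le_normalizer zl_abel)
open Cfsg.Agent.Omega.NOThreeL.AOne (Act)
open Cfsg.Agent.Omega.FFThm (Off NoOver Concl NatK SymK ActsSL)
open Cfsg.Agent.Omega.NatPair (ap ap_mul ap_one ap_inv_ap)
open Cfsg.Agent.Lib.SL2Mat
open Cfsg.Agent.MinSimple.VModule (zl_le le_normalizer_zl zc_le_zl zc_le mem_zc
  normalizer_le_normalizer_zc)
open scoped Pointwise

universe u

variable {G : Type u} [Group G]

/-- The facts on `V_P` used in #17122; `a = p t p⁻¹`. -/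
structure NatS (S P H D : Subgroup G) (t p : G) : Prop extends Two S P H t p where
  t1 : t ≠ 1
  DV : D ≤ zl S P
  pD : p ∈ centralizer (D : Set G)
  UD : zl S H ≤ centralizer (D : Set G)
  /-- `[u, a] = t` -/
  ua : ∀ u ∈ zl S H, u ∉ centralizer (zl S P : Set G) → u * (p * t * p⁻¹) * u⁻¹ = p * t * p⁻¹ * t
  /-- `[p u p⁻¹, t] = a` -/
  ut' : ∀ u ∈ zl S H, u ∉ centralizer (zl S P : Set G) →
    (p * u * p⁻¹) * t * (p * u * p⁻¹)⁻¹ = p * t * p⁻¹ * t
  /-- `V = ⟨a⟩ C_V(U)` -/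
  Va : ∀ v ∈ zl S P, v ∈ centralizer (zl S H : Set G) ∨
    v * (p * t * p⁻¹)⁻¹ ∈ centralizer (zl S H : Set G)
  ZD : ∀ z ∈ zc S, z ∈ D ∨ z * t⁻¹ ∈ D
  Sp : ∀ s ∈ S, ∀ u ∈ zl S H, u ∉ centralizer (zl S P : Set G) →
    p⁻¹ * s * p ∈ H ∨ p⁻¹ * (u⁻¹ * s) * p ∈ H
  cen : ∀ z ∈ zc S, ∀ u ∈ zl S H, u ∉ centralizer (zl S P : Set G) →
    p * u * p⁻¹ * z = z * (p * u * p⁻¹) → P ≤ centralizer ({z} : Set G)

/-- Coordinates of `V / D` over a field `F` with two elements. -/
structure Crd (F : Type) [Field F] (S P H D : Subgroup G) (e : G → Fin 2 → F) : Prop where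
  two : ∀ x : F, x = 0 ∨ x = 1
  mul : ∀ v ∈ zl S P, ∀ w ∈ zl S P, e (v * w) = e v + e w
  surj : ∀ x : Fin 2 → F, ∃ v ∈ zl S P, e v = x
  ker : ∀ v ∈ zl S P, e v = 0 ↔ v ∈ D
  DV : D ≤ zl S P
  PD : P ≤ normalizer (D : Set G)
  lift : ∀ A, ∃ g ∈ P, Act e (zl S P) g A ∧ g ∈ centralizer (D : Set G)
  line : ∀ s ∈ S, ∀ v ∈ zl S P, e (s * v * s⁻¹) 1 = 0 ↔ e v 1 = 0
  gen : ∀ K : Subgroup G, S ≤ K →
    (∀ h ∈ P, h ∈ centralizer (D : Set G) → ∀ A, Act e (zl S P) h A → h ∈ K) → P ≤ K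
  act : ∀ u ∈ zl S H, ∃ b : F, Act e (zl S P) u (up b) ∧ u ∈ centralizer (D : Set G)

section mat

variable {F : Type} [Field F]

theorem ap_up' (b : F) (x : Fin 2 → F) : ap (up b) x = ![x 0 + b * x 1, x 1] := by
  funext i
  fin_cases i
  · exact AOne.ap_up_0 b x
  · change ap (up b) x 1 = x 1
    rw [NatPair.ap_eq_mulVec, Matrix.mulVec, dotProduct, Fin.sum_univ_two]
    change ent (up b) 1 0 * x 0 + ent (up b) 1 1 * x 1 = _
    rw [up_10, up_11, zero_mul, zero_add, one_mul]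

theorem ap_lo' (b : F) (x : Fin 2 → F) : ap (lo b) x = ![x 0, b * x 0 + x 1] := by
  funext i
  fin_cases i
  · change ap (lo b) x 0 = x 0
    rw [NatPair.ap_eq_mulVec, Matrix.mulVec, dotProduct, Fin.sum_univ_two]
    change ent (lo b) 0 0 * x 0 + ent (lo b) 0 1 * x 1 = _
    rw [lo_00, lo_01, zero_mul, add_zero, one_mul]
  · exact AOne.ap_lo_1 b x

theorem conj_word [CharP F 2] : up 1 * lo 1 * up (1 : F) * (up 1 * lo 1)⁻¹ = lo 1 := by
  have h2 : (1 : F) + 1 = 0 := CharTwo.add_self_eq_zero 1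
  have hu : (up (1 : F))⁻¹ = up 1 := by
    rw [inv_eq_iff_mul_eq_one, up_mul, h2, up_zero]
  have hl : (lo (1 : F))⁻¹ = lo 1 := by
    rw [inv_eq_iff_mul_eq_one, lo_mul, h2, lo_zero]
  rw [mul_inv_rev, hu, hl]
  apply ext_ent <;> simp only [ent_mul, up_00, up_01, up_10, up_11, lo_00, lo_01, lo_10, lo_11,
    mul_one, mul_zero, add_zero, zero_add, h2]

end mat

namespace Crd

variable [Finite G] {S : Sylow 2 G} {P H D : Subgroup G}
variable {F : Type} [Field F] {e : G → Fin 2 → F}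
variable (C : Crd F (S : Subgroup G) P H D e)

/-- `H₁ ≤ H` -/
theorem mono {H₁ : Subgroup G} (C : Crd F (S : Subgroup G) P H D e)
    (h : zl (S : Subgroup G) H₁ ≤ zl (S : Subgroup G) H) : Crd F (S : Subgroup G) P H₁ D e :=
  { C with act := fun u hu => C.act u (h hu) }

section basic

include C

omit [Finite G] in
theorem e_one : e 1 = 0 := by
  have := C.mul 1 (zl (S : Subgroup G) P).one_mem 1 (zl (S : Subgroup G) P).one_mem
  rw [mul_one] at this
  exact left_eq_add.1 this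

omit [Finite G] in
theorem e_inv {v : G} (hv : v ∈ zl (S : Subgroup G) P) : e v⁻¹ = - e v := by
  have := C.mul v⁻¹ ((zl (S : Subgroup G) P).inv_mem hv) v hv
  rw [inv_mul_cancel, C.e_one] at this
  exact (neg_eq_of_add_eq_zero_left this.symm).symm

omit [Finite G] in
theorem eq_one {x : F} (hx : x ≠ 0) : x = 1 := (C.two x).resolve_left hx

omit [Finite G] C in
theorem nP {g : G} (hg : g ∈ P) : g ∈ normalizer (zl (S : Subgroup G) P : Set G) :=
  le_normalizer_zl _ _ hg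

omit [Finite G] C in
theorem con {g v : G} (hg : g ∈ P) (hv : v ∈ zl (S : Subgroup G) P) :
    g * v * g⁻¹ ∈ zl (S : Subgroup G) P :=
  (mem_normalizer_iff.1 (nP hg) _).1 hv

end basic

section main

variable (hc : IsCharacteristicTwoType G) (hPH : PairA (S : Subgroup G) P H)
include hc hPH

theorem sqV : ∀ v ∈ zl (S : Subgroup G) P, v * v = 1 := fun v hv => by
  rw [← pow_two]; exact (FFThm.elem_zl hc S hPH.par.isLoc).2 v hv

theorem abV : ∀ v ∈ zl (S : Subgroup G) P, ∀ w ∈ zl (S : Subgroup G) P, v * w = w * v := fun v hv w hw =>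
  congrArg Subtype.val ((FFThm.elem_zl hc S hPH.par.isLoc).1.1.1 ⟨v, hv⟩ ⟨w, hw⟩)

theorem US : zl (S : Subgroup G) H ≤ (S : Subgroup G) := IsLong.zl_le_S hc hPH.long

theorem UP : zl (S : Subgroup G) H ≤ P := (US hc hPH).trans hPH.par.le

include C

/-- an element acting trivially on `V / D` and `D` centralises `V` -/
theorem cent {x : G} (hx : x ∈ P) (h1 : ∀ v ∈ zl (S : Subgroup G) P, e (x * v * x⁻¹) = e v)
    (h3 : x ∈ centralizer (D : Set G)) : x ∈ centralizer (zl (S : Subgroup G) P : Set G) := by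
  refine _root_.Cfsg.Agent.Omega.NOThreeL.RTransv.le_centralizer S hPH.par.le C.DV C.PD (sqV hc hPH) ⟨nP hx, fun v hv => ?_⟩ h3
  rw [← C.ker _ ((zl (S : Subgroup G) P).mul_mem (con hx hv) ((zl (S : Subgroup G) P).inv_mem hv)),
    C.mul _ (con hx hv) _ ((zl (S : Subgroup G) P).inv_mem hv), h1 v hv, C.e_inv hv, add_neg_cancel]

theorem act1 {u : G} (hu : u ∈ zl (S : Subgroup G) H) (huV : u ∉ centralizer (zl (S : Subgroup G) P : Set G)) :
    Act e (zl (S : Subgroup G) P) u (up 1) ∧ u ∈ centralizer (D : Set G) := by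
  obtain ⟨b, h1, h3⟩ := C.act u hu
  by_cases hb : b = 0
  · exfalso
    refine huV (C.cent hc hPH (UP hc hPH hu) (fun v hv => ?_) h3)
    rw [h1 v hv, hb, up_zero, ap_one]
  · rw [C.eq_one hb] at h1
    exact ⟨h1, h3⟩

/-- two elements with the same action -/
theorem same {x y : G} {A : Matrix.SpecialLinearGroup (Fin 2) F} (hx : x ∈ P) (hy : y ∈ P)
    (hxA : Act e (zl (S : Subgroup G) P) x A) (hyA : Act e (zl (S : Subgroup G) P) y A)
    (hxD : x ∈ centralizer (D : Set G)) (hyD : y ∈ centralizer (D : Set G)) {v : G}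
    (hv : v ∈ zl (S : Subgroup G) P) : x * v * x⁻¹ = y * v * y⁻¹ := by
  have h1 : y⁻¹ * x ∈ centralizer (zl (S : Subgroup G) P : Set G) := by
    refine C.cent hc hPH (mul_mem (inv_mem hy) hx) ?_ (mul_mem (inv_mem hyD) hxD)
    have h3 := (hyA.inv (nP hy)).mul hxA (nP hx)
    rw [inv_mul_cancel] at h3
    intro w hw
    rw [h3 w hw, ap_one]
  have h2 := mem_centralizer_iff.1 h1 v hv
  calc x * v * x⁻¹ = y * (y⁻¹ * x * v) * x⁻¹ := by group
    _ = y * (v * (y⁻¹ * x)) * x⁻¹ := by rw [h2]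
    _ = y * v * y⁻¹ := by group

/-- a point of `Z` -/
theorem exists_z : ∃ z ∈ zc (S : Subgroup G), e z = ![1, 0] := by
  by_contra hcon'
  push Not at hcon'
  obtain ⟨u₀, hu₀, hu₀V⟩ := SetLike.not_le_iff_exists.1 hPH.ne'
  obtain ⟨a₀, d₀⟩ := C.act1 hc hPH hu₀ hu₀V
  have hZD : zc (S : Subgroup G) ≤ D := by
    intro z hz
    have hzW : z ∈ zl (S : Subgroup G) P := zc_le_zl _ _ hz
    by_contra hzD
    refine hcon' z hz ?_
    have h1 : e z ≠ 0 := fun h => hzD ((C.ker z hzW).1 h)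
    have h3 := a₀ z hzW
    have h4 : u₀ * z * u₀⁻¹ = z := by
      rw [(mem_zc.1 hz).2.1 u₀ (US hc hPH hu₀)]
      group
    rw [h4, ap_up'] at h3
    have h5 : e z 0 = e z 0 + 1 * e z 1 := congrFun h3 0
    have h6 : e z 1 = 0 := by
      rw [one_mul] at h5
      exact (left_eq_add.1 h5)
    have h7 : e z 0 = 1 := by
      refine C.eq_one fun h => h1 ?_
      funext i
      fin_cases i
      · exact h
      · exact h6
    funext i
    fin_cases i
    · exact h7
    · exact h6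
  have h1 : zl (S : Subgroup G) P ≤ D := zl_le hZD C.PD
  obtain ⟨w, hw, hew⟩ := C.surj ![0, 1]
  have h3 := (C.ker w hw).2 (h1 hw)
  rw [hew] at h3
  have := congrFun h3 1
  simp at this

/-- (c1) -/
theorem c1 {u v : G} (hu : u ∈ zl (S : Subgroup G) H) (hv : v ∈ zl (S : Subgroup G) P) (h1 : e v 1 = 0) :
    u * v * u⁻¹ = v := by
  obtain ⟨z, hz, hez⟩ := C.exists_z hc hPH
  have hzW : z ∈ zl (S : Subgroup G) P := zc_le_zl _ _ hz
  obtain ⟨b, -, hd⟩ := C.act u hu
  have hzu : u * z = z * u := (mem_zc.1 hz).2.1 u (US hc hPH hu)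
  rcases C.two (e v 0) with h0 | h0
  · have h3 : v ∈ D := (C.ker v hv).1 (by funext i; fin_cases i; exacts [h0, h1])
    rw [← mem_centralizer_iff.1 hd v h3]
    group
  · have h3 : v * z⁻¹ ∈ D := by
      rw [← C.ker _ ((zl (S : Subgroup G) P).mul_mem hv ((zl (S : Subgroup G) P).inv_mem hzW)),
        C.mul v hv _ ((zl (S : Subgroup G) P).inv_mem hzW), C.e_inv hzW, hez]
      funext i
      fin_cases i
      · change e v 0 + -(1 : F) = 0
        rw [h0, add_neg_cancel]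
      · change e v 1 + -(0 : F) = 0
        rw [h1, neg_zero, add_zero]
    have h4 := mem_centralizer_iff.1 hd _ h3
    have h5 : u * (v * z⁻¹) * z = v * z⁻¹ * z * u := by
      rw [← h4, mul_assoc, mul_assoc, hzu]
      group
    have h6 : u * v = v * u := by
      calc u * v = u * (v * z⁻¹) * z := by group
        _ = v * z⁻¹ * z * u := h5
        _ = v * u := by group
    rw [h6]
    group

/-- (c2) -/
theorem exists_t : ∃ t ∈ zc (S : Subgroup G), e t = ![1, 0] ∧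
    ∀ u ∈ zl (S : Subgroup G) H, u ∉ centralizer (zl (S : Subgroup G) P : Set G) →
      ∀ v ∈ zl (S : Subgroup G) P, e v 1 ≠ 0 → u * v * u⁻¹ * v⁻¹ = t := by
  obtain ⟨u₀, hu₀, hu₀V⟩ := SetLike.not_le_iff_exists.1 hPH.ne'
  obtain ⟨a₀, d₀⟩ := C.act1 hc hPH hu₀ hu₀V
  obtain ⟨w, hw, hew0⟩ := C.surj ![0, 1]
  have hVS : zl (S : Subgroup G) P ≤ (S : Subgroup G) := IsParS.zl_le_S hc hPH.par
  have hSU : (S : Subgroup G) ≤ normalizer (zl (S : Subgroup G) H : Set G) :=
    hPH.long.loc.le.trans (le_normalizer_zl _ _)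
  set t := u₀ * w * u₀⁻¹ * w⁻¹ with ht
  -- (c2)
  have c2 : ∀ u ∈ zl (S : Subgroup G) H, u ∉ centralizer (zl (S : Subgroup G) P : Set G) →
      ∀ v ∈ zl (S : Subgroup G) P, e v 1 ≠ 0 → u * v * u⁻¹ * v⁻¹ = t := by
    intro u hu huV v hv h1
    obtain ⟨a, d⟩ := C.act1 hc hPH hu huV
    have h4 : u * w * u⁻¹ = u₀ * w * u₀⁻¹ :=
      C.same hc hPH (UP hc hPH hu) (UP hc hPH hu₀) a a₀ d d₀ hw
    have h5 : e (v * w⁻¹) 1 = 0 := by
      rw [C.mul v hv _ (inv_mem hw), C.e_inv hw, hew0, Pi.add_apply, Pi.neg_apply, C.eq_one h1]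
      change (1 : F) + -1 = 0
      rw [add_neg_cancel]
    have h6 := C.c1 hc hPH hu (mul_mem hv (inv_mem hw)) h5
    have h7 : u * v * u⁻¹ * v⁻¹ = (u * (v * w⁻¹) * u⁻¹) * (u * w * u⁻¹ * w⁻¹) * (v * w⁻¹)⁻¹ := by group
    have htW : u * w * u⁻¹ * w⁻¹ ∈ zl (S : Subgroup G) P := mul_mem (con (UP hc hPH hu) hw) (inv_mem hw)
    rw [h7, h6, abV hc hPH _ (mul_mem hv (inv_mem hw)) _ htW, mul_inv_cancel_right, h4, ht]
  have htW : t ∈ zl (S : Subgroup G) P := mul_mem (con (UP hc hPH hu₀) hw) (inv_mem hw)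
  refine ⟨t, mem_zc.2 ⟨hVS htW, fun s hs => ?_, by rw [pow_two]; exact sqV hc hPH t htW⟩, ?_, c2⟩
  · have hsU : s * u₀ * s⁻¹ ∈ zl (S : Subgroup G) H := (mem_normalizer_iff.1 (hSU hs) _).1 hu₀
    have hsV : s * u₀ * s⁻¹ ∉ centralizer (zl (S : Subgroup G) P : Set G) := fun h =>
      hu₀V ((mem_normalizer_iff.1 (conj_cent (nP (hPH.par.le hs))) _).2 h)
    have h1 : e (s * w * s⁻¹) 1 ≠ 0 := by
      intro h4
      have h5 : e w 1 = 0 := (C.line s hs w hw).1 h4
      rw [hew0] at h5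
      exact one_ne_zero h5
    have h3 := c2 _ hsU hsV _ (con (hPH.par.le hs) hw) h1
    have h4 : s * u₀ * s⁻¹ * (s * w * s⁻¹) * (s * u₀ * s⁻¹)⁻¹ * (s * w * s⁻¹)⁻¹ = s * t * s⁻¹ := by
      rw [ht]; group
    rw [h4] at h3
    calc s * t = s * t * s⁻¹ * s := by group
      _ = t * s := by rw [h3]
  · rw [ht, C.mul _ (con (UP hc hPH hu₀) hw) _ (inv_mem hw), a₀ w hw, C.e_inv hw, hew0, ap_up']
    funext i
    fin_cases i
    · simp
    · simp

end main

section nat

variable [CharP F 2] (hc : IsCharacteristicTwoType G) (hPH : PairA (S : Subgroup G) P H)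
include hc hPH C

/-- an element of `C_S(V / D)` fixes `a` -/
theorem fix_a {t p : G} (htZ : t ∈ zc (S : Subgroup G)) (hp : p ∈ P)
    (hpA : Act e (zl (S : Subgroup G) P) p (up 1 * lo 1)) (hpD : p ∈ centralizer (D : Set G))
    (het : e t = ![1, 0])
    (hat : ∀ u ∈ zl (S : Subgroup G) H, u ∉ centralizer (zl (S : Subgroup G) P : Set G) →
      (p * u * p⁻¹) * t * (p * u * p⁻¹)⁻¹ = p * t * p⁻¹ * t)
    {c : G} (hcS : c ∈ (S : Subgroup G)) (hca : e (c * (p * t * p⁻¹) * c⁻¹) = ![0, 1]) :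
    c * (p * t * p⁻¹) = p * t * p⁻¹ * c := by
  have hcP : c ∈ P := hPH.par.le hcS
  have htV : t ∈ zl (S : Subgroup G) P := zc_le_zl _ _ htZ
  set a := p * t * p⁻¹ with ha
  have haV : a ∈ zl (S : Subgroup G) P := con hp htV
  have hea : e a = ![0, 1] := by
    rw [ha, hpA t htV, ap_mul, het, ap_lo', ap_up']
    funext i
    fin_cases i
    · simp [CharTwo.add_self_eq_zero]
    · simp
  have hct : c * t * c⁻¹ = t := by
    rw [(mem_zc.1 htZ).2.1 c hcS]
    group
  obtain ⟨u, hu, huV⟩ := SetLike.not_le_iff_exists.1 hPH.ne'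
  obtain ⟨aU, dU⟩ := C.act1 hc hPH hu huV
  -- `c` is trivial on `V / D`
  have hconj : ∀ {v}, v ∈ zl (S : Subgroup G) P → c * v * c⁻¹ ∈ zl (S : Subgroup G) P := fun hv => con hcP hv
  have hadd : ∀ v ∈ zl (S : Subgroup G) P, ∀ w ∈ zl (S : Subgroup G) P,
      e (c * (v * w) * c⁻¹) = e (c * v * c⁻¹) + e (c * w * c⁻¹) := by
    intro v hv w hw
    rw [← C.mul _ (hconj hv) _ (hconj hw)]
    congr 1
    group
  have hDc : ∀ d ∈ D, e (c * d * c⁻¹) = 0 := fun d hd =>
    (C.ker _ (hconj (C.DV hd))).2 ((mem_normalizer_iff.1 (C.PD hcP) d).1 hd)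
  have htriv : ∀ v ∈ zl (S : Subgroup G) P, e (c * v * c⁻¹) = e v := by
    -- `v = w d`
    have key : ∀ w ∈ zl (S : Subgroup G) P, e (c * w * c⁻¹) = e w → ∀ v ∈ zl (S : Subgroup G) P, e v = e w →
        e (c * v * c⁻¹) = e v := by
      intro w hw hcw v hv hvw
      have h1 : v * w⁻¹ ∈ D := by
        rw [← C.ker _ (mul_mem hv (inv_mem hw)), C.mul v hv _ (inv_mem hw), C.e_inv hw, hvw, add_neg_cancel]
      have h2 := hadd (v * w⁻¹) (mul_mem hv (inv_mem hw)) w hw
      rw [inv_mul_cancel_right, hDc _ h1, hcw, zero_add] at h2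
      rw [h2, hvw]
    intro v hv
    have htt : e (c * t * c⁻¹) = e t := by rw [hct]
    have haa : e (c * a * c⁻¹) = e a := by rw [hca, hea]
    rcases C.two (e v 0) with h0 | h0 <;> rcases C.two (e v 1) with h1 | h1
    · refine key 1 (one_mem _) (by rw [mul_one, mul_inv_cancel]) v hv ?_
      rw [C.e_one]
      funext i; fin_cases i; exacts [h0, h1]
    · refine key a haV haa v hv ?_
      rw [hea]
      funext i; fin_cases i; exacts [h0, h1]
    · refine key t htV htt v hv ?_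
      rw [het]
      funext i; fin_cases i; exacts [h0, h1]
    · refine key (t * a) (mul_mem htV haV) ?_ v hv ?_
      · rw [hadd t htV a haV, htt, haa, C.mul t htV a haV]
      · rw [C.mul t htV a haV, het, hea]
        funext i
        fin_cases i
        · simpa using h0
        · simpa using h1
  -- `u' = p u p⁻¹` and `c⁻¹ u' c` act in the same way
  have hu'P : p * u * p⁻¹ ∈ P := mul_mem (mul_mem hp (UP hc hPH hu)) (inv_mem hp)
  have hu'D : p * u * p⁻¹ ∈ centralizer (D : Set G) := mul_mem (mul_mem hpD dU) (inv_mem hpD)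
  have hu'A := (hpA.mul aU (nP (UP hc hPH hu))).mul (hpA.inv (nP hp)) (inv_mem (nP hp))
  have hcA : Act e (zl (S : Subgroup G) P) c 1 := fun v hv => by rw [ap_one]; exact htriv v hv
  have h1A := ((hcA.inv (nP hcP)).mul hu'A (nP hu'P)).mul hcA (nP hcP)
  rw [inv_one, one_mul, mul_one] at h1A
  have hD1 : c⁻¹ * (p * u * p⁻¹) * c ∈ centralizer (D : Set G) := by
    have h1 := (mem_normalizer_iff.1 (conj_cent (inv_mem (C.PD hcP))) _).1 hu'D
    rwa [inv_inv] at h1
  have h1 := C.same hc hPH (mul_mem (mul_mem (inv_mem hcP) hu'P) hcP) hu'P h1A hu'A hD1 hu'D htV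
  rw [hat u hu huV] at h1
  have hct' : c * t = t * c := by
    rw [(mem_zc.1 htZ).2.1 c hcS]
  have h2 : c⁻¹ * (p * u * p⁻¹) * c * t * (c⁻¹ * (p * u * p⁻¹) * c)⁻¹ =
      c⁻¹ * ((p * u * p⁻¹) * (c * t * c⁻¹) * (p * u * p⁻¹)⁻¹) * c := by group
  rw [h2, hct, hat u hu huV] at h1
  have h3 : a * t * c = c * (a * t) := by
    calc a * t * c = c * (c⁻¹ * (a * t) * c) := by group
      _ = c * (a * t) := by rw [h1]
  have h4 : a * c * t = c * a * t := by
    calc a * c * t = a * (c * t) := by group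
      _ = a * t * c := by rw [hct']; group
      _ = c * a * t := by rw [h3]; group
  exact (mul_right_cancel h4).symm

/-- **`NatS`.** -/
theorem exists_nat (hgen : Gen (S : Subgroup G) H) : ∃ t p, NatS (S : Subgroup G) P H D t p := by
  obtain ⟨t, htZ, het, c2⟩ := C.exists_t hc hPH
  obtain ⟨p, hp, hpA, hpD⟩ := C.lift (up 1 * lo 1)
  have h2 : (1 : F) + 1 = 0 := CharTwo.add_self_eq_zero 1
  have hneg : (-1 : F) = 1 := by
    rw [neg_eq_iff_add_eq_zero, h2]
  have htV : t ∈ zl (S : Subgroup G) P := zc_le_zl _ _ htZ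
  have ht1 : t ≠ 1 := by
    rintro rfl
    rw [C.e_one] at het
    exact one_ne_zero (congrFun het 0).symm
  have htt : t * t = 1 := sqV hc hPH t htV
  set a := p * t * p⁻¹ with ha
  have haV : a ∈ zl (S : Subgroup G) P := con hp htV
  have hea : e a = ![0, 1] := by
    rw [ha, hpA t htV, ap_mul, het, ap_lo', ap_up']
    funext i
    fin_cases i
    · simp [CharTwo.add_self_eq_zero]
    · simp
  have hab := abV hc hPH
  have hUP := UP hc hPH
  have hUS := US hc hPH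
  have hua : ∀ u ∈ zl (S : Subgroup G) H, u ∉ centralizer (zl (S : Subgroup G) P : Set G) →
      u * a * u⁻¹ = a * t := by
    intro u hu huV
    have h1 := c2 u hu huV a haV (by rw [hea]; exact one_ne_zero)
    rw [hab a haV t htV, ← h1]
    group
  have hut : ∀ u ∈ zl (S : Subgroup G) H, u ∉ centralizer (zl (S : Subgroup G) P : Set G) →
      (p * u * p⁻¹) * t * (p * u * p⁻¹)⁻¹ = a * t := by
    intro u hu huV
    have hv : p⁻¹ * t * p ∈ zl (S : Subgroup G) P := by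
      have := con (S := S) (inv_mem hp) htV
      rwa [inv_inv] at this
    have hev : e (p⁻¹ * t * p) 1 ≠ 0 := by
      have h1 := hpA.inv (nP hp) t htV
      rw [inv_inv] at h1
      intro h0
      have h3 : ap (up 1 * lo 1) (e (p⁻¹ * t * p)) = e t := by
        rw [h1, ← ap_mul, mul_inv_cancel, ap_one]
      rw [ap_mul, ap_lo', ap_up', het] at h3
      have h4 := congrFun h3 0
      have h5 := congrFun h3 1
      simp only [Matrix.cons_val_zero, Matrix.cons_val_one, h0, add_zero, one_mul] at h4 h5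
      rw [h5, add_zero] at h4
      exact zero_ne_one h4
    have h1 := c2 u hu huV _ hv hev
    have h3 : u * (p⁻¹ * t * p) * u⁻¹ = t * (p⁻¹ * t * p) := by
      calc u * (p⁻¹ * t * p) * u⁻¹ = (u * (p⁻¹ * t * p) * u⁻¹ * (p⁻¹ * t * p)⁻¹) * (p⁻¹ * t * p) := by group
        _ = t * (p⁻¹ * t * p) := by rw [h1]
    calc (p * u * p⁻¹) * t * (p * u * p⁻¹)⁻¹ = p * (u * (p⁻¹ * t * p) * u⁻¹) * p⁻¹ := by group
      _ = p * (t * (p⁻¹ * t * p)) * p⁻¹ := by rw [h3]
      _ = a * t := by rw [ha]; group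
  have hctZ : centralizer (zl (S : Subgroup G) P : Set G) ≤ H :=
    (centralizer_le (zc_le_zl _ _)).trans hPH.long.cz
  have ZD : ∀ z ∈ zc (S : Subgroup G), z ∈ D ∨ z * t⁻¹ ∈ D := by
    intro z hz
    have hzV : z ∈ zl (S : Subgroup G) P := zc_le_zl _ _ hz
    obtain ⟨u₀, hu₀, hu₀V⟩ := SetLike.not_le_iff_exists.1 hPH.ne'
    have h1 : e z 1 = 0 := by
      by_contra h0
      apply ht1
      rw [← c2 u₀ hu₀ hu₀V z hzV h0, (mem_zc.1 hz).2.1 u₀ (hUS hu₀)]
      group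
    rcases C.two (e z 0) with h0 | h0
    · left
      exact (C.ker z hzV).1 (by funext i; fin_cases i; exacts [h0, h1])
    · right
      rw [← C.ker _ (mul_mem hzV (inv_mem htV)), C.mul z hzV _ (inv_mem htV), C.e_inv htV, het]
      funext i
      fin_cases i
      · change e z 0 + -(1 : F) = 0
        rw [h0, add_neg_cancel]
      · change e z 1 + -(0 : F) = 0
        rw [h1, neg_zero, add_zero]
  refine ⟨t, p, ⟨hPH.par, hPH.long, htZ, fun v hv u hu => ?_, hPH.ne', hp, fun u hu huV => ?_, hgen⟩, ht1,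
    C.DV, hpD, fun u hu => (C.act u hu).choose_spec.2, hua, hut, fun v hv => ?_, ZD, ?_, ?_⟩
  · by_cases huV : u ∈ centralizer (zl (S : Subgroup G) P : Set G)
    · left
      have h1 := mem_centralizer_iff.1 huV v hv
      rw [← h1]
      group
    · by_cases h1 : e v 1 = 0
      · left
        rw [C.c1 hc hPH hu hv h1, mul_inv_cancel]
      · exact Or.inr (c2 u hu huV v hv h1)
  · have huP : u ∈ P := hUP hu
    obtain ⟨b, d⟩ := C.act1 hc hPH hu huV
    have h1 : p * u⁻¹ * p⁻¹ * u * p ∈ centralizer (zl (S : Subgroup G) P : Set G) := by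
      refine C.cent hc hPH (mul_mem (mul_mem (mul_mem (mul_mem hp (inv_mem huP)) (inv_mem hp)) huP) hp) ?_
        (mul_mem (mul_mem (mul_mem (mul_mem hpD (inv_mem d)) (inv_mem hpD)) d) hpD)
      have nu : u ∈ normalizer (zl (S : Subgroup G) P : Set G) := nP huP
      have np : p ∈ normalizer (zl (S : Subgroup G) P : Set G) := nP hp
      have h3 := (((hpA.mul (b.inv nu) (inv_mem nu)).mul (hpA.inv np) (inv_mem np)).mul b nu).mul hpA np
      rw [word_eq] at h3
      intro x hx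
      rw [h3 x hx, ap_one]
    exact hctZ h1
  · by_cases h1 : e v 1 = 0
    · left
      rw [mem_centralizer_iff]
      intro u hu
      exact mul_inv_eq_iff_eq_mul.1 (C.c1 hc hPH hu hv h1)
    · right
      have h3 : e (v * a⁻¹) 1 = 0 := by
        rw [C.mul v hv _ (inv_mem haV), C.e_inv haV, hea, Pi.add_apply, Pi.neg_apply, C.eq_one h1]
        change (1 : F) + -1 = 0
        rw [add_neg_cancel]
      rw [mem_centralizer_iff]
      intro u hu
      exact mul_inv_eq_iff_eq_mul.1 (C.c1 hc hPH hu (mul_mem hv (inv_mem haV)) h3)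
  · -- `p⁻¹ c p ∈ C(Z)` for `c ∈ S` trivial on `V / D`
    have key : ∀ c ∈ (S : Subgroup G), e (c * a * c⁻¹) = ![0, 1] → p⁻¹ * c * p ∈ H := by
      intro c hcS hca
      have h1 := C.fix_a hc hPH htZ hp hpA hpD het hut hcS hca
      rw [← ha] at h1
      refine hPH.long.cz (mem_centralizer_iff.2 fun z hz => ?_)
      have hd : ∀ d ∈ D, d ∈ zc (S : Subgroup G) → d * (p⁻¹ * c * p) = p⁻¹ * c * p * d := by
        intro d hd hdZ
        have e1 := mem_centralizer_iff.1 hpD d hd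
        have e2 := (mem_zc.1 hdZ).2.1 c hcS
        have e3 : d * p⁻¹ = p⁻¹ * d := by
          calc d * p⁻¹ = p⁻¹ * (p * d) * p⁻¹ := by group
            _ = p⁻¹ * d := by rw [← e1]; group
        calc d * (p⁻¹ * c * p) = (d * p⁻¹) * c * p := by group
          _ = p⁻¹ * (d * c) * p := by rw [e3]; group
          _ = p⁻¹ * c * (d * p) := by rw [← e2]; group
          _ = p⁻¹ * c * p * d := by rw [e1]; group
      have ht : t * (p⁻¹ * c * p) = p⁻¹ * c * p * t := by
        calc t * (p⁻¹ * c * p) = p⁻¹ * (a * c) * p := by rw [ha]; group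
          _ = p⁻¹ * (c * a) * p := by rw [h1]
          _ = p⁻¹ * c * p * t := by rw [ha]; group
      rcases ZD z hz with h3 | h3
      · exact hd z h3 hz
      · have h4 := hd _ h3 (mul_mem hz (inv_mem htZ))
        calc z * (p⁻¹ * c * p) = z * t⁻¹ * (t * (p⁻¹ * c * p)) := by group
          _ = z * t⁻¹ * (p⁻¹ * c * p) * t := by rw [ht]; group
          _ = p⁻¹ * c * p * z := by rw [h4]; group
    intro s hs u hu huV
    have hsP : s ∈ P := hPH.par.le hs
    have h1 : e (s * a * s⁻¹) 1 = 1 := by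
      refine C.eq_one fun h0 => ?_
      have h3 := (C.line s hs a haV).1 h0
      rw [hea] at h3
      exact one_ne_zero h3
    rcases C.two (e (s * a * s⁻¹) 0) with h0 | h0
    · left
      refine key s hs ?_
      funext i
      fin_cases i
      · exact h0
      · exact h1
    · right
      refine key (u⁻¹ * s) (mul_mem (inv_mem (hUS hu)) hs) ?_
      have h3 : (u⁻¹ * s) * a * (u⁻¹ * s)⁻¹ = u⁻¹ * (s * a * s⁻¹) * u⁻¹⁻¹ := by group
      have h4 := ((C.act1 hc hPH hu huV).1.inv (nP (hUP hu))) _ (con hsP haV)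
      rw [h3, h4, up_inv, ap_up', h0, h1, hneg]
      funext i
      fin_cases i
      · simp [h2]
      · simp
  · intro z hz u hu huV hzu
    have hzV : z ∈ zl (S : Subgroup G) P := zc_le_zl _ _ hz
    obtain ⟨bu, du⟩ := C.act1 hc hPH hu huV
    have huP := hUP hu
    have hu'A := (hpA.mul bu (nP huP)).mul (hpA.inv (nP hp)) (inv_mem (nP hp))
    rw [conj_word] at hu'A
    have hu'P : p * u * p⁻¹ ∈ P := mul_mem (mul_mem hp huP) (inv_mem hp)
    have hu'D : p * u * p⁻¹ ∈ centralizer (D : Set G) := mul_mem (mul_mem hpD du) (inv_mem hpD)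
    have hu'z : p * u * p⁻¹ ∈ centralizer ({z} : Set G) := by
      rw [mem_centralizer_singleton_iff]
      exact hzu
    have huz : u ∈ centralizer ({z} : Set G) := by
      rw [mem_centralizer_singleton_iff]
      exact (mem_zc.1 hz).2.1 u (hUS hu)
    -- the elements realised in `C(z)`
    have hup : ∀ b : F, ∃ w ∈ centralizer ({z} : Set G), w ∈ P ∧ w ∈ centralizer (D : Set G) ∧
        Act e (zl (S : Subgroup G) P) w (up b) := by
      intro b
      rcases C.two b with rfl | rfl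
      · exact ⟨1, one_mem _, one_mem _, one_mem _, by rw [up_zero]; exact AOne.Act.one⟩
      · exact ⟨u, huz, huP, du, bu⟩
    have hlo : ∀ b : F, ∃ w ∈ centralizer ({z} : Set G), w ∈ P ∧ w ∈ centralizer (D : Set G) ∧
        Act e (zl (S : Subgroup G) P) w (lo b) := by
      intro b
      rcases C.two b with rfl | rfl
      · exact ⟨1, one_mem _, one_mem _, one_mem _, by rw [lo_zero]; exact AOne.Act.one⟩
      · exact ⟨_, hu'z, hu'P, hu'D, hu'A⟩
    refine C.gen _ (fun s hs => ?_) fun h hh hhD A hA => ?_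
    · rw [mem_centralizer_singleton_iff]
      exact (mem_zc.1 hz).2.1 s hs
    · obtain ⟨b1, b2, b3, b4, rfl⟩ := exists_up_lo A
      obtain ⟨w1, z1, p1, d1, a1⟩ := hup b1
      obtain ⟨w2, z2, p2, d2, a2⟩ := hlo b2
      obtain ⟨w3, z3, p3, d3, a3⟩ := hup b3
      obtain ⟨w4, z4, p4, d4, a4⟩ := hlo b4
      have h1 := ((a1.mul a2 (nP p2)).mul a3 (nP p3)).mul a4 (nP p4)
      have h3 := C.same hc hPH hh (mul_mem (mul_mem (mul_mem p1 p2) p3) p4) hA h1 hhD
        (mul_mem (mul_mem (mul_mem d1 d2) d3) d4) hzV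
      have h4 : w1 * w2 * w3 * w4 ∈ centralizer ({z} : Set G) := mul_mem (mul_mem (mul_mem z1 z2) z3) z4
      rw [mem_centralizer_singleton_iff] at h4 ⊢
      rw [← mul_inv_eq_iff_eq_mul, h3, h4, mul_inv_cancel_right]

end nat

end Crd

end Cfsg.Agent.Omega.NOThreeL.RAOne

end
end

-- part: Mrg/Omega/NOThreeL/RA/End_mg
section
prune_inst 0x8005100020000180500a0000000400001000040000110400800000eb000000080014080090210100a0000040000000000100000000000000000000100208022500092080104260009803003180c00000000000000000000000000041000000000000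
set_option linter.all false
open scoped Cfsg.Agent.FastGrp

-- part: Mrg/Omega/NOThreeL/RA/End
section
section


/-!
# NO-3L, R ∩ (A), `k = 1`, `q > 2` (#19087, helper162 / helper761): (7) END

`V = zl S P`, `U = zl S H`, `C = CZ S`, `E = C_Z(P)`, `F = C_Z(H)`.

* `QP S P H` : (Q): every abelian normal subgroup `B ≤ O₂(C)` of `C` acts on `U` as a subgroup of `V`;
* `Sit S P H R` : the facts used: `H = ⟨C, P₁ : P₁ ≤ H⟩`, `[U, V] ≤ Z ≤ [U, V] R`, `Z = F E`, and
  `V = E [V, U]`-type facts on `V / E`;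
* `Sit.false` : contradiction.
-/

set_option autoImplicit false

namespace Cfsg.Agent.Omega.NOThreeL.RA.End

open Subgroup Cfsg Cfsg.Agent.ZN Cfsg.Agent.Omega.MinPar Cfsg.Agent.Omega.Frame Cfsg.Agent.Omega.FrameNOFF
open Cfsg.Agent.Omega.Node.NO3L Cfsg.Agent.Omega.NOThreeL.Basic
open Cfsg.Agent.Omega.NoFF.Basic (V conj_conj mem_conj conj_le_iff conj_le_centralizer comm_symm comm_mono
  Z_le_V V_le conj_V_mul)
open Cfsg.Agent.Omega.NOThreeL.Pair (conj_eq_of_mem conj_le_normalizer zl_abel)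
open Cfsg.Agent.MinSimple.VModule (zl_le le_normalizer_zl zc_le_zl zc_le zl_le_zc mem_zc
  normalizer_le_normalizer_zc o2_isPGroup le_normalizer_o2 le_o2 o2_le)
open scoped Pointwise commutatorElement

universe u

variable {G : Type u} [Group G]

/-- **(Q)** of #19087 (6): every abelian normal subgroup of `C` in `O₂(C)` acts on `U_H` as a subgroup of `V_P`. -/
def QP (S P H : Subgroup G) : Prop :=
  ∀ B : Subgroup G, B ≤ o2 (CZ S) → CZ S ≤ normalizer (B : Set G) → B ≤ centralizer (B : Set G) →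
    B ≤ zl S P ⊔ centralizer (zl S H : Set G)

/-- The facts used in (7); `R = C_U(⟨V^H⟩)`. -/
structure Sit (S P H R : Subgroup G) : Prop where
  par : IsParS S P
  long : IsLong S H
  ne : ¬ zl S H ≤ centralizer (zl S P : Set G)
  gen : ∀ X : Subgroup G, CZ S ≤ X → (∀ P', IsParS S P' → P' ≤ H → P' ≤ X) → H ≤ X
  RV : R ≤ centralizer (zl S P : Set G)
  HR : H ≤ normalizer (R : Set G)
  /-- `[U, V] ≤ Z` -/
  UV : ∀ u ∈ zl S H, ∀ v ∈ zl S P, u * v * u⁻¹ * v⁻¹ ∈ zc S
  /-- `Z ≤ [U, V] R` -/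
  ZR : zc S ≤ ⁅zl S H, zl S P⁆ ⊔ R
  /-- `[v, U] E = Z` for `v ∉ Z` -/
  full : ∀ v ∈ zl S P, v ∉ zc S → ∀ z ∈ zc S, ∃ u ∈ zl S H,
    u * v * u⁻¹ * v⁻¹ * z⁻¹ ∈ zc S ⊓ centralizer (P : Set G)
  /-- `Z = F E` -/
  FE : zc S ≤ (zc S ⊓ centralizer (H : Set G)) ⊔ (zc S ⊓ centralizer (P : Set G))
  /-- `V = Z Z^r`, `Z ∩ Z^r = E` -/
  rho : ∃ r ∈ P, zl S P ≤ zc S ⊔ MulAut.conj r • zc S ∧
    zc S ⊓ MulAut.conj r • zc S ≤ centralizer (P : Set G)

theorem zl_mono {S H K : Subgroup G} (h : H ≤ K) : zl S H ≤ zl S K :=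
  zl_le (zc_le_zl _ _) (h.trans (le_normalizer_zl _ _))

theorem zl_le_of_cent {S X : Subgroup G} (h : zc S ≤ centralizer (X : Set G)) : zl S X ≤ zc S := by
  refine zl_le le_rfl fun g hg => ?_
  rw [mem_normalizer_iff]
  have key : ∀ z ∈ zc S, g * z * g⁻¹ = z ∧ g⁻¹ * z * g = z := fun z hz => by
    have h1 := mem_centralizer_iff.1 (h hz) g hg
    exact ⟨by rw [h1, mul_inv_cancel_right], by rw [mul_assoc, ← h1, inv_mul_cancel_left]⟩
  intro x
  constructor
  · intro hx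
    rwa [(key x hx).1]
  · intro hx
    have h1 := (key _ hx).2
    have h2 : g⁻¹ * (g * x * g⁻¹) * g = x := by group
    rw [h2] at h1
    rwa [← h1] at hx

theorem exists_mul_of_mem_sup {A B : Subgroup G} (h : A ≤ normalizer (B : Set G)) {x : G} (hx : x ∈ A ⊔ B) :
    ∃ a ∈ A, ∃ b ∈ B, x = a * b := by
  rw [sup_eq_closure] at hx
  refine closure_induction (fun y hy => ?_) ?_ (fun y z _ _ hy hz => ?_) (fun y _ hy => ?_) hx
  · rcases hy with hy | hy
    · exact ⟨y, hy, 1, B.one_mem, (mul_one y).symm⟩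
    · exact ⟨1, A.one_mem, y, hy, (one_mul y).symm⟩
  · exact ⟨1, A.one_mem, 1, B.one_mem, (mul_one 1).symm⟩
  · obtain ⟨a, ha, b, hb, rfl⟩ := hy
    obtain ⟨a', ha', b', hb', rfl⟩ := hz
    refine ⟨a * a', A.mul_mem ha ha', a'⁻¹ * b * a' * b', B.mul_mem ?_ hb', by group⟩
    have := (mem_normalizer_iff.1 (h (A.inv_mem ha')) b).1 hb
    rwa [inv_inv] at this
  · obtain ⟨a, ha, b, hb, rfl⟩ := hy
    refine ⟨a⁻¹, A.inv_mem ha, a * b⁻¹ * a⁻¹, ?_, by group⟩
    exact (mem_normalizer_iff.1 (h ha) b⁻¹).1 (B.inv_mem hb)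

theorem le_normalizer_centralizer {A B : Subgroup G} (h : A ≤ normalizer (B : Set G)) :
    A ≤ normalizer (centralizer (B : Set G) : Set G) := by
  intro a ha
  refine RTransv.mem_normalizer_of_conj ?_
  have key : ∀ a ∈ A, MulAut.conj a • centralizer (B : Set G) ≤ centralizer (B : Set G) := by
    intro a ha c hc'
    rw [mem_conj] at hc'
    rw [mem_centralizer_iff] at hc' ⊢
    intro b hb
    have h1 := hc' (a⁻¹ * b * a) (by
      have := (mem_normalizer_iff.1 (h (A.inv_mem ha)) b).1 hb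
      rwa [inv_inv] at this)
    have h2 := congrArg (fun t => a * t * a⁻¹) h1
    simpa only [mul_assoc, _root_.mul_inv_cancel_left, _root_.mul_inv_cancel, _root_.mul_one] using h2
  refine le_antisymm (key a ha) ?_
  have h1 := (conj_le_iff (g := a)).2 (key a⁻¹ (A.inv_mem ha))
  rwa [conj_conj, mul_inv_cancel, map_one, one_smul] at h1

namespace Sit

variable [Finite G] {S : Sylow 2 G} {P H R : Subgroup G}
variable (hc : IsCharacteristicTwoType G) (Da : Data (S : Subgroup G)) (T : Sit (S : Subgroup G) P H R)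
  (hQ : QP (S : Subgroup G) P H)

include hc Da T

/-- The lines commute. -/
theorem line_comm {P₁ : Subgroup G} (h₁ : IsParS (S : Subgroup G) P₁) :
    zl (S : Subgroup G) P₁ ≤ centralizer (zl (S : Subgroup G) P : Set G) := by
  have D' := Basic.geo hc Da
  have h := D'.noff' h₁ T.par (g := 1) (h := 1) (by
    rw [map_one, one_smul, one_smul]
    exact (IsParS.zl_le_S hc h₁).trans T.par.le) (by
    rw [map_one, one_smul, one_smul]
    exact (IsParS.zl_le_S hc T.par).trans h₁.le)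
  rw [map_one, one_smul, one_smul] at h
  exact h

include hQ

/-- `W₀ = ⟨V_{P₁}^L⟩`, `L = ⟨P, C⟩`: all its elements act on `U` as elements of `V`. -/
theorem W0 {P₁ : Subgroup G} (h₁ : IsParS (S : Subgroup G) P₁) (hH : P₁ ≤ H) {y l : G}
    (hy : y ∈ zl (S : Subgroup G) P₁) (hl : l ∈ P ⊔ CZ (S : Subgroup G)) :
    l * y * l⁻¹ ∈ zl (S : Subgroup G) P ⊔ centralizer (zl (S : Subgroup G) H : Set G) := by
  have hL : IsLong (S : Subgroup G) (P ⊔ CZ (S : Subgroup G)) := Da.loc P T.par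
  set L := P ⊔ CZ (S : Subgroup G) with hLdef
  have hUU : zl (S : Subgroup G) P₁ ≤ zl (S : Subgroup G) H := zl_mono hH
  -- `V ⊔ C(U)` centralises `V_{P₁}`
  have h2 : zl (S : Subgroup G) P ⊔ centralizer (zl (S : Subgroup G) H : Set G) ≤
      centralizer (zl (S : Subgroup G) P₁ : Set G) :=
    sup_le (comm_symm (T.line_comm hc Da h₁)) (centralizer_le hUU)
  have hU : zl (S : Subgroup G) L ≤ centralizer (zl (S : Subgroup G) P₁ : Set G) :=
    (hQ _ ((hL.zl_le_o2 hc S).trans (hL.o2_le S)) (hL.cz.trans (le_normalizer_zl _ _))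
      (zl_abel hc S hL.loc).1).trans h2
  have h3 : zl (S : Subgroup G) P₁ ≤ o2 L := le_o2_of_comm (Da.low P₁ h₁) hL (comm_symm hU)
  -- `W₀`
  have h4 : V (zl (S : Subgroup G) P₁) L ≤ o2 L := by
    refine V_le fun x hx => ?_
    have h5 := (conj_le_iff (g := x)).2 h3
    rwa [conj_eq_of_mem (le_normalizer_o2 _ hx)] at h5
  have h6 : L ≤ normalizer (V (zl (S : Subgroup G) P₁) L : Set G) := by
    intro g hg
    refine RTransv.mem_normalizer_of_conj ?_
    have := conj_V_mul (Z := zl (S : Subgroup G) P₁) (g := 1) hg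
    rwa [one_mul, map_one, one_smul] at this
  have D' := Basic.geo hc Da
  have hSL : ∀ x ∈ L, MulAut.conj x • zl (S : Subgroup G) P₁ ≤ o2 L := fun x hx => by
    have h5 := (conj_le_iff (g := x)).2 h3
    rwa [conj_eq_of_mem (le_normalizer_o2 _ hx)] at h5
  have hLP : ∀ x ∈ L, o2 L ≤ MulAut.conj x • P₁ := fun x hx => by
    rw [← conj_eq_of_mem (le_normalizer_o2 L hx)]
    exact conj_le_iff.2 ((hL.loc.o2_le S).trans h₁.le)
  have h7 : V (zl (S : Subgroup G) P₁) L ≤ centralizer (V (zl (S : Subgroup G) P₁) L : Set G) := by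
    refine V_le fun x hx => comm_symm (V_le fun x' hx' => comm_symm ?_)
    exact D'.noff' h₁ h₁ ((hSL x hx).trans (hLP x' hx')) ((hSL x' hx').trans (hLP x hx))
  refine hQ _ (h4.trans (hL.o2_le S)) (hL.cz.trans h6) h7 (Z_le_V (Z := zl (S : Subgroup G) P₁) hl ?_)
  rw [mem_conj]
  simpa [mul_assoc] using hy

omit Da T in
/-- `U_{C(z)}` acts on `U` as a subgroup of `V`. -/
theorem cz_act {z : G} (hz : z ∈ zc (S : Subgroup G)) (hz1 : z ≠ 1) :
    zl (S : Subgroup G) (centralizer ({z} : Set G)) ≤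
      zl (S : Subgroup G) P ⊔ centralizer (zl (S : Subgroup G) H : Set G) := by
  have hC : CZ (S : Subgroup G) ≤ centralizer ({z} : Set G) :=
    centralizer_le (Set.singleton_subset_iff.2 hz)
  have hL : IsLong (S : Subgroup G) (centralizer ({z} : Set G)) :=
    ⟨isLoc_centralizer S (mem_zc.1 hz).2.2 hz1 ((le_CZ S).trans hC), hC⟩
  exact hQ _ ((hL.zl_le_o2 hc S).trans (hL.o2_le S)) (hL.cz.trans (le_normalizer_zl _ _))
      (zl_abel hc S hL.loc).1

/-- **The main step**: `V^{p₁⁻¹} ≤ V C(U)`. -/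
theorem conj_V {P₁ : Subgroup G} (h₁ : IsParS (S : Subgroup G) P₁) (hH : P₁ ≤ H) {p₁ : G} (hp : p₁ ∈ P₁)
    {v : G} (hv : v ∈ zl (S : Subgroup G) P) :
    p₁⁻¹ * v * p₁ ∈ zl (S : Subgroup G) P ⊔ centralizer (zl (S : Subgroup G) H : Set G) := by
  obtain ⟨r, hr, hVr, hZr⟩ := T.rho
  have hUab := (zl_abel hc S T.long.loc).1
  have hPab := (zl_abel hc S T.par.isLoc).1
  have hPsq := (zl_abel hc S T.par.isLoc).2
  have hZU : zc (S : Subgroup G) ≤ zl (S : Subgroup G) H := zc_le_zl _ _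
  have hZV : zc (S : Subgroup G) ≤ zl (S : Subgroup G) P := zc_le_zl _ _
  have hUU : zl (S : Subgroup G) P₁ ≤ zl (S : Subgroup G) H := zl_mono hH
  -- `F ≠ Z`
  have hZF : ¬ zc (S : Subgroup G) ≤ centralizer (H : Set G) := by
    intro h0
    have h2 : zl (S : Subgroup G) H ≤ zc (S : Subgroup G) := zl_le_of_cent h0
    refine T.ne (h2.trans ?_)
    exact hZV.trans hPab
  obtain ⟨z₀, hz₀, hz₀F⟩ := Set.not_subset.1 hZF
  -- `y = p₁ z₀ p₁⁻¹`
  have hyP : p₁ * z₀ * p₁⁻¹ ∈ zl (S : Subgroup G) P₁ :=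
    (mem_normalizer_iff.1 (le_normalizer_zl _ _ hp) z₀).1 (zc_le_zl _ _ hz₀)
  have h1 := T.W0 hc Da hQ h₁ hH hyP (mem_sup_left hr : r ∈ P ⊔ CZ (S : Subgroup G))
  have hVU : zl (S : Subgroup G) P ≤ normalizer (zl (S : Subgroup G) H : Set G) :=
    (IsParS.zl_le_S hc T.par).trans (T.long.loc.le.trans (le_normalizer_zl _ _))
  have hVC := le_normalizer_centralizer hVU
  obtain ⟨v₁, hv₁, c, hcU, e1⟩ := exists_mul_of_mem_sup hVC h1
  -- `E^r = E`
  have hEr : ∀ {e : G}, e ∈ centralizer (P : Set G) → ∀ {s : G}, s ∈ P → s * e * s⁻¹ = e :=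
    fun he s hs => by rw [mem_centralizer_iff.1 he s hs, mul_inv_cancel_right]
  -- `V ≤ Z ⊔ F^r`
  obtain ⟨z, hz, f, hf, e2⟩ : ∃ z ∈ zc (S : Subgroup G), ∃ f ∈ zc (S : Subgroup G) ⊓ centralizer (H : Set G),
      v₁ = z * (r * f * r⁻¹) := by
    have hle : MulAut.conj r • zc (S : Subgroup G) ≤ zl (S : Subgroup G) P := by
      have h3 := (conj_le_iff (g := r)).2 hZV
      rwa [conj_eq_of_mem (le_normalizer_zl _ _ hr)] at h3
    have hn : zc (S : Subgroup G) ≤ normalizer ((MulAut.conj r • zc (S : Subgroup G) : Subgroup G) : Set G) := by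
      refine le_trans (hZV.trans (hPab.trans (centralizer_le hle))) (centralizer_le_normalizer _)
    obtain ⟨z₁, hz₁, y, hy, e3⟩ := exists_mul_of_mem_sup hn (hVr hv₁)
    rw [mem_conj] at hy
    have hn' : zc (S : Subgroup G) ⊓ centralizer (H : Set G) ≤
        normalizer ((zc (S : Subgroup G) ⊓ centralizer (P : Set G) : Subgroup G) : Set G) :=
      le_trans (inf_le_left.trans (hZV.trans (hPab.trans (centralizer_le (inf_le_left.trans hZV)))))
        (centralizer_le_normalizer _)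
    obtain ⟨f, hf, e, he, e4⟩ := exists_mul_of_mem_sup hn' (T.FE hy)
    refine ⟨z₁ * e, mul_mem hz₁ he.1, f, hf, ?_⟩
    have e5 : y = (r * f * r⁻¹) * (r * e * r⁻¹) := by
      calc y = r * (r⁻¹ * y * r) * r⁻¹ := by group
        _ = _ := by rw [e4]; group
    rw [hEr he.2 hr] at e5
    have e6 : r * f * r⁻¹ * e = e * (r * f * r⁻¹) := by
      refine mem_centralizer_iff.1 (hPab (hZV he.1)) _ ?_
      exact (mem_normalizer_iff.1 (le_normalizer_zl _ _ hr) f).1 (hZV hf.1)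
    rw [e3, e5, e6, ← mul_assoc]
  set x := p₁ * z₀ * p₁⁻¹ * f⁻¹ with hx
  have hfH : ∀ h ∈ H, h * f * h⁻¹ = f := fun h hh => by
    rw [mem_centralizer_iff.1 hf.2 h hh, mul_inv_cancel_right]
  have hpH : p₁ ∈ H := hH hp
  -- `x = p₁ z p₁⁻¹`
  have ex : x = p₁ * (z₀ * f⁻¹) * p₁⁻¹ := by
    have h3 : p₁ * f⁻¹ * p₁⁻¹ = f⁻¹ := by
      have := congrArg (·⁻¹) (hfH p₁ hpH)
      simpa only [mul_assoc, _root_.mul_inv_rev, _root_.inv_inv] using this
    calc x = p₁ * z₀ * p₁⁻¹ * f⁻¹ := hx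
      _ = p₁ * z₀ * p₁⁻¹ * (p₁ * f⁻¹ * p₁⁻¹) := by rw [h3]
      _ = _ := by group
  have hzz : z₀ * f⁻¹ ∈ zc (S : Subgroup G) := mul_mem hz₀ (inv_mem hf.1)
  have hzz1 : z₀ * f⁻¹ ≠ 1 := fun h0 => hz₀F (by
    rw [mul_inv_eq_one.1 h0]
    exact hf.2)
  -- `r x r⁻¹` centralises `U`
  have hrV : r * f * r⁻¹ ∈ zl (S : Subgroup G) P :=
    (mem_normalizer_iff.1 (le_normalizer_zl _ _ hr) f).1 (hZV hf.1)
  have hrx : r * x * r⁻¹ ∈ centralizer (zl (S : Subgroup G) H : Set G) := by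
    have h3 : r * x * r⁻¹ = z * ((r * f * r⁻¹) * c * (r * f * r⁻¹)⁻¹) := by
      calc r * x * r⁻¹ = (r * (p₁ * z₀ * p₁⁻¹) * r⁻¹) * (r * f * r⁻¹)⁻¹ := by rw [hx]; group
        _ = _ := by rw [e1, e2]; group
    rw [h3]
    exact mul_mem (hUab (hZU hz)) ((mem_normalizer_iff.1 (hVC hrV) c).1 hcU)
  -- `Y = ⟨U, U^{r⁻¹}⟩ ≤ C(x)`
  have hxU : x ∈ zl (S : Subgroup G) H := by
    rw [ex]
    exact (mem_normalizer_iff.1 (le_normalizer_zl _ _ hpH) _).1 (hZU hzz)
  have hUx : ∀ u ∈ zl (S : Subgroup G) H, u * x = x * u := fun u hu => mem_centralizer_iff.1 (hUab hxU) u hu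
  have hU'x : ∀ u ∈ zl (S : Subgroup G) H, (r⁻¹ * u * r) * x = x * (r⁻¹ * u * r) := fun u hu => by
    have h3 := mem_centralizer_iff.1 hrx u hu
    have h4 := congrArg (fun t => r⁻¹ * t * r) h3
    simpa only [mul_assoc, _root_.inv_mul_cancel, _root_.mul_one, _root_.inv_mul_cancel_left] using h4
  -- the elements `g f' g⁻¹`
  have hX : ∀ g : G, g * x = x * g → ∀ f' ∈ zc (S : Subgroup G) ⊓ centralizer (H : Set G),
      p₁⁻¹ * (g * f' * g⁻¹) * p₁ ∈ zl (S : Subgroup G) P ⊔ centralizer (zl (S : Subgroup G) H : Set G) := by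
    intro g hg f' hf'
    have h3 : p₁⁻¹ * g * p₁ ∈ centralizer ({z₀ * f⁻¹} : Set G) := by
      rw [mem_centralizer_singleton_iff]
      rw [ex] at hg
      have h4 := congrArg (fun t => p₁⁻¹ * t * p₁) hg
      calc p₁⁻¹ * g * p₁ * (z₀ * f⁻¹) = p₁⁻¹ * (g * (p₁ * (z₀ * f⁻¹) * p₁⁻¹)) * p₁ := by group
        _ = p₁⁻¹ * (p₁ * (z₀ * f⁻¹) * p₁⁻¹ * g) * p₁ := h4
        _ = _ := by group
    have h5 : p₁⁻¹ * f' * p₁ = f' := by
      have := mem_centralizer_iff.1 hf'.2 p₁ hpH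
      rw [mul_assoc, ← this, inv_mul_cancel_left]
    have h6 : p₁⁻¹ * (g * f' * g⁻¹) * p₁ = (p₁⁻¹ * g * p₁) * f' * (p₁⁻¹ * g * p₁)⁻¹ := by
      calc p₁⁻¹ * (g * f' * g⁻¹) * p₁ = (p₁⁻¹ * g * p₁) * (p₁⁻¹ * f' * p₁) * (p₁⁻¹ * g * p₁)⁻¹ := by group
        _ = _ := by rw [h5]
    rw [h6]
    refine cz_act hc hQ hzz hzz1 ?_
    exact (mem_normalizer_iff.1 (le_normalizer_zl _ _ h3) f').1 (zc_le_zl _ _ hf'.1)
  -- `E`
  have hE : ∀ e ∈ zc (S : Subgroup G) ⊓ centralizer (P : Set G),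
      p₁⁻¹ * e * p₁ ∈ zl (S : Subgroup G) P ⊔ centralizer (zl (S : Subgroup G) H : Set G) := by
    intro e he
    refine mem_sup_right (hUab ?_)
    have := (mem_normalizer_iff.1 (le_normalizer_zl (S : Subgroup G) H (inv_mem hpH)) e).1 (hZU he.1)
    rwa [inv_inv] at this
  set K := zl (S : Subgroup G) P ⊔ centralizer (zl (S : Subgroup G) H : Set G) with hK
  -- `X`
  have hXm : ∀ {a b : G}, p₁⁻¹ * a * p₁ ∈ K → p₁⁻¹ * b * p₁ ∈ K → p₁⁻¹ * (a * b) * p₁ ∈ K := by
    intro a b ha hb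
    have := mul_mem ha hb
    have e7 : p₁⁻¹ * (a * b) * p₁ = p₁⁻¹ * a * p₁ * (p₁⁻¹ * b * p₁) := by group
    rwa [e7]
  have hXi : ∀ {a : G}, p₁⁻¹ * a * p₁ ∈ K → p₁⁻¹ * a⁻¹ * p₁ ∈ K := by
    intro a ha
    have := inv_mem ha
    have e7 : p₁⁻¹ * a⁻¹ * p₁ = (p₁⁻¹ * a * p₁)⁻¹ := by group
    rwa [e7]
  have hn' : zc (S : Subgroup G) ⊓ centralizer (H : Set G) ≤
      normalizer ((zc (S : Subgroup G) ⊓ centralizer (P : Set G) : Subgroup G) : Set G) :=
    le_trans (inf_le_left.trans (hZV.trans (hPab.trans (centralizer_le (inf_le_left.trans hZV)))))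
      (centralizer_le_normalizer _)
  have hF : ∀ f' ∈ zc (S : Subgroup G) ⊓ centralizer (H : Set G), p₁⁻¹ * f' * p₁ ∈ K := by
    intro f' hf'
    have := hX 1 (by rw [one_mul, mul_one]) f' hf'
    simpa only [_root_.one_mul, _root_.inv_one, _root_.mul_one] using this
  have hZ : ∀ z₁ ∈ zc (S : Subgroup G), p₁⁻¹ * z₁ * p₁ ∈ K := by
    intro z₁ hz₁
    obtain ⟨f', hf', e, he, rfl⟩ := exists_mul_of_mem_sup hn' (T.FE hz₁)
    exact hXm (hF f' hf') (hE e he)
  -- `f' ∈ F - E`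
  obtain ⟨f', hf', hf'E⟩ : ∃ f' ∈ zc (S : Subgroup G) ⊓ centralizer (H : Set G), f' ∉ centralizer (P : Set G) := by
    by_contra h0
    push Not at h0
    have h2 : zc (S : Subgroup G) ≤ centralizer (P : Set G) :=
      T.FE.trans (sup_le (fun x hx => h0 x hx) inf_le_right)
    have h3 : zl (S : Subgroup G) P ≤ zc (S : Subgroup G) := zl_le_of_cent h2
    exact T.ne ((IsLong.zl_le_S hc T.long).trans ((le_CZ S).trans (centralizer_le h3)))
  have hrf' : r * f' * r⁻¹ ∉ zc (S : Subgroup G) := by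
    intro h0
    have h2 := hZr (mem_inf.2 ⟨h0, by rw [mem_conj]; simpa [mul_assoc] using hf'.1⟩)
    have h3 := hEr h2 (inv_mem hr)
    rw [inv_inv] at h3
    have h4 : r⁻¹ * (r * f' * r⁻¹) * r = f' := by group
    rw [h4] at h3
    rw [← h3] at h2
    exact hf'E h2
  have hrf'V : r * f' * r⁻¹ ∈ zl (S : Subgroup G) P :=
    (mem_normalizer_iff.1 (le_normalizer_zl _ _ hr) f').1 (hZV hf'.1)
  have hZ' : ∀ z₁ ∈ zc (S : Subgroup G), p₁⁻¹ * (r⁻¹ * z₁ * r) * p₁ ∈ K := by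
    intro z₁ hz₁
    obtain ⟨u, hu, he⟩ := T.full _ hrf'V hrf' z₁ hz₁
    set e := u * (r * f' * r⁻¹) * u⁻¹ * (r * f' * r⁻¹)⁻¹ * z₁⁻¹ with hedef
    have h5 : r⁻¹ * z₁ * r = e⁻¹ * (((r⁻¹ * u * r) * f' * (r⁻¹ * u * r)⁻¹) * f'⁻¹) := by
      have h6 := hEr he.2 (inv_mem hr)
      rw [inv_inv] at h6
      calc r⁻¹ * z₁ * r = (r⁻¹ * e * r)⁻¹ * (((r⁻¹ * u * r) * f' * (r⁻¹ * u * r)⁻¹) * f'⁻¹) := by
            rw [hedef]; group
        _ = _ := by rw [h6]
    rw [h5]
    exact hXm (hXi (hE e he)) (hXm (hX _ (hU'x u hu) f' hf') (hXi (hF f' hf')))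
  -- `V = Z^{r⁻¹} Z`
  have h8 : zl (S : Subgroup G) P ≤ MulAut.conj r⁻¹ • zc (S : Subgroup G) ⊔ zc (S : Subgroup G) := by
    have h9 := (conj_le_iff (g := r⁻¹)).2 hVr
    rwa [conj_eq_of_mem (le_normalizer_zl _ _ (inv_mem hr)), Subgroup.smul_sup, conj_conj, inv_mul_cancel,
      map_one, one_smul] at h9
  have h10 : MulAut.conj r⁻¹ • zc (S : Subgroup G) ⊔ zc (S : Subgroup G) ≤ MulAut.conj p₁ • K := by
    refine sup_le (fun y hy => ?_) (fun y hy => ?_)
    · rw [mem_conj, inv_inv] at hy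
      rw [mem_conj]
      have h11 := hZ' _ hy
      have h12 : r⁻¹ * (r * y * r⁻¹) * r = y := by group
      rwa [h12] at h11
    · rw [mem_conj]
      exact hZ y hy
  have h13 := h10 (h8 hv)
  rwa [mem_conj] at h13

include Da hQ in
/-- **(7) END**: contradiction. -/
theorem «false» : False := by
  have hUab := (zl_abel hc S T.long.loc).1
  have hVU : zl (S : Subgroup G) P ≤ normalizer (zl (S : Subgroup G) H : Set G) :=
    (IsParS.zl_le_S hc T.par).trans (T.long.loc.le.trans (le_normalizer_zl _ _))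
  have hVC := le_normalizer_centralizer hVU
  have hZR : zc (S : Subgroup G) ≤ normalizer (R : Set G) :=
    (zc_le _).trans (T.long.loc.le.trans T.HR)
  -- `[U, V] ≤ Z`
  have hUVZ : ⁅zl (S : Subgroup G) H, zl (S : Subgroup G) P⁆ ≤ zc (S : Subgroup G) :=
    commutator_le.2 fun u hu v hv => T.UV u hu v hv
  have hHX : H ≤ normalizer ((zc (S : Subgroup G) ⊔ R : Subgroup G) : Set G) := by
    refine T.gen _ ?_ fun P₁ h₁ hH => ?_
    · intro g hg
      refine RTransv.mem_normalizer_of_conj ?_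
      rw [Subgroup.smul_sup, conj_eq_of_mem (centralizer_le_normalizer _ hg), conj_eq_of_mem (T.HR (T.long.cz hg))]
    · have key : ∀ p₁ ∈ P₁, MulAut.conj p₁⁻¹ • (zc (S : Subgroup G) ⊔ R) ≤ zc (S : Subgroup G) ⊔ R := by
        intro p₁ hp
        rw [Subgroup.smul_sup, conj_eq_of_mem (T.HR (inv_mem (hH hp)))]
        refine sup_le ?_ le_sup_right
        have h1 := (conj_le_iff (g := p₁⁻¹)).2 T.ZR
        rw [Subgroup.smul_sup, conj_eq_of_mem (T.HR (inv_mem (hH hp)))] at h1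
        refine h1.trans (sup_le ?_ le_sup_right)
        have h2 : MulAut.conj p₁⁻¹ • ⁅zl (S : Subgroup G) H, zl (S : Subgroup G) P⁆ ≤
            ⁅zl (S : Subgroup G) H, zl (S : Subgroup G) P⁆ := by
          have h3 : MulAut.conj p₁⁻¹ • ⁅zl (S : Subgroup G) H, zl (S : Subgroup G) P⁆ =
              ⁅MulAut.conj p₁⁻¹ • zl (S : Subgroup G) H, MulAut.conj p₁⁻¹ • zl (S : Subgroup G) P⁆ :=
            map_commutator _ _ _
          rw [h3, conj_eq_of_mem (le_normalizer_zl _ _ (inv_mem (hH hp))), commutator_le]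
          intro u hu w hw
          rw [mem_conj, inv_inv] at hw
          have h4 := T.conj_V hc Da hQ h₁ hH hp hw
          have h5 : p₁⁻¹ * (p₁ * w * p₁⁻¹) * p₁ = w := by group
          rw [h5] at h4
          obtain ⟨v, hv, c, hcU, rfl⟩ := exists_mul_of_mem_sup hVC h4
          have h6 : ⁅u, v * c⁆ = ⁅u, v⁆ := by
            have h7 : c * u⁻¹ = u⁻¹ * c := (mem_centralizer_iff.1 hcU _ (inv_mem hu)).symm
            calc ⁅u, v * c⁆ = u * v * (c * u⁻¹) * c⁻¹ * v⁻¹ := by rw [commutatorElement_def]; group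
              _ = ⁅u, v⁆ := by rw [h7, commutatorElement_def]; group
          rw [h6]
          exact commutator_mem_commutator hu hv
        exact (h2.trans hUVZ).trans le_sup_left
      intro p₁ hp
      refine RTransv.mem_normalizer_of_conj (le_antisymm ?_ ?_)
      · have := key p₁⁻¹ (inv_mem hp)
        rwa [inv_inv] at this
      · have h1 := (conj_le_iff (g := p₁)).2 (key p₁ hp)
        rwa [conj_conj, mul_inv_cancel, map_one, one_smul] at h1
  have h1 : zl (S : Subgroup G) H ≤ zc (S : Subgroup G) ⊔ R := zl_le le_sup_left hHX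
  exact T.ne (h1.trans (sup_le ((zc_le_zl _ _).trans (zl_abel hc S T.par.isLoc).1) T.RV))

end Sit

end Cfsg.Agent.Omega.NOThreeL.RA.End

end

section


/-!
# NO-3L, `R ∩ (A)`, one natural factor, field automorphisms (`NsF`, #22083 (f), #22492 (f6)): (7) END

`V = zl S P`, `H ≤ N_G(R)` local, `U = zl S H`, `C = CZ S`, `E = C_Z(P)`, `Z ≤ Zp ≤ V ∩ U` (`Zp = R × D`), `I = C_U(⟨V^H⟩)`.

* `QPV S P H` : (Q): every abelian normal subgroup `B ≤ O₂(C)` of `C` which centralises `V` acts on `U` as a subgroup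
  of `V`;
* `Sit S P H R Zp I D` : the facts used;
* **`Sit.false`** : contradiction.
-/

set_option autoImplicit false

namespace Cfsg.Agent.Omega.NOThreeL.RF.End

open Subgroup Cfsg Cfsg.Agent.ZN Cfsg.Agent.Omega.MinPar Cfsg.Agent.Omega.Frame Cfsg.Agent.Omega.FrameNOFF
open Cfsg.Agent.Omega.Node.NO3L Cfsg.Agent.Omega.NOThreeL.Basic
open Cfsg.Agent.Omega.NoFF.Basic (V conj_conj mem_conj conj_le_iff conj_le_centralizer comm_symm comm_mono
  Z_le_V V_le conj_V_mul)
open Cfsg.Agent.Omega.NOThreeL.Pair (conj_eq_of_mem conj_le_normalizer zl_abel)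
open Cfsg.Agent.MinSimple.VModule (zl_le le_normalizer_zl zc_le_zl zc_le zl_le_zc mem_zc
  normalizer_le_normalizer_zc o2_isPGroup le_normalizer_o2 le_o2 o2_le)
open Cfsg.Agent.Omega.NOThreeL.RA.End (zl_mono exists_mul_of_mem_sup le_normalizer_centralizer)
open scoped Pointwise commutatorElement

universe u

variable {G : Type u} [Group G]

/-- **(Q)**: every abelian normal subgroup of `C` in `O₂(C) ∩ C(V)` acts on `U_H` as a subgroup of `V_P`. -/
def QPV (S P H : Subgroup G) : Prop :=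
  ∀ B : Subgroup G, B ≤ o2 (CZ S) → CZ S ≤ normalizer (B : Set G) → B ≤ centralizer (B : Set G) →
    B ≤ centralizer (zl S P : Set G) → B ≤ zl S P ⊔ centralizer (zl S H : Set G)

/-- The facts used in (7); `Zp = R D`, `I = C_U(⟨V^H⟩)`. -/
structure Sit (S P H R Zp I D : Subgroup G) : Prop where
  par : IsParS S P
  loc : IsLoc S H
  ne : ¬ zl S H ≤ centralizer (zl S P : Set G)
  /-- `C_Z(P) ≠ 1` -/
  hE : zc S ⊓ centralizer (P : Set G) ≠ ⊥
  HR : H ≤ normalizer (R : Set G)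
  HI : H ≤ normalizer (I : Set G)
  IV : I ≤ centralizer (zl S P : Set G)
  ZZp : zc S ≤ Zp
  ZpV : Zp ≤ zl S P
  ZpU : Zp ≤ zl S H
  RD : Zp ≤ R ⊔ D
  RZp : R ≤ Zp
  DZp : D ≤ Zp
  PD : P ≤ normalizer (D : Set G)
  /-- `E ∩ R = 1` -/
  ER : ∀ e ∈ zc S, e ∈ centralizer (P : Set G) → e ∈ R → e = 1
  /-- `Z ∩ I ≤ R` -/
  ZI : ∀ z ∈ zc S, z ∈ I → z ∈ R
  /-- `[U, V] ≤ Zp` -/
  UV : ∀ u ∈ zl S H, ∀ v ∈ zl S P, u * v * u⁻¹ * v⁻¹ ∈ Zp
  /-- `Zp ≤ [U, V] I` -/
  ZR : Zp ≤ ⁅zl S H, zl S P⁆ ⊔ I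
  /-- `[v, U] D = Zp` for `v ∉ Zp` -/
  full : ∀ v ∈ zl S P, v ∉ Zp → ∀ z ∈ Zp, ∃ u ∈ zl S H, u * v * u⁻¹ * v⁻¹ * z⁻¹ ∈ D
  /-- `V = Zp R^r`, `R^r ∩ Zp = 1` -/
  rho : ∃ r ∈ P, zl S P ≤ Zp ⊔ MulAut.conj r • R ∧ ∀ f ∈ R, r * f * r⁻¹ ∈ Zp → f = 1
  /-- `R ≠ 1` -/
  R1 : R ≠ ⊥
  /-- the elements of `E# R` are conjugate into `Z - R` under `N_H(V)` -/
  fuse : ∀ e ∈ zc S, e ∈ centralizer (P : Set G) → e ≠ 1 → ∀ r ∈ R,
    ∃ b ∈ H, b ∈ normalizer (zl S P : Set G) ∧ b * (e * r) * b⁻¹ ∈ zc S ∧ b * (e * r) * b⁻¹ ∉ R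
  /-- (GOOD) -/
  good : ∀ z ∈ zc S, z ∉ R → zl S P ≤ o2 (centralizer ({z} : Set G))
  /-- distinct points are disjoint -/
  disj : ∀ g ∈ H, (∃ z ∈ MulAut.conj g • Zp, z ∈ Zp ∧ z ∉ I) → MulAut.conj g • Zp ≤ Zp ⊔ I

namespace Sit

variable [Finite G] {S : Sylow 2 G} {P H R Zp I D : Subgroup G}
variable (hc : IsCharacteristicTwoType G) (Da : Data (S : Subgroup G))
  (T : Sit (S : Subgroup G) P H R Zp I D) (hQ : QPV (S : Subgroup G) P H)

include hc Da T

/-- The lines commute. -/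
theorem line_comm {P₁ : Subgroup G} (h₁ : IsParS (S : Subgroup G) P₁) :
    zl (S : Subgroup G) P₁ ≤ centralizer (zl (S : Subgroup G) P : Set G) := by
  have D' := Basic.geo hc Da
  have h := D'.noff' h₁ T.par (g := 1) (h := 1) (by
    rw [map_one, one_smul, one_smul]
    exact (IsParS.zl_le_S hc h₁).trans T.par.le) (by
    rw [map_one, one_smul, one_smul]
    exact (IsParS.zl_le_S hc T.par).trans h₁.le)
  rw [map_one, one_smul, one_smul] at h
  exact h

include hQ

/-- `W₀ = ⟨V_{P₁}^L⟩`, `L = ⟨P, C⟩`: all its elements act on `U` as elements of `V`. -/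
theorem W0 {P₁ : Subgroup G} (h₁ : IsParS (S : Subgroup G) P₁) (hH : P₁ ≤ H) {y l : G}
    (hy : y ∈ zl (S : Subgroup G) P₁) (hl : l ∈ P ⊔ CZ (S : Subgroup G)) :
    l * y * l⁻¹ ∈ zl (S : Subgroup G) P ⊔ centralizer (zl (S : Subgroup G) H : Set G) := by
  have hL : IsLong (S : Subgroup G) (P ⊔ CZ (S : Subgroup G)) := Da.loc P T.par
  set L := P ⊔ CZ (S : Subgroup G) with hLdef
  have hUU : zl (S : Subgroup G) P₁ ≤ zl (S : Subgroup G) H := zl_mono hH
  have hVL : zl (S : Subgroup G) P ≤ zl (S : Subgroup G) L := zl_mono le_sup_left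
  have hLab := (zl_abel hc S hL.loc).1
  -- `V ⊔ C(U)` centralises `V_{P₁}`
  have h2 : zl (S : Subgroup G) P ⊔ centralizer (zl (S : Subgroup G) H : Set G) ≤
      centralizer (zl (S : Subgroup G) P₁ : Set G) :=
    sup_le (comm_symm (T.line_comm hc Da h₁)) (centralizer_le hUU)
  have hU : zl (S : Subgroup G) L ≤ centralizer (zl (S : Subgroup G) P₁ : Set G) :=
    (hQ _ ((hL.zl_le_o2 hc S).trans (hL.o2_le S)) (hL.cz.trans (le_normalizer_zl _ _))
      hLab (hLab.trans (centralizer_le hVL))).trans h2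
  have h3 : zl (S : Subgroup G) P₁ ≤ o2 L := le_o2_of_comm (Da.low P₁ h₁) hL (comm_symm hU)
  -- `W₀`
  have h4 : V (zl (S : Subgroup G) P₁) L ≤ o2 L := by
    refine V_le fun x hx => ?_
    have h5 := (conj_le_iff (g := x)).2 h3
    rwa [conj_eq_of_mem (le_normalizer_o2 _ hx)] at h5
  have h6 : L ≤ normalizer (V (zl (S : Subgroup G) P₁) L : Set G) := by
    intro g hg
    refine RTransv.mem_normalizer_of_conj ?_
    have := conj_V_mul (Z := zl (S : Subgroup G) P₁) (g := 1) hg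
    rwa [one_mul, map_one, one_smul] at this
  have D' := Basic.geo hc Da
  have hSL : ∀ x ∈ L, MulAut.conj x • zl (S : Subgroup G) P₁ ≤ o2 L := fun x hx => by
    have h5 := (conj_le_iff (g := x)).2 h3
    rwa [conj_eq_of_mem (le_normalizer_o2 _ hx)] at h5
  have hLP' : ∀ P', IsParS (S : Subgroup G) P' → ∀ x ∈ L, o2 L ≤ MulAut.conj x • P' := fun P' h' x hx => by
    rw [← conj_eq_of_mem (le_normalizer_o2 L hx)]
    exact conj_le_iff.2 ((hL.loc.o2_le S).trans h'.le)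
  have hVo : zl (S : Subgroup G) P ≤ o2 L := hVL.trans (hL.zl_le_o2 hc S)
  have h7 : V (zl (S : Subgroup G) P₁) L ≤ centralizer (V (zl (S : Subgroup G) P₁) L : Set G) := by
    refine V_le fun x hx => comm_symm (V_le fun x' hx' => comm_symm ?_)
    exact D'.noff' h₁ h₁ ((hSL x hx).trans (hLP' P₁ h₁ x' hx')) ((hSL x' hx').trans (hLP' P₁ h₁ x hx))
  have h8 : V (zl (S : Subgroup G) P₁) L ≤ centralizer (zl (S : Subgroup G) P : Set G) := by
    refine V_le fun x hx => ?_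
    have h9 := D'.noff' h₁ T.par (g := x) (h := 1) ((hSL x hx).trans (by
        have := hLP' P T.par 1 (one_mem _)
        exact this)) (by
        rw [map_one, one_smul]
        exact hVo.trans (hLP' P₁ h₁ x hx))
    rwa [map_one, one_smul] at h9
  refine hQ _ (h4.trans (hL.o2_le S)) (hL.cz.trans h6) h7 h8 (Z_le_V (Z := zl (S : Subgroup G) P₁) hl ?_)
  rw [mem_conj]
  simpa [mul_assoc] using hy

/-- `⟨V^{C(z)}⟩`, `z ∈ Z - R`, acts on `U` as a subgroup of `V`. -/
theorem cz_act {z : G} (hz : z ∈ zc (S : Subgroup G)) (hzR : z ∉ R) {g v : G}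
    (hg : g ∈ centralizer ({z} : Set G)) (hv : v ∈ zl (S : Subgroup G) P) :
    g * v * g⁻¹ ∈ zl (S : Subgroup G) P ⊔ centralizer (zl (S : Subgroup G) H : Set G) := by
  have hz1 : z ≠ 1 := fun h => hzR (h ▸ one_mem _)
  have hC : CZ (S : Subgroup G) ≤ centralizer ({z} : Set G) :=
    centralizer_le (Set.singleton_subset_iff.2 hz)
  have hL : IsLong (S : Subgroup G) (centralizer ({z} : Set G)) :=
    ⟨isLoc_centralizer S (mem_zc.1 hz).2.2 hz1 ((le_CZ S).trans hC), hC⟩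
  set L := centralizer ({z} : Set G) with hLdef
  have h3 : zl (S : Subgroup G) P ≤ o2 L := T.good z hz hzR
  have h4 : V (zl (S : Subgroup G) P) L ≤ o2 L := by
    refine V_le fun x hx => ?_
    have h5 := (conj_le_iff (g := x)).2 h3
    rwa [conj_eq_of_mem (le_normalizer_o2 _ hx)] at h5
  have h6 : L ≤ normalizer (V (zl (S : Subgroup G) P) L : Set G) := by
    intro g hg
    refine RTransv.mem_normalizer_of_conj ?_
    have := conj_V_mul (Z := zl (S : Subgroup G) P) (g := 1) hg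
    rwa [one_mul, map_one, one_smul] at this
  have D' := Basic.geo hc Da
  have hSL : ∀ x ∈ L, MulAut.conj x • zl (S : Subgroup G) P ≤ o2 L := fun x hx => by
    have h5 := (conj_le_iff (g := x)).2 h3
    rwa [conj_eq_of_mem (le_normalizer_o2 _ hx)] at h5
  have hLP : ∀ x ∈ L, o2 L ≤ MulAut.conj x • P := fun x hx => by
    rw [← conj_eq_of_mem (le_normalizer_o2 L hx)]
    exact conj_le_iff.2 ((hL.loc.o2_le S).trans T.par.le)
  have h7 : V (zl (S : Subgroup G) P) L ≤ centralizer (V (zl (S : Subgroup G) P) L : Set G) := by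
    refine V_le fun x hx => comm_symm (V_le fun x' hx' => comm_symm ?_)
    exact D'.noff' T.par T.par ((hSL x hx).trans (hLP x' hx')) ((hSL x' hx').trans (hLP x hx))
  have h8 : zl (S : Subgroup G) P ≤ V (zl (S : Subgroup G) P) L := by
    have := Z_le_V (Z := zl (S : Subgroup G) P) (P := L) (p := 1) (one_mem _)
    rwa [map_one, one_smul] at this
  refine hQ _ (h4.trans (hL.o2_le S)) (hL.cz.trans h6) h7 (h7.trans (centralizer_le h8))
    (Z_le_V (Z := zl (S : Subgroup G) P) hg ?_)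
  rw [mem_conj]
  simpa [mul_assoc] using hv

/-- **The main step**: `V^{p₁⁻¹} ≤ V C(U)`. -/
theorem conj_V {P₁ : Subgroup G} (h₁ : IsParS (S : Subgroup G) P₁) (hH : P₁ ≤ H) {p₁ : G} (hp : p₁ ∈ P₁)
    {v : G} (hv : v ∈ zl (S : Subgroup G) P) :
    p₁⁻¹ * v * p₁ ∈ zl (S : Subgroup G) P ⊔ centralizer (zl (S : Subgroup G) H : Set G) := by
  obtain ⟨r, hr, hVr, hZr⟩ := T.rho
  have hUab := (zl_abel hc S T.loc).1
  have hPab := (zl_abel hc S T.par.isLoc).1
  have hZU : zc (S : Subgroup G) ≤ zl (S : Subgroup G) H := zc_le_zl _ _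
  have hZV : zc (S : Subgroup G) ≤ zl (S : Subgroup G) P := zc_le_zl _ _
  have hUU : zl (S : Subgroup G) P₁ ≤ zl (S : Subgroup G) H := zl_mono hH
  have hpH : p₁ ∈ H := hH hp
  have hRV : R ≤ zl (S : Subgroup G) P := T.RZp.trans T.ZpV
  have hcj : ∀ {g x : G} {A : Subgroup G}, g ∈ normalizer (A : Set G) → x ∈ A → g * x * g⁻¹ ∈ A :=
    fun hg hx => (mem_normalizer_iff.1 hg _).1 hx
  have hcj' : ∀ {g x : G} {A : Subgroup G}, g ∈ normalizer (A : Set G) → x ∈ A → g⁻¹ * x * g ∈ A :=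
    fun hg hx => by
      have := (mem_normalizer_iff.1 (inv_mem hg) _).1 hx
      rwa [inv_inv] at this
  -- `e ∈ E#`
  obtain ⟨⟨e, he⟩, he1'⟩ := Subgroup.ne_bot_iff_exists_ne_one.1 T.hE
  have he1 : e ≠ 1 := fun h => he1' (Subtype.ext h)
  obtain ⟨heZ, heP⟩ := mem_inf.1 he
  -- `y = p₁ e p₁⁻¹`
  have hyP : p₁ * e * p₁⁻¹ ∈ zl (S : Subgroup G) P₁ := hcj (le_normalizer_zl _ _ hp) (zc_le_zl _ _ heZ)
  have h1 := T.W0 hc Da hQ h₁ hH hyP (mem_sup_left hr : r ∈ P ⊔ CZ (S : Subgroup G))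
  have hVU : zl (S : Subgroup G) P ≤ normalizer (zl (S : Subgroup G) H : Set G) :=
    (IsParS.zl_le_S hc T.par).trans (T.loc.le.trans (le_normalizer_zl _ _))
  have hVC := le_normalizer_centralizer hVU
  obtain ⟨v₁, hv₁, c, hcU, e1⟩ := exists_mul_of_mem_sup hVC h1
  -- `v₁ = z (r f r⁻¹)`
  obtain ⟨z, hz, f, hf, e2⟩ : ∃ z ∈ Zp, ∃ f ∈ R, v₁ = z * (r * f * r⁻¹) := by
    have hle : MulAut.conj r • R ≤ zl (S : Subgroup G) P := by
      have h3 := (conj_le_iff (g := r)).2 hRV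
      rwa [conj_eq_of_mem (le_normalizer_zl _ _ hr)] at h3
    have hn : Zp ≤ normalizer ((MulAut.conj r • R : Subgroup G) : Set G) := by
      refine le_trans (T.ZpV.trans (hPab.trans (centralizer_le hle))) (centralizer_le_normalizer _)
    obtain ⟨z₁, hz₁, y, hy, e3⟩ := exists_mul_of_mem_sup hn (hVr hv₁)
    rw [mem_conj] at hy
    refine ⟨z₁, hz₁, r⁻¹ * y * r, hy, ?_⟩
    rw [e3]
    group
  -- `x`
  set f₁ := p₁⁻¹ * f⁻¹ * p₁ with hf₁
  have hf₁R : f₁ ∈ R := hcj' (T.HR hpH) (inv_mem hf)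
  set x := p₁ * e * p₁⁻¹ * f⁻¹ with hx
  have ex : x = p₁ * (e * f₁) * p₁⁻¹ := by rw [hx, hf₁]; group
  have hefU : e * f₁ ∈ zl (S : Subgroup G) H := mul_mem (hZU heZ) (T.ZpU (T.RZp hf₁R))
  have hrV : r * f * r⁻¹ ∈ zl (S : Subgroup G) P := hcj (le_normalizer_zl _ _ hr) (hRV hf)
  have hrx : r * x * r⁻¹ ∈ centralizer (zl (S : Subgroup G) H : Set G) := by
    have h3 : r * x * r⁻¹ = z * ((r * f * r⁻¹) * c * (r * f * r⁻¹)⁻¹) := by
      calc r * x * r⁻¹ = (r * (p₁ * e * p₁⁻¹) * r⁻¹) * (r * f * r⁻¹)⁻¹ := by rw [hx]; group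
        _ = _ := by rw [e1, e2]; group
    rw [h3]
    exact mul_mem (hUab (T.ZpU hz)) ((mem_normalizer_iff.1 (hVC hrV) c).1 hcU)
  -- `⟨U, U^{r⁻¹}⟩ ≤ C(x)`
  have hxU : x ∈ zl (S : Subgroup G) H := by
    rw [ex]
    exact hcj (le_normalizer_zl _ _ hpH) hefU
  have hU'x : ∀ u ∈ zl (S : Subgroup G) H, (r⁻¹ * u * r) * x = x * (r⁻¹ * u * r) := fun u hu => by
    have h3 := mem_centralizer_iff.1 hrx u hu
    have h4 := congrArg (fun t => r⁻¹ * t * r) h3
    simpa only [mul_assoc, _root_.inv_mul_cancel, _root_.mul_one, _root_.inv_mul_cancel_left] using h4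
  -- `z₀ = b (e f₁) b⁻¹`
  obtain ⟨b, hbH, hbV, hb1, hb2⟩ := T.fuse e heZ heP he1 f₁ hf₁R
  have hbU : b ∈ normalizer (zl (S : Subgroup G) H : Set G) := le_normalizer_zl _ _ hbH
  have hbK : ∀ {t : G}, b * t * b⁻¹ ∈ zl (S : Subgroup G) P ⊔ centralizer (zl (S : Subgroup G) H : Set G) →
      t ∈ zl (S : Subgroup G) P ⊔ centralizer (zl (S : Subgroup G) H : Set G) := by
    intro t ht
    obtain ⟨v', hv', c', hc', e3⟩ := exists_mul_of_mem_sup hVC ht
    have h3 : t = (b⁻¹ * v' * b) * (b⁻¹ * c' * b) := by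
      calc t = b⁻¹ * (b * t * b⁻¹) * b := by group
        _ = _ := by rw [e3]; group
    rw [h3]
    refine mul_mem (mem_sup_left (hcj' hbV hv')) (mem_sup_right ?_)
    rw [mem_centralizer_iff] at hc' ⊢
    intro u hu
    have h4 := hc' (b * u * b⁻¹) (hcj hbU hu)
    have h5 := congrArg (fun t => b⁻¹ * t * b) h4
    simpa only [mul_assoc, _root_.inv_mul_cancel_left, _root_.inv_mul_cancel, _root_.mul_one] using h5
  set K := zl (S : Subgroup G) P ⊔ centralizer (zl (S : Subgroup G) H : Set G) with hK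
  -- the elements `g f' g⁻¹`
  have hX : ∀ g : G, g * x = x * g → ∀ f' ∈ R, p₁⁻¹ * (g * f' * g⁻¹) * p₁ ∈ K := by
    intro g hg f' hf'
    have h3 : b * (p₁⁻¹ * g * p₁) * b⁻¹ ∈ centralizer ({b * (e * f₁) * b⁻¹} : Set G) := by
      rw [mem_centralizer_singleton_iff]
      rw [ex] at hg
      have h4 := congrArg (fun t => b * (p₁⁻¹ * t * p₁) * b⁻¹) hg
      calc b * (p₁⁻¹ * g * p₁) * b⁻¹ * (b * (e * f₁) * b⁻¹)
          = b * (p₁⁻¹ * (g * (p₁ * (e * f₁) * p₁⁻¹)) * p₁) * b⁻¹ := by group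
        _ = b * (p₁⁻¹ * (p₁ * (e * f₁) * p₁⁻¹ * g) * p₁) * b⁻¹ := h4
        _ = _ := by group
    have h5 : b * (p₁⁻¹ * f' * p₁) * b⁻¹ ∈ R := hcj (T.HR hbH) (hcj' (T.HR hpH) hf')
    refine hbK ?_
    have h6 : b * (p₁⁻¹ * (g * f' * g⁻¹) * p₁) * b⁻¹ =
        (b * (p₁⁻¹ * g * p₁) * b⁻¹) * (b * (p₁⁻¹ * f' * p₁) * b⁻¹) * (b * (p₁⁻¹ * g * p₁) * b⁻¹)⁻¹ := by group
    rw [h6]
    exact T.cz_act hc Da hQ hb1 hb2 h3 (hRV h5)
  -- `Zp`
  have hZ : ∀ z₁ ∈ Zp, p₁⁻¹ * z₁ * p₁ ∈ K := fun z₁ hz₁ =>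
    mem_sup_right (hUab (hcj' (le_normalizer_zl _ _ hpH) (T.ZpU hz₁)))
  have hXm : ∀ {a b : G}, p₁⁻¹ * a * p₁ ∈ K → p₁⁻¹ * b * p₁ ∈ K → p₁⁻¹ * (a * b) * p₁ ∈ K := by
    intro a b ha hb
    have := mul_mem ha hb
    have e7 : p₁⁻¹ * (a * b) * p₁ = p₁⁻¹ * a * p₁ * (p₁⁻¹ * b * p₁) := by group
    rwa [e7]
  have hXi : ∀ {a : G}, p₁⁻¹ * a * p₁ ∈ K → p₁⁻¹ * a⁻¹ * p₁ ∈ K := by
    intro a ha
    have := inv_mem ha
    have e7 : p₁⁻¹ * a⁻¹ * p₁ = (p₁⁻¹ * a * p₁)⁻¹ := by group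
    rwa [e7]
  -- `f' ∈ R#`
  obtain ⟨⟨f', hf'⟩, hf'1⟩ := Subgroup.ne_bot_iff_exists_ne_one.1 T.R1
  have hf'1 : f' ≠ 1 := fun h => hf'1 (Subtype.ext h)
  have hrf' : r * f' * r⁻¹ ∉ Zp := fun h0 => hf'1 (hZr f' hf' h0)
  have hrf'V : r * f' * r⁻¹ ∈ zl (S : Subgroup G) P := hcj (le_normalizer_zl _ _ hr) (hRV hf')
  have hZ' : ∀ z₁ ∈ Zp, p₁⁻¹ * (r⁻¹ * z₁ * r) * p₁ ∈ K := by
    intro z₁ hz₁
    obtain ⟨u, hu, hd⟩ := T.full _ hrf'V hrf' z₁ hz₁
    set d := u * (r * f' * r⁻¹) * u⁻¹ * (r * f' * r⁻¹)⁻¹ * z₁⁻¹ with hddef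
    have h5 : r⁻¹ * z₁ * r = (r⁻¹ * d * r)⁻¹ * (((r⁻¹ * u * r) * f' * (r⁻¹ * u * r)⁻¹) * f'⁻¹) := by
      rw [hddef]; group
    rw [h5]
    have h6 : r⁻¹ * d * r ∈ Zp := T.DZp (hcj' (T.PD hr) hd)
    exact hXm (hXi (hZ _ h6)) (hXm (hX _ (hU'x u hu) f' hf') (hXi (hZ _ (T.RZp hf'))))
  -- `V = Zp^{r⁻¹} Zp`
  have h8 : zl (S : Subgroup G) P ≤ MulAut.conj r⁻¹ • Zp ⊔ Zp := by
    have h9 := (conj_le_iff (g := r⁻¹)).2 hVr
    rw [conj_eq_of_mem (le_normalizer_zl _ _ (inv_mem hr)), Subgroup.smul_sup, conj_conj, inv_mul_cancel,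
      map_one, one_smul] at h9
    exact h9.trans (sup_le_sup le_rfl T.RZp)
  have h10 : MulAut.conj r⁻¹ • Zp ⊔ Zp ≤ MulAut.conj p₁ • K := by
    refine sup_le (fun y hy => ?_) (fun y hy => ?_)
    · rw [mem_conj, inv_inv] at hy
      rw [mem_conj]
      have h11 := hZ' _ hy
      have h12 : r⁻¹ * (r * y * r⁻¹) * r = y := by group
      rwa [h12] at h11
    · rw [mem_conj]
      exact hZ y hy
  have h13 := h10 (h8 hv)
  rwa [mem_conj] at h13

omit [Finite G] hc Da hQ in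
/-- the elements of `H` which normalise `Z` -/
theorem fix_of_Z {g : G} (hg : g ∈ H) (hgZ : g ∈ normalizer (zc (S : Subgroup G) : Set G)) :
    MulAut.conj g • Zp ≤ Zp ⊔ I := by
  obtain ⟨⟨e, he⟩, he1⟩ := Subgroup.ne_bot_iff_exists_ne_one.1 T.hE
  have he1 : e ≠ 1 := fun h => he1 (Subtype.ext h)
  obtain ⟨heZ, heP⟩ := mem_inf.1 he
  refine T.disj g hg ⟨g * e * g⁻¹, ?_, T.ZZp ((mem_normalizer_iff.1 hgZ e).1 heZ), fun h => he1 ?_⟩
  · rw [mem_conj]
    have e1 : g⁻¹ * (g * e * g⁻¹) * g = e := by group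
    rw [e1]
    exact T.ZZp heZ
  · exact T.ER e heZ heP (T.ZI e heZ ((mem_normalizer_iff.1 (T.HI hg) e).2 h))

include Da hQ in
/-- **(7) END**: contradiction. -/
theorem «false» : False := by
  have hVU : zl (S : Subgroup G) P ≤ normalizer (zl (S : Subgroup G) H : Set G) :=
    (IsParS.zl_le_S hc T.par).trans (T.loc.le.trans (le_normalizer_zl _ _))
  have hVC := le_normalizer_centralizer hVU
  -- `[U, V] ≤ Zp`
  have hUVZ : ⁅zl (S : Subgroup G) H, zl (S : Subgroup G) P⁆ ≤ Zp :=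
    commutator_le.2 fun u hu v hv => T.UV u hu v hv
  -- it suffices to map `Zp` into `Zp ⊔ I`
  have hn : ∀ X : Subgroup G, X ≤ H → (∀ g ∈ X, MulAut.conj g • Zp ≤ Zp ⊔ I) →
      X ≤ normalizer ((Zp ⊔ I : Subgroup G) : Set G) := by
    intro X hX h g hg
    have key : ∀ g ∈ X, MulAut.conj g • (Zp ⊔ I) ≤ Zp ⊔ I := by
      intro g hg
      rw [Subgroup.smul_sup, conj_eq_of_mem (T.HI (hX hg))]
      exact sup_le (h g hg) le_sup_right
    refine RTransv.mem_normalizer_of_conj (le_antisymm (key g hg) ?_)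
    have h1 := (conj_le_iff (g := g)).2 (key g⁻¹ (inv_mem hg))
    rwa [conj_conj, mul_inv_cancel, map_one, one_smul] at h1
  have hHX : H ≤ normalizer ((Zp ⊔ I : Subgroup G) : Set G) := by
    refine T.loc.le_of_forall S ?_ fun P₁ h₁ hH => ?_
    · exact hn _ inf_le_left fun g hg => T.fix_of_Z (mem_inf.1 hg).1 (normalizer_le_normalizer_zc _ (mem_inf.1 hg).2)
    · by_cases hZ1 : P₁ ≤ normalizer (zc (S : Subgroup G) : Set G)
      · exact hn _ hH fun g hg => T.fix_of_Z (hH hg) (hZ1 hg)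
      · have h₁' : IsParS (S : Subgroup G) P₁ := ⟨h₁, hZ1⟩
        refine hn _ hH fun g hg => ?_
        have h1 := (conj_le_iff (g := g)).2 T.ZR
        rw [Subgroup.smul_sup, conj_eq_of_mem (T.HI (hH hg))] at h1
        refine h1.trans (sup_le ?_ le_sup_right)
        have h2 : MulAut.conj g • ⁅zl (S : Subgroup G) H, zl (S : Subgroup G) P⁆ ≤
            ⁅zl (S : Subgroup G) H, zl (S : Subgroup G) P⁆ := by
          have h3 : MulAut.conj g • ⁅zl (S : Subgroup G) H, zl (S : Subgroup G) P⁆ =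
              ⁅MulAut.conj g • zl (S : Subgroup G) H, MulAut.conj g • zl (S : Subgroup G) P⁆ :=
            map_commutator _ _ _
          rw [h3, conj_eq_of_mem (le_normalizer_zl _ _ (hH hg)), commutator_le]
          intro u hu w hw
          rw [mem_conj] at hw
          have h4 := T.conj_V hc Da hQ h₁' hH (inv_mem hg) hw
          have h5 : g⁻¹⁻¹ * (g⁻¹ * w * g) * g⁻¹ = w := by group
          rw [h5] at h4
          obtain ⟨v, hv, c, hcU, rfl⟩ := exists_mul_of_mem_sup hVC h4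
          have h6 : ⁅u, v * c⁆ = ⁅u, v⁆ := by
            have h7 : c * u⁻¹ = u⁻¹ * c := (mem_centralizer_iff.1 hcU _ (inv_mem hu)).symm
            calc ⁅u, v * c⁆ = u * v * (c * u⁻¹) * c⁻¹ * v⁻¹ := by rw [commutatorElement_def]; group
              _ = ⁅u, v⁆ := by rw [h7, commutatorElement_def]; group
          rw [h6]
          exact commutator_mem_commutator hu hv
        exact (h2.trans hUVZ).trans le_sup_left
  have h1 : zl (S : Subgroup G) H ≤ Zp ⊔ I := zl_le (T.ZZp.trans le_sup_left) hHX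
  exact T.ne (h1.trans (sup_le (T.ZpV.trans (zl_abel hc S T.par.isLoc).1) T.IV))

end Sit

end Cfsg.Agent.Omega.NOThreeL.RF.End

end

section


/-!
# NO-3L, box R, case (A), `q > 2`, split (#19602, helper797; repairs of helper602 / helper761), (7) END, group level

`V = zl S P`, `U = zl S H`, `C = CZ S`, `RR S P H = [U, V]` (`= R`), `WW S H = ⟨V_{P₁}^c : P₁ ≤ H, c ∈ C⟩`.

* `EndC S P H U₁ z₀` : the common data; `EndC.false_of` : `W ∩ U₁ ≤ R` is impossible;
* `EndC.W_comm` : `W` commutes with all `V^k`, `k ∈ N_H(R)`;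
* `EndC.falseA` : (7)(a), MANY AXES;
* `EndB` : the data of (7)(b), ONE AXIS (with (Q) = `RA.End.QP`); **`EndB.false`**.
-/

set_option autoImplicit false

namespace Cfsg.Agent.Omega.NOThreeL.RSplit.EndB

open Subgroup Cfsg Cfsg.Agent.ZN Cfsg.Agent.Omega.MinPar Cfsg.Agent.Omega.Frame Cfsg.Agent.Omega.FrameNOFF
open Cfsg.Agent.Omega.Node.NO3L Cfsg.Agent.Omega.NOThreeL.Basic
open Cfsg.Agent.Omega.NoFF.Basic (V conj_conj mem_conj conj_le_iff conj_le_centralizer comm_symm comm_mono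
  Z_le_V V_le conj_V_mul)
open Cfsg.Agent.Omega.NOThreeL.Pair (conj_eq_of_mem conj_le_normalizer zl_abel)
open Cfsg.Agent.Omega.NOThreeL.RA.End (QP zl_mono zl_le_of_cent exists_mul_of_mem_sup le_normalizer_centralizer)
open Cfsg.Agent.MinSimple.VModule (zl_le le_normalizer_zl zc_le_zl zc_le zl_le_zc mem_zc
  normalizer_le_normalizer_zc o2_isPGroup le_normalizer_o2 le_o2 o2_le)
open scoped Pointwise commutatorElement

universe u

variable {G : Type u} [Group G]

/-- `R = [U, V]` -/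
def RR (S P H : Subgroup G) : Subgroup G := ⁅zl S H, zl S P⁆

/-- `W = ⟨V_{P₁}^c⟩` -/
def WW (S H : Subgroup G) : Subgroup G := ⨆ P₁ : {P₁ : Subgroup G // IsParS S P₁ ∧ P₁ ≤ H}, V (zl S P₁.1) (CZ S)

theorem le_WW {S H P₁ : Subgroup G} (h : IsParS S P₁) (hH : P₁ ≤ H) {c : G} (hc : c ∈ CZ S) :
    MulAut.conj c • zl S P₁ ≤ WW S H :=
  (Z_le_V (Z := zl S P₁) hc).trans
    (le_iSup (fun P₁ : {P₁ : Subgroup G // IsParS S P₁ ∧ P₁ ≤ H} => V (zl S P₁.1) (CZ S)) ⟨P₁, h, hH⟩)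

theorem WW_le {S H K : Subgroup G} (h : ∀ P₁, IsParS S P₁ → P₁ ≤ H → ∀ c ∈ CZ S, MulAut.conj c • zl S P₁ ≤ K) :
    WW S H ≤ K :=
  iSup_le fun P₁ => V_le fun c hc => h P₁.1 P₁.2.1 P₁.2.2 c hc

theorem conj_mem_WW {S H : Subgroup G} {c y : G} (hc : c ∈ CZ S) (hy : y ∈ WW S H) : c * y * c⁻¹ ∈ WW S H := by
  have h1 : WW S H ≤ MulAut.conj c⁻¹ • WW S H := WW_le fun P₁ h hH d hd => by
    have h2 := (conj_le_iff (g := c⁻¹)).2 (le_WW h hH (mul_mem hc hd))
    rwa [conj_conj, inv_mul_cancel_left] at h2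
  have h2 := h1 hy
  rwa [mem_conj, inv_inv] at h2

/-- The common data of (7). -/
structure EndC (S P H U₁ : Subgroup G) (z₀ : G) : Prop where
  par : IsParS S P
  long : IsLong S H
  ne : ¬ zl S H ≤ centralizer (zl S P : Set G)
  gen : ∀ X : Subgroup G, CZ S ≤ X → (∀ P', IsParS S P' → P' ≤ H → P' ≤ X) → H ≤ X
  U₁U : U₁ ≤ zl S H
  RU : RR S P H ≤ U₁
  HU : H ≤ normalizer (U₁ : Set G)
  /-- `Z ≤ R × F` -/
  ZF : zc S ≤ RR S P H ⊔ (zc S ⊓ centralizer (H : Set G))
  z0 : z₀ ∈ zc S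
  z0R : z₀ ∈ RR S P H
  z01 : z₀ ≠ 1
  /-- points: `z₀^h ∈ R ⟹ R^h = R` -/
  pts : ∀ h ∈ H, h * z₀ * h⁻¹ ∈ RR S P H → MulAut.conj h • RR S P H ≤ RR S P H

/-- A finite group and its conjugate. -/
theorem conj_eq_of_le [Finite G] {A : Subgroup G} {g : G} (h : MulAut.conj g • A ≤ A) : MulAut.conj g • A = A := by
  refine Subgroup.eq_of_le_of_card_ge h ?_
  have : Nat.card ↥(MulAut.conj g • A) = Nat.card ↥A := Nat.card_congr (Subgroup.equivSMul (MulAut.conj g) A).toEquiv.symm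
  exact this.ge

theorem mem_norm_of_le [Finite G] {A : Subgroup G} {g : G} (h : MulAut.conj g • A ≤ A) :
    g ∈ normalizer (A : Set G) :=
  RTransv.mem_normalizer_of_conj (conj_eq_of_le h)

theorem norm_o2 (L : Subgroup G) : normalizer (L : Set G) ≤ normalizer (o2 L : Set G) := by
  intro g hg
  refine RTransv.mem_normalizer_of_conj ?_
  rw [← Cfsg.Agent.MinSimple.CosetFam.o2_conj, conj_eq_of_mem hg]

/-- a 2-subgroup normalised by `S` lies in `S` -/
theorem le_sylow {S : Sylow 2 G} {R : Subgroup G} (hR : IsPGroup 2 R)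
    (h : (S : Subgroup G) ≤ normalizer (R : Set G)) : R ≤ (S : Subgroup G) := by
  have : Fact (Nat.Prime 2) := ⟨Nat.prime_two⟩
  have h1 : IsPGroup 2 ((S : Subgroup G) ⊔ R : Subgroup G) := S.isPGroup'.to_sup_of_normal_right' hR h
  exact le_sup_right.trans (S.is_maximal' h1 le_sup_left).le

section

variable [Finite G] {S : Sylow 2 G} {P H U₁ : Subgroup G} {z₀ : G}

theorem geoL (hc : IsCharacteristicTwoType G) (Da : DataLow (S : Subgroup G)) :
    NoFF.Lines.Geo (S : Subgroup G) (zc (S : Subgroup G)) (CZ (S : Subgroup G)) (PS (S : Subgroup G)) := by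
  have hG : (S : Subgroup G) ≠ ⊥ := by
    intro h0
    have h2 : Fact (Nat.Prime 2) := ⟨Nat.prime_two⟩
    have h1 := S.not_dvd_index
    rw [h0, index_bot] at h1
    exact h1 hc.1.two_dvd
  exact FrameNOFF.geo hc S Da.noff hG Da.low

variable (hc : IsCharacteristicTwoType G) (Da : DataLow (S : Subgroup G))

namespace EndC

variable (T : EndC (S : Subgroup G) P H U₁ z₀)
include hc T

omit [Finite G] in
theorem RR_normal_aux {A B : Subgroup G} (hA : A ≤ normalizer (B : Set G)) : ⁅A, B⁆ ≤ B :=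
  commutator_le.2 fun a ha b hb => by
    rw [commutatorElement_def]
    exact mul_mem ((mem_normalizer_iff.1 (hA ha) b).1 hb) (inv_mem hb)

theorem UV : zl (S : Subgroup G) H ≤ normalizer (zl (S : Subgroup G) P : Set G) :=
  (IsLong.zl_le_S hc T.long).trans (T.par.le.trans (le_normalizer_zl _ _))

theorem VU : zl (S : Subgroup G) P ≤ normalizer (zl (S : Subgroup G) H : Set G) :=
  (IsParS.zl_le_S hc T.par).trans (T.long.loc.le.trans (le_normalizer_zl _ _))

theorem RR_le_V : RR (S : Subgroup G) P H ≤ zl (S : Subgroup G) P := RR_normal_aux hc T (T.UV hc)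

theorem RR_le_U : RR (S : Subgroup G) P H ≤ zl (S : Subgroup G) H := T.RU.trans T.U₁U

/-- `V` centralises `R`. -/
theorem V_cent_R : zl (S : Subgroup G) P ≤ centralizer (RR (S : Subgroup G) P H : Set G) :=
  ((zl_abel hc S T.par.isLoc).1).trans (centralizer_le (T.RR_le_V hc))

omit hc in
/-- `C` normalises `R`. -/
theorem C_norm : CZ (S : Subgroup G) ≤ normalizer (RR (S : Subgroup G) P H : Set G) := by
  intro c hcC
  refine mem_norm_of_le (T.pts c (T.long.cz hcC) ?_)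
  rw [(mem_centralizer_iff.1 hcC z₀ T.z0).symm, mul_inv_cancel_right]
  exact T.z0R

/-- `W ∩ U₁ ≤ R` is impossible. -/
theorem false_of (h : ∀ y ∈ WW (S : Subgroup G) H, y ∈ U₁ → y ∈ RR (S : Subgroup G) P H) : False := by
  have hHR : H ≤ normalizer (RR (S : Subgroup G) P H : Set G) := by
    refine T.gen _ T.C_norm fun P₁ h₁ hH p₁ hp => ?_
    refine mem_norm_of_le (T.pts p₁ (hH hp) (h _ ?_ ?_))
    · have h2 := le_WW (S := (S : Subgroup G)) h₁ hH (one_mem _)
      rw [map_one, one_smul] at h2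
      exact h2 ((mem_normalizer_iff.1 (le_normalizer_zl _ _ hp) z₀).1 (zc_le_zl _ _ T.z0))
    · exact (mem_normalizer_iff.1 (T.HU (hH hp)) z₀).1 (T.RU T.z0R)
  have hF : H ≤ normalizer ((zc (S : Subgroup G) ⊓ centralizer (H : Set G) : Subgroup G) : Set G) := by
    intro g hg
    have key : ∀ g ∈ H, ∀ x ∈ zc (S : Subgroup G) ⊓ centralizer (H : Set G), g * x * g⁻¹ = x := fun g hg x hx => by
      rw [mem_centralizer_iff.1 hx.2 g hg, mul_inv_cancel_right]
    refine mem_norm_of_le fun x hx => ?_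
    rw [mem_conj] at hx
    have h1 := key g hg _ hx
    have h2 : g * (g⁻¹ * x * g) * g⁻¹ = x := by group
    rw [h2] at h1
    rw [h1]
    exact hx
  have hHX : H ≤ normalizer
      ((RR (S : Subgroup G) P H ⊔ (zc (S : Subgroup G) ⊓ centralizer (H : Set G)) : Subgroup G) : Set G) := by
    intro g hg
    refine RTransv.mem_normalizer_of_conj ?_
    rw [Subgroup.smul_sup, conj_eq_of_mem (hHR hg), conj_eq_of_mem (hF hg)]
  have h1 : zl (S : Subgroup G) H ≤ RR (S : Subgroup G) P H ⊔ (zc (S : Subgroup G) ⊓ centralizer (H : Set G)) :=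
    zl_le T.ZF hHX
  exact T.ne (h1.trans (sup_le (comm_symm (T.V_cent_R hc))
    (inf_le_left.trans ((zc_le_zl _ _).trans (zl_abel hc S T.par.isLoc).1))))

include Da in
/-- (7)(a): `V^k ≤ S` for `k ∈ N_H(R)`. -/
theorem conj_V_le_S {k : G} (hk : k ∈ H) (hkR : k ∈ normalizer (RR (S : Subgroup G) P H : Set G)) :
    MulAut.conj k • zl (S : Subgroup G) P ≤ (S : Subgroup G) := by
  have hVS := IsParS.zl_le_S hc T.par
  have hVH : zl (S : Subgroup G) P ≤ H := hVS.trans T.long.loc.le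
  -- `N`, `CR`
  have hNH : V (zl (S : Subgroup G) P) H ≤ H := V_le fun h hh => by
    have h1 := (conj_le_iff (g := h)).2 hVH
    rwa [conj_eq_of_mem (le_normalizer hh)] at h1
  have hNn : H ≤ normalizer (V (zl (S : Subgroup G) P) H : Set G) := fun h hh => by
    refine RTransv.mem_normalizer_of_conj ?_
    have := conj_V_mul (Z := zl (S : Subgroup G) P) (g := 1) hh
    rwa [one_mul, map_one, one_smul] at this
  set CR := V (zl (S : Subgroup G) P) H ⊓ centralizer (RR (S : Subgroup G) P H : Set G) with hCR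
  have hCRC : CR ≤ CZ (S : Subgroup G) := by
    intro g hg
    have h1 : RR (S : Subgroup G) P H ⊔ (zc (S : Subgroup G) ⊓ centralizer (H : Set G)) ≤
        centralizer ({g} : Set G) := by
      refine sup_le (fun x hx => ?_) (fun x hx => ?_)
      · exact mem_centralizer_singleton_iff.2 ((mem_centralizer_iff.1 hg.2 x hx))
      · exact mem_centralizer_singleton_iff.2 ((mem_centralizer_iff.1 hx.2 g (hNH hg.1)).symm)
    refine mem_centralizer_iff.2 fun z hz => ?_
    exact mem_centralizer_singleton_iff.1 (h1 (T.ZF hz))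
  have hnorm : ∀ k ∈ H, k ∈ normalizer (RR (S : Subgroup G) P H : Set G) → k ∈ normalizer (CR : Set G) := by
    intro k hk hkR
    refine RTransv.mem_normalizer_of_conj ?_
    rw [hCR, Subgroup.smul_inf, conj_eq_of_mem (hNn hk)]
    congr 1
    exact conj_eq_of_mem (le_normalizer_centralizer (A := normalizer (RR (S : Subgroup G) P H : Set G)) le_rfl hkR)
  have hnO : ∀ k ∈ H, k ∈ normalizer (RR (S : Subgroup G) P H : Set G) → k ∈ normalizer (o2 CR : Set G) := by
    intro k hk hkR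
    exact norm_o2 _ (hnorm k hk hkR)
  have hSO : (S : Subgroup G) ≤ normalizer (o2 CR : Set G) := fun s hs =>
    hnO s (T.long.loc.le hs) (T.C_norm (le_CZ S hs))
  have hOS : o2 CR ≤ (S : Subgroup G) := le_sylow (o2_isPGroup _) hSO
  have hVO : zl (S : Subgroup G) P ≤ o2 CR := by
    refine le_trans (le_inf (Da.low P T.par) (le_inf ?_ (T.V_cent_R hc))) (?_ : o2 (CZ (S : Subgroup G)) ⊓ CR ≤ o2 CR)
    · have := Z_le_V (Z := zl (S : Subgroup G) P) (P := H) (one_mem H)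
      rwa [map_one, one_smul] at this
    · refine le_o2 inf_le_right ((o2_isPGroup _).to_le inf_le_left) ?_
      intro g hg
      refine RTransv.mem_normalizer_of_conj ?_
      rw [Subgroup.smul_inf, conj_eq_of_mem (le_normalizer_o2 _ (hCRC hg)), conj_eq_of_mem (le_normalizer hg)]
  have h1 := (conj_le_iff (g := k)).2 hVO
  rw [conj_eq_of_mem (hnO k hk hkR)] at h1
  exact h1.trans hOS

include Da in
/-- (7)(a): `W` commutes with `V^k`, `k ∈ N_H(R)`. -/
theorem W_comm {k : G} (hk : k ∈ H) (hkR : k ∈ normalizer (RR (S : Subgroup G) P H : Set G)) :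
    WW (S : Subgroup G) H ≤ centralizer ((MulAut.conj k • zl (S : Subgroup G) P : Subgroup G) : Set G) := by
  have D' := geoL hc Da
  have key : ∀ k ∈ H, k ∈ normalizer (RR (S : Subgroup G) P H : Set G) → ∀ P₁, IsParS (S : Subgroup G) P₁ → P₁ ≤ H →
      zl (S : Subgroup G) P₁ ≤ centralizer ((MulAut.conj k • zl (S : Subgroup G) P : Subgroup G) : Set G) := by
    intro k hk hkR P₁ h₁ hH
    have h2 := T.conj_V_le_S hc Da hk hkR
    have h3 : zl (S : Subgroup G) P₁ ≤ MulAut.conj k • P := by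
      refine (zl_mono hH).trans ?_
      rw [← conj_eq_of_mem (le_normalizer_zl (S : Subgroup G) H hk)]
      exact conj_le_iff.2 ((IsLong.zl_le_S hc T.long).trans T.par.le)
    have h4 := D'.noff' h₁ T.par (g := 1) (h := k) (by
      rw [map_one, one_smul]
      exact h3) (by
      rw [map_one, one_smul]
      exact h2.trans h₁.le)
    rw [map_one, one_smul] at h4
    exact h4
  refine WW_le fun P₁ h₁ hH c hcC => ?_
  have h1 := key (c⁻¹ * k) (mul_mem (inv_mem (T.long.cz hcC)) hk) (mul_mem (inv_mem (T.C_norm hcC)) hkR) P₁ h₁ hH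
  have h2 := conj_le_centralizer (g := c) h1
  rwa [conj_conj, mul_inv_cancel_left] at h2

include Da in
/-- **(7)(a)**: MANY AXES. -/
theorem falseA (axR : ∀ y ∈ U₁, (∀ k ∈ H, k ∈ normalizer (RR (S : Subgroup G) P H : Set G) →
    y ∈ centralizer ((MulAut.conj k • zl (S : Subgroup G) P : Subgroup G) : Set G)) →
    y ∈ RR (S : Subgroup G) P H) : False :=
  T.false_of hc fun y hy hyU => axR y hyU fun _ hk hkR => T.W_comm hc Da hk hkR hy

end EndC

end

/-- The data of (7)(b), ONE AXIS.  `U i`, `R i` : the components of `U₁` and of `R`; `D i` : the product of the other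
components; `w ∈ P` opposite; `f ∈ F = C_Z(H)`. -/
structure EndB {ι : Type*} (S P H U₁ : Subgroup G) (z₀ f w : G) (U D R : ι → Subgroup G) : Prop
    extends EndC S P H U₁ z₀ where
  /-- `t ∈ U i`, `t ∈ D i R i ⟹ t ∈ R i` -/
  indep : ∀ i, ∀ t ∈ U i, t ∈ D i ⊔ R i → t ∈ R i
  U_le : ∀ i, U i ≤ U₁
  le_D : ∀ i j, j ≠ i → U j ≤ D i
  RR_le : ∀ i, RR S P H ≤ D i ⊔ R i
  inter : ∀ y ∈ U₁, (∀ i, y ∈ D i ⊔ R i) → y ∈ RR S P H
  /-- `C` is transitive on the components -/
  trC : ∀ i j, ∃ c ∈ CZ S, ∀ t ∈ U i, t ∉ R i → c * t * c⁻¹ ∈ U j ∧ c * t * c⁻¹ ∉ R j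
  /-- `y ∈ C(V)`, `y_i ∉ R i`: some `a ∈ C` with `1 ≠ [y, a] ∈ p`, `p ≠ R i` a point of `U i` -/
  exA : ∀ i, ∀ y ∈ U₁, y ∈ centralizer (zl S P : Set G) → y ∉ D i ⊔ R i → ∃ a ∈ CZ S, y * (a * y⁻¹ * a⁻¹) ∈ U i ∧ y * (a * y⁻¹ * a⁻¹) ∉ R i
  /-- `N` is transitive on the full vectors of `U₁` -/
  tr : ∀ x ∈ U₁, (∀ i, x ∉ D i) → ∃ n ∈ H, x = n * z₀ * n⁻¹
  hQ : QP S P H
  hf : f ∈ zc S ⊓ centralizer (H : Set G)
  hw : w ∈ P
  /-- `V = (V ∩ U) R^w` -/
  Vw : ∀ v ∈ zl S P, ∃ a ∈ zl S H, ∃ r ∈ RR S P H, v = a * (w * r * w⁻¹)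
  Vw' : ∀ v ∈ zl S P, ∃ a ∈ zl S H, ∃ r ∈ RR S P H, v = a * (w⁻¹ * r * w)
  /-- `[f, U^w] = R^w` -/
  op : ∀ r ∈ RR S P H, ∃ u ∈ zl S H, (w⁻¹ * u * w) * f * (w⁻¹ * u * w)⁻¹ = f * (w⁻¹ * r * w)
  /-- `C_R(U^w) = 1` -/
  opR : ∀ x ∈ RR S P H, (∀ u ∈ zl S H, (w⁻¹ * u * w) * x = x * (w⁻¹ * u * w)) → x = 1

section

variable [Finite G] {S : Sylow 2 G} {P H U₁ : Subgroup G} {z₀ f w : G} {ι : Type*} {U D R : ι → Subgroup G}
variable (hc : IsCharacteristicTwoType G) (Da : DataLow (S : Subgroup G))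

namespace EndB

variable (T : EndB (S : Subgroup G) P H U₁ z₀ f w U D R)
include hc Da T

/-- The lines commute. -/
theorem line_comm {P₁ : Subgroup G} (h₁ : IsParS (S : Subgroup G) P₁) :
    zl (S : Subgroup G) P₁ ≤ centralizer (zl (S : Subgroup G) P : Set G) := by
  have D' := geoL hc Da
  have h := D'.noff' h₁ T.par (g := 1) (h := 1) (by
    rw [map_one, one_smul, one_smul]
    exact (IsParS.zl_le_S hc h₁).trans T.par.le) (by
    rw [map_one, one_smul, one_smul]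
    exact (IsParS.zl_le_S hc T.par).trans h₁.le)
  rw [map_one, one_smul, one_smul] at h
  exact h

/-- `W₀ = ⟨V_{P₁}^L⟩`, `L = C_G(e) ≥ ⟨P, C⟩`, `1 ≠ e ∈ C_Z(P)`: all its elements act on `U` as elements of `V`. -/
theorem W0 (hD : zc (S : Subgroup G) ⊓ centralizer (P : Set G) ≠ ⊥) {P₁ : Subgroup G} (h₁ : IsParS (S : Subgroup G) P₁) (hH : P₁ ≤ H) {y l : G}
    (hy : y ∈ zl (S : Subgroup G) P₁) (hl : l ∈ P ⊔ CZ (S : Subgroup G)) :
    l * y * l⁻¹ ∈ zl (S : Subgroup G) P ⊔ centralizer (zl (S : Subgroup G) H : Set G) := by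
  obtain ⟨⟨e, he⟩, he1⟩ : ∃ e : ↥(zc (S : Subgroup G) ⊓ centralizer (P : Set G)), e ≠ 1 := by
    by_contra hcon
    refine hD (eq_bot_iff.2 fun x hx => ?_)
    by_contra hx1
    exact hcon ⟨⟨x, hx⟩, fun h => hx1 (by simpa only [_root_.Subgroup.mem_bot, _root_.OneMemClass.coe_one] using congrArg Subtype.val h)⟩
  have he1 : e ≠ 1 := fun h => he1 (Subtype.ext h)
  have hCL : CZ (S : Subgroup G) ≤ centralizer ({e} : Set G) := centralizer_le (Set.singleton_subset_iff.2 he.1)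
  have hPL : P ≤ centralizer ({e} : Set G) := fun p hp =>
    mem_centralizer_singleton_iff.2 (mem_centralizer_iff.1 he.2 p hp)
  have hL : IsLong (S : Subgroup G) (centralizer ({e} : Set G)) :=
    ⟨isLoc_centralizer S (mem_zc.1 he.1).2.2 he1 ((le_CZ S).trans hCL), hCL⟩
  have hQ := T.hQ
  replace hl : l ∈ centralizer ({e} : Set G) := (sup_le hPL hCL) hl
  set L := centralizer ({e} : Set G) with hLdef
  have hUU : zl (S : Subgroup G) P₁ ≤ zl (S : Subgroup G) H := zl_mono hH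
  -- `V ⊔ C(U)` centralises `V_{P₁}`
  have h2 : zl (S : Subgroup G) P ⊔ centralizer (zl (S : Subgroup G) H : Set G) ≤
      centralizer (zl (S : Subgroup G) P₁ : Set G) :=
    sup_le (comm_symm (T.line_comm hc Da h₁)) (centralizer_le hUU)
  have hU : zl (S : Subgroup G) L ≤ centralizer (zl (S : Subgroup G) P₁ : Set G) :=
    (hQ _ ((hL.zl_le_o2 hc S).trans (hL.o2_le S)) (hL.cz.trans (le_normalizer_zl _ _))
      (zl_abel hc S hL.loc).1).trans h2
  have h3 : zl (S : Subgroup G) P₁ ≤ o2 L := le_o2_of_comm (Da.low P₁ h₁) hL (comm_symm hU)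
  -- `W₀`
  have h4 : V (zl (S : Subgroup G) P₁) L ≤ o2 L := by
    refine V_le fun x hx => ?_
    have h5 := (conj_le_iff (g := x)).2 h3
    rwa [conj_eq_of_mem (le_normalizer_o2 _ hx)] at h5
  have h6 : L ≤ normalizer (V (zl (S : Subgroup G) P₁) L : Set G) := by
    intro g hg
    refine RTransv.mem_normalizer_of_conj ?_
    have := conj_V_mul (Z := zl (S : Subgroup G) P₁) (g := 1) hg
    rwa [one_mul, map_one, one_smul] at this
  have D' := geoL hc Da
  have hSL : ∀ x ∈ L, MulAut.conj x • zl (S : Subgroup G) P₁ ≤ o2 L := fun x hx => by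
    have h5 := (conj_le_iff (g := x)).2 h3
    rwa [conj_eq_of_mem (le_normalizer_o2 _ hx)] at h5
  have hLP : ∀ x ∈ L, o2 L ≤ MulAut.conj x • P₁ := fun x hx => by
    rw [← conj_eq_of_mem (le_normalizer_o2 L hx)]
    exact conj_le_iff.2 ((hL.loc.o2_le S).trans h₁.le)
  have h7 : V (zl (S : Subgroup G) P₁) L ≤ centralizer (V (zl (S : Subgroup G) P₁) L : Set G) := by
    refine V_le fun x hx => comm_symm (V_le fun x' hx' => comm_symm ?_)
    exact D'.noff' h₁ h₁ ((hSL x hx).trans (hLP x' hx')) ((hSL x' hx').trans (hLP x hx))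
  refine hQ _ (h4.trans (hL.o2_le S)) (hL.cz.trans h6) h7 (Z_le_V (Z := zl (S : Subgroup G) P₁) hl ?_)
  rw [mem_conj]
  simpa [mul_assoc] using hy

/-- `y ∈ W` : `y^w` acts on `U` as an element of `V`. -/
theorem W_act (hD : zc (S : Subgroup G) ⊓ centralizer (P : Set G) ≠ ⊥) {y : G} (hy : y ∈ WW (S : Subgroup G) H) :
    w * y * w⁻¹ ∈ zl (S : Subgroup G) P ⊔ centralizer (zl (S : Subgroup G) H : Set G) := by
  have h1 : WW (S : Subgroup G) H ≤
      MulAut.conj w⁻¹ • (zl (S : Subgroup G) P ⊔ centralizer (zl (S : Subgroup G) H : Set G)) := by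
    refine WW_le fun P₁ h₁ hH c hcC => fun x hx => ?_
    rw [mem_conj] at hx
    rw [mem_conj]
    have h2 := T.W0 hc Da hD h₁ hH hx (mul_mem (mem_sup_left T.hw : w ∈ P ⊔ CZ (S : Subgroup G))
      (mem_sup_right hcC : c ∈ P ⊔ CZ (S : Subgroup G)))
    have h3 : w * c * (c⁻¹ * x * c) * (w * c)⁻¹ = w⁻¹⁻¹ * x * w⁻¹ := by group
    rwa [h3] at h2
  have h2 := h1 hy
  rwa [mem_conj, inv_inv] at h2

/-- No `y ∈ W ∩ U₁` has all components outside `R`. -/
theorem not_full (hD : zc (S : Subgroup G) ⊓ centralizer (P : Set G) ≠ ⊥) {y : G} (hy : y ∈ WW (S : Subgroup G) H) (hyU : y ∈ U₁) (hfull : ∀ i, y ∉ D i ⊔ R i) : False := by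
  have hUab := (zl_abel hc S T.long.loc).1
  have hVC := le_normalizer_centralizer (T.toEndC.VU hc)
  obtain ⟨v, hv, c, hcU, e1⟩ := exists_mul_of_mem_sup hVC (T.W_act hc Da hD hy)
  obtain ⟨a, ha, r, hr, e2⟩ := T.Vw v hv
  have hrU : r ∈ zl (S : Subgroup G) H := T.toEndC.RR_le_U hc hr
  set x := y * r⁻¹ with hx
  have hxU₁ : x ∈ U₁ := mul_mem hyU (inv_mem (T.RU hr))
  have hxU : x ∈ zl (S : Subgroup G) H := T.U₁U hxU₁
  have hwr : w * r * w⁻¹ ∈ zl (S : Subgroup G) P :=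
    (mem_normalizer_iff.1 (le_normalizer_zl _ _ T.hw) r).1 (T.toEndC.RR_le_V hc hr)
  have hwx : w * x * w⁻¹ ∈ centralizer (zl (S : Subgroup G) H : Set G) := by
    have h3 : w * x * w⁻¹ = a * ((w * r * w⁻¹) * c * (w * r * w⁻¹)⁻¹) := by
      calc w * x * w⁻¹ = (w * y * w⁻¹) * (w * r * w⁻¹)⁻¹ := by rw [hx]; group
        _ = _ := by rw [e1, e2]; group
    rw [h3]
    exact mul_mem (hUab ha) ((mem_normalizer_iff.1 (hVC hwr) c).1 hcU)
  have hxD : ∀ i, x ∉ D i := by
    intro i h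
    refine hfull i ?_
    have h1 : y = x * r := by rw [hx, inv_mul_cancel_right]
    rw [h1]
    exact mul_mem (mem_sup_left h) (T.RR_le i hr)
  obtain ⟨n, hn, hnx⟩ := T.tr x hxU₁ hxD
  -- `⟨U, U^{w⁻¹}⟩ ≤ C(x)`
  have hU'x : ∀ u ∈ zl (S : Subgroup G) H, (w⁻¹ * u * w) * x = x * (w⁻¹ * u * w) := fun u hu => by
    have h3 := mem_centralizer_iff.1 hwx u hu
    have h4 := congrArg (fun t => w⁻¹ * t * w) h3
    simpa only [mul_assoc, _root_.inv_mul_cancel, _root_.mul_one, _root_.inv_mul_cancel_left] using h4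
  have hz0 : z₀ = n⁻¹ * x * n := by rw [hnx]; group
  have hC0 : ∀ g : G, g * x = x * g → n⁻¹ * g * n ∈ centralizer ({z₀} : Set G) := by
    intro g hg
    rw [mem_centralizer_singleton_iff, hz0]
    calc n⁻¹ * g * n * (n⁻¹ * x * n) = n⁻¹ * (g * x) * n := by group
      _ = n⁻¹ * (x * g) * n := by rw [hg]
      _ = _ := by group
  set K := zl (S : Subgroup G) P ⊔ centralizer (zl (S : Subgroup G) H : Set G) with hK
  have hnH := inv_mem hn
  have hfn : n⁻¹ * f * n = f := by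
    rw [mul_assoc, mem_centralizer_iff.1 T.hf.2 n hn |>.symm, inv_mul_cancel_left]
  have hcz := RA.End.Sit.cz_act hc T.hQ T.z0 T.z01
  have hconj : ∀ v ∈ zl (S : Subgroup G) P, n⁻¹ * v * n ∈ K := by
    intro v hv
    obtain ⟨a, ha, r, hr, rfl⟩ := T.Vw' v hv
    have e3 : n⁻¹ * (a * (w⁻¹ * r * w)) * n = (n⁻¹ * a * n) * (n⁻¹ * (w⁻¹ * r * w) * n) := by group
    rw [e3]
    refine mul_mem (mem_sup_right (hUab ?_)) ?_
    · have := (mem_normalizer_iff.1 (le_normalizer_zl (S : Subgroup G) H hnH) a).1 ha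
      rwa [inv_inv] at this
    · obtain ⟨u, hu, e4⟩ := T.op r hr
      set g := w⁻¹ * u * w with hg
      have e5 : n⁻¹ * (w⁻¹ * r * w) * n = f⁻¹ * ((n⁻¹ * g * n) * f * (n⁻¹ * g * n)⁻¹) := by
        have e6 : w⁻¹ * r * w = f⁻¹ * (g * f * g⁻¹) := by rw [e4, inv_mul_cancel_left]
        have e7 : n⁻¹ * (g * f * g⁻¹) * n = (n⁻¹ * g * n) * (n⁻¹ * f * n) * (n⁻¹ * g * n)⁻¹ := by group
        calc n⁻¹ * (w⁻¹ * r * w) * n = (n⁻¹ * f * n)⁻¹ * (n⁻¹ * (g * f * g⁻¹) * n) := by rw [e6]; group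
          _ = _ := by rw [e7, hfn]
      rw [e5]
      have hgC := hC0 g (hU'x u hu)
      have hfz : f ∈ zl (S : Subgroup G) (centralizer ({z₀} : Set G)) := zc_le_zl _ _ T.hf.1
      refine mul_mem (inv_mem (hcz hfz)) (hcz ?_)
      exact (mem_normalizer_iff.1 (le_normalizer_zl _ _ hgC) f).1 hfz
  -- `R^{n⁻¹} = R`
  have hRn : MulAut.conj n⁻¹ • RR (S : Subgroup G) P H ≤ RR (S : Subgroup G) P H := by
    have h3 : MulAut.conj n⁻¹ • ⁅zl (S : Subgroup G) H, zl (S : Subgroup G) P⁆ =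
        ⁅MulAut.conj n⁻¹ • zl (S : Subgroup G) H, MulAut.conj n⁻¹ • zl (S : Subgroup G) P⁆ :=
      map_commutator _ _ _
    change MulAut.conj n⁻¹ • ⁅zl (S : Subgroup G) H, zl (S : Subgroup G) P⁆ ≤
      ⁅zl (S : Subgroup G) H, zl (S : Subgroup G) P⁆
    rw [h3, conj_eq_of_mem (le_normalizer_zl _ _ hnH), commutator_le]
    intro u hu v' hv'
    rw [mem_conj, inv_inv] at hv'
    have h4 := hconj _ hv'
    have h5 : n⁻¹ * (n * v' * n⁻¹) * n = v' := by group
    rw [h5] at h4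
    obtain ⟨v₂, hv₂, c₂, hc₂, rfl⟩ := exists_mul_of_mem_sup hVC h4
    have h6 : ⁅u, v₂ * c₂⁆ = ⁅u, v₂⁆ := by
      have h7 : c₂ * u⁻¹ = u⁻¹ * c₂ := (mem_centralizer_iff.1 hc₂ _ (inv_mem hu)).symm
      calc ⁅u, v₂ * c₂⁆ = u * v₂ * (c₂ * u⁻¹) * c₂⁻¹ * v₂⁻¹ := by rw [commutatorElement_def]; group
        _ = ⁅u, v₂⁆ := by rw [h7, commutatorElement_def]; group
    rw [h6]
    exact commutator_mem_commutator hu hv₂
  have hxR : x ∈ RR (S : Subgroup G) P H := by
    have h1 := conj_eq_of_le hRn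
    have h2 : z₀ ∈ MulAut.conj n⁻¹ • RR (S : Subgroup G) P H := by
      rw [h1]
      exact T.z0R
    rw [mem_conj, inv_inv, ← hnx] at h2
    exact h2
  have h1 := T.opR x hxR hU'x
  apply T.z01
  rw [hz0, h1, mul_one, inv_mul_cancel]

/-- `W ∩ U₁ ≤ R`. -/
theorem W_le (hD : zc (S : Subgroup G) ⊓ centralizer (P : Set G) ≠ ⊥) [Finite ι] {y : G} (hy : y ∈ WW (S : Subgroup G) H) (hyU : y ∈ U₁) : y ∈ RR (S : Subgroup G) P H := by
  classical
  have := Fintype.ofFinite ι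
  refine T.inter y hyU fun i => ?_
  by_contra hcon
  have hyV : y ∈ centralizer (zl (S : Subgroup G) P : Set G) := by
    have h0 := T.toEndC.W_comm hc Da (one_mem H) (one_mem _) hy
    rwa [map_one, one_smul] at h0
  obtain ⟨a, ha, h1, h2⟩ := T.exA i y hyU hyV hcon
  have h3 : y * (a * y⁻¹ * a⁻¹) ∈ WW (S : Subgroup G) H := mul_mem hy (conj_mem_WW ha (inv_mem hy))
  set t := y * (a * y⁻¹ * a⁻¹) with ht
  have h4 : ∀ j, ∃ t ∈ WW (S : Subgroup G) H, t ∈ U j ∧ t ∉ R j := fun j => by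
    obtain ⟨c, hcC, h5⟩ := T.trC i j
    obtain ⟨h6, h7⟩ := h5 t h1 h2
    exact ⟨_, conj_mem_WW hcC h3, h6, h7⟩
  have key : ∀ s : Finset ι, ∃ t ∈ WW (S : Subgroup G) H, t ∈ U₁ ∧ ∀ j ∈ s, t ∉ D j ⊔ R j := by
    intro s
    induction s using Finset.induction_on with
    | empty => exact ⟨1, one_mem _, one_mem _, by simp⟩
    | insert j s hjs ih =>
      obtain ⟨t, h5, h6, h7⟩ := ih
      by_cases h8 : t ∈ D j ⊔ R j
      · obtain ⟨t', h9, h10, h11⟩ := h4 j
        refine ⟨t * t', mul_mem h5 h9, mul_mem h6 (T.U_le j h10), ?_⟩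
        intro l hl
        by_cases hlj : l = j
        · subst hlj
          intro h12
          refine h11 (T.indep l t' h10 ?_)
          have h13 := mul_mem (inv_mem h8) h12
          rwa [inv_mul_cancel_left] at h13
        · intro h12
          refine h7 l ((Finset.mem_insert.1 hl).resolve_left hlj) ?_
          have h13 : t' ∈ D l ⊔ R l := mem_sup_left (T.le_D l j (Ne.symm hlj) h10)
          have h14 := mul_mem h12 (inv_mem h13)
          rwa [mul_inv_cancel_right] at h14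
      · refine ⟨t, h5, h6, fun l hl => ?_⟩
        rcases Finset.mem_insert.1 hl with rfl | hl
        · exact h8
        · exact h7 l hl
  obtain ⟨t', h5, h6, h7⟩ := key Finset.univ
  exact T.not_full hc Da hD h5 h6 fun j => h7 j (Finset.mem_univ j)

/-- **(7)(b)**: ONE AXIS. -/
theorem «false» (hD : zc (S : Subgroup G) ⊓ centralizer (P : Set G) ≠ ⊥) [Finite ι] : False :=
  T.toEndC.false_of hc fun _ hy hyU => T.W_le hc Da hD hy hyU

end EndB

end

end Cfsg.Agent.Omega.NOThreeL.RSplit.EndB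

end
end

-- part: Mrg/Omega/NOThreeL/RBig/Pts
section
section


/-!
# NO-3L, box R, case (A), `q > 2`, `k = 1` (#19087, helper162, helper761): the abstract point system, (3)

`Frame X Pt VV` : `X` acts on the finite elementary abelian 2-group `M`; `Pt` is a set of subgroups ("points") of
`M`, `VV p` the group `V^_p` of the point `p` (the group generated by the lines over `p`, modulo the elements
acting trivially).  `Mv VV p r` (`p # r`) : `VV p` moves `r`.
-/

set_option autoImplicit false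

namespace Cfsg.Agent.Omega.NOThreeL.RBig.Pts

open Subgroup
open scoped Pointwise

variable {Γ M : Type*} [Group Γ] [AddCommGroup M] [DistribMulAction Γ M]

/-- `VV p` moves `r` (`p # r`). -/
def Mv (VV : AddSubgroup M → Subgroup Γ) (p r : AddSubgroup M) : Prop := ∃ v ∈ VV p, ∃ x ∈ r, v • x ≠ x

/-- The abstract frame. -/
structure Frame (X : Subgroup Γ) (Pt : Set (AddSubgroup M)) (VV : AddSubgroup M → Subgroup Γ) : Prop where
  two : ∀ m : M, m + m = 0
  nonempty : Pt.Nonempty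
  ne : ∀ p ∈ Pt, p ≠ ⊥
  span : sSup Pt = ⊤
  inv : ∀ g ∈ X, ∀ p ∈ Pt, g • p ∈ Pt
  conj : ∀ g ∈ X, ∀ p ∈ Pt, ∀ v ∈ VV p, g * v * g⁻¹ ∈ VV (g • p)
  le : ∀ p ∈ Pt, VV p ≤ X
  /-- the subgroup generated by all `VV s` is transitive on the points -/
  trans : ∀ p ∈ Pt, ∀ r ∈ Pt, ∃ g ∈ ⨆ s ∈ Pt, VV s, r = g • p
  faith : ∀ p ∈ Pt, ∀ v ∈ VV p, (∀ m : M, v • m = m) → v = 1
  /-- `C_M(N) = 0` -/
  fixed : ∀ m : M, (∀ p ∈ Pt, ∀ v ∈ VV p, v • m = m) → m = 0
  map : ∀ p ∈ Pt, ∀ v ∈ VV p, ∀ m : M, v • m + m ∈ p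
  triv : ∀ p ∈ Pt, ∀ v ∈ VV p, ∀ x ∈ p, v • x = x
  /-- (3)(b) -/
  bij : ∀ p ∈ Pt, ∀ r ∈ Pt, Mv VV r p → ∀ v ∈ VV p, (∀ x ∈ r, v • x = x) ∨ ∀ x ∈ r, v • x = x → x = 0
  /-- a line `A` over `p` which moves `r` -/
  line : ∀ p ∈ Pt, ∀ r ∈ Pt, Mv VV p r → ∃ A ≤ VV p, (∃ a ∈ A, ∃ x ∈ r, a • x ≠ x) ∧
    ∀ u : M, (∀ a ∈ A, a • u = u) ∨ ((∀ y ∈ p, ∃ a ∈ A, a • u = u + y) ∧ ∀ a ∈ A, a • u = u → a = 1)

/-- `dd v m = v m + m`. -/
def dd (v : Γ) : M →+ M := DistribSMul.toAddMonoidHom M v + AddMonoidHom.id M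

theorem dd_apply (v : Γ) (m : M) : dd v m = v • m + m := rfl

variable {X : Subgroup Γ} {Pt : Set (AddSubgroup M)} {VV : AddSubgroup M → Subgroup Γ} {p r s t e : AddSubgroup M}

theorem mem_smul {g : Γ} {p : AddSubgroup M} {x : M} (hx : x ∈ p) : g • x ∈ g • p :=
  AddSubgroup.smul_mem_pointwise_smul x g p hx

theorem mem_smul_iff {g : Γ} {p : AddSubgroup M} {y : M} : y ∈ g • p ↔ ∃ x ∈ p, g • x = y := by
  rw [AddSubgroup.mem_smul_pointwise_iff_exists]

theorem smul_eq_of_fix {g : Γ} {p : AddSubgroup M} (h : ∀ x ∈ p, g • x = x) : g • p = p := by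
  ext y
  rw [mem_smul_iff]
  constructor
  · rintro ⟨x, hx, rfl⟩
    rwa [h x hx]
  · intro hy
    exact ⟨y, hy, h y hy⟩

theorem card_smul (g : Γ) (p : AddSubgroup M) : Nat.card ↥(g • p) = Nat.card ↥p := by
  refine (Nat.card_congr (Equiv.ofBijective (fun x : ↥p => (⟨g • (x : M), mem_smul x.2⟩ : ↥(g • p))) ⟨?_, ?_⟩)).symm
  · intro x y h
    have := congrArg Subtype.val h
    exact Subtype.ext (smul_left_cancel g this)
  · rintro ⟨y, hy⟩
    obtain ⟨x, hx, rfl⟩ := mem_smul_iff.1 hy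
    exact ⟨⟨x, hx⟩, rfl⟩

theorem not_mv (h : ¬ Mv VV p r) {v : Γ} (hv : v ∈ VV p) {x : M} (hx : x ∈ r) : v • x = x := by
  by_contra hne
  exact h ⟨v, hv, x, hx, hne⟩

namespace Frame

variable (F : Frame X Pt VV)
include F

theorem smul_eq (v : Γ) (m : M) : v • m = m + dd v m := by
  rw [dd_apply, add_comm (v • m), ← add_assoc, F.two, zero_add]

theorem dd_mem (hp : p ∈ Pt) {v : Γ} (hv : v ∈ VV p) (m : M) : dd v m ∈ p := F.map p hp v hv m

theorem dd_eq_zero_iff (v : Γ) (m : M) : dd v m = 0 ↔ v • m = m := by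
  rw [F.smul_eq v m]
  constructor
  · intro h
    rw [h, add_zero]
  · intro h
    exact left_eq_add.1 h.symm

theorem dd_self (hp : p ∈ Pt) {v : Γ} (hv : v ∈ VV p) {x : M} (hx : x ∈ p) : dd v x = 0 :=
  (F.dd_eq_zero_iff v x).2 (F.triv p hp v hv x hx)

theorem smul_smul_self (hp : p ∈ Pt) {v : Γ} (hv : v ∈ VV p) (m : M) : v • v • m = m := by
  rw [F.smul_eq v m, smul_add, F.triv p hp v hv _ (F.dd_mem hp hv m), F.smul_eq v m, add_assoc, F.two, add_zero]

theorem sq (hp : p ∈ Pt) {v : Γ} (hv : v ∈ VV p) : v * v = 1 :=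
  F.faith p hp _ (mul_mem hv hv) fun m => by rw [mul_smul, F.smul_smul_self hp hv]

theorem inv_eq (hp : p ∈ Pt) {v : Γ} (hv : v ∈ VV p) : v⁻¹ = v := inv_eq_of_mul_eq_one_right (F.sq hp hv)

theorem eq_of_dd (hp : p ∈ Pt) {v w : Γ} (hv : v ∈ VV p) (hw : w ∈ VV p) (h : ∀ m : M, dd v m = dd w m) : v = w := by
  have h1 : v * w⁻¹ = 1 := by
    refine F.faith p hp _ (mul_mem hv (inv_mem hw)) fun m => ?_
    rw [F.inv_eq hp hw, mul_smul, F.smul_eq w m, smul_add, F.triv p hp v hv _ (F.dd_mem hp hw m), F.smul_eq v m, h,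
      add_assoc, F.two, add_zero]
  exact mul_inv_eq_one.1 h1

theorem dd_mul (hp : p ∈ Pt) {v w : Γ} (hv : v ∈ VV p) (hw : w ∈ VV p) (m : M) : dd (v * w) m = dd v m + dd w m := by
  rw [dd_apply, mul_smul, F.smul_eq w m, smul_add, F.triv p hp v hv _ (F.dd_mem hp hw m), dd_apply v m]
  abel

/-- The commutator of `v ∈ V_p` with `g ∈ V_r`, `g` centralising `p`. -/
theorem comm_mem (hp : p ∈ Pt) (hr : r ∈ Pt) {v g : Γ} (hv : v ∈ VV p) (hg : g ∈ VV r)
    (hgp : ∀ x ∈ p, g • x = x) : v * (g * v * g⁻¹) ∈ VV p := by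
  have h1 := F.conj g (F.le r hr hg) p hp v hv
  rw [smul_eq_of_fix hgp] at h1
  exact mul_mem hv h1

theorem dd_comm (hp : p ∈ Pt) (hr : r ∈ Pt) {v g : Γ} (hv : v ∈ VV p) (hg : g ∈ VV r)
    (hgp : ∀ x ∈ p, g • x = x) (m : M) : dd (v * (g * v * g⁻¹)) m = dd v (dd g m) := by
  have h1 := F.conj g (F.le r hr hg) p hp v hv
  rw [smul_eq_of_fix hgp] at h1
  rw [F.dd_mul hp hv h1]
  -- `dd (g v g⁻¹) m = g (dd v (g⁻¹ m)) = dd v (g m)`
  have h2 : dd (g * v * g⁻¹) m = dd v (g • m) := by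
    rw [F.inv_eq hr hg, dd_apply, mul_smul, mul_smul, F.smul_eq v (g • m), smul_add, F.smul_smul_self hr hg,
      hgp _ (F.dd_mem hp hv _), add_comm m, add_assoc, F.two, add_zero]
  rw [h2, F.smul_eq g m, map_add, ← add_assoc, F.two, zero_add]

theorem top_le_ker {v : Γ} (h : ∀ r ∈ Pt, ∀ x ∈ r, v • x = x) (m : M) : v • m = m := by
  have h1 : sSup Pt ≤ (dd v : M →+ M).ker := sSup_le fun r hr x hx => by
    rw [AddMonoidHom.mem_ker, F.dd_eq_zero_iff]
    exact h r hr x hx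
  rw [F.span] at h1
  exact (F.dd_eq_zero_iff v m).1 (h1 (AddSubgroup.mem_top m))

theorem mem_X {g : Γ} (hg : g ∈ ⨆ s ∈ Pt, VV s) : g ∈ X := (iSup₂_le fun s hs => F.le s hs) hg

omit [DistribMulAction Γ M] F in
/-- Something preserved by all `VV s` is preserved by the group they generate. -/
theorem induct {P : Γ → Prop} (h1 : P 1) (hmul : ∀ a b, P a → P b → P (a * b)) (hinv : ∀ a, P a → P a⁻¹)
    (hV : ∀ s ∈ Pt, ∀ v ∈ VV s, P v) {g : Γ} (hg : g ∈ ⨆ s ∈ Pt, VV s) : P g := by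
  let K : Subgroup Γ :=
    { carrier := {x | P x}
      one_mem' := h1
      mul_mem' := fun {a b} ha hb => hmul a b ha hb
      inv_mem' := fun {a} ha => hinv a ha }
  exact (iSup₂_le fun s hs v hv => hV s hs v hv : ⨆ s ∈ Pt, VV s ≤ K) hg

theorem card_eq (hp : p ∈ Pt) (hr : r ∈ Pt) : Nat.card ↥p = Nat.card ↥r := by
  obtain ⟨g, -, rfl⟩ := F.trans p hp r hr
  rw [card_smul]

theorem conj_iff {g : Γ} (hg : g ∈ X) (hp : p ∈ Pt) {v : Γ} : g * v * g⁻¹ ∈ VV (g • p) ↔ v ∈ VV p := by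
  constructor
  · intro h
    have := F.conj g⁻¹ (inv_mem hg) (g • p) (F.inv g hg p hp) _ h
    rw [inv_smul_smul] at this
    convert this using 1
    group
  · intro h
    exact F.conj g hg p hp v h

theorem cardVV_eq (hp : p ∈ Pt) (hr : r ∈ Pt) : Nat.card ↥(VV p) = Nat.card ↥(VV r) := by
  obtain ⟨g, hg, rfl⟩ := F.trans p hp r hr
  have hgX := F.mem_X hg
  refine Nat.card_congr (Equiv.ofBijective
    (fun v : ↥(VV p) => (⟨g * v * g⁻¹, (F.conj_iff hgX hp).2 v.2⟩ : ↥(VV (g • p)))) ⟨?_, ?_⟩)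
  · intro v w h
    have h1 : g * (v : Γ) * g⁻¹ = g * w * g⁻¹ := congrArg Subtype.val h
    exact Subtype.ext (mul_left_cancel (mul_right_cancel h1))
  · rintro ⟨w, hw⟩
    refine ⟨⟨g⁻¹ * w * g, (F.conj_iff hgX hp).1 ?_⟩, Subtype.ext ?_⟩
    · convert hw using 1
      group
    · change g * (g⁻¹ * w * g) * g⁻¹ = w
      group

theorem mv_smul {g : Γ} (hg : g ∈ X) (hp : p ∈ Pt) : Mv VV (g • p) (g • r) ↔ Mv VV p r := by
  constructor
  · rintro ⟨v, hv, x, hx, hne⟩
    obtain ⟨y, hy, rfl⟩ := mem_smul_iff.1 hx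
    refine ⟨g⁻¹ * v * g, (F.conj_iff hg hp).1 (by convert hv using 1; group), y, hy, fun h => hne ?_⟩
    rw [mul_smul, mul_smul, inv_smul_eq_iff] at h
    exact h
  · rintro ⟨v, hv, x, hx, hne⟩
    refine ⟨g * v * g⁻¹, F.conj g hg p hp v hv, g • x, mem_smul hx, fun h => hne ?_⟩
    rw [mul_smul, mul_smul, inv_smul_smul] at h
    exact smul_left_cancel g h

/-- Two points: every point moves some point. -/
theorem exists_mv (hp : p ∈ Pt) : ∃ r ∈ Pt, Mv VV p r := by
  by_contra hcon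
  push Not at hcon
  -- `VV p` is trivial
  have h1 : ∀ v ∈ VV p, ∀ m : M, v • m = m := fun v hv m =>
    F.top_le_ker (fun r hr x hx => not_mv (hcon r hr) hv hx) m
  obtain ⟨x, hx, hx0⟩ := (AddSubgroup.bot_or_exists_ne_zero p).resolve_left (F.ne p hp)
  refine hx0 (F.fixed x fun s hs v hv => ?_)
  obtain ⟨g, hg, rfl⟩ := F.trans p hp s hs
  have hgX := F.mem_X hg
  have h2 : g⁻¹ * v * g ∈ VV p := (F.conj_iff hgX hp).1 (by convert hv using 1; group)
  have h3 := h1 _ h2 (g⁻¹ • x)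
  rw [mul_smul, mul_smul, smul_inv_smul] at h3
  exact smul_left_cancel _ h3

/-- Every point is moved by some point. -/
theorem exists_mv' (hp : p ∈ Pt) : ∃ r ∈ Pt, Mv VV r p := by
  by_contra hcon
  push Not at hcon
  obtain ⟨x, hx, hx0⟩ := (AddSubgroup.bot_or_exists_ne_zero p).resolve_left (F.ne p hp)
  exact hx0 (F.fixed x fun s hs v hv => not_mv (hcon s hs) hv hx)

end Frame

end Cfsg.Agent.Omega.NOThreeL.RBig.Pts

end

section


/-!
# NO-3L, box R, case (A), `q > 2`, `k = 1` (#19087, helper162): the abstract part of (6) (Q)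

`Frame X Pt VV` in the case of ONE AXIS, `Out Pt VV e` : the outputs of (3)(c) and (5).
`B ≤ X` acts quadratically on `M`, fixes `e` pointwise and is normalised by `VV t` for all `t ~ e`.

* `Out.reg` : `VV p` is regular on `u + p` for every `u` outside its axis;
* `Quad.fix` : `B` fixes all `p ~ e`; `Quad.comm` : `B` commutes with `VV p`, `p ~ e`, `p ≠ e`; `Quad.triv`;
* **`Quad.main`** : every `b ∈ B` acts on `M` as an element of `VV e`.
-/

set_option autoImplicit false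
set_option linter.unusedSectionVars false

namespace Cfsg.Agent.Omega.NOThreeL.RBig.Pts

open Subgroup
open scoped Pointwise

variable {Γ M : Type*} [Group Γ] [AddCommGroup M] [DistribMulAction Γ M]

/-- the outputs of (3)(c) and (5), for the point `e` -/
structure Out (Pt : Set (AddSubgroup M)) (VV : AddSubgroup M → Subgroup Γ) (e : AddSubgroup M) : Prop where
  symm : ∀ p ∈ Pt, ∀ r ∈ Pt, Mv VV p r → Mv VV r p
  oneAx : ∀ p ∈ Pt, ∀ r ∈ Pt, Mv VV p r → ∀ v ∈ VV p, (∀ x ∈ r, v • x = x) → v = 1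
  twins : ∀ p ∈ Pt, ∀ r ∈ Pt, (∀ s ∈ Pt, Mv VV s p ↔ Mv VV s r) → p = r
  disj : ∀ p ∈ Pt, ∀ r ∈ Pt, p ≠ r → p ⊓ r = ⊥
  ax : ∀ m : M, (∀ v ∈ VV e, v • m = m) → m ∈ sSup {t | t ∈ Pt ∧ ¬ Mv VV t e}
  inter : ∀ m : M, (∀ t ∈ Pt, ¬ Mv VV t e → ∀ v ∈ VV t, v • m = m) → m ∈ e

/-- The axis of `VV p`. -/
def Yx (VV : AddSubgroup M → Subgroup Γ) (p : AddSubgroup M) : AddSubgroup M where
  carrier := {m | ∀ v ∈ VV p, v • m = m}
  add_mem' := fun {x y} hx hy v hv => by rw [smul_add, hx v hv, hy v hv]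
  zero_mem' := fun v _ => smul_zero v
  neg_mem' := fun {x} hx v hv => by rw [smul_neg, hx v hv]

variable {X B : Subgroup Γ} {Pt : Set (AddSubgroup M)} {VV : AddSubgroup M → Subgroup Γ} {p r s t e : AddSubgroup M}

theorem not_mv_iff : ¬ Mv VV p r ↔ r ≤ Yx VV p := by
  constructor
  · exact fun h x hx v hv => not_mv h hv hx
  · rintro h ⟨v, hv, x, hx, hne⟩
    exact hne (h hx v hv)

/-- a 2-element has a fixed point -/
theorem exists_fix (two : ∀ m : M, m + m = 0) {W : AddSubgroup M} (hW : W ≠ ⊥) (n : ℕ) :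
    ∀ g : Γ, (∀ x ∈ W, g • x ∈ W) → (∀ x ∈ W, (g ^ 2 ^ n) • x = x) → ∃ x ∈ W, x ≠ 0 ∧ g • x = x := by
  induction n with
  | zero =>
    intro g _ h
    obtain ⟨x, hx, hx0⟩ := (AddSubgroup.bot_or_exists_ne_zero W).resolve_left hW
    exact ⟨x, hx, hx0, by simpa using h x hx⟩
  | succ n ih =>
    intro g hg h
    obtain ⟨x, hx, hx0, h1⟩ := ih (g ^ 2) (fun x hx => by rw [pow_two, mul_smul]; exact hg _ (hg _ hx)) (fun x hx => by
      rw [← pow_mul, ← pow_succ']; exact h x hx)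
    by_cases h2 : g • x = x
    · exact ⟨x, hx, hx0, h2⟩
    · refine ⟨g • x + x, add_mem (hg x hx) hx, fun h3 => h2 ?_, ?_⟩
      · have h4 := eq_neg_of_add_eq_zero_left h3
        rw [h4]
        exact neg_eq_of_add_eq_zero_left (two x)
      · rw [smul_add, ← mul_smul, ← pow_two, h1, add_comm]

namespace Frame

variable (F : Frame X Pt VV)
include F

theorem not_mv_self (hp : p ∈ Pt) : ¬ Mv VV p p := by
  rintro ⟨v, hv, x, hx, hne⟩
  exact hne (F.triv p hp v hv x hx)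

theorem Yx_smul {g : Γ} (hg : g ∈ X) (hp : p ∈ Pt) {m : M} : m ∈ Yx VV (g • p) ↔ g⁻¹ • m ∈ Yx VV p := by
  constructor
  · intro h v hv
    have h1 := h _ (F.conj g hg p hp v hv)
    rw [mul_smul, mul_smul, smul_eq_iff_eq_inv_smul] at h1
    exact h1
  · intro h v hv
    have h2 : g⁻¹ * v * g ∈ VV p := (F.conj_iff hg hp).1 (by convert hv using 1; group)
    have h3 := h _ h2
    rw [mul_smul, mul_smul, smul_inv_smul] at h3
    exact smul_left_cancel _ h3

theorem cardYx [Finite M] (hp : p ∈ Pt) (hr : r ∈ Pt) : Nat.card ↥(Yx VV p) = Nat.card ↥(Yx VV r) := by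
  obtain ⟨g, hg, rfl⟩ := F.trans p hp r hr
  have hgX := F.mem_X hg
  have h1 : Yx VV (g • p) = g • Yx VV p := by
    ext m
    rw [F.Yx_smul hgX hp, mem_smul_iff]
    constructor
    · intro h
      exact ⟨_, h, smul_inv_smul g m⟩
    · rintro ⟨x, hx, rfl⟩
      rwa [inv_smul_smul]
  rw [h1, card_smul]

theorem Yx_eq [Finite M] (hp : p ∈ Pt) (hr : r ∈ Pt) (h : Yx VV p ≤ Yx VV r) : Yx VV p = Yx VV r :=
  AddSubgroup.eq_of_le_of_card_ge h (F.cardYx hr hp).le

end Frame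

namespace Out

variable (O : Out Pt VV e) (F : Frame X Pt VV)
include O F

theorem eq_of_Yx (hp : p ∈ Pt) (hr : r ∈ Pt) (h : Yx VV p = Yx VV r) : p = r := by
  refine O.twins p hp r hr fun s hs => ?_
  have h1 : ∀ q ∈ Pt, (Mv VV s q ↔ ¬ s ≤ Yx VV q) := fun q hq => by
    rw [← not_mv_iff, not_not]
    exact ⟨O.symm s hs q hq, O.symm q hq s hs⟩
  rw [h1 p hp, h1 r hr, h]

/-- an element of `VV p` which fixes a nonzero vector of `r`, `p # r`, is trivial -/
theorem eq_one (hp : p ∈ Pt) (hr : r ∈ Pt) (h : Mv VV p r) {v : Γ} (hv : v ∈ VV p) {x : M} (hx : x ∈ r)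
    (hx0 : x ≠ 0) (h1 : v • x = x) : v = 1 := by
  rcases F.bij p hp r hr (O.symm p hp r hr h) v hv with h2 | h2
  · exact O.oneAx p hp r hr h v hv h2
  · exact absurd (h2 x hx h1) hx0

/-- **`VV p` is regular on `u + p`** -/
theorem reg (hp : p ∈ Pt) {u : M} (hu : u ∉ Yx VV p) :
    (∀ y ∈ p, ∃ v ∈ VV p, v • u = u + y) ∧ ∀ v ∈ VV p, v • u = u → v = 1 := by
  obtain ⟨r, hr, h1⟩ := F.exists_mv hp
  obtain ⟨A, hA, ⟨a, ha, x, hx, hne⟩, h2⟩ := F.line p hp r hr h1
  have hx0 : x ≠ 0 := by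
    rintro rfl
    exact hne (smul_zero a)
  have hAV : VV p ≤ A := by
    intro v hv
    obtain ⟨a', ha', h3⟩ := ((h2 x).resolve_left fun h => hne (h a ha)).1 _ (F.dd_mem hp hv x)
    rw [← F.smul_eq v x] at h3
    have h4 : v⁻¹ * a' = 1 := by
      refine O.eq_one F hp hr h1 (mul_mem (inv_mem hv) (hA ha')) hx hx0 ?_
      rw [mul_smul, h3, inv_smul_smul]
    rw [inv_mul_eq_one] at h4
    rw [h4]
    exact ha'
  rcases h2 u with h3 | h3
  · exact absurd (fun v hv => h3 v (hAV hv)) hu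
  · exact ⟨fun y hy => (h3.1 y hy).imp fun a h => ⟨hA h.1, h.2⟩, fun v hv h => h3.2 v (hAV hv) h⟩

/-- for `p ≠ e` some `r ~ e` is moved by `VV p` -/
theorem exists_sep [Finite M] (he : e ∈ Pt) (hp : p ∈ Pt) (hne : p ≠ e) :
    ∃ r ∈ Pt, ¬ Mv VV r e ∧ Mv VV p r := by
  by_contra hcon
  push Not at hcon
  have h1 : Yx VV e ≤ Yx VV p := by
    intro m hm
    have h2 : sSup {t | t ∈ Pt ∧ ¬ Mv VV t e} ≤ Yx VV p :=
      sSup_le fun t ht => not_mv_iff.1 (hcon t ht.1 ht.2)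
    exact h2 (O.ax m hm)
  exact hne (O.eq_of_Yx F hp he (F.Yx_eq he hp h1).symm)

end Out

/-- the hypotheses on `B` -/
structure Quad (X : Subgroup Γ) (Pt : Set (AddSubgroup M)) (VV : AddSubgroup M → Subgroup Γ) (e : AddSubgroup M)
    (B : Subgroup Γ) : Prop where
  le : B ≤ X
  quad : ∀ b ∈ B, ∀ b' ∈ B, ∀ m : M, b • (b' • m + m) = b' • m + m
  norm : ∀ t ∈ Pt, ¬ Mv VV t e → ∀ a ∈ VV t, ∀ b ∈ B, a * b * a⁻¹ ∈ B
  fixe : ∀ b ∈ B, ∀ x ∈ e, b • x = x

namespace Quad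

variable (Q : Quad X Pt VV e B) (O : Out Pt VV e) (F : Frame X Pt VV)
include Q F

theorem sq {b : Γ} (hb : b ∈ B) (m : M) : b • b • m = m := by
  have h := Q.quad b hb b hb m
  rw [smul_add, add_comm (b • m) m] at h
  exact add_right_cancel h

theorem smul_mem {b : Γ} (hb : b ∈ B) (hp : p ∈ Pt) : b • p ∈ Pt := F.inv b (Q.le hb) p hp

theorem bb {b : Γ} (hb : b ∈ B) : b • b • p = p := by
  ext x
  rw [mem_smul_iff]
  constructor
  · rintro ⟨y, hy, rfl⟩
    obtain ⟨z, hz, rfl⟩ := mem_smul_iff.1 hy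
    rwa [Q.sq F hb]
  · intro hx
    exact ⟨b • x, mem_smul hx, Q.sq F hb x⟩

include O in
/-- (6), `p^b # p` is impossible -/
theorem not_mv_b (hp : p ∈ Pt) (hpe : ¬ Mv VV p e) {b : Γ} (hb : b ∈ B) : ¬ Mv VV p (b • p) := by
  intro hmv
  obtain ⟨a, ha, x₀, hx₀, hne⟩ := id hmv
  have hbp := Q.smul_mem F hb hp
  have hd : p ⊓ b • p = ⊥ := O.disj p hp _ hbp fun h => by
    rw [← h] at hmv
    exact F.not_mv_self hp hmv
  have hd0 : ∀ x ∈ p, x ∈ b • p → x = 0 := fun x hx hx' => by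
    have h1 : x ∈ p ⊓ b • p := ⟨hx, hx'⟩
    rw [hd] at h1
    exact AddSubgroup.mem_bot.1 h1
  have ha1 : a ≠ 1 := by
    rintro rfl
    exact hne (one_smul _ _)
  have hW : p ⊔ b • p ≠ ⊥ := fun h => F.ne p hp (le_bot_iff.1 (le_sup_left.trans h.le))
  have hbW : ∀ x ∈ p ⊔ b • p, b • x ∈ p ⊔ b • p := by
    intro x hx
    obtain ⟨y, hy, z, hz, rfl⟩ := AddSubgroup.mem_sup.1 hx
    rw [smul_add]
    refine add_mem ((le_sup_right : b • p ≤ _) (mem_smul hy)) ((le_sup_left : p ≤ _) ?_)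
    have h1 : b • z ∈ b • b • p := mem_smul hz
    rwa [Q.bb F hb] at h1
  have haW : ∀ x ∈ p ⊔ b • p, a • x ∈ p ⊔ b • p := by
    intro x hx
    rw [F.smul_eq a x]
    exact add_mem hx ((le_sup_left : p ≤ _) (F.dd_mem hp ha x))
  obtain ⟨w, hw, hw0, hfix⟩ := exists_fix F.two hW 2 (a * b) (fun x hx => by
    rw [mul_smul]; exact haW _ (hbW _ hx)) (fun x _ => by
      -- `(ab)^2 ∈ B`
      have h1 : (a * b) * (a * b) ∈ B := by
        have h2 := mul_mem (Q.norm p hp hpe a ha b hb) hb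
        have h3 : a * b * a⁻¹ * b = (a * b) * (a * b) := by rw [F.inv_eq hp ha]; group
        rwa [h3] at h2
      have h2 := Q.sq F h1 x
      rw [← mul_smul, ← pow_two, ← pow_two, ← pow_mul] at h2
      exact h2)
  obtain ⟨x, hx, y, hy, rfl⟩ := AddSubgroup.mem_sup.1 hw
  have hbx : b • x ∈ b • p := mem_smul hx
  have hby : b • y ∈ p := by
    have h1 : b • y ∈ b • b • p := mem_smul hy
    rwa [Q.bb F hb] at h1
  have h1 : b • x + dd a (b • x) + b • y = x + y := by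
    rw [← hfix, mul_smul, smul_add, smul_add, F.triv p hp a ha _ hby, F.smul_eq a (b • x)]
  have hdd := F.dd_mem hp ha (b • x)
  have h2 : b • x - y = 0 := by
    refine hd0 _ ?_ (sub_mem hbx hy)
    have h3 : b • x - y = x - dd a (b • x) - b • y := by
      calc b • x - y = (b • x + dd a (b • x) + b • y) - dd a (b • x) - b • y - y := by abel
        _ = x + y - dd a (b • x) - b • y - y := by rw [h1]
        _ = x - dd a (b • x) - b • y := by abel
    rw [h3]
    exact sub_mem (sub_mem hx hdd) hby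
  have h3 : b • x = y := sub_eq_zero.1 h2
  have h4 : b • y = x := by rw [← h3, Q.sq F hb]
  have h5 : dd a (b • x) = 0 := by
    calc dd a (b • x) = (b • x + dd a (b • x) + b • y) - b • x - b • y := by abel
      _ = x + y - b • x - b • y := by rw [h1]
      _ = 0 := by rw [h3, h4]; abel
  rw [F.dd_eq_zero_iff] at h5
  by_cases h6 : b • x = 0
  · have h7 : x = 0 := by rw [← Q.sq F hb x, h6, smul_zero]
    apply hw0
    rw [← h3, h6, h7, add_zero]
  · exact ha1 (O.eq_one F hp hbp hmv ha hbx h6 h5)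

include O in
/-- (6) : `B` fixes every `p ~ e` -/
theorem fix (hp : p ∈ Pt) (hpe : ¬ Mv VV p e) {b : Γ} (hb : b ∈ B) : b • p = p := by
  by_contra hne
  have hbp := Q.smul_mem F hb hp
  have hd : p ⊓ b • p = ⊥ := O.disj p hp _ hbp (Ne.symm hne)
  have hnm := Q.not_mv_b O F hp hpe hb
  -- `dd a (b⁻¹ m) = dd a m`
  have key : ∀ a ∈ VV p, ∀ m : M, dd a (b⁻¹ • m) = dd a m := by
    intro a ha m
    have hbb : b • b • (dd a (b⁻¹ • m)) = dd a (b⁻¹ • m) := Q.sq F hb _
    have hc : a * b * a⁻¹ * b⁻¹ ∈ B := mul_mem (Q.norm p hp hpe a ha b hb) (inv_mem hb)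
    have h1 : (a * b * a⁻¹ * b⁻¹) • m + m = dd a m + b • dd a (b⁻¹ • m) := by
      rw [F.inv_eq hp ha, mul_smul, mul_smul, mul_smul, F.smul_eq a (b⁻¹ • m), smul_add, smul_inv_smul, smul_add,
        F.smul_eq a m, not_mv hnm ha (mem_smul (F.dd_mem hp ha (b⁻¹ • m)))]
      calc m + dd a m + b • dd a (b⁻¹ • m) + m = (m + m) + (dd a m + b • dd a (b⁻¹ • m)) := by abel
        _ = dd a m + b • dd a (b⁻¹ • m) := by rw [F.two, zero_add]
    have h2 := Q.quad b hb _ hc m
    rw [h1, smul_add, hbb] at h2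
    have h3 : dd a m + dd a (b⁻¹ • m) ∈ p ⊓ b • p := by
      refine AddSubgroup.mem_inf.2 ⟨add_mem (F.dd_mem hp ha _) (F.dd_mem hp ha _), mem_smul_iff.2
        ⟨dd a m + dd a (b⁻¹ • m), add_mem (F.dd_mem hp ha _) (F.dd_mem hp ha _), ?_⟩⟩
      rw [smul_add]
      calc b • dd a m + b • dd a (b⁻¹ • m)
          = (b • dd a m + dd a (b⁻¹ • m)) + (b • dd a (b⁻¹ • m) - dd a (b⁻¹ • m)) := by abel
        _ = dd a m + b • dd a (b⁻¹ • m) + (b • dd a (b⁻¹ • m) - dd a (b⁻¹ • m)) := by rw [h2]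
        _ = dd a m + (b • dd a (b⁻¹ • m) + b • dd a (b⁻¹ • m)) - dd a (b⁻¹ • m) := by abel
        _ = dd a m - dd a (b⁻¹ • m) := by rw [F.two, add_zero]
        _ = dd a m + dd a (b⁻¹ • m) := by
            rw [sub_eq_add_neg, neg_eq_of_add_eq_zero_left (F.two (dd a (b⁻¹ • m)))]
    rw [hd] at h3
    have h4 := eq_neg_of_add_eq_zero_left (AddSubgroup.mem_bot.1 h3)
    rw [h4, neg_eq_of_add_eq_zero_left (F.two (dd a (b⁻¹ • m)))]
  refine hne (O.eq_of_Yx F hbp hp ?_)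
  ext m
  rw [F.Yx_smul (Q.le hb) hp]
  refine forall_congr' fun a => forall_congr' fun ha => ?_
  rw [← F.dd_eq_zero_iff, ← F.dd_eq_zero_iff, key a ha]

include O in
/-- (6) : `B` commutes with `VV p`, `p ~ e`, `p ≠ e` -/
theorem comm [Finite M] (he : e ∈ Pt) (hp : p ∈ Pt) (hpe : ¬ Mv VV p e) (hne : p ≠ e) {a b : Γ} (ha : a ∈ VV p)
    (hb : b ∈ B) : a * b = b * a := by
  obtain ⟨r, hr, hre, hmv⟩ := O.exists_sep F he hp hne
  have hc : a * b * a⁻¹ * b⁻¹ ∈ B := mul_mem (Q.norm p hp hpe a ha b hb) (inv_mem hb)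
  have hc' : a * b * a⁻¹ * b⁻¹ ∈ VV p := by
    have h1 := F.conj b (Q.le hb) p hp a⁻¹ (inv_mem ha)
    rw [Q.fix O F hp hpe hb] at h1
    have h2 := mul_mem ha h1
    have e1 : a * (b * a⁻¹ * b⁻¹) = a * b * a⁻¹ * b⁻¹ := by group
    rwa [e1] at h2
  have hfix := Q.fix O F hr hre hc
  have hd : r ⊓ p = ⊥ := O.disj r hr p hp fun h => by
    rw [h] at hmv
    exact F.not_mv_self hp hmv
  obtain ⟨x, hx, hx0⟩ := (AddSubgroup.bot_or_exists_ne_zero r).resolve_left (F.ne r hr)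
  have h1 : (a * b * a⁻¹ * b⁻¹) • x = x := by
    rw [← F.dd_eq_zero_iff]
    have h2 : dd (a * b * a⁻¹ * b⁻¹) x ∈ r ⊓ p := by
      refine AddSubgroup.mem_inf.2 ⟨?_, F.dd_mem hp hc' x⟩
      rw [dd_apply]
      refine add_mem ?_ hx
      have h3 : (a * b * a⁻¹ * b⁻¹) • x ∈ (a * b * a⁻¹ * b⁻¹) • r := mem_smul hx
      rwa [hfix] at h3
    rw [hd] at h2
    exact AddSubgroup.mem_bot.1 h2
  have h2 := O.eq_one F hp hr hmv hc' hx hx0 h1
  rw [mul_inv_eq_one, mul_inv_eq_iff_eq_mul] at h2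
  exact h2

include O in
/-- (6) : `B` centralises `p`, `p ~ e` -/
theorem triv [Finite M] (he : e ∈ Pt) (hp : p ∈ Pt) (hpe : ¬ Mv VV p e) {b : Γ} (hb : b ∈ B) {x : M} (hx : x ∈ p) :
    b • x = x := by
  by_cases hne : p = e
  · exact Q.fixe b hb x (hne ▸ hx)
  obtain ⟨r, hr, hre, hmv⟩ := O.exists_sep F he hp hne
  have hrne : r ≠ e := by
    rintro rfl
    exact hpe hmv
  -- `b` fixes a nonzero vector `y` of `p`
  have h0 : ∃ y ∈ p, y ≠ 0 ∧ b • y = y := by
    obtain ⟨y, hy, hy0⟩ := (AddSubgroup.bot_or_exists_ne_zero p).resolve_left (F.ne p hp)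
    by_cases h1 : b • y = y
    · exact ⟨y, hy, hy0, h1⟩
    · refine ⟨b • y + y, add_mem ?_ hy, fun h2 => h1 ?_, Q.quad b hb b hb y⟩
      · have h2 : b • y ∈ b • p := mem_smul hy
        rwa [Q.fix O F hp hpe hb] at h2
      · have h3 := eq_neg_of_add_eq_zero_left h2
        rwa [neg_eq_of_add_eq_zero_left (F.two y)] at h3
  obtain ⟨y, hy, hy0, hby⟩ := h0
  -- `c ∈ VV r` moves `p`; `u := dd c y ∈ r` is fixed by `b` and outside of the axis of `p`
  have hrp := O.symm p hp r hr hmv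
  obtain ⟨c, hc, y', hy', hne'⟩ := id hrp
  have hu : dd c y ∈ r := F.dd_mem hr hc y
  have hu0 : dd c y ≠ 0 := by
    intro h
    rw [F.dd_eq_zero_iff] at h
    have h1 := O.eq_one F hr hp hrp hc hy hy0 h
    rw [h1, one_smul] at hne'
    exact hne' rfl
  have hcomm : ∀ {q : AddSubgroup M} {a : Γ}, q ∈ Pt → ¬ Mv VV q e → q ≠ e → a ∈ VV q →
      ∀ m : M, b • dd a m = dd a (b • m) := by
    intro q a hq hqe hqne ha m
    rw [dd_apply, dd_apply, smul_add, ← mul_smul, ← mul_smul, Q.comm O F he hq hqe hqne ha hb]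
  have hbu : b • dd c y = dd c y := by rw [hcomm hr hre hrne hc, hby]
  have hux : dd c y ∉ Yx VV p := by
    intro h
    obtain ⟨a, ha, y'', hy'', hne''⟩ := id hmv
    have h1 := O.eq_one F hp hr hmv ha hu hu0 (h a ha)
    rw [h1, one_smul] at hne''
    exact hne'' rfl
  obtain ⟨a, ha, h1⟩ := (O.reg F hp hux).1 x hx
  have h2 : dd a (dd c y) = x := by
    rw [dd_apply, h1, add_comm (dd c y) x, add_assoc, F.two, add_zero]
  rw [← h2, hcomm hp hpe hne ha, hbu]

include O in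
/-- **(6) (Q)**: every `b ∈ B` acts on `M` as an element of `VV e` -/
theorem main [Finite M] (he : e ∈ Pt) {b : Γ} (hb : b ∈ B) : ∃ v ∈ VV e, ∀ m : M, b • m = v • m := by
  -- `B` centralises the axis of `e`
  have hY : ∀ m ∈ Yx VV e, b • m = m := by
    intro m hm
    have h1 : sSup {t | t ∈ Pt ∧ ¬ Mv VV t e} ≤ (dd b : M →+ M).ker := sSup_le fun t ht x hx => by
      rw [AddMonoidHom.mem_ker, F.dd_eq_zero_iff]
      exact Q.triv O F he ht.1 ht.2 hb hx
    exact (F.dd_eq_zero_iff b m).1 (h1 (O.ax m hm))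
  -- `[M, b] ≤` the axis of every `t ~ e`
  have hin : ∀ m : M, dd b m ∈ e := by
    intro m
    refine O.inter _ fun t ht hte v hv => ?_
    rw [← F.dd_eq_zero_iff]
    by_cases hne : t = e
    · subst hne
      -- `u` outside of the axis with `b u + u` in the axis
      have h0 : ∃ u : M, u ∉ Yx VV t ∧ dd b u ∈ Yx VV t := by
        obtain ⟨r, hr, v', hv', x, hx, hne⟩ := F.exists_mv ht
        have hx' : x ∉ Yx VV t := fun h => hne (h v' hv')
        by_cases h1 : dd b x ∈ Yx VV t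
        · exact ⟨x, hx', h1⟩
        · refine ⟨dd b x, h1, ?_⟩
          have h2 : dd b (dd b x) = 0 := by
            rw [F.dd_eq_zero_iff, dd_apply]
            exact Q.quad b hb b hb x
          rw [h2]
          exact zero_mem _
      obtain ⟨u, hu, hbu⟩ := h0
      -- `b v b⁻¹ = v`
      have h1 : b * v * b⁻¹ ∈ VV t := by
        have h2 := F.conj b (Q.le hb) t ht v hv
        rwa [Q.fix O F ht hte hb] at h2
      have hbi : ∀ m : M, b⁻¹ • m = b • m := fun m => by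
        rw [inv_smul_eq_iff, Q.sq F hb]
      have h2 : ∀ m : M, (b * v * b⁻¹) • m = m + dd v (b • m) := by
        intro m
        rw [mul_smul, mul_smul, hbi, F.smul_eq v (b • m), smul_add, Q.sq F hb, Q.fixe b hb _ (F.dd_mem ht hv _)]
      have h3 : v⁻¹ * (b * v * b⁻¹) = 1 := by
        refine (O.reg F ht hu).2 _ (mul_mem (inv_mem hv) h1) ?_
        rw [mul_smul, h2, inv_smul_eq_iff, F.smul_eq v u, F.smul_eq b u, map_add, (F.dd_eq_zero_iff v _).2 (hbu v hv),
          add_zero]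
      rw [inv_mul_eq_one] at h3
      have h4 := h2 m
      rw [← h3, F.smul_eq v m] at h4
      have h5 : dd v m = dd v (b • m) := add_left_cancel h4
      rw [dd_apply b m, map_add, ← h5, F.two]
    · have h1 : dd v (b • m) = dd v m := by
        have h2 : b • dd v m = dd v (b • m) := by
          rw [dd_apply, dd_apply, smul_add, ← mul_smul, ← mul_smul, Q.comm O F he ht hte hne hv hb]
        rw [← h2]
        exact Q.triv O F he ht hte hb (F.dd_mem ht hv m)
      rw [dd_apply b m, map_add, h1, F.two]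
  -- a point `r # e`
  obtain ⟨r, hr, hmv⟩ := F.exists_mv he
  have hd : r ⊓ e = ⊥ := O.disj r hr e he fun h => by
    rw [h] at hmv
    exact F.not_mv_self he hmv
  obtain ⟨x, hx, hx0⟩ := (AddSubgroup.bot_or_exists_ne_zero r).resolve_left (F.ne r hr)
  have hxY : ∀ {x : M}, x ∈ r → x ≠ 0 → x ∉ Yx VV e := by
    intro x hx hx0 h
    obtain ⟨a, ha, y, hy, hne⟩ := id hmv
    have h1 := O.eq_one F he hr hmv ha hx hx0 (h a ha)
    rw [h1, one_smul] at hne
    exact hne rfl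
  obtain ⟨v, hv, h1⟩ := (O.reg F he (hxY hx hx0)).1 _ (hin x)
  rw [← F.smul_eq b x] at h1
  -- `b r = v r`
  have hbr : b • r = v • r := by
    by_contra hne
    have h2 := O.disj _ (F.inv b (Q.le hb) r hr) _ (F.inv v (F.le e he hv) r hr) hne
    have h3 : b • x ∈ b • r ⊓ v • r := ⟨mem_smul hx, by rw [← h1]; exact mem_smul hx⟩
    rw [h2] at h3
    refine hx0 ?_
    rw [← Q.sq F hb x, AddSubgroup.mem_bot.1 h3, smul_zero]
  have hr' : ∀ y ∈ r, b • y = v • y := by
    intro y hy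
    have h2 : b • y ∈ v • r := by rw [← hbr]; exact mem_smul hy
    obtain ⟨y', hy', h3⟩ := mem_smul_iff.1 h2
    have h4 : y - y' ∈ r ⊓ e := by
      refine AddSubgroup.mem_inf.2 ⟨sub_mem hy hy', ?_⟩
      rw [F.smul_eq v y', F.smul_eq b y] at h3
      have h5 : y - y' = dd v y' - dd b y := by
        calc y - y' = (y + dd b y) - dd b y - y' := by abel
          _ = (y' + dd v y') - dd b y - y' := by rw [h3]
          _ = dd v y' - dd b y := by abel
      rw [h5]
      exact sub_mem (F.dd_mem he hv _) (hin y)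
    rw [hd] at h4
    rw [← h3, sub_eq_zero.1 (AddSubgroup.mem_bot.1 h4)]
  refine ⟨v, hv, fun m => ?_⟩
  -- `M = Y_e + r`
  obtain ⟨a, ha, y, hy, hne⟩ := id hmv
  have ha1 : a ≠ 1 := by
    rintro rfl
    exact hne (one_smul _ _)
  by_cases hm : m ∈ Yx VV e
  · rw [hY m hm, hm v hv]
  -- `dd a` maps `r` onto `e`
  obtain ⟨y, hy, hym⟩ : ∃ y ∈ r, dd a y = dd a m := by
    have hinj : Function.Injective (fun y : ↥r => (⟨dd a (y : M), F.dd_mem he ha _⟩ : ↥e)) := by
      intro y y' h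
      have h2 : dd a (y : M) = dd a (y' : M) := congrArg Subtype.val h
      by_contra h3
      have h4 : (y : M) - y' ≠ 0 := fun h5 => h3 (Subtype.ext (sub_eq_zero.1 h5))
      refine ha1 (O.eq_one F he hr hmv ha (sub_mem y.2 y'.2) h4 ?_)
      rw [← F.dd_eq_zero_iff, map_sub, h2, sub_self]
    have hbij := hinj.bijective_of_nat_card_le (F.card_eq he hr).le
    obtain ⟨y, hy⟩ := hbij.2 ⟨dd a m, F.dd_mem he ha m⟩
    exact ⟨y, y.2, congrArg Subtype.val hy⟩
  have h2 : m - y ∈ Yx VV e := by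
    by_contra h3
    refine ha1 ((O.reg F he h3).2 a ha ?_)
    rw [← F.dd_eq_zero_iff, map_sub, hym, sub_self]
  have h3 : m = (m - y) + y := by abel
  rw [h3, smul_add, smul_add, hY _ h2, h2 v hv, hr' y hy]

end Quad

end Cfsg.Agent.Omega.NOThreeL.RBig.Pts

end
end

-- part: Mrg/Omega/NOThreeL/RBig/Sym
section
section


/-!
# NO-3L, box R (#19087 (3)(c)-(e)): symmetry of "`V_p` moves `r`", lines, common non-neighbours
-/

set_option autoImplicit false

namespace Cfsg.Agent.Omega.NOThreeL.RBig.Pts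

open Subgroup
open scoped Pointwise

variable {Γ M : Type*} [Group Γ] [AddCommGroup M] [DistribMulAction Γ M]
variable {X : Subgroup Γ} {Pt : Set (AddSubgroup M)} {VV : AddSubgroup M → Subgroup Γ} {p r s t e x y : AddSubgroup M}

namespace Frame

variable (F : Frame X Pt VV)
include F

/-- The points moving `p` span `M`. -/
theorem span_mv (hp : p ∈ Pt) : sSup {s | s ∈ Pt ∧ Mv VV s p} = ⊤ := by
  set O := sSup {s | s ∈ Pt ∧ Mv VV s p} with hO
  -- `O` is invariant
  have key : ∀ t ∈ Pt, ∀ g ∈ VV t, ∀ m ∈ O, g • m ∈ O := by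
    intro t ht g hg
    by_cases h : Mv VV t p
    · intro m hm
      rw [F.smul_eq g m]
      exact add_mem hm ((le_sSup (show t ∈ {s | s ∈ Pt ∧ Mv VV s p} from ⟨ht, h⟩)) (F.dd_mem ht hg m))
    · have hgp : g • p = p := smul_eq_of_fix fun z hz => not_mv h hg hz
      have hle : O ≤ (g⁻¹ • O : AddSubgroup M) := by
        refine sSup_le ?_
        rintro s ⟨hs, hsp⟩ z hz
        have hgs : g • s ∈ Pt := F.inv g (F.le t ht hg) s hs
        have h2 : Mv VV (g • s) p := by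
          have := (F.mv_smul (r := p) (F.le t ht hg) hs).2 hsp
          rwa [hgp] at this
        have h3 : g • z ∈ O := (le_sSup (show g • s ∈ {s | s ∈ Pt ∧ Mv VV s p} from ⟨hgs, h2⟩)) (mem_smul hz)
        exact mem_smul_iff.2 ⟨g • z, h3, inv_smul_smul g z⟩
      intro m hm
      obtain ⟨z, hz, rfl⟩ := mem_smul_iff.1 (hle hm)
      rwa [smul_inv_smul]
  obtain ⟨s, hs, hsp⟩ := F.exists_mv' hp
  have hsO : s ≤ O := le_sSup (show s ∈ {s | s ∈ Pt ∧ Mv VV s p} from ⟨hs, hsp⟩)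
  have hinv : ∀ g ∈ ⨆ s ∈ Pt, VV s, (∀ m ∈ O, g • m ∈ O) ∧ ∀ m ∈ O, g⁻¹ • m ∈ O := by
    intro g hg
    refine induct (Pt := Pt) (VV := VV) (P := fun g : Γ => (∀ m ∈ O, g • m ∈ O) ∧ ∀ m ∈ O, g⁻¹ • m ∈ O)
      ⟨fun m hm => by rwa [one_smul], fun m hm => by rwa [inv_one, one_smul]⟩ ?_ ?_ ?_ hg
    · rintro a b ⟨ha, ha'⟩ ⟨hb, hb'⟩
      refine ⟨fun m hm => ?_, fun m hm => ?_⟩
      · rw [mul_smul]
        exact ha _ (hb _ hm)
      · rw [mul_inv_rev, mul_smul]
        exact hb' _ (ha' _ hm)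
    · rintro a ⟨ha, ha'⟩
      exact ⟨ha', fun m hm => by rw [inv_inv]; exact ha m hm⟩
    · intro t ht v hv
      refine ⟨key t ht v hv, fun m hm => ?_⟩
      rw [F.inv_eq ht hv]
      exact key t ht v hv m hm
  rw [eq_top_iff, ← F.span]
  refine sSup_le fun t ht => ?_
  obtain ⟨g, hg, rfl⟩ := F.trans s hs t ht
  intro z hz
  obtain ⟨w, hw, rfl⟩ := mem_smul_iff.1 hz
  exact (hinv g hg).1 w (hsO hw)

variable [Finite M]

/-- **Symmetry** (3)(c). -/
theorem symm (hp : p ∈ Pt) (hr : r ∈ Pt) (h : Mv VV p r) : Mv VV r p := by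
  by_contra hno
  have hfix : ∀ g ∈ VV r, ∀ z ∈ p, g • z = z := fun g hg z hz => not_mv hno hg hz
  obtain ⟨v, hv, y0, hy0, hvy0⟩ := h
  have hcard : Nat.card ↥p = Nat.card ↥r := F.card_eq hp hr
  -- Step A
  have hA : ∀ z ∈ r, v • z = z → z = 0 := by
    by_contra hcon
    push Not at hcon
    obtain ⟨z0, hz0, hvz0, hz0'⟩ := hcon
    obtain ⟨s, hs, hrs⟩ := F.exists_mv hr
    obtain ⟨A, hAle, ⟨a, ha, u, hu, hau⟩, hreg⟩ := F.line r hr s hs hrs
    have hu' := (hreg u).resolve_left fun h => hau (h a ha)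
    obtain ⟨b, hb, hbu⟩ := hu'.1 y0 hy0
    have hb' : b ∈ VV r := hAle hb
    have hdb : dd b u = y0 := by
      have := F.smul_eq b u
      rw [hbu] at this
      exact (add_left_cancel this).symm
    set c := v * (b * v * b⁻¹) with hc
    have hcV : c ∈ VV p := F.comm_mem hp hr hv hb' (hfix b hb')
    have hcd : ∀ m, dd c m = dd v (dd b m) := F.dd_comm hp hr hv hb' (hfix b hb')
    -- `c` fixes every point moving `p`
    have hcfix : ∀ s' ∈ Pt, Mv VV s' p → ∀ z ∈ s', c • z = z := by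
      intro s' hs' hs'p
      refine (F.bij p hp s' hs' hs'p c hcV).resolve_right fun hinj => ?_
      -- `s' → dd v '' r`
      have h1 : Nat.card ↥s' ≤ Nat.card ↥((AddSubgroup.map (dd v : M →+ M) r)) := by
        refine Nat.card_le_card_of_injective
          (fun z : ↥s' => (⟨dd c (z : M), ?_⟩ : ↥(AddSubgroup.map (dd v : M →+ M) r))) ?_
        · rw [hcd]
          exact AddSubgroup.mem_map_of_mem _ (F.dd_mem hr hb' _)
        · intro z z' hzz
          have h2 : dd c (z : M) = dd c (z' : M) := congrArg Subtype.val hzz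
          have h3 : dd c ((z : M) - (z' : M)) = 0 := by rw [map_sub, h2, sub_self]
          have h4 := hinj ((z : M) - (z' : M)) (sub_mem z.2 z'.2) ((F.dd_eq_zero_iff c _).1 h3)
          exact Subtype.ext (sub_eq_zero.1 h4)
      have h2 : Nat.card ↥((AddSubgroup.map (dd v : M →+ M) r)) < Nat.card ↥r := by
        let f : ↥r → ↥((AddSubgroup.map (dd v : M →+ M) r)) := fun z => ⟨dd v (z : M), AddSubgroup.mem_map_of_mem _ z.2⟩
        have hf : Function.Surjective f := by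
          rintro ⟨w, hw⟩
          obtain ⟨z, hz, rfl⟩ := AddSubgroup.mem_map.1 hw
          exact ⟨⟨z, hz⟩, rfl⟩
        refine lt_of_le_of_ne (Nat.card_le_card_of_surjective f hf) fun heq => ?_
        have hbij : Function.Bijective f := by
          have := Fintype.ofFinite ↥r
          have := Fintype.ofFinite ↥((AddSubgroup.map (dd v : M →+ M) r))
          rw [Fintype.bijective_iff_surjective_and_card]
          refine ⟨hf, ?_⟩
          rw [← Nat.card_eq_fintype_card, ← Nat.card_eq_fintype_card, heq]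
        have h5 : f ⟨z0, hz0⟩ = f 0 := by
          apply Subtype.ext
          change dd v z0 = dd v 0
          rw [map_zero, F.dd_eq_zero_iff]
          exact hvz0
        exact hz0' (congrArg Subtype.val (hbij.1 h5))
      have h3 := F.card_eq hs' hr
      omega
    -- so `c` is trivial
    have hct : ∀ m : M, dd c m = 0 := by
      have h1 : sSup {s | s ∈ Pt ∧ Mv VV s p} ≤ (dd c : M →+ M).ker := sSup_le fun s' hs' z hz => by
        rw [AddMonoidHom.mem_ker, F.dd_eq_zero_iff]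
        exact hcfix s' hs'.1 hs'.2 z hz
      rw [F.span_mv hp] at h1
      exact fun m => h1 (AddSubgroup.mem_top m)
    refine hvy0 ((F.dd_eq_zero_iff v y0).1 ?_)
    rw [← hdb, ← hcd, hct]
  -- Step B
  have hinjd : ∀ z ∈ r, ∀ z' ∈ r, dd v z = dd v z' → z = z' := by
    intro z hz z' hz' hzz
    have h3 : dd v (z - z') = 0 := by rw [map_sub, hzz, sub_self]
    exact sub_eq_zero.1 (hA _ (sub_mem hz hz') ((F.dd_eq_zero_iff v _).1 h3))
  let f : ↥(VV r) → ↥(VV p) := fun g => ⟨v * (g * v * (g : Γ)⁻¹), F.comm_mem hp hr hv g.2 (hfix g g.2)⟩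
  have hfd : ∀ g : ↥(VV r), ∀ m, dd ((f g : Γ)) m = dd v (dd (g : Γ) m) := fun g m =>
    F.dd_comm hp hr hv g.2 (hfix g g.2) m
  have hfinj : Function.Injective f := by
    intro g g' hgg
    refine Subtype.ext (F.eq_of_dd hr g.2 g'.2 fun m => ?_)
    refine hinjd _ (F.dd_mem hr g.2 m) _ (F.dd_mem hr g'.2 m) ?_
    rw [← hfd, ← hfd, hgg]
  have hfin : ∀ q ∈ Pt, Finite ↥(VV q) := fun q hq =>
    Finite.of_injective (fun w : ↥(VV q) => fun m : M => dd (w : Γ) m) fun w w' hww =>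
      Subtype.ext (F.eq_of_dd hq w.2 w'.2 fun m => congrFun hww m)
  have := hfin r hr
  have := hfin p hp
  have hfs : Function.Surjective f := by
    have := Fintype.ofFinite ↥(VV r)
    have := Fintype.ofFinite ↥(VV p)
    refine ((Fintype.bijective_iff_injective_and_card f).2 ⟨hfinj, ?_⟩).2
    rw [← Nat.card_eq_fintype_card, ← Nat.card_eq_fintype_card, F.cardVV_eq hr hp]
  obtain ⟨g, hg⟩ := hfs ⟨v, hv⟩
  refine hvy0 ((F.dd_eq_zero_iff v y0).1 ?_)
  have h1 := hfd g y0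
  rw [hg] at h1
  rw [show dd v y0 = dd v (dd (g : Γ) y0) from h1, F.dd_self hr g.2 hy0, map_zero]

end Frame

end Cfsg.Agent.Omega.NOThreeL.RBig.Pts

end

section


/-!
# NO-3L, box R (#19087 (3)(d), (e)): lines, common movers, the hyperplanes `K p r`
-/

set_option autoImplicit false

namespace Cfsg.Agent.Omega.NOThreeL.RBig.Pts

open Subgroup
open scoped Pointwise

variable {Γ M : Type*} [Group Γ] [AddCommGroup M] [DistribMulAction Γ M]
variable {X : Subgroup Γ} {Pt : Set (AddSubgroup M)} {VV : AddSubgroup M → Subgroup Γ} {p r s t e x y : AddSubgroup M}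

/-- `{v ∈ V_p : v centralises r}`. -/
def K (VV : AddSubgroup M → Subgroup Γ) (p r : AddSubgroup M) : Subgroup Γ where
  carrier := {v | v ∈ VV p ∧ ∀ x ∈ r, v • x = x}
  one_mem' := ⟨one_mem _, fun x _ => one_smul _ x⟩
  mul_mem' := fun {a b} ha hb => ⟨mul_mem ha.1 hb.1, fun x hx => by rw [mul_smul, hb.2 x hx, ha.2 x hx]⟩
  inv_mem' := fun {a} ha => ⟨inv_mem ha.1, fun x hx => by rw [inv_smul_eq_iff, ha.2 x hx]⟩

theorem mem_K {v : Γ} : v ∈ K VV p r ↔ v ∈ VV p ∧ ∀ x ∈ r, v • x = x := Iff.rfl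

theorem K_le : K VV p r ≤ VV p := fun _ h => h.1

namespace Frame

variable (F : Frame X Pt VV)
include F

theorem fin [Finite M] (hp : p ∈ Pt) : Finite ↥(VV p) :=
  Finite.of_injective (fun w : ↥(VV p) => fun m : M => dd (w : Γ) m) fun w w' hww =>
    Subtype.ext (F.eq_of_dd hp w.2 w'.2 fun m => congrFun hww m)

theorem mem_smul_point (hp : p ∈ Pt) {v : Γ} (hv : v ∈ VV p) (hr : r ∈ Pt) : v • r ∈ Pt :=
  F.inv v (F.le p hp hv) r hr

theorem smul_self (hp : p ∈ Pt) {v : Γ} (hv : v ∈ VV p) : v • p = p := smul_eq_of_fix (F.triv p hp v hv)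

/-- `v ∈ V_p` moves `r` : injective on `r`. -/
theorem inj_of_mv (hp : p ∈ Pt) (hr : r ∈ Pt) (h : Mv VV r p) {v : Γ} (hv : v ∈ VV p) {x0 : M} (hx0 : x0 ∈ r)
    (hne : v • x0 ≠ x0) : ∀ x ∈ r, v • x = x → x = 0 :=
  (F.bij p hp r hr h v hv).resolve_left fun h => hne (h x0 hx0)

variable [Finite M]

theorem inj_of (hp : p ∈ Pt) (hr : r ∈ Pt) {v : Γ} (hv : v ∈ VV p) {x0 : M} (hx0 : x0 ∈ r)
    (hne : v • x0 ≠ x0) : ∀ x ∈ r, v • x = x → x = 0 :=
  F.inj_of_mv hp hr (F.symm hp hr ⟨v, hv, x0, hx0, hne⟩) hv hx0 hne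

/-- If `v ∈ V_p` moves `r`, then `dd v : r → p` is onto. -/
theorem onto (hp : p ∈ Pt) (hr : r ∈ Pt) {v : Γ} (hv : v ∈ VV p) {x0 : M} (hx0 : x0 ∈ r)
    (hne : v • x0 ≠ x0) {z : M} (hz : z ∈ p) : ∃ x ∈ r, dd v x = z := by
  have hinj := F.inj_of hp hr hv hx0 hne
  let f : ↥r → ↥p := fun x => ⟨dd v (x : M), F.dd_mem hp hv _⟩
  have hf : Function.Injective f := by
    intro x x' h
    have h2 : dd v (x : M) = dd v (x' : M) := congrArg Subtype.val h
    have h3 : dd v ((x : M) - (x' : M)) = 0 := by rw [map_sub, h2, sub_self]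
    exact Subtype.ext (sub_eq_zero.1 (hinj _ (sub_mem x.2 x'.2) ((F.dd_eq_zero_iff v _).1 h3)))
  have hfs : Function.Surjective f := by
    have := Fintype.ofFinite ↥r
    have := Fintype.ofFinite ↥p
    refine ((Fintype.bijective_iff_injective_and_card f).2 ⟨hf, ?_⟩).2
    rw [← Nat.card_eq_fintype_card, ← Nat.card_eq_fintype_card, F.card_eq hr hp]
  obtain ⟨x, hx⟩ := hfs ⟨z, hz⟩
  exact ⟨x, x.2, congrArg Subtype.val hx⟩

omit [Finite M] in
/-- The third point: `s` moves `r` but not `p`, `v ∈ V_p` : `s` moves `v • r`. -/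
theorem mv_third (hp : p ∈ Pt) {v : Γ} (hv : v ∈ VV p) (hsr : Mv VV s r) (hsp : ¬ Mv VV s p) :
    Mv VV s (v • r) := by
  obtain ⟨w, hw, x, hx, hne⟩ := hsr
  refine ⟨w, hw, v • x, mem_smul hx, fun h => hne ?_⟩
  rw [F.smul_eq v x, smul_add, not_mv hsp hw (F.dd_mem hp hv x)] at h
  exact add_right_cancel h

/-- (RED): a path of length 3 can be shortened. -/
theorem red {p0 p1 p2 p3 : AddSubgroup M} (h0 : p0 ∈ Pt) (h1 : p1 ∈ Pt) (h2 : p2 ∈ Pt) (h3 : p3 ∈ Pt)
    (h01 : Mv VV p0 p1) (h12 : Mv VV p1 p2) (h23 : Mv VV p2 p3) : ∃ x ∈ Pt, Mv VV x p0 ∧ Mv VV x p3 := by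
  by_cases h02 : Mv VV p0 p2
  · exact ⟨p2, h2, F.symm h0 h2 h02, h23⟩
  by_cases h13 : Mv VV p1 p3
  · exact ⟨p1, h1, F.symm h0 h1 h01, h13⟩
  obtain ⟨v, hv, z, hz, hne⟩ := h12
  have hx : v • p2 ∈ Pt := F.mem_smul_point h1 hv h2
  refine ⟨v • p2, hx, F.symm h0 hx ?_, F.symm h3 hx ?_⟩
  · -- if `p0` does not move `v • p2` and `p2` it does not move `p1`
    by_contra hno
    obtain ⟨w, hw, y, hy, hwy⟩ := h01
    obtain ⟨a, ha, rfl⟩ := F.onto h1 h2 hv hz hne hy
    refine hwy ?_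
    have e1 : w • (v • a) = v • a := not_mv hno hw (mem_smul ha)
    have e2 : w • a = a := not_mv h02 hw ha
    rw [F.smul_eq v a, smul_add, e2] at e1
    exact add_left_cancel e1
  · have h31 : ¬ Mv VV p3 p1 := fun h => h13 (F.symm h3 h1 h)
    exact F.mv_third h1 hv (F.symm h2 h3 h23) h31

/-- **Any two points are moved by a common point** (3)(d). -/
theorem common (hp : p ∈ Pt) (hs : s ∈ Pt) : ∃ x ∈ Pt, Mv VV x p ∧ Mv VV x s := by
  -- the set of good points is closed under neighbours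
  have hstep : ∀ a ∈ Pt, ∀ b ∈ Pt, (∃ x ∈ Pt, Mv VV x p ∧ Mv VV x a) → Mv VV a b →
      ∃ x ∈ Pt, Mv VV x p ∧ Mv VV x b := by
    rintro a ha b hb ⟨x, hx, hxp, hxa⟩ hab
    exact F.red hp hx ha hb (F.symm hx hp hxp) hxa hab
  have hkey : ∀ t ∈ Pt, ∀ g ∈ VV t, ∀ a ∈ Pt, (∃ x ∈ Pt, Mv VV x p ∧ Mv VV x a) →
      ∃ x ∈ Pt, Mv VV x p ∧ Mv VV x (g • a) := by
    intro t ht g hg a ha h
    by_cases hta : Mv VV t a
    · have h1 := hstep a ha t ht h (F.symm ht ha hta)
      have h2 : Mv VV t (g • a) := by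
        have := (F.mv_smul (r := a) (F.le t ht hg) ht).2 hta
        rwa [F.smul_self ht hg] at this
      exact hstep t ht (g • a) (F.mem_smul_point ht hg ha) h1 h2
    · rwa [smul_eq_of_fix fun z hz => not_mv hta hg hz]
  have hall : ∀ g ∈ ⨆ s ∈ Pt, VV s, (∀ a ∈ Pt, (∃ x ∈ Pt, Mv VV x p ∧ Mv VV x a) →
      ∃ x ∈ Pt, Mv VV x p ∧ Mv VV x (g • a)) ∧ ∀ a ∈ Pt, (∃ x ∈ Pt, Mv VV x p ∧ Mv VV x a) →
      ∃ x ∈ Pt, Mv VV x p ∧ Mv VV x (g⁻¹ • a) := by
    intro g hg
    have hg0 := hg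
    suffices H : g ∈ X ∧ (∀ a ∈ Pt, (∃ x ∈ Pt, Mv VV x p ∧ Mv VV x a) →
      ∃ x ∈ Pt, Mv VV x p ∧ Mv VV x (g • a)) ∧ ∀ a ∈ Pt, (∃ x ∈ Pt, Mv VV x p ∧ Mv VV x a) →
      ∃ x ∈ Pt, Mv VV x p ∧ Mv VV x (g⁻¹ • a) from H.2
    refine induct (Pt := Pt) (VV := VV) (P := fun g : Γ => g ∈ X ∧ (∀ a ∈ Pt, (∃ x ∈ Pt, Mv VV x p ∧ Mv VV x a) →
      ∃ x ∈ Pt, Mv VV x p ∧ Mv VV x (g • a)) ∧ ∀ a ∈ Pt, (∃ x ∈ Pt, Mv VV x p ∧ Mv VV x a) →
      ∃ x ∈ Pt, Mv VV x p ∧ Mv VV x (g⁻¹ • a)) ?_ ?_ ?_ ?_ hg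
    · exact ⟨one_mem _, fun a _ h => by rwa [one_smul], fun a _ h => by rwa [inv_one, one_smul]⟩
    · rintro a b ⟨haX, ha, ha'⟩ ⟨hbX, hb, hb'⟩
      refine ⟨mul_mem haX hbX, fun c hc h => ?_, fun c hc h => ?_⟩
      · rw [mul_smul]
        exact ha _ (F.inv b hbX c hc) (hb c hc h)
      · rw [mul_inv_rev, mul_smul]
        exact hb' _ (F.inv _ (inv_mem haX) c hc) (ha' c hc h)
    · rintro a ⟨haX, ha, ha'⟩
      exact ⟨inv_mem haX, ha', fun c hc h => by rw [inv_inv]; exact ha c hc h⟩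
    · intro t ht v hv
      refine ⟨F.le t ht hv, hkey t ht v hv, ?_⟩
      rw [F.inv_eq ht hv]
      exact hkey t ht v hv
  obtain ⟨x, hx, hxp⟩ := F.exists_mv' hp
  obtain ⟨g, hg, rfl⟩ := F.trans p hp s hs
  exact (hall g hg).1 p hp ⟨x, hx, hxp, hxp⟩

/-- The index of `K p r` in `V_p` is `|p|`. -/
theorem card_K (hp : p ∈ Pt) (hr : r ∈ Pt) (h : Mv VV p r) :
    Nat.card ↥(VV p) = Nat.card ↥p * Nat.card ↥(K VV p r) := by
  have hfin := F.fin hp
  obtain ⟨A, hAle, ⟨a, ha, u, hu, hau⟩, hreg⟩ := F.line p hp r hr h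
  have hu' := (hreg u).resolve_left fun h => hau (h a ha)
  -- the map `v ↦ dd v u`
  let f : ↥(VV p) →* Multiplicative ↥p :=
    { toFun := fun v => Multiplicative.ofAdd (⟨dd (v : Γ) u, F.dd_mem hp v.2 u⟩ : ↥p)
      map_one' := by
        apply congrArg Multiplicative.ofAdd
        apply Subtype.ext
        change dd (1 : Γ) u = 0
        rw [F.dd_eq_zero_iff, one_smul]
      map_mul' := fun v w => by
        rw [← ofAdd_add]
        apply congrArg Multiplicative.ofAdd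
        apply Subtype.ext
        exact F.dd_mul hp v.2 w.2 u }
  have hfs : Function.Surjective f := by
    intro z
    obtain ⟨b, hb, hbu⟩ := hu'.1 (Multiplicative.toAdd z : ↥p) (Multiplicative.toAdd z : ↥p).2
    refine ⟨⟨b, hAle hb⟩, ?_⟩
    apply Multiplicative.toAdd.injective
    apply Subtype.ext
    change dd b u = _
    have := F.smul_eq b u
    rw [hbu] at this
    exact (add_left_cancel this).symm
  have hker : ∀ v : ↥(VV p), v ∈ f.ker ↔ (v : Γ) ∈ K VV p r := by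
    intro v
    rw [MonoidHom.mem_ker, mem_K]
    have h1 : f v = 1 ↔ dd (v : Γ) u = 0 := by
      rw [← toAdd_eq_zero]
      exact Subtype.ext_iff
    rw [h1, F.dd_eq_zero_iff]
    constructor
    · intro hvu
      refine ⟨v.2, ?_⟩
      by_contra hcon
      push Not at hcon
      obtain ⟨x0, hx0, hne⟩ := hcon
      have hu0 := F.inj_of hp hr v.2 hx0 hne u hu hvu
      exact hau (by rw [hu0, smul_zero])
    · exact fun hv => hv.2 u hu
  have h1 : Nat.card ↥f.ker = Nat.card ↥(K VV p r) := by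
    refine Nat.card_congr (Equiv.ofBijective (fun v : ↥f.ker => (⟨((v : ↥(VV p)) : Γ), (hker v).1 v.2⟩ : ↥(K VV p r)))
      ⟨?_, ?_⟩)
    · intro v w hvw
      exact Subtype.ext (Subtype.ext (Subtype.ext_iff.1 hvw :))
    · rintro ⟨v, hv⟩
      exact ⟨⟨⟨v, hv.1⟩, (hker ⟨v, hv.1⟩).2 hv⟩, rfl⟩
  have h2 : Nat.card (Multiplicative ↥p) = Nat.card ↥p := rfl
  rw [← h1, ← h2, ← Nat.card_congr (QuotientGroup.quotientKerEquivOfSurjective f hfs).toEquiv,
    Subgroup.card_eq_card_quotient_mul_card_subgroup f.ker]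

/-- (3)(e): `v ∈ V_e` moves `x`, `w ∈ K e x` : `w` acts as `dd v ∘ dd g` for some `g ∈ K x e`. -/
theorem comp_onto (he : e ∈ Pt) (hx : x ∈ Pt) {v : Γ} (hv : v ∈ VV e) {x0 : M} (hx0 : x0 ∈ x) (hne : v • x0 ≠ x0)
    {w : Γ} (hw : w ∈ K VV e x) : ∃ g ∈ K VV x e, ∀ m : M, dd w m = dd v (dd g m) := by
  have hex : Mv VV e x := ⟨v, hv, x0, hx0, hne⟩
  have hinj := F.inj_of he hx hv hx0 hne
  have hinjd : ∀ z ∈ x, ∀ z' ∈ x, dd v z = dd v z' → z = z' := by
    intro z hz z' hz' hzz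
    have h3 : dd v (z - z') = 0 := by rw [map_sub, hzz, sub_self]
    exact sub_eq_zero.1 (hinj _ (sub_mem hz hz') ((F.dd_eq_zero_iff v _).1 h3))
  have hfe := F.fin he
  have hfx := F.fin hx
  have : Finite ↥(K VV e x) := Finite.of_injective (Subgroup.inclusion (K_le (VV := VV))) (Subgroup.inclusion_injective _)
  have : Finite ↥(K VV x e) := Finite.of_injective (Subgroup.inclusion (K_le (VV := VV))) (Subgroup.inclusion_injective _)
  have hmem : ∀ g ∈ K VV x e, v * (g * v * g⁻¹) ∈ K VV e x := by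
    intro g hg
    refine ⟨F.comm_mem he hx hv hg.1 hg.2, fun z hz => ?_⟩
    rw [← F.dd_eq_zero_iff, F.dd_comm he hx hv hg.1 hg.2, F.dd_self hx hg.1 hz, map_zero]
  let f : ↥(K VV x e) → ↥(K VV e x) := fun g => ⟨v * (g * v * (g : Γ)⁻¹), hmem g g.2⟩
  have hfd : ∀ g : ↥(K VV x e), ∀ m : M, dd ((f g : Γ)) m = dd v (dd (g : Γ) m) := fun g m =>
    F.dd_comm he hx hv g.2.1 g.2.2 m
  have hfinj : Function.Injective f := by
    intro g g' hgg
    refine Subtype.ext (F.eq_of_dd hx g.2.1 g'.2.1 fun m => ?_)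
    refine hinjd _ (F.dd_mem hx g.2.1 m) _ (F.dd_mem hx g'.2.1 m) ?_
    rw [← hfd, ← hfd, hgg]
  have hfs : Function.Surjective f := by
    have := Fintype.ofFinite ↥(K VV x e)
    have := Fintype.ofFinite ↥(K VV e x)
    refine ((Fintype.bijective_iff_injective_and_card f).2 ⟨hfinj, ?_⟩).2
    rw [← Nat.card_eq_fintype_card, ← Nat.card_eq_fintype_card]
    have h1 := F.card_K he hx hex
    have h2 := F.card_K hx he (F.symm he hx hex)
    rw [F.cardVV_eq he hx, h2, F.card_eq hx he] at h1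
    have hpos : 0 < Nat.card ↥e := Nat.card_pos
    exact Nat.eq_of_mul_eq_mul_left hpos h1
  obtain ⟨g, hg⟩ := hfs ⟨w, hw⟩
  refine ⟨g, g.2, fun m => ?_⟩
  rw [← hfd, hg]

omit [Finite M] in
/-- Conversely. -/
theorem comp_mem (he : e ∈ Pt) (hx : x ∈ Pt) {v : Γ} (hv : v ∈ VV e) {g : Γ} (hg : g ∈ K VV x e) :
    ∃ w ∈ K VV e x, ∀ m : M, dd w m = dd v (dd g m) := by
  refine ⟨v * (g * v * g⁻¹), ⟨F.comm_mem he hx hv hg.1 hg.2, fun z hz => ?_⟩, F.dd_comm he hx hv hg.1 hg.2⟩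
  rw [← F.dd_eq_zero_iff, F.dd_comm he hx hv hg.1 hg.2, F.dd_self hx hg.1 hz, map_zero]

end Frame

end Cfsg.Agent.Omega.NOThreeL.RBig.Pts

end

section


/-!
# NO-3L, box R (#19087 (4)): many axes

`Frame.many`: if `|V_p| > |p|`, then points `e`, `p` such that `V_e` centralises `p` are equal.
-/

set_option autoImplicit false

namespace Cfsg.Agent.Omega.NOThreeL.RBig.Pts

open Subgroup
open scoped Pointwise

variable {Γ M : Type*} [Group Γ] [AddCommGroup M] [DistribMulAction Γ M]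
variable {X : Subgroup Γ} {Pt : Set (AddSubgroup M)} {VV : AddSubgroup M → Subgroup Γ} {p r s t e x y : AddSubgroup M}

namespace Frame

variable (F : Frame X Pt VV) [Finite M]
include F

theorem finK (hp : p ∈ Pt) : Finite ↥(K VV p r) := by
  have := F.fin hp
  exact Finite.of_injective (Subgroup.inclusion (K_le (VV := VV))) (Subgroup.inclusion_injective _)

theorem cardK_eq (hp : p ∈ Pt) (hr : r ∈ Pt) (hs : s ∈ Pt) (h1 : Mv VV p r) (h2 : Mv VV p s) :
    Nat.card ↥(K VV p r) = Nat.card ↥(K VV p s) := by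
  have e1 := F.card_K hp hr h1
  have e2 := F.card_K hp hs h2
  rw [e1] at e2
  exact Nat.eq_of_mul_eq_mul_left Nat.card_pos e2

theorem K_eq_of_le (hp : p ∈ Pt) (hr : r ∈ Pt) (hs : s ∈ Pt) (h1 : Mv VV p r) (h2 : Mv VV p s)
    (hle : K VV p r ≤ K VV p s) : K VV p r = K VV p s := by
  have := F.finK (r := r) hp
  have := F.finK (r := s) hp
  exact Subgroup.eq_of_le_of_card_ge hle (F.cardK_eq hp hr hs h1 h2).ge

/-- (4)(a) -/
theorem K_eq (he : e ∈ Pt) (hp : p ∈ Pt) (hx : x ∈ Pt) (hep : ¬ Mv VV e p) (hxe : Mv VV x e) (hxp : Mv VV x p) :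
    K VV x e = K VV x p := by
  refine F.K_eq_of_le hx he hp hxe hxp fun g hg => ?_
  refine ⟨hg.1, ?_⟩
  by_contra hcon
  push Not at hcon
  obtain ⟨z0, hz0, hne⟩ := hcon
  obtain ⟨v, hv, a, ha, hva⟩ := F.symm hx he hxe
  refine hva ?_
  obtain ⟨z, hz, rfl⟩ := F.onto hx hp hg.1 hz0 hne ha
  have hge : g⁻¹ • e = e := smul_eq_of_fix fun w hw => by rw [inv_smul_eq_iff, hg.2 w hw]
  have h1 : g⁻¹ * v * g ∈ VV e := by
    have := F.conj g⁻¹ (inv_mem (F.le x hx hg.1)) e he v hv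
    rwa [hge, inv_inv] at this
  have h2 : (g⁻¹ * v * g) • z = z := not_mv hep h1 hz
  have h3 : v • (g • z) = g • z := by
    rw [mul_smul, mul_smul, inv_smul_eq_iff] at h2
    exact h2
  have h4 : v • z = z := not_mv hep hv hz
  rw [F.smul_eq g z, smul_add, h4] at h3
  exact add_left_cancel h3

/-- (4)(b), first part -/
theorem twin_elt (he : e ∈ Pt) (hp : p ∈ Pt) (hx : x ∈ Pt) (hep : ¬ Mv VV e p) (hxe : Mv VV x e) (hxp : Mv VV x p)
    {f : Γ} (hf : f ∈ K VV e x) : ∃ f' ∈ K VV p x, ∀ m : M, f • m = m ↔ f' • m = m := by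
  obtain ⟨v, hv, x0, hx0, hne⟩ := F.symm hx he hxe
  obtain ⟨h, hh, x1, hx1, hne1⟩ := F.symm hx hp hxp
  obtain ⟨g, hg, hfg⟩ := F.comp_onto he hx hv hx0 hne hf
  have hg' : g ∈ K VV x p := by rwa [← F.K_eq he hp hx hep hxe hxp]
  obtain ⟨w, hw, hwg⟩ := F.comp_mem hp hx hh hg'
  refine ⟨w, hw, fun m => ?_⟩
  rw [← F.dd_eq_zero_iff, ← F.dd_eq_zero_iff, hfg, hwg, F.dd_eq_zero_iff, F.dd_eq_zero_iff]
  have i1 := F.inj_of he hx hv hx0 hne (dd g m) (F.dd_mem hx hg.1 m)
  have i2 := F.inj_of hp hx hh hx1 hne1 (dd g m) (F.dd_mem hx hg.1 m)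
  constructor
  · intro h0
    rw [i1 h0, smul_zero]
  · intro h0
    rw [i2 h0, smul_zero]

omit [Finite M] in
/-- A nontrivial element of `V_p` moves some point. -/
theorem exists_moved (hp : p ∈ Pt) {f : Γ} (hf : f ∈ VV p) (h1 : f ≠ 1) : ∃ y ∈ Pt, ∃ m ∈ y, f • m ≠ m := by
  by_contra hcon
  push Not at hcon
  exact h1 (F.faith p hp f hf (F.top_le_ker hcon))

variable (hbig : ∃ p ∈ Pt, Nat.card ↥p < Nat.card ↥(VV p))
include hbig

theorem K_ne_bot (he : e ∈ Pt) (hx : x ∈ Pt) (hex : Mv VV e x) : ∃ f ∈ K VV e x, f ≠ 1 := by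
  obtain ⟨p, hp, hlt⟩ := hbig
  rw [F.card_eq hp he, F.cardVV_eq hp he, F.card_K he hx hex] at hlt
  have := F.finK (r := x) he
  have h1 : 1 < Nat.card ↥(K VV e x) := by
    by_contra hcon
    have : Nat.card ↥(K VV e x) ≤ 1 := by omega
    have h2 := Nat.mul_le_mul_left (Nat.card ↥e) this
    omega
  have := Finite.one_lt_card_iff_nontrivial.1 h1
  obtain ⟨f, hf⟩ := exists_ne (1 : ↥(K VV e x))
  exact ⟨f, f.2, fun h => hf (Subtype.ext h)⟩

/-- (4)(b): the same movers. -/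
theorem mv_iff_aux (he : e ∈ Pt) (hp : p ∈ Pt) (hep : ¬ Mv VV e p) (hs : s ∈ Pt) (hse : Mv VV s e) : Mv VV s p := by
  by_contra hsp
  have hps : ¬ Mv VV p s := fun h => hsp (F.symm hp hs h)
  -- every common mover has the same hyperplane as `s`
  have key : ∀ x ∈ Pt, Mv VV x e → Mv VV x p → K VV e x = K VV e s := by
    intro x hx hxe hxp
    refine F.K_eq_of_le he hx hs (F.symm hx he hxe) (F.symm hs he hse) fun f hf => ⟨hf.1, fun m hm => ?_⟩
    obtain ⟨f', hf', hiff⟩ := F.twin_elt he hp hx hep hxe hxp hf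
    exact (hiff m).2 (not_mv hps hf'.1 hm)
  obtain ⟨x, hx, hxe, hxp⟩ := F.common he hp
  obtain ⟨f, hf, hf1⟩ := F.K_ne_bot hbig he hx (F.symm hx he hxe)
  obtain ⟨y, hy, m, hm, hfm⟩ := F.exists_moved he hf.1 hf1
  obtain ⟨f', hf', hiff⟩ := F.twin_elt he hp hx hep hxe hxp hf
  have hye : Mv VV y e := F.symm he hy ⟨f, hf.1, m, hm, hfm⟩
  have hyp : Mv VV y p := F.symm hp hy ⟨f', hf'.1, m, hm, fun h => hfm ((hiff m).2 h)⟩
  have h1 := key x hx hxe hxp
  have h2 := key y hy hye hyp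
  rw [← h2] at h1
  rw [h1] at hf
  exact hfm (hf.2 m hm)

theorem mv_iff (he : e ∈ Pt) (hp : p ∈ Pt) (hep : ¬ Mv VV e p) (hs : s ∈ Pt) : Mv VV s e ↔ Mv VV s p :=
  ⟨F.mv_iff_aux hbig he hp hep hs, F.mv_iff_aux hbig hp he (fun h => hep (F.symm hp he h)) hs⟩

omit hbig in
/-- (4)(c): the twin of `a ∈ e` in `p`, seen from `s`. -/
theorem exists_twin (he : e ∈ Pt) (hp : p ∈ Pt) (hs : s ∈ Pt) (hse : Mv VV s e) (hKe : K VV s e = K VV s p)
    {a : M} (ha : a ∈ e) : ∃ b ∈ p, ∀ g ∈ VV s, g • (a + b) = a + b := by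
  obtain ⟨A, hAle, ⟨a1, ha1, x0, hx0, hne⟩, hreg⟩ := F.line s hs e he hse
  have hx00 : x0 ≠ 0 := fun h => hne (by rw [h, smul_zero])
  have ha1' : a1 ∈ VV s := hAle ha1
  have ha1p : ∃ z0 ∈ p, a1 • z0 ≠ z0 := by
    by_contra hcon
    push Not at hcon
    have h1 : a1 ∈ K VV s p := ⟨ha1', hcon⟩
    rw [← hKe] at h1
    exact hne (h1.2 x0 hx0)
  obtain ⟨z0, hz0, hz0'⟩ := ha1p
  obtain ⟨b, hb, hbd⟩ := F.onto hs hp ha1' hz0 hz0' (F.dd_mem hs ha1' a)
  have hfix1 : a1 • (a + b) = a + b := by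
    rw [← F.dd_eq_zero_iff, map_add, hbd, F.two]
  have hne1 : a1 ≠ 1 := fun h => hne (by rw [h, one_smul])
  have hfixA : ∀ c ∈ A, c • (a + b) = a + b := by
    rcases hreg (a + b) with h | h
    · exact h
    · exact absurd (h.2 a1 ha1 hfix1) hne1
  refine ⟨b, hb, fun g hg => ?_⟩
  have hu := (hreg x0).resolve_left fun h => hne (h a1 ha1)
  obtain ⟨c, hc, hcx⟩ := hu.1 (dd g x0) (F.dd_mem hs hg x0)
  have hcV : c ∈ VV s := hAle hc
  -- `g c ∈ K s e`
  have hk : g * c ∈ K VV s e := by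
    refine ⟨mul_mem hg hcV, ?_⟩
    by_contra hcon
    push Not at hcon
    obtain ⟨z, hz, hzne⟩ := hcon
    refine hx00 (F.inj_of hs he (mul_mem hg hcV) hz hzne x0 hx0 ?_)
    rw [← F.dd_eq_zero_iff, F.dd_mul hs hg hcV]
    have h1 : dd c x0 = dd g x0 := by
      have := F.smul_eq c x0
      rw [hcx] at this
      exact (add_left_cancel this).symm
    rw [h1, F.two]
  have hk' : g * c ∈ K VV s p := by rwa [← hKe]
  have h2 : (g * c) • (a + b) = a + b := by rw [smul_add, hk.2 a ha, hk'.2 b hb]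
  rw [mul_smul, hfixA c hc] at h2
  exact h2

omit hbig in
theorem twin_unique (hp : p ∈ Pt) (hs : s ∈ Pt) {w : Γ} (hw : w ∈ VV s) {z0 : M} (hz0 : z0 ∈ p)
    (hne : w • z0 ≠ z0) {a b b' : M} (hb : b ∈ p) (hb' : b' ∈ p) (h : w • (a + b) = a + b)
    (h' : w • (a + b') = a + b') : b = b' := by
  have h1 := F.inj_of hs hp hw hz0 hne (b - b') (sub_mem hb hb') ?_
  · exact sub_eq_zero.1 h1
  · have e1 : b - b' = (a + b) - (a + b') := by abel
    rw [e1, smul_sub, h, h']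

/-- (4)(c): link. -/
theorem link (he : e ∈ Pt) (hp : p ∈ Pt) (hep : ¬ Mv VV e p) (hs : s ∈ Pt) (hse : Mv VV s e)
    (hy : y ∈ Pt) (hye : Mv VV y e) (hK : K VV e s ≠ K VV e y) {a b : M} (ha : a ∈ e) (hb : b ∈ p)
    (hab : ∀ g ∈ VV s, g • (a + b) = a + b) : ∀ g ∈ VV y, g • (a + b) = a + b := by
  have hes := F.symm hs he hse
  have hey := F.symm hy he hye
  have hyp : Mv VV y p := (F.mv_iff hbig he hp hep hy).1 hye
  have hsp : Mv VV s p := (F.mv_iff hbig he hp hep hs).1 hse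
  -- `f ∈ K e s`, `f ∉ K e y`
  obtain ⟨f, hf, hfn⟩ : ∃ f ∈ K VV e s, f ∉ K VV e y := by
    by_contra hcon
    push Not at hcon
    exact hK (F.K_eq_of_le he hs hy hes hey hcon)
  obtain ⟨v, hv, x0, hx0, hne⟩ := hes
  obtain ⟨g0, hg0, hfg⟩ := F.comp_onto he hs hv hx0 hne hf
  obtain ⟨m, hm, hfm⟩ : ∃ m ∈ y, f • m ≠ m := by
    by_contra hcon
    push Not at hcon
    exact hfn ⟨hf.1, hcon⟩
  have hg0m : g0 • m ≠ m := by
    intro h0
    rw [← F.dd_eq_zero_iff] at h0
    refine hfm ((F.dd_eq_zero_iff f m).1 ?_)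
    rw [hfg, h0, map_zero]
  have hsy : Mv VV s y := ⟨g0, hg0.1, m, hm, hg0m⟩
  -- `g' ∈ K s y`, `g' ∉ K s e`
  obtain ⟨g', hg', hg'n⟩ : ∃ g' ∈ K VV s y, g' ∉ K VV s e := by
    by_contra hcon
    push Not at hcon
    have h1 := F.K_eq_of_le hs hy he hsy hse hcon
    rw [← h1] at hg0
    exact hg0m (hg0.2 m hm)
  obtain ⟨z, hz, hg'z⟩ : ∃ z ∈ e, g' • z ≠ z := by
    by_contra hcon
    push Not at hcon
    exact hg'n ⟨hg'.1, hcon⟩
  obtain ⟨h, hh, s0, hs0, hhs0⟩ := F.symm hs hy hsy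
  obtain ⟨w, hw, hwg⟩ := F.comp_mem hy hs hh hg'
  have hwz : w • z ≠ z := by
    intro h0
    rw [← F.dd_eq_zero_iff, hwg, F.dd_eq_zero_iff] at h0
    have := F.inj_of hy hs hh hs0 hhs0 (dd g' z) (F.dd_mem hs hg'.1 z) h0
    exact hg'z ((F.dd_eq_zero_iff g' z).1 this)
  have hwab : w • (a + b) = a + b := by
    rw [← F.dd_eq_zero_iff, hwg, (F.dd_eq_zero_iff g' (a + b)).2 (hab g' hg'.1), map_zero]
  have hKy := F.K_eq he hp hy hep hye hyp
  obtain ⟨z1, hz1, hwz1⟩ : ∃ z1 ∈ p, w • z1 ≠ z1 := by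
    by_contra hcon
    push Not at hcon
    have h1 : w ∈ K VV y p := ⟨hw.1, hcon⟩
    rw [← hKy] at h1
    exact hwz (h1.2 z hz)
  obtain ⟨b', hb', hab'⟩ := F.exists_twin he hp hy hye hKy ha
  have hbb : b = b' := F.twin_unique hp hy hw.1 hz1 hwz1 hb hb' hwab (hab' w hw.1)
  rw [hbb]
  exact hab'

/-- (4)(c): the twin does not depend on `s`. -/
theorem const (he : e ∈ Pt) (hp : p ∈ Pt) (hep : ¬ Mv VV e p) (hs : s ∈ Pt) (hse : Mv VV s e)
    (hy : y ∈ Pt) (hye : Mv VV y e) {a b : M} (ha : a ∈ e) (hb : b ∈ p)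
    (hab : ∀ g ∈ VV s, g • (a + b) = a + b) : ∀ g ∈ VV y, g • (a + b) = a + b := by
  by_cases hK : K VV e s = K VV e y
  · obtain ⟨f, hf, hf1⟩ := F.K_ne_bot hbig he hs (F.symm hs he hse)
    obtain ⟨w, hw, m, hm, hfm⟩ := F.exists_moved he hf.1 hf1
    have hwe : Mv VV w e := F.symm he hw ⟨f, hf.1, m, hm, hfm⟩
    have hKw : K VV e s ≠ K VV e w := fun h => by
      rw [h] at hf
      exact hfm (hf.2 m hm)
    have h1 := F.link hbig he hp hep hs hse hw hwe hKw ha hb hab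
    exact F.link hbig he hp hep hw hwe hy hye (by rw [← hK]; exact hKw.symm) ha hb h1
  · exact F.link hbig he hp hep hs hse hy hye hK ha hb hab

/-- **(4), MANY AXES**: if `V_e` centralises `p`, then `e = p`. -/
theorem many (he : e ∈ Pt) (hp : p ∈ Pt) (hep : ¬ Mv VV e p) : e = p := by
  have hpe : ¬ Mv VV p e := fun h => hep (F.symm hp he h)
  obtain ⟨x, hx, hxe, hxp⟩ := F.common he hp
  have hle : e ≤ p := by
    intro a ha
    obtain ⟨b, hb, hab⟩ := F.exists_twin he hp hx hxe (F.K_eq he hp hx hep hxe hxp) ha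
    have h0 : a + b = 0 := by
      refine F.fixed _ fun s hs v hv => ?_
      by_cases hse : Mv VV s e
      · exact F.const hbig he hp hep hx hxe hs hse ha hb hab v hv
      · have hsp : ¬ Mv VV s p := fun h => hse ((F.mv_iff hbig he hp hep hs).2 h)
        rw [smul_add, not_mv hse hv ha, not_mv hsp hv hb]
    have h1 : a = b := by
      have h2 := F.two b
      rw [← h2] at h0
      exact add_right_cancel h0
    rwa [h1]
  exact AddSubgroup.eq_of_le_of_card_ge hle (F.card_eq he hp).ge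

end Frame

end Cfsg.Agent.Omega.NOThreeL.RBig.Pts

end

section


/-!
# NO-3L, box R (#19087 (5), helper162): one axis

`OneAx` : if `VV p` moves `r`, then `VV p` acts freely on `r`.  Then (helper162's numbering)

* (a) `one_or_all` : a line `Ln s t` has all or exactly one of its points `~ p`;
* (b) `twins` : a point is determined by the set of points moving it;
* (c) `disjoint` : distinct points are disjoint;
* (d) `exists_conj`, `ax_eq` : `C_M(VV e)` is generated by the points `t ~ e`;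
* (e) `inter` : the intersection of the axes of the points `t ~ e` is `e`.
-/

set_option autoImplicit false

namespace Cfsg.Agent.Omega.NOThreeL.RBig.Pts

open Subgroup
open scoped Pointwise

variable {Γ M : Type*} [Group Γ] [AddCommGroup M] [DistribMulAction Γ M]
variable {X : Subgroup Γ} {Pt : Set (AddSubgroup M)} {VV : AddSubgroup M → Subgroup Γ} {p r s t e x y : AddSubgroup M}

/-- **One axis** : if `VV p` moves `r`, then it acts freely on `r`. -/
def OneAx (Pt : Set (AddSubgroup M)) (VV : AddSubgroup M → Subgroup Γ) : Prop :=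
  ∀ p ∈ Pt, ∀ r ∈ Pt, Mv VV p r → ∀ v ∈ VV p, (∀ x ∈ r, v • x = x) → v = 1

/-- The line through `s` and `t` (`s # t`). -/
def Ln (VV : AddSubgroup M → Subgroup Γ) (s t : AddSubgroup M) : Set (AddSubgroup M) :=
  {x | x = s ∨ ∃ v ∈ VV s, x = v • t}

/-- The axis `C_M(VV e)`. -/
def Ax (VV : AddSubgroup M → Subgroup Γ) (e : AddSubgroup M) : AddSubgroup M where
  carrier := {u | ∀ g ∈ VV e, g • u = u}
  zero_mem' := fun g _ => smul_zero g
  add_mem' := fun {a b} ha hb g hg => by rw [smul_add, ha g hg, hb g hg]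
  neg_mem' := fun {a} ha g hg => by rw [smul_neg, ha g hg]

namespace Frame

variable (F : Frame X Pt VV)
include F

theorem mv_irrefl (hp : p ∈ Pt) : ¬ Mv VV p p := by
  rintro ⟨v, hv, x, hx, hne⟩
  exact hne (F.triv p hp v hv x hx)

theorem ln_mem (hs : s ∈ Pt) (ht : t ∈ Pt) (hx : x ∈ Ln VV s t) : x ∈ Pt := by
  rcases hx with rfl | ⟨v, hv, rfl⟩
  · exact hs
  · exact F.inv v (F.le s hs hv) t ht

theorem smul_pt (hp : p ∈ Pt) {v : Γ} (hv : v ∈ VV p) : v • p = p := smul_eq_of_fix (F.triv p hp v hv)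

theorem exists_ne_one (hp : p ∈ Pt) : ∃ v ∈ VV p, v ≠ 1 := by
  obtain ⟨r, hr, v, hv, z, hz, hne⟩ := F.exists_mv hp
  refine ⟨v, hv, ?_⟩
  rintro rfl
  exact hne (one_smul _ _)

theorem eq_of_add {a b : M} (h : a + b = 0) : a = b := by
  have := F.two b
  rw [← this] at h
  exact add_right_cancel h

variable [Finite M] (h1 : OneAx Pt VV)
include h1

theorem inj_of_ne (hp : p ∈ Pt) (hr : r ∈ Pt) (h : Mv VV p r) {v : Γ} (hv : v ∈ VV p) (hv1 : v ≠ 1) :
    ∀ z ∈ r, v • z = z → z = 0 :=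
  (F.bij p hp r hr (F.symm hp hr h) v hv).resolve_left fun h2 => hv1 (h1 p hp r hr h v hv h2)

theorem inf_eq_bot_of_mv (hp : p ∈ Pt) (hr : r ∈ Pt) (h : Mv VV p r) : p ⊓ r = ⊥ := by
  rw [eq_bot_iff]
  rintro z ⟨hz, hz'⟩
  obtain ⟨v, hv, hv1⟩ := F.exists_ne_one hp
  exact F.inj_of_ne h1 hp hr h hv hv1 z hz' (F.triv p hp v hv z hz)

/-- `VV p` fixes `u`, or `a ↦ [u, a]` is a bijection of `VV p` onto `p`. -/
theorem dich (hp : p ∈ Pt) (u : M) : (∀ a ∈ VV p, a • u = u) ∨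
    ((∀ y ∈ p, ∃ a ∈ VV p, a • u = u + y) ∧ ∀ a ∈ VV p, a • u = u → a = 1) := by
  obtain ⟨r, hr, hpr⟩ := F.exists_mv hp
  obtain ⟨A, hA, ⟨a0, ha0, x0, hx0, hne⟩, hreg⟩ := F.line p hp r hr hpr
  have hAeq : VV p ≤ A := by
    intro v hv
    obtain ⟨a, ha, hax⟩ := ((hreg x0).resolve_left fun h => hne (h a0 ha0)).1 (dd v x0) (F.dd_mem hp hv x0)
    have h2 : (a⁻¹ * v) • x0 = x0 := by
      rw [mul_smul, F.smul_eq v x0, ← hax, inv_smul_smul]
    have h3 : a⁻¹ * v = 1 := by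
      by_contra hne1
      have := F.inj_of_ne h1 hp hr hpr (mul_mem (inv_mem (hA ha)) hv) hne1 x0 hx0 h2
      exact hne (by rw [this, smul_zero])
    rw [← inv_mul_eq_one.1 h3]
    exact ha
  rcases hreg u with h | h
  · exact Or.inl fun a ha => h a (hAeq ha)
  · refine Or.inr ⟨fun y hy => ?_, fun a ha => h.2 a (hAeq ha)⟩
    obtain ⟨a, ha, h5⟩ := h.1 y hy
    exact ⟨a, hA ha, h5⟩

/-- One non-trivial element of `VV p` decides. -/
theorem fix_all (hp : p ∈ Pt) {v : Γ} (hv : v ∈ VV p) (hv1 : v ≠ 1) {u : M} (hu : v • u = u) :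
    ∀ a ∈ VV p, a • u = u :=
  (F.dich h1 hp u).resolve_right fun h => hv1 (h.2 v hv hu)

theorem surj (hp : p ∈ Pt) (hr : r ∈ Pt) (h : Mv VV p r) {v : Γ} (hv : v ∈ VV p) (hv1 : v ≠ 1) :
    ∀ y ∈ p, ∃ z ∈ r, dd v z = y := by
  let f : ↥r → ↥p := fun z => ⟨dd v (z : M), F.dd_mem hp hv z⟩
  have hf : Function.Injective f := by
    intro z z' hzz
    have h3 : dd v ((z : M) - z') = 0 := by
      rw [map_sub, sub_eq_zero]
      exact congrArg Subtype.val hzz
    have h4 := F.inj_of_ne h1 hp hr h hv hv1 _ (sub_mem z.2 z'.2) ((F.dd_eq_zero_iff v _).1 h3)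
    exact Subtype.ext (sub_eq_zero.1 h4)
  have hs : Function.Surjective f := (hf.bijective_of_nat_card_le (F.card_eq hp hr).le).2
  intro y hy
  obtain ⟨z, hz⟩ := hs ⟨y, hy⟩
  exact ⟨z, z.2, congrArg Subtype.val hz⟩

/-- Every line has a point `~ p`. -/
theorem exists_ln (hp : p ∈ Pt) (hs : s ∈ Pt) (ht : t ∈ Pt) (hst : Mv VV s t) : ∃ x ∈ Ln VV s t, ¬ Mv VV p x := by
  obtain ⟨f, hf, hf1⟩ := F.exists_ne_one hp
  obtain ⟨y, hy, z, hz, hne, hker⟩ : ∃ y ∈ s, ∃ z ∈ t, (y ≠ 0 ∨ z ≠ 0) ∧ f • (y + z) = y + z := by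
    by_contra hcon
    push Not at hcon
    let φ : ↥s × ↥t → ↥p := fun w => ⟨dd f ((w.1 : M) + w.2), F.dd_mem hp hf _⟩
    have hφ : Function.Injective φ := by
      rintro ⟨y, z⟩ ⟨y', z'⟩ hh
      have h3 : dd f (((y : M) - y') + ((z : M) - z')) = 0 := by
        have h4 : dd f ((y : M) + z) = dd f ((y' : M) + z') := congrArg Subtype.val hh
        rw [show ((y : M) - y') + ((z : M) - z') = ((y : M) + z) - ((y' : M) + z') by abel, map_sub, h4, sub_self]
      have h4 := (F.dd_eq_zero_iff f _).1 h3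
      have h5 : ¬ (((y : M) - y') ≠ 0 ∨ ((z : M) - z') ≠ 0) := fun h6 =>
        hcon _ (sub_mem y.2 y'.2) _ (sub_mem z.2 z'.2) h6 h4
      push Not at h5
      exact Prod.ext (Subtype.ext (sub_eq_zero.1 h5.1)) (Subtype.ext (sub_eq_zero.1 h5.2))
    have h6 := Nat.card_le_card_of_injective φ hφ
    rw [Nat.card_prod, F.card_eq hs hp, F.card_eq ht hp] at h6
    have h7 : 1 < Nat.card ↥p := by
      have : Nontrivial ↥p := (AddSubgroup.nontrivial_iff_ne_bot p).2 (F.ne p hp)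
      exact Finite.one_lt_card
    nlinarith
  by_cases hz0 : z = 0
  · subst hz0
    refine ⟨s, Or.inl rfl, fun hps => ?_⟩
    rw [add_zero] at hker
    exact (hne.resolve_right (fun h => h rfl)) (F.inj_of_ne h1 hp hs hps hf hf1 y hy hker)
  · obtain ⟨v, hv, hv1⟩ := F.exists_ne_one hs
    rcases F.dich h1 hs z with h2 | ⟨h2, -⟩
    · exact absurd (F.inj_of_ne h1 hs ht hst hv hv1 z hz (h2 v hv)) hz0
    · obtain ⟨a, ha, hay⟩ := h2 y hy
      refine ⟨a • t, Or.inr ⟨a, ha, rfl⟩, fun hpt => hz0 ?_⟩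
      have h3 : y + z = a • z := by rw [hay, add_comm]
      rw [h3] at hker
      have h4 := F.inj_of_ne h1 hp (F.inv a (F.le s hs ha) t ht) hpt hf hf1 _ (mem_smul hz) hker
      have h5 := congrArg (fun w => a⁻¹ • w) h4
      simpa using h5

/-- Two points of a line which are `~ p` : all points are. -/
theorem all_of_two (hs : s ∈ Pt) (ht : t ∈ Pt) (hst : Mv VV s t) (hx : x ∈ Ln VV s t)
    (hy : y ∈ Ln VV s t) (hxy : x ≠ y) (hpx : ¬ Mv VV p x) (hpy : ¬ Mv VV p y) : ¬ Mv VV p s ∧ ¬ Mv VV p t := by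
  have key : ∀ v ∈ VV s, ¬ Mv VV p s → ¬ Mv VV p (v • t) → ¬ Mv VV p t := by
    rintro v hv h2 h3 ⟨g, hg, z, hz, hne⟩
    apply hne
    have h4 : g • (v • z) = v • z := not_mv h3 hg (mem_smul hz)
    rw [F.smul_eq v z, smul_add, not_mv h2 hg (F.dd_mem hs hv z)] at h4
    exact add_right_cancel h4
  rcases hx with rfl | ⟨v, hv, rfl⟩ <;> rcases hy with rfl | ⟨w, hw, rfl⟩
  · exact absurd rfl hxy
  · exact ⟨hpx, key w hw hpx hpy⟩
  · exact ⟨hpy, key v hv hpy hpx⟩
  · have hvw : v * w ≠ 1 := by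
      intro h
      apply hxy
      have h2 := mul_eq_one_iff_eq_inv.1 h
      rw [F.inv_eq hs hw] at h2
      rw [h2]
    have h5 : ¬ Mv VV p s := by
      rintro ⟨g, hg, z, hz, hne⟩
      obtain ⟨z', hz', rfl⟩ := F.surj h1 hs ht hst (mul_mem hv hw) hvw z hz
      apply hne
      have h6 : dd (v * w) z' = v • z' + w • z' := by
        rw [F.dd_mul hs hv hw, dd_apply, dd_apply, show v • z' + z' + (w • z' + z') = v • z' + w • z' + (z' + z') by abel,
          F.two, add_zero]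
      rw [h6, smul_add, not_mv hpx hg (mem_smul hz'), not_mv hpy hg (mem_smul hz')]
    exact ⟨h5, key v hv h5 hpx⟩

/-- The points of a line are pairwise `#`. -/
theorem ln_pair (hs : s ∈ Pt) (ht : t ∈ Pt) (hst : Mv VV s t) (hx : x ∈ Ln VV s t) (hy : y ∈ Ln VV s t)
    (hxy : x ≠ y) : Mv VV x y := by
  by_contra hno
  have hxP := F.ln_mem hs ht hx
  obtain ⟨h2, h3⟩ := F.all_of_two h1 hs ht hst hx hy hxy (F.mv_irrefl hxP) hno
  rcases hx with rfl | ⟨v, hv, rfl⟩
  · exact h3 hst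
  · apply h2
    have h4 := (F.mv_smul (r := s) (F.le s hs hv) ht).2 (F.symm hs ht hst)
    rwa [F.smul_pt hs hv] at h4

/-- `v • s ≠ s` for `1 ≠ v ∈ VV e`, `e # s`. -/
theorem smul_ne (he : e ∈ Pt) (hs : s ∈ Pt) (hes : Mv VV e s) {v : Γ} (hv : v ∈ VV e) (hv1 : v ≠ 1) :
    v • s ≠ s := by
  intro h
  obtain ⟨z, hz, hz0⟩ := (AddSubgroup.bot_or_exists_ne_zero s).resolve_left (F.ne s hs)
  apply hz0
  refine F.inj_of_ne h1 he hs hes hv hv1 z hz ?_
  rw [← F.dd_eq_zero_iff]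
  have h2 : v • z ∈ s := by
    rw [← h]
    exact mem_smul hz
  have h3 : dd v z ∈ s := by
    rw [dd_apply]
    exact add_mem h2 hz
  have h4 : dd v z ∈ e ⊓ s := ⟨F.dd_mem he hv z, h3⟩
  rw [F.inf_eq_bot_of_mv h1 he hs hes] at h4
  exact h4

/-- The step of the proof of `twins`. -/
theorem step_mv (he : e ∈ Pt) (hs : s ∈ Pt) (ht : t ∈ Pt) (hse : Mv VV s e) (hst : Mv VV s t) {u : M}
    (hu : ∀ r ∈ Pt, ¬ Mv VV r e → ∀ g ∈ VV r, g • u = u) (hus : ∀ g ∈ VV s, g • u = u) :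
    ∀ g ∈ VV t, g • u = u := by
  intro g hg
  obtain ⟨x, hx, hxe⟩ := F.exists_ln h1 he hs ht hst
  rcases hx with rfl | ⟨w, hw, rfl⟩
  · exact absurd (F.symm hs he hse) hxe
  · have htP : w • t ∈ Pt := F.inv w (F.le s hs hw) t ht
    have h2 : w * g * w⁻¹ ∈ VV (w • t) := F.conj w (F.le s hs hw) t ht g hg
    have h3 := hu _ htP (fun h => hxe (F.symm htP he h)) _ h2
    rw [mul_smul, mul_smul, hus _ (inv_mem hw)] at h3
    have h4 := congrArg (fun m => w⁻¹ • m) h3
    simp only [inv_smul_smul] at h4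
    rw [h4]
    exact hus _ (inv_mem hw)

/-- A vector fixed by all `VV r`, `r ~ e`, and by one `VV s`, `s # e`, is `0`. -/
theorem eq_zero_of (he : e ∈ Pt) (hs : s ∈ Pt) (hse : Mv VV s e) {u : M}
    (hu : ∀ r ∈ Pt, ¬ Mv VV r e → ∀ g ∈ VV r, g • u = u) (hus : ∀ g ∈ VV s, g • u = u) : u = 0 := by
  refine F.fixed u fun t ht => ?_
  by_cases hte : Mv VV t e
  · by_cases hst : Mv VV s t
    · exact F.step_mv h1 he hs ht hse hst hu hus
    · obtain ⟨v, hv, hv1⟩ := F.exists_ne_one he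
      have hes := F.symm hs he hse
      have hxl : v • s ∈ Ln VV e s := Or.inr ⟨v, hv, rfl⟩
      have hsl : s ∈ Ln VV e s := Or.inr ⟨1, one_mem _, (one_smul _ _).symm⟩
      have hxP := F.ln_mem he hs hxl
      have hne := F.smul_ne h1 he hs hes hv hv1
      have hsx : Mv VV s (v • s) := F.ln_pair h1 he hs hes hsl hxl hne.symm
      have hxe : Mv VV (v • s) e := by
        have h4 := (F.mv_smul (r := e) (F.le e he hv) hs).2 hse
        rwa [F.smul_pt he hv] at h4
      have hxt : Mv VV (v • s) t := by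
        by_contra hno
        obtain ⟨h2, -⟩ := F.all_of_two h1 (p := t) he hs hes hsl hxl hne.symm (fun h => hst (F.symm ht hs h))
          (fun h => hno (F.symm ht hxP h))
        exact h2 hte
      exact F.step_mv h1 he hxP ht hxe hxt hu (F.step_mv h1 he hs hxP hse hsx hu hus)
  · exact hu t ht hte

/-- **(5)(b)** twins. -/
theorem twins (he : e ∈ Pt) (hp : p ∈ Pt) (h : ∀ s ∈ Pt, (Mv VV s e ↔ Mv VV s p)) : e = p := by
  obtain ⟨s, hs, hse⟩ := F.exists_mv' he
  obtain ⟨f, hf, hf1⟩ := F.exists_ne_one hs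
  have hle : e ≤ p := by
    intro z hz
    obtain ⟨y, hy, hfy⟩ := F.surj h1 hs hp ((h s hs).1 hse) hf hf1 (dd f z) (F.dd_mem hs hf z)
    have h2 : z + y = 0 := by
      refine F.eq_zero_of h1 he hs hse (fun r hr hre g hg => ?_) (F.fix_all h1 hs hf hf1 ?_)
      · rw [smul_add, not_mv hre hg hz, not_mv (fun h3 => hre ((h r hr).2 h3)) hg hy]
      · rw [← F.dd_eq_zero_iff, map_add, hfy, F.two]
    rw [F.eq_of_add h2]
    exact hy
  have hcard := F.card_eq he hp
  exact AddSubgroup.eq_of_le_of_card_ge hle hcard.ge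

/-- **(5)(c)** distinct points are disjoint. -/
theorem disjoint (he : e ∈ Pt) (hp : p ∈ Pt) (hne : e ≠ p) : e ⊓ p = ⊥ := by
  by_contra hcon
  obtain ⟨z, hz, hz0⟩ := (AddSubgroup.bot_or_exists_ne_zero (e ⊓ p)).resolve_left hcon
  refine hne (F.twins h1 he hp fun s hs => ?_)
  obtain ⟨v, hv, hv1⟩ := F.exists_ne_one hs
  constructor
  · intro h
    exact ⟨v, hv, z, hz.2, fun h2 => hz0 (F.inj_of_ne h1 hs he h hv hv1 z hz.1 h2)⟩
  · intro h
    exact ⟨v, hv, z, hz.1, fun h2 => hz0 (F.inj_of_ne h1 hs hp h hv hv1 z hz.2 h2)⟩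

/-- **(5)(d)**, first half: fix `s # e`; every `r # e` is conjugate to some `t ~ e` under `VV x` for a point `x # e`
of the line `Ln e s`. -/
theorem exists_conj (he : e ∈ Pt) (hs : s ∈ Pt) (hr : r ∈ Pt) (hse : Mv VV s e) (hre : Mv VV r e) :
    ∃ x ∈ Ln VV e s, Mv VV x e ∧ ∃ w ∈ VV x, ¬ Mv VV (w • r) e := by
  have hes := F.symm hs he hse
  obtain ⟨x0, hx0, hrx0⟩ := F.exists_ln h1 hr he hs hes
  obtain ⟨v, hv, hv1⟩ := F.exists_ne_one he
  have hxl : v • s ∈ Ln VV e s := Or.inr ⟨v, hv, rfl⟩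
  have hsl : s ∈ Ln VV e s := Or.inr ⟨1, one_mem _, (one_smul _ _).symm⟩
  have hne := F.smul_ne h1 he hs hes hv hv1
  have hxe : Mv VV (v • s) e := by
    have h4 := (F.mv_smul (r := e) (F.le e he hv) hs).2 hse
    rwa [F.smul_pt he hv] at h4
  obtain ⟨x, hx, hxx0, hxe'⟩ : ∃ x ∈ Ln VV e s, x ≠ x0 ∧ Mv VV x e := by
    by_cases h : s = x0
    · exact ⟨v • s, hxl, by rw [← h]; exact hne, hxe⟩
    · exact ⟨s, hsl, h, hse⟩
  have hxP := F.ln_mem he hs hx
  have hrx : Mv VV r x := by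
    by_contra hno
    exact (F.all_of_two h1 he hs hes hx hx0 hxx0 hno hrx0).1 hre
  obtain ⟨t, ht, het⟩ := F.exists_ln h1 he hxP hr (F.symm hr hxP hrx)
  rcases ht with rfl | ⟨w, hw, rfl⟩
  · exact absurd (F.symm hxP he hxe') het
  · exact ⟨x, hx, hxe', w, hw, fun h => het (F.symm (F.inv w (F.le x hxP hw) r hr) he h)⟩

/-- **(5)(d)** : the axis of `e` is generated by the points `t ~ e`. -/
theorem ax_eq (he : e ∈ Pt) : Ax VV e = sSup {t | t ∈ Pt ∧ ¬ Mv VV t e} := by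
  have hle : sSup {t | t ∈ Pt ∧ ¬ Mv VV t e} ≤ Ax VV e := by
    refine sSup_le ?_
    rintro t ⟨ht, hte⟩ z hz g hg
    exact not_mv (fun h => hte (F.symm he ht h)) hg hz
  refine le_antisymm ?_ hle
  obtain ⟨s, hs, hse⟩ := F.exists_mv' he
  have hes := F.symm hs he hse
  set T := sSup {t | t ∈ Pt ∧ ¬ Mv VV t e} with hT
  have heT : e ≤ T := le_sSup (show e ∈ {t | t ∈ Pt ∧ ¬ Mv VV t e} from ⟨he, F.mv_irrefl he⟩)
  have htop : T ⊔ s = ⊤ := by
    rw [eq_top_iff, ← F.span]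
    refine sSup_le fun r hr => ?_
    by_cases hre : Mv VV r e
    · obtain ⟨x, hx, hxe, w, hw, hwr⟩ := F.exists_conj h1 he hs hr hse hre
      have hxP := F.ln_mem he hs hx
      have hxle : x ≤ T ⊔ s := by
        rcases hx with rfl | ⟨v, hv, rfl⟩
        · exact absurd hxe (F.mv_irrefl he)
        · intro z hz
          obtain ⟨z', hz', rfl⟩ := mem_smul_iff.1 hz
          rw [F.smul_eq v z']
          exact add_mem ((le_sup_right : s ≤ T ⊔ s) hz') ((le_sup_left : T ≤ T ⊔ s) (heT (F.dd_mem he hv z')))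
      intro z hz
      have h2 : w • r ≤ T := le_sSup (show w • r ∈ {t | t ∈ Pt ∧ ¬ Mv VV t e} from
        ⟨F.inv w (F.le x hxP hw) r hr, hwr⟩)
      have h3 : w • z ∈ T ⊔ s := (le_sup_left : T ≤ T ⊔ s) (h2 (mem_smul hz))
      have h4 : dd w z ∈ T ⊔ s := hxle (F.dd_mem hxP hw z)
      have h5 : z = w • z + dd w z := by
        rw [dd_apply, ← add_assoc, F.two, zero_add]
      rw [h5]
      exact add_mem h3 h4
    · exact le_trans (le_sSup (show r ∈ {t | t ∈ Pt ∧ ¬ Mv VV t e} from ⟨hr, hre⟩)) le_sup_left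
  intro u hu
  have hu' : u ∈ T ⊔ s := by rw [htop]; exact AddSubgroup.mem_top u
  obtain ⟨a, ha, b, hb, rfl⟩ := AddSubgroup.mem_sup.1 hu'
  have h2 : b ∈ Ax VV e := by
    have := sub_mem hu (hle ha)
    rwa [add_sub_cancel_left] at this
  obtain ⟨v, hv, hv1⟩ := F.exists_ne_one he
  have h3 := F.inj_of_ne h1 he hs hes hv hv1 b hb (h2 v hv)
  rw [h3, add_zero]
  exact ha

/-- **(5)(e)** : the intersection of the axes of the points `t ~ e` is `e`. -/
theorem inter (he : e ∈ Pt) {u : M} (hu : ∀ t ∈ Pt, ¬ Mv VV t e → ∀ g ∈ VV t, g • u = u) : u ∈ e := by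
  obtain ⟨s, hs, hse⟩ := F.exists_mv' he
  obtain ⟨f, hf, hf1⟩ := F.exists_ne_one hs
  obtain ⟨z, hz, hfz⟩ := F.surj h1 hs he hse hf hf1 (dd f u) (F.dd_mem hs hf u)
  have h2 : u + z = 0 := by
    refine F.eq_zero_of h1 he hs hse (fun r hr hre g hg => ?_) (F.fix_all h1 hs hf hf1 ?_)
    · rw [smul_add, hu r hr hre g hg, not_mv hre hg hz]
    · rw [← F.dd_eq_zero_iff, map_add, hfz, F.two]
  rw [F.eq_of_add h2]
  exact hz

end Frame

end Cfsg.Agent.Omega.NOThreeL.RBig.Pts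

end

section


/-!
# NO-3L, box R (#19087): the abstract dichotomy

`Frame.dichotomy` : either two points `e`, `p` with `V_e` centralising `p` are equal ((4), `|V_p| > |p|`), or there is
one axis and all outputs of (5) hold (`Out`).
-/

set_option autoImplicit false

namespace Cfsg.Agent.Omega.NOThreeL.RBig.Pts

open Subgroup
open scoped Pointwise

variable {Γ M : Type*} [Group Γ] [AddCommGroup M] [DistribMulAction Γ M]
variable {X : Subgroup Γ} {Pt : Set (AddSubgroup M)} {VV : AddSubgroup M → Subgroup Γ} {p r s t e x y : AddSubgroup M}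

namespace Frame

variable (F : Frame X Pt VV) [Finite M]
include F

/-- The outputs of (5). -/
theorem out (h1 : OneAx Pt VV) (he : e ∈ Pt) : Out Pt VV e where
  symm := fun _ hp _ hr h => F.symm hp hr h
  oneAx := h1
  twins := fun _ hp _ hr h => F.twins h1 hp hr h
  disj := fun _ hp _ hr h => F.disjoint h1 hp hr h
  ax := fun m hm => by
    rw [← F.ax_eq h1 he]
    exact hm
  inter := fun _ hm => F.inter h1 he hm

theorem oneAx_of_card (h : ∀ p ∈ Pt, Nat.card ↥(VV p) ≤ Nat.card ↥p) : OneAx Pt VV := by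
  intro p hp r hr hpr v hv hvr
  have h2 := F.card_K hp hr hpr
  have := F.finK (r := r) hp
  have h3 : Nat.card ↥(K VV p r) = 1 := by
    have h4 := h p hp
    rw [h2] at h4
    have h5 : 0 < Nat.card ↥p := Nat.card_pos
    have h6 : 0 < Nat.card ↥(K VV p r) := Nat.card_pos
    nlinarith only [h4, h5, h6]
  have h4 : v ∈ K VV p r := ⟨hv, hvr⟩
  rw [Subgroup.card_eq_one.1 h3] at h4
  exact Subgroup.mem_bot.1 h4

/-- **The abstract dichotomy.** -/
theorem dichotomy : (∀ e ∈ Pt, ∀ p ∈ Pt, ¬ Mv VV e p → e = p) ∨ (OneAx Pt VV ∧ ∀ e ∈ Pt, Out Pt VV e) := by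
  by_cases h : ∀ p ∈ Pt, Nat.card ↥(VV p) ≤ Nat.card ↥p
  · exact Or.inr ⟨F.oneAx_of_card h, fun e he => F.out (F.oneAx_of_card h) he⟩
  · push Not at h
    obtain ⟨p0, hp0, hlt⟩ := h
    exact Or.inl fun e he p hp hep => F.many ⟨p0, hp0, hlt⟩ he hp hep

end Frame

end Cfsg.Agent.Omega.NOThreeL.RBig.Pts

end
end

private theorem dce_cce6d94a21ab : _root_.True := by
  try have : _root_.True := by simp only [_root_.Cfsg.Agent.Omega.NOThreeL.RBig.Pts.Frame.induct]
  exact _root_.True.intro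
end

-- part: Mrg/Omega/NOThreeL/RAOne/Zero_mg
section
prune_inst 0xc0100200112202000000050020003c4292000000006800008000000004c08d00000001208020120000002a0400340068129800400000000000000000011d04a1800240000200a104070009809000000000000000000000000000000000000000000000000
set_option linter.all false
open scoped Cfsg.Agent.FastGrp

-- part: Mrg/Omega/NOThreeL/RAOne/Zero
section
section


/-!
# NO-3L, R ∩ (A), `q = 2`, `k = 1` (#17122, helper858): (0)

`Sit S P H D t p` : `NatS`, and `H` is minimal among the long groups with `[V_P, U_H] ≠ 1`.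
`a = p t p⁻¹`, `nn = ⟨a^H⟩`, `yy = U^t ∩ C(V)`, `ii = U^t ∩ C(nn)`, `kk = C_H(t)`, `ww = ⟨V_{P'}^k⟩`.

* (a) `Sit.H_le`, `Sit.htr`; (c) `Sit.U_le`, `Sit.H_act`, `Sit.cent_U`; (d) `Sit.faith`;
* (e) `Sit.V_le_o2`, `Sit.W_cent`; `Sit.exists_moved`, `Sit.tW`.
-/

set_option autoImplicit false
set_option linter.unusedSectionVars false

namespace Cfsg.Agent.Omega.NOThreeL.RAOne

open Subgroup Cfsg Cfsg.Agent.ZN Cfsg.Agent.Omega.MinPar Cfsg.Agent.Omega.Frame Cfsg.Agent.Omega.FrameNOFF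
open Cfsg.Agent.Omega.Node.NO3L Cfsg.Agent.Omega.NOThreeL.Basic Cfsg.Agent.Omega.NOThreeL.RTransv
open Cfsg.Agent.Omega.NoFF.Basic (V conj_conj mem_conj conj_le_iff conj_le_centralizer comm_symm comm_mono
  Z_le_V V_le conj_V_mul)
open Cfsg.Agent.Omega.NOThreeL.Pair (conj_eq_of_mem conj_le_normalizer zl_abel)
open Cfsg.Agent.MinSimple.VModule (zl_le le_normalizer_zl zc_le_zl zc_le mem_zc
  normalizer_le_normalizer_zc o2_isPGroup le_normalizer_o2 le_o2 o2_le)
open scoped Pointwise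

universe u

variable {G : Type u} [Group G]

/-- `⟨a^H⟩`, `a = p t p⁻¹` -/
def nn (t p : G) (H : Subgroup G) : Subgroup G := ut (p * t * p⁻¹) H

/-- `C_{U^t}(⟨a^H⟩)` -/
def ii (t p : G) (H : Subgroup G) : Subgroup G := ut t H ⊓ centralizer (nn t p H : Set G)

/-- `C_H(t)` -/
def kk (t : G) (H : Subgroup G) : Subgroup G := H ⊓ centralizer ({t} : Set G)

/-- the product of the lines in `H` on `t` -/
def ww (S H : Subgroup G) (t : G) : Subgroup G :=
  _root_.Subgroup.closure {x | ∃ k ∈ kk t H, ∃ P', IsParS S P' ∧ P' ≤ H ∧ x ∈ MulAut.conj k • zl S P'}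

/-- The situation of #17122: `NatS` and `H` is minimal. -/
structure Sit (S P H D : Subgroup G) (t p : G) : Prop extends NatS S P H D t p where
  min : ∀ H' : Subgroup G, IsLong S H' → H' ≤ H → H' ≠ H → zl S P ≤ centralizer (zl S H' : Set G)

theorem normalizer_le_o2 (X : Subgroup G) : normalizer (X : Set G) ≤ normalizer (o2 X : Set G) := by
  intro g hg
  refine mem_normalizer_of_conj ?_
  have h1 := Cfsg.Agent.ZN.ChoiceSit.o2_cj g X
  have h2 : Cfsg.Agent.ZN.ChoiceBase.cj g X = X := conj_eq_of_mem hg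
  rw [h2] at h1
  exact h1.symm

namespace Sit

section nofin

variable {S P H D : Subgroup G} {t p : G} (T : Sit S P H D t p)
include T

theorem tV : t ∈ zl S P := zc_le_zl _ _ T.mem

theorem aV : p * t * p⁻¹ ∈ zl S P := (mem_normalizer_iff.1 (le_normalizer_zl _ _ T.pmem) t).1 T.tV

theorem conj_t {c : G} (hc : c ∈ CZ S) : c * t * c⁻¹ = t := by
  rw [← mem_centralizer_iff.1 hc t T.mem, mul_inv_cancel_right]

end nofin

variable [Finite G] {S : Sylow 2 G} {P H D : Subgroup G} {t p : G}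
variable (hc : IsCharacteristicTwoType G) (Da : Data (S : Subgroup G)) (T : Sit (S : Subgroup G) P H D t p)

include hc T

theorem aH : p * t * p⁻¹ ∈ H := T.SH (T.VS hc T.aV)

theorem nnH : nn t p H ≤ H := ut_le fun _ hx => mul_mem (mul_mem hx (T.aH hc)) (inv_mem hx)

theorem tt : t * t = 1 := T.sq hc t T.t_mem

omit hc in
theorem a_mem_nn : p * t * p⁻¹ ∈ nn t p H := mem_ut _ _

theorem exists_u : ∃ u ∈ ut t H, u ∈ zl (S : Subgroup G) H ∧ u ∉ centralizer (zl (S : Subgroup G) P : Set G) := by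
  obtain ⟨u, hu, huV⟩ := SetLike.not_le_iff_exists.1 (T.not_le hc)
  exact ⟨u, hu, T.ut_le_U hu, huV⟩

omit hc in
/-- `a` is moved by `u` -/
theorem a_moved {u : G} (hu : u ∈ zl (S : Subgroup G) H) (huV : u ∉ centralizer (zl (S : Subgroup G) P : Set G)) :
    u * (p * t * p⁻¹) ≠ p * t * p⁻¹ * u := by
  intro h
  have h1 := T.ua u hu huV
  rw [h, mul_inv_cancel_right] at h1
  exact T.t1 (mul_eq_left.1 h1.symm)

include Da in
/-- **(0)(a)** : `H = ⟨a^H⟩ C`. -/
theorem H_le : H ≤ nn t p H ⊔ CZ (S : Subgroup G) := by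
  by_contra hcon
  set H₁ := nn t p H ⊔ CZ (S : Subgroup G) with hH₁
  have hle : H₁ ≤ H := sup_le (T.nnH hc) T.long.cz
  have hC : CZ (S : Subgroup G) ≤ H₁ := le_sup_right
  have hS : (S : Subgroup G) ≤ H₁ := (le_CZ S).trans hC
  have hL : IsLong (S : Subgroup G) H₁ := ⟨T.long.loc.of_le S hS hle, hC⟩
  have h1 := T.min H₁ hL hle fun h => hcon h.ge
  have h2 : zl (S : Subgroup G) P ≤ o2 H₁ := le_o2_of_comm (Da.low P T.par) hL h1
  have h3 : p * t * p⁻¹ ∈ o2 (nn t p H) := by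
    refine (le_o2 (inf_le_right : o2 H₁ ⊓ nn t p H ≤ _) ((o2_isPGroup H₁).to_le inf_le_left) ?_)
      ⟨h2 T.aV, T.a_mem_nn⟩
    intro g hg
    exact mem_normalizer_inf (le_normalizer_o2 _ ((le_sup_left : nn t p H ≤ H₁) hg)) (le_normalizer hg)
  have h4 : H ≤ normalizer (o2 (nn t p H) : Set G) :=
    (le_normalizer_ut (p * t * p⁻¹) H).trans (normalizer_le_o2 _)
  have h5 : p * t * p⁻¹ ∈ o2 H := le_o2 ((o2_le _).trans (T.nnH hc)) (o2_isPGroup _) h4 h3
  obtain ⟨u, -, hu, huV⟩ := T.exists_u hc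
  refine T.a_moved hu huV ?_
  exact ((mem_zc.1 (T.long.loc.zl_le S hc hu)).2.1 _ h5).symm

include Da in
theorem exists_nc {h : G} (hh : h ∈ H) : ∃ n ∈ nn t p H, ∃ c ∈ CZ (S : Subgroup G), h = n * c := by
  have h1 := T.H_le hc Da hh
  have h2 : CZ (S : Subgroup G) ≤ normalizer (nn t p H : Set G) :=
    T.long.cz.trans (le_normalizer_ut (p * t * p⁻¹) H)
  have h3 : h ∈ ((nn t p H : Set G) * (CZ (S : Subgroup G) : Set G)) := by
    rw [← coe_mul_of_right_le_normalizer_left _ _ h2]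
    exact h1
  obtain ⟨n, hn, c, hc', rfl⟩ := Set.mem_mul.1 h3
  exact ⟨n, hn, c, hc', rfl⟩

theorem nn_act : nn t p H ≤ act (zl (S : Subgroup G) H) (ut t H) := by
  refine ut_le fun h hh => ?_
  exact (mem_normalizer_iff.1 (conj_act (le_normalizer_zl _ _ hh) (le_normalizer_ut t H hh)) _).1
    (T.le_act (T.VS hc) (mem_ut t H) T.aV)

include Da in
/-- **(0)(c)**: `U = U^t Z`. -/
theorem U_le : zl (S : Subgroup G) H ≤ ut t H ⊔ zc (S : Subgroup G) := by
  change V (zc (S : Subgroup G)) H ≤ _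
  refine V_le fun h hh z hz => ?_
  rw [mem_conj] at hz
  obtain ⟨n, hn, c, hc', rfl⟩ := T.exists_nc hc Da hh
  set z₀ := (n * c)⁻¹ * z * (n * c) with hz₀
  have h1 : c * z₀ * c⁻¹ = z₀ := by
    rw [← mem_centralizer_iff.1 hc' z₀ hz, mul_inv_cancel_right]
  have h2 := (T.nn_act hc hn).2 z₀ (zc_le_zl _ _ hz)
  have h3 : z = n * z₀ * n⁻¹ := by
    calc z = n * (c * z₀ * c⁻¹) * n⁻¹ := by rw [hz₀]; group
      _ = n * z₀ * n⁻¹ := by rw [h1]
  have h4 : z = (n * z₀ * n⁻¹ * z₀⁻¹) * z₀ := by rw [h3]; group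
  rw [h4]
  exact mul_mem ((le_sup_left : ut t H ≤ _) h2) ((le_sup_right : zc (S : Subgroup G) ≤ _) hz)

include Da in
/-- elements of `U` -/
theorem exists_uz {x : G} (hx : x ∈ zl (S : Subgroup G) H) :
    ∃ y ∈ ut t H, ∃ z ∈ zc (S : Subgroup G), x = y * z := by
  have h1 := T.U_le hc Da hx
  have h2 : zc (S : Subgroup G) ≤ normalizer (ut t H : Set G) :=
    ((zc_le _).trans T.SH).trans (le_normalizer_ut t H)
  have h3 : x ∈ ((ut t H : Set G) * (zc (S : Subgroup G) : Set G)) := by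
    rw [← coe_mul_of_right_le_normalizer_left _ _ h2]
    exact h1
  obtain ⟨n, hn, c, hc', rfl⟩ := Set.mem_mul.1 h3
  exact ⟨n, hn, c, hc', rfl⟩

include Da in
/-- `H` acts trivially on `U / U^t`. -/
theorem H_act : H ≤ act (zl (S : Subgroup G) H) (ut t H) := by
  intro h hh
  refine ⟨le_normalizer_zl _ _ hh, fun x hx => ?_⟩
  obtain ⟨y, hy, z, hz, rfl⟩ := T.exists_uz hc Da hx
  have h1 : h * z * h⁻¹ * z⁻¹ ∈ ut t H := by
    obtain ⟨n, hn, c, hc', rfl⟩ := T.exists_nc hc Da hh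
    have h1 : c * z * c⁻¹ = z := by
      rw [← mem_centralizer_iff.1 hc' z hz, mul_inv_cancel_right]
    have h2 := (T.nn_act hc hn).2 z (zc_le_zl _ _ hz)
    have e : n * c * z * (n * c)⁻¹ * z⁻¹ = n * (c * z * c⁻¹) * n⁻¹ * z⁻¹ := by group
    rw [e, h1]
    exact h2
  have h2 : h * y * h⁻¹ ∈ ut t H := (mem_normalizer_iff.1 (le_normalizer_ut t H hh) y).1 hy
  have e : h * (y * z) * h⁻¹ * (y * z)⁻¹ = (h * y * h⁻¹) * (h * z * h⁻¹ * z⁻¹) * y⁻¹ := by group
  rw [e]
  exact mul_mem (mul_mem h2 h1) (inv_mem hy)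

include Da in
/-- **(0)(c)**: `C_H(U^t) = C_H(U)`. -/
theorem cent_U {x : G} (hx : x ∈ H) (hxU : x ∈ centralizer (ut t H : Set G)) :
    x ∈ centralizer (zl (S : Subgroup G) H : Set G) :=
  _root_.Cfsg.Agent.Omega.NOThreeL.RTransv.le_centralizer S T.SH T.ut_le_U (le_normalizer_ut t H) (T.sq hc) (T.H_act hc Da hx) hxU

/-- **(0)(d)** -/
theorem faith {J : Subgroup G} (hJ : J ≤ ut t H) (hHJ : H ≤ normalizer (J : Set G)) {x : G}
    (hx : x ∈ act (ut t H) J) (hxJ : x ∈ centralizer (J : Set G)) :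
    x ∈ centralizer (ut t H : Set G) := by
  have key : ∀ h ∈ H, h * x * h⁻¹ * t = t * (h * x * h⁻¹) := by
    intro h hh
    obtain ⟨s, hs, d, hd, e⟩ := RTransv.exists_mul S (g := h * x * h⁻¹) hJ
      (fun u hu => T.sq hc u (T.ut_le_U hu)) (T.SH.trans (le_normalizer_ut t H)) (T.SH.trans hHJ)
      ((le_sup_left : act _ J ⊓ _ ≤ _)
        ⟨(mem_normalizer_iff.1 (conj_act (le_normalizer_ut t H hh) (hHJ hh)) x).1 hx,
          (mem_normalizer_iff.1 (conj_cent (hHJ hh)) x).1 hxJ⟩)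
    rw [e]
    have h1 := (mem_zc.1 T.mem).2.1 s hs
    have h2 := mem_centralizer_iff.1 hd t (mem_ut t H)
    calc s * d * t = s * (d * t) := by group
      _ = (s * t) * d := by rw [← h2]; group
      _ = t * (s * d) := by rw [h1]; group
  have h1 : ut t H ≤ centralizer ({x} : Set G) := by
    refine ut_le fun h hh => ?_
    rw [mem_centralizer_singleton_iff]
    have h2 := key h⁻¹ (inv_mem hh)
    rw [inv_inv] at h2
    calc h * t * h⁻¹ * x = h * (t * (h⁻¹ * x * h)) * h⁻¹ := by group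
      _ = h * (h⁻¹ * x * h * t) * h⁻¹ := by rw [h2]
      _ = x * (h * t * h⁻¹) := by group
  rw [mem_centralizer_iff]
  intro y hy
  exact mem_centralizer_singleton_iff.1 (h1 hy)

/-! ### (e) -/

omit hc in
theorem CZ_kk : CZ (S : Subgroup G) ≤ kk t H := by
  refine le_inf T.long.cz fun c hc' => ?_
  rw [mem_centralizer_singleton_iff]
  exact (mem_centralizer_iff.1 hc' t T.mem).symm

omit hc in
theorem S_kk : (S : Subgroup G) ≤ kk t H := (le_CZ S).trans T.CZ_kk

omit hc in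
theorem kk_long : IsLong (S : Subgroup G) (kk t H) := ⟨T.long.loc.of_le S T.S_kk inf_le_left, T.CZ_kk⟩

theorem not_fix : ¬ H ≤ centralizer ({t} : Set G) := by
  intro h
  refine T.not_le hc (ut_le fun x hx => ?_)
  have h1 : x * t * x⁻¹ = t := by
    rw [mem_centralizer_singleton_iff.1 (h hx), mul_inv_cancel_right]
  rw [h1, mem_centralizer_iff]
  intro v hv
  exact (mem_zc.1 T.mem).2.1 v (T.VS hc hv)

theorem kk_ne : kk t H ≠ H := fun h => T.not_fix hc (by
  rw [← h]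
  exact inf_le_right)

include Da in
/-- **(0)(e)** -/
theorem V_le_o2 : zl (S : Subgroup G) P ≤ o2 (kk t H) :=
  le_o2_of_comm (Da.low P T.par) T.kk_long (T.min _ T.kk_long inf_le_left (T.kk_ne hc))

omit hc [Finite G] T in
theorem norm_W : kk t H ≤ normalizer (ww (S : Subgroup G) H t : Set G) := by
  refine le_normalizer_closure ?_
  rintro g hg x ⟨k, hk, P', hP', hP'H, hx⟩
  refine ⟨g * k, mul_mem hg hk, P', hP', hP'H, ?_⟩
  rw [mem_conj] at hx ⊢
  have e : (g * k)⁻¹ * (g * x * g⁻¹) * (g * k) = k⁻¹ * x * k := by group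
  rwa [e]

omit hc [Finite G] T in
theorem line_le_W {k : G} (hk : k ∈ kk t H) {P' : Subgroup G} (hP' : IsParS (S : Subgroup G) P') (hP'H : P' ≤ H) :
    MulAut.conj k • zl (S : Subgroup G) P' ≤ ww (S : Subgroup G) H t := fun _ hx =>
  subset_closure ⟨k, hk, P', hP', hP'H, hx⟩

omit hc [Finite G] T in
theorem W_le {A : Subgroup G} (h : ∀ k ∈ kk t H, ∀ P', IsParS (S : Subgroup G) P' → P' ≤ H →
    MulAut.conj k • zl (S : Subgroup G) P' ≤ A) : ww (S : Subgroup G) H t ≤ A := by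
  rw [ww, closure_le]
  rintro x ⟨k, hk, P', hP', hP'H, hx⟩
  exact h k hk P' hP' hP'H hx

theorem exists_par : ∃ P', IsParS (S : Subgroup G) P' ∧ P' ≤ H := by
  by_contra hcon
  push Not at hcon
  refine T.not_fix hc (T.gen _ (fun c hc' => ?_) fun P' h1 h2 => absurd h2 (hcon P' h1))
  rw [mem_centralizer_singleton_iff]
  exact (mem_centralizer_iff.1 hc' t T.mem).symm

theorem tW : t ∈ ww (S : Subgroup G) H t := by
  obtain ⟨P', h1, h2⟩ := T.exists_par hc
  have h3 := line_le_W (S := S) (one_mem (kk t H)) h1 h2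
  rw [map_one, one_smul] at h3
  exact h3 (zc_le_zl _ _ T.mem)

/-- **(6)**: `PP ∩ W ≠ {t}`. -/
theorem exists_moved : ∃ x ∈ H, x * t * x⁻¹ ∈ ww (S : Subgroup G) H t ∧ x * t * x⁻¹ ≠ t := by
  by_contra hcon
  push Not at hcon
  refine T.not_fix hc (T.gen _ (fun c hc' => ?_) fun P' h1 h2 => ?_)
  · rw [mem_centralizer_singleton_iff]
    exact (mem_centralizer_iff.1 hc' t T.mem).symm
  · intro x hx
    have h3 := line_le_W (S := S) (one_mem (kk t H)) h1 h2
    rw [map_one, one_smul] at h3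
    have h4 := hcon x (h2 hx) (h3 ((mem_normalizer_iff.1 (le_normalizer_zl _ _ hx) t).1 (zc_le_zl _ _ T.mem)))
    rw [mem_centralizer_singleton_iff]
    exact mul_inv_eq_iff_eq_mul.1 h4

end Sit

end Cfsg.Agent.Omega.NOThreeL.RAOne

end

section


/-!
# NO-3L, R ∩ (A), `q = 2`, `k = 1` (#17122, helper858): (4), three groups

* `sharp` : `[u, y^g] ∈ y T` for the three groups `A`, `B = A^g`, `B^u`, `g = u v`, `u ∈ A`, `v ∈ B`;
* `Sit.*` : the three groups `U^t`, `(U^t)^p`, `(U^t)^{up}`, `T = U^t ∩ (U^t)^p`: `Sit.ga`, `Sit.conj_g`, `Sit.TY`,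
  `Sit.tT`, `Sit.sharp`, `Sit.XD`, `Sit.not_XH`, `Sit.S_T` (`S` normalises `T`), `Sit.P_cent`.
-/

set_option autoImplicit false
set_option linter.unusedSectionVars false

namespace Cfsg.Agent.Omega.NOThreeL.RAOne

open Subgroup Cfsg Cfsg.Agent.ZN Cfsg.Agent.Omega.MinPar Cfsg.Agent.Omega.Frame Cfsg.Agent.Omega.FrameNOFF
open Cfsg.Agent.Omega.Node.NO3L Cfsg.Agent.Omega.NOThreeL.Basic Cfsg.Agent.Omega.NOThreeL.RTransv
open Cfsg.Agent.Omega.NoFF.Basic (V conj_conj mem_conj conj_le_iff conj_le_centralizer comm_symm comm_mono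
  Z_le_V V_le conj_V_mul)
open Cfsg.Agent.Omega.NOThreeL.Pair (conj_eq_of_mem conj_le_normalizer zl_abel)
open Cfsg.Agent.MinSimple.VModule (zl_le le_normalizer_zl zc_le_zl zc_le mem_zc
  normalizer_le_normalizer_zc o2_isPGroup le_normalizer_o2 le_o2 o2_le)
open scoped Pointwise

universe u

variable {G : Type u} [Group G]

/-- Three groups `A`, `B`, `B^u = A^v`. -/
structure ThreeG (A B D : Subgroup G) (u v : G) : Prop where
  abA : ∀ x ∈ A, ∀ y ∈ A, x * y = y * x
  abB : ∀ x ∈ B, ∀ y ∈ B, x * y = y * x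
  uA : u ∈ A
  vB : v ∈ B
  uu : u * u = 1
  vv : v * v = 1
  swap : MulAut.conj v • A = MulAut.conj u • B
  DA : D ≤ normalizer (A : Set G)
  DB : D ≤ normalizer (B : Set G)
  uD : u ∈ normalizer (D : Set G)
  vD : v ∈ normalizer (D : Set G)

namespace ThreeG

variable {A B D : Subgroup G} {u v : G} (T : ThreeG A B D u v)
include T

theorem conj_g : MulAut.conj (u * v) • A = B := by
  rw [← conj_conj, T.swap, conj_conj, T.uu, map_one, one_smul]

theorem comm_mem_T {a b : G} (ha : a ∈ A ⊓ D) (hb : b ∈ B ⊓ D) : a * b * a⁻¹ * b⁻¹ ∈ A ⊓ B := by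
  have ha2 : a ∈ normalizer (B : Set G) := T.DB ha.2
  have hb2 : b ∈ normalizer (A : Set G) := T.DA hb.2
  refine mem_inf.mpr ⟨?_, ?_⟩
  · have h5 : a * b * a⁻¹ * b⁻¹ = a * (b * a⁻¹ * b⁻¹) := by group
    rw [h5]
    exact mul_mem ha.1 ((mem_normalizer_iff.mp hb2 _).mp (inv_mem ha.1))
  · exact B.mul_mem ((mem_normalizer_iff.mp ha2 _).mp hb.1) (B.inv_mem hb.1)

theorem conj_gD : u * v ∈ normalizer (D : Set G) := mul_mem T.uD T.vD

theorem mem_BD {y : G} (hy : y ∈ A ⊓ D) : (u * v) * y * (u * v)⁻¹ ∈ B ⊓ D := by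
  refine mem_inf.2 ⟨?_, (mem_normalizer_iff.1 T.conj_gD y).1 (mem_inf.1 hy).2⟩
  rw [← T.conj_g, mem_conj]
  have e : (u * v)⁻¹ * (u * v * y * (u * v)⁻¹) * (u * v) = y := by group
  rw [e]
  exact (mem_inf.1 hy).1

/-- **`[u, y^g] ∈ y T`**. -/
theorem third {y : G} (hy : y ∈ A ⊓ D) :
    u * ((u * v) * y * (u * v)⁻¹) * u⁻¹ * ((u * v) * y * (u * v)⁻¹)⁻¹ * y ∈ A ⊓ B := by
  have hyA := (mem_inf.1 hy).1
  have hyD := (mem_inf.1 hy).2
  set y0 : G := v * y * v⁻¹ * y⁻¹ with hy0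
  have h0 : y0 ∈ B ⊓ D := by
    refine mem_inf.2 ⟨?_, ?_⟩
    · have e : y0 = v * (y * v⁻¹ * y⁻¹) := by rw [hy0]; group
      rw [e]
      exact mul_mem T.vB ((mem_normalizer_iff.1 (T.DB hyD) _).1 (inv_mem T.vB))
    · exact mul_mem ((mem_normalizer_iff.1 T.vD y).1 hyD) (inv_mem hyD)
  set κ : G := u * y0 * u⁻¹ * y0⁻¹ with hκ
  have hk : κ ∈ A ⊓ D := by
    refine mem_inf.2 ⟨?_, ?_⟩
    · have e : κ = u * (y0 * u⁻¹ * y0⁻¹) := by rw [hκ]; group
      rw [e]
      exact mul_mem T.uA ((mem_normalizer_iff.1 (T.DA (mem_inf.1 h0).2) _).1 (inv_mem T.uA))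
    · exact mul_mem ((mem_normalizer_iff.1 T.uD y0).1 (mem_inf.1 h0).2) (inv_mem (mem_inf.1 h0).2)
  have hv : (u * v) * y * (u * v)⁻¹ = κ * y0 * y := by
    have h1 : (u * v) * y * (u * v)⁻¹ = u * (y0 * y) * u⁻¹ := by rw [hy0]; group
    have h2 : u * (y0 * y) * u⁻¹ = (u * y0 * u⁻¹) * (u * y * u⁻¹) := by group
    have h3 : u * y * u⁻¹ = y := by rw [T.abA u T.uA y hyA, mul_inv_cancel_right]
    rw [h1, h2, h3, hκ]
    group
  have hvY := T.mem_BD hy
  rw [hv] at hvY ⊢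
  -- `[u, v] = κ`
  have hcu : u * (κ * y0 * y) * u⁻¹ * (κ * y0 * y)⁻¹ = κ := by
    have h1 : u * κ = κ * u := T.abA u T.uA κ (mem_inf.mp hk).1
    have h3 : y * u⁻¹ = u⁻¹ * y := by
      have h4 := T.abA u T.uA y hyA
      calc y * u⁻¹ = u⁻¹ * (u * y) * u⁻¹ := by group
        _ = u⁻¹ * (y * u) * u⁻¹ := by rw [h4]
        _ = u⁻¹ * y := by group
    calc u * (κ * y0 * y) * u⁻¹ * (κ * y0 * y)⁻¹
        = (u * κ) * y0 * (y * u⁻¹) * (κ * y0 * y)⁻¹ := by group
      _ = (κ * u) * y0 * (u⁻¹ * y) * (κ * y0 * y)⁻¹ := by rw [h1, h3]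
      _ = κ * (u * y0 * u⁻¹ * y0⁻¹) * y0 * y * (κ * y0 * y)⁻¹ := by group
      _ = κ * κ * y0 * y * (κ * y0 * y)⁻¹ := by rw [← hκ]
      _ = κ := by group
  rw [hcu]
  -- `κ (y0 y y0⁻¹) ∈ A ∩ B`
  have h1 : κ * (y0 * y * y0⁻¹) ∈ A ⊓ B := by
    refine mem_inf.mpr ⟨?_, ?_⟩
    · exact mul_mem (mem_inf.mp hk).1 ((mem_normalizer_iff.1 (T.DA (mem_inf.1 h0).2) y).1 hyA)
    · have e1 : κ * (y0 * y * y0⁻¹) = (κ * y0 * y) * y0⁻¹ := by group
      rw [e1]
      exact mul_mem (mem_inf.mp hvY).1 (inv_mem (mem_inf.mp h0).1)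
  have h2 : y⁻¹ * y0 * y⁻¹⁻¹ * y0⁻¹ ∈ A ⊓ B := T.comm_mem_T (inv_mem hy) h0
  have e2 : κ * y = (κ * (y0 * y * y0⁻¹)) * (y⁻¹ * y0 * y⁻¹⁻¹ * y0⁻¹)⁻¹ := by group
  rw [e2]
  exact mul_mem h1 (inv_mem h2)

theorem sharp {y : G} (hy : y ∈ A ⊓ D) : ∃ s ∈ A ⊓ B,
    ((u * v) * y * (u * v)⁻¹)⁻¹ * u * ((u * v) * y * (u * v)⁻¹) = u * y * s := by
  have h1 := T.third hy
  have h2 := T.mem_BD hy
  set w := (u * v) * y * (u * v)⁻¹ with hw
  set c := u * w * u⁻¹ * w⁻¹ with hc
  have hyA := (mem_inf.1 hy).1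
  -- `c ∈ A ∩ D`
  have hcA : c ∈ A ⊓ D := by
    refine mem_inf.2 ⟨?_, ?_⟩
    · have e : c = u * (w * u⁻¹ * w⁻¹) := by rw [hc]; group
      rw [e]
      exact mul_mem T.uA ((mem_normalizer_iff.1 (T.DA (mem_inf.1 h2).2) _).1 (inv_mem T.uA))
    · exact mul_mem ((mem_normalizer_iff.1 T.uD w).1 (mem_inf.1 h2).2) (inv_mem (mem_inf.1 h2).2)
  have h3 := T.comm_mem_T hcA (inv_mem h2)
  -- `c w⁻¹ c⁻¹ w ∈ T`
  set τ := c * w⁻¹ * c⁻¹ * w⁻¹⁻¹ with hτ
  have huu : u⁻¹ = u := inv_eq_of_mul_eq_one_left T.uu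
  have e1 : w⁻¹ * u * w = u * (w⁻¹ * c⁻¹ * w) := by
    have e0 : u * (w⁻¹ * c⁻¹ * w) = u * u * w⁻¹ * u⁻¹ * w := by rw [hc]; group
    rw [e0, T.uu, one_mul, huu]
  have e2 : w⁻¹ * c⁻¹ * w = c⁻¹ * τ := by rw [hτ]; group
  have hτA := (mem_inf.1 h3).1
  -- `c⁻¹ τ = y s`
  refine ⟨(c * y)⁻¹ * τ, mul_mem (inv_mem h1) h3, ?_⟩
  rw [e1, e2]
  have e3 : c⁻¹ = y * (c * y)⁻¹ := by group
  rw [e3]
  group

end ThreeG

namespace Sit

variable [Finite G] {S : Sylow 2 G} {P H D : Subgroup G} {t p : G}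
variable (hc : IsCharacteristicTwoType G) (Da : Data (S : Subgroup G)) (T : Sit (S : Subgroup G) P H D t p)

include hc T

theorem threeG {u : G} (hu : u ∈ ut t H) (huV : u ∉ centralizer (zl (S : Subgroup G) P : Set G)) :
    ThreeG (ut t H) (MulAut.conj p • ut t H) (centralizer (zl (S : Subgroup G) P : Set G)) u (p * u * p⁻¹) := by
  have huU := T.ut_le_U hu
  have hcV : p ∈ normalizer (centralizer (zl (S : Subgroup G) P : Set G) : Set G) := conj_cent T.pV
  have huu : u * u = 1 := T.sq hc u huU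
  refine ⟨fun x hx y hy => ?_, fun x hx y hy => T.comm_of_conj hc (T.conj_ut_le hx) (T.conj_ut_le hy), hu, ?_,
    huu, ?_, ?_, T.cent_le.trans (le_normalizer_ut t H), ?_, conj_cent (T.uV hc huU), ?_⟩
  · exact mem_centralizer_iff.1 (T.ab hc (T.ut_le_U hy)) x (T.ut_le_U hx)
  · rw [mem_conj]
    have e : p⁻¹ * (p * u * p⁻¹) * p = u := by group
    rwa [e]
  · have e : p * u * p⁻¹ * (p * u * p⁻¹) = p * (u * u) * p⁻¹ := by group
    rw [e, huu, mul_one, mul_inv_cancel]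
  · have h0 := T.pt u huU huV
    have h1 := conj_eq_of_mem (le_normalizer_ut t H h0)
    rw [conj_conj]
    calc MulAut.conj (p * u * p⁻¹) • ut t H
        = MulAut.conj (p * u * p⁻¹) • (MulAut.conj (p * u⁻¹ * p⁻¹ * u * p) • ut t H) := by rw [h1]
      _ = MulAut.conj (u * p) • ut t H := by
        rw [conj_conj]
        congr 2
        group
  · have h1 := conj_le_normalizer (g := p) (T.cent_le.trans (le_normalizer_ut t H))
    rwa [conj_eq_of_mem hcV] at h1
  · exact mul_mem (mul_mem hcV (conj_cent (T.uV hc huU))) (inv_mem hcV)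

/-- `e^g = a`. -/
theorem ga {u : G} (hu : u ∈ ut t H) (huV : u ∉ centralizer (zl (S : Subgroup G) P : Set G)) :
    (u * (p * u * p⁻¹)) * t * (u * (p * u * p⁻¹))⁻¹ = p * t * p⁻¹ := by
  have huU := T.ut_le_U hu
  have h1 := T.ut' u huU huV
  have h2 := T.ua u huU huV
  have h3 : u * t * u⁻¹ = t := by
    rw [(mem_zc.1 T.mem).2.1 u (T.US hc huU), mul_inv_cancel_right]
  calc (u * (p * u * p⁻¹)) * t * (u * (p * u * p⁻¹))⁻¹
      = u * ((p * u * p⁻¹) * t * (p * u * p⁻¹)⁻¹) * u⁻¹ := by group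
    _ = (u * (p * t * p⁻¹) * u⁻¹) * (u * t * u⁻¹) := by rw [h1]; group
    _ = p * t * p⁻¹ * (t * t) := by rw [h2, h3]; group
    _ = p * t * p⁻¹ := by rw [T.tt hc, mul_one]

/-- `a` commutes with `T` -/
theorem a_B : p * t * p⁻¹ ∈ MulAut.conj p • ut t H := by
  rw [mem_conj]
  have e : p⁻¹ * (p * t * p⁻¹) * p = t := by group
  rw [e]
  exact mem_ut t H

theorem TY : Tt t p H ≤ centralizer (zl (S : Subgroup G) P : Set G) := by
  intro x hx
  have hxU : x ∈ zl (S : Subgroup G) H := T.ut_le_U hx.1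
  have h1 := T.comm_of_conj hc (T.conj_ut_le hx.2) (T.conj_ut_le (T.a_B hc))
  rw [mem_centralizer_iff]
  intro v hv
  rcases T.Va v hv with h2 | h2
  · exact (mem_centralizer_iff.1 h2 x hxU).symm
  · have h3 := mem_centralizer_iff.1 h2 x hxU
    calc v * x = (v * (p * t * p⁻¹)⁻¹) * ((p * t * p⁻¹) * x) := by group
      _ = (x * (v * (p * t * p⁻¹)⁻¹)) * (p * t * p⁻¹) := by rw [← h1, h3]; group
      _ = x * v := by group

theorem XT : ut t H ⊔ MulAut.conj p • ut t H ≤ centralizer (Tt t p H : Set G) := by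
  obtain ⟨u, hu, -, huV⟩ := T.exists_u hc
  have h := T.threeG hc hu huV
  refine sup_le (fun x hx => mem_centralizer_iff.2 fun y hy => ?_)
    (fun x hx => mem_centralizer_iff.2 fun y hy => ?_)
  · exact h.abA y hy.1 x hx
  · exact h.abB y hy.2 x hx

/-- `S` normalises `T`. -/
theorem S_T : (S : Subgroup G) ≤ normalizer (Tt t p H : Set G) := by
  obtain ⟨u, hu, huU, huV⟩ := T.exists_u hc
  intro s hs
  refine mem_normalizer_of_conj ?_
  have hsA := conj_eq_of_mem (le_normalizer_ut t H (T.SH hs))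
  have h0 : MulAut.conj s • Tt t p H = ut t H ⊓ MulAut.conj (s * p) • ut t H := by
    rw [Tt, smul_inf, hsA, conj_conj]
  rw [h0]
  rcases T.Sp s hs u huU huV with h1 | h1
  · have h2 := conj_eq_of_mem (le_normalizer_ut t H h1)
    have h3 : MulAut.conj (s * p) • ut t H = MulAut.conj p • ut t H := by
      calc MulAut.conj (s * p) • ut t H = MulAut.conj p • (MulAut.conj (p⁻¹ * s * p) • ut t H) := by
            rw [conj_conj]
            congr 2
            group
        _ = MulAut.conj p • ut t H := by rw [h2]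
    rw [h3]
    rfl
  · have h2 := conj_eq_of_mem (le_normalizer_ut t H h1)
    have h3 : MulAut.conj (s * p) • ut t H = MulAut.conj u • (MulAut.conj p • ut t H) := by
      calc MulAut.conj (s * p) • ut t H
          = MulAut.conj (u * p) • (MulAut.conj (p⁻¹ * (u⁻¹ * s) * p) • ut t H) := by
            rw [conj_conj]
            congr 2
            group
        _ = MulAut.conj u • (MulAut.conj p • ut t H) := by rw [h2, conj_conj]
    have h4 := conj_eq_of_mem (le_normalizer (H := ut t H) hu)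
    have h5 : MulAut.conj u • Tt t p H = Tt t p H :=
      conj_eq_of_mem (centralizer_le_normalizer _ (T.XT hc ((le_sup_left : ut t H ≤ _) hu)))
    calc ut t H ⊓ MulAut.conj (s * p) • ut t H
        = MulAut.conj u • Tt t p H := by
          rw [h3, Tt, smul_inf, h4]
      _ = Tt t p H := h5

theorem P_cent {z : G} (hz : z ∈ zc (S : Subgroup G)) (hzT : z ∈ Tt t p H) : P ≤ centralizer ({z} : Set G) := by
  obtain ⟨u, hu, huU, huV⟩ := T.exists_u hc
  have h := T.threeG hc hu huV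
  exact T.cen z hz u huU huV (h.abB _ h.vB z hzT.2)

include Da in
/-- **`T ∩ I = 1`**. -/
theorem TI : Tt t p H ⊓ ii t p H = ⊥ := by
  by_contra hne
  have hIH : H ≤ normalizer (ii t p H : Set G) := fun g hg =>
    mem_normalizer_inf (le_normalizer_ut t H hg) (conj_cent (le_normalizer_ut (p * t * p⁻¹) H hg))
  have hS : (S : Subgroup G) ≤ normalizer ((Tt t p H ⊓ ii t p H : Subgroup G) : Set G) := fun s hs =>
    mem_normalizer_inf (T.S_T hc hs) (hIH (T.SH hs))
  obtain ⟨z, hz, hzZ, hz1⟩ := Cfsg.Agent.MinSimple.CaseD8.exists_mem_zc S.isPGroup'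
    ((inf_le_left.trans (inf_le_left.trans T.ut_le_U)).trans (T.US hc)) hS hne
  have hP := T.P_cent hc hzZ hz.1
  have hHz : H ≤ centralizer ({z} : Set G) := by
    refine (T.H_le hc Da).trans (sup_le ?_ ?_)
    · intro n hn
      rw [mem_centralizer_singleton_iff]
      exact mem_centralizer_iff.1 hz.2.2 n hn
    · intro c hc'
      rw [mem_centralizer_singleton_iff]
      exact (mem_centralizer_iff.1 hc' z hzZ).symm
  obtain ⟨u, hu, huU, huV⟩ := T.exists_u hc
  have hPH : PairA (S : Subgroup G) P H := ⟨T.par, T.long, fun h => T.ne (comm_symm h)⟩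
  have h1 := RTransv.inf_eq_bot hc hPH
  have h2 : z ∈ zc (S : Subgroup G) ⊓ centralizer (P : Set G) ⊓ centralizer (H : Set G) := by
    refine mem_inf.2 ⟨mem_inf.2 ⟨hzZ, mem_centralizer_iff.2 fun x hx => ?_⟩, mem_centralizer_iff.2 fun x hx => ?_⟩
    · exact mem_centralizer_singleton_iff.1 (hP hx)
    · exact mem_centralizer_singleton_iff.1 (hHz hx)
  rw [h1, mem_bot] at h2
  exact hz1 h2

end Sit

end Cfsg.Agent.Omega.NOThreeL.RAOne

end
end

-- part: Mrg/Omega/NOThreeL/RTools/Many/Nat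
section
/-!
# NO-3L, R ∩ (A), `q = 2`, all `k` (#18037, helper850): the natural modules give `HypK`

`CrdK F S P D k e` : coordinates of `V_P / D` (`k` natural modules for `SL₂(2)`).

* `CrdK.exists_exa` : the exact elements `z i`, `n i` of `V_P`;
* `CrdK.exists_hypK` : `HypK`.
-/

set_option autoImplicit false
set_option linter.unusedSectionVars false

namespace Cfsg.Agent.Omega.NOThreeL.RTools.Many

open Subgroup Cfsg Cfsg.Agent.ZN Cfsg.Agent.Omega.MinPar Cfsg.Agent.Omega.Frame Cfsg.Agent.Omega.FrameNOFF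
open Cfsg.Agent.Omega.Node.NO3L Cfsg.Agent.Omega.NOThreeL.Basic Cfsg.Agent.Omega.NOThreeL.RTransv
open Cfsg.Agent.Omega.NoFF.Basic (V conj_conj mem_conj conj_le_iff conj_le_centralizer comm_symm comm_mono
  Z_le_V V_le conj_V_mul)
open Cfsg.Agent.Omega.NOThreeL.Pair (conj_eq_of_mem conj_le_normalizer zl_abel)
open Cfsg.Agent.Omega.NOThreeL.RAOne (ap_up' ap_lo')
open Cfsg.Agent.Omega.FFThm (Off NoOver Concl NatK SymK ActsSL)
open Cfsg.Agent.Omega.NatPair (ap ap_mul ap_one ap_inv_ap)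
open Cfsg.Agent.Lib.SL2Mat (up lo exists_up_lo up_zero up_mul lo_mul lo_zero)
open Cfsg.Agent.MinSimple.VModule (zl_le le_normalizer_zl zc_le_zl zc_le mem_zc
  normalizer_le_normalizer_zc)
open scoped Pointwise

universe u

variable {G : Type u} [Group G] {k : ℕ}

section act

variable {F : Type} [Field F] {e : G → Fin k → Fin 2 → F}

/-- `g` acts as `A ∈ SL₂(F)^k` on the coordinates of `V`. -/
def ActK (e : G → Fin k → Fin 2 → F) (V : Subgroup G) (g : G)
    (A : Fin k → Matrix.SpecialLinearGroup (Fin 2) F) : Prop :=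
  ∀ v ∈ V, ∀ i, e (g * v * g⁻¹) i = ap (A i) (e v i)

theorem ActK.mul {V : Subgroup G} {g h : G} {A B : Fin k → Matrix.SpecialLinearGroup (Fin 2) F}
    (hg : ActK e V g A) (hh : ActK e V h B) (hn : h ∈ normalizer (V : Set G)) : ActK e V (g * h) (A * B) := by
  intro v hv i
  have h1 : g * h * v * (g * h)⁻¹ = g * (h * v * h⁻¹) * g⁻¹ := by group
  rw [h1, hg _ ((mem_normalizer_iff.1 hn v).1 hv), hh v hv, ← ap_mul]
  rfl

theorem ActK.one {V : Subgroup G} : ActK e V 1 (1 : Fin k → Matrix.SpecialLinearGroup (Fin 2) F) := by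
  intro v hv i
  rw [one_mul, inv_one, mul_one]
  exact (ap_one _).symm

theorem ActK.inv {V : Subgroup G} {g : G} {A : Fin k → Matrix.SpecialLinearGroup (Fin 2) F}
    (hg : ActK e V g A) (hn : g ∈ normalizer (V : Set G)) : ActK e V g⁻¹ A⁻¹ := by
  intro v hv i
  have h1 : g⁻¹ * v * g⁻¹⁻¹ ∈ V := (mem_normalizer_iff.1 (inv_mem hn) v).1 hv
  have h2 := hg _ h1 i
  have h3 : g * (g⁻¹ * v * g⁻¹⁻¹) * g⁻¹ = v := by group
  rw [h3] at h2
  rw [h2]
  exact (ap_inv_ap _ _).symm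

/-- the transposition `z ↔ n` of `SL₂(2)` -/
def sw (F : Type) [Field F] : Matrix.SpecialLinearGroup (Fin 2) F := up 1 * lo 1 * up 1

theorem up_sq [CharP F 2] : up (1 : F) * up 1 = 1 := by
  rw [up_mul, CharTwo.add_self_eq_zero, up_zero]

theorem lo_sq [CharP F 2] : lo (1 : F) * lo 1 = 1 := by
  rw [lo_mul, CharTwo.add_self_eq_zero, lo_zero]

theorem sw_sq [CharP F 2] : sw F * sw F = 1 := by
  have e1 : sw F * sw F = up 1 * lo 1 * (up 1 * up 1) * lo 1 * up 1 := by rw [sw]; group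
  rw [e1, up_sq, mul_one, mul_assoc (up (1 : F)), lo_sq, mul_one, up_sq]

theorem lo_eq [CharP F 2] : lo (1 : F) = up 1 * sw F * up 1 := by
  have e1 : up 1 * sw F * up 1 = (up 1 * up 1) * lo 1 * (up 1 * up 1) := by rw [sw]; group
  rw [e1, up_sq, one_mul, mul_one]

theorem ap_sw_z [CharP F 2] : ap (sw F) ![1, 0] = ![0, 1] := by
  rw [sw, ap_mul, ap_mul, ap_up', ap_lo', ap_up']
  funext i
  fin_cases i
  · simp [CharTwo.add_self_eq_zero]
  · simp

theorem ap_zero (A : Matrix.SpecialLinearGroup (Fin 2) F) : ap A 0 = 0 := by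
  rw [NatPair.ap_eq_mulVec, Matrix.mulVec_zero]

end act

/-- Coordinates of `V_P / D` over a field `F` with two elements. -/
structure CrdK (F : Type) [Field F] (S P D : Subgroup G) (k : ℕ) (e : G → Fin k → Fin 2 → F) : Prop where
  two : ∀ x : F, x = 0 ∨ x = 1
  mul : ∀ v ∈ zl S P, ∀ w ∈ zl S P, e (v * w) = e v + e w
  surj : ∀ x : Fin k → Fin 2 → F, ∃ v ∈ zl S P, e v = x
  ker : ∀ v ∈ zl S P, e v = 0 ↔ v ∈ D
  DV : D ≤ zl S P
  PD : P ≤ normalizer (D : Set G)
  lift : ∀ A, ∃ g ∈ P, ActK e (zl S P) g A ∧ g ∈ centralizer (D : Set G)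
  norm : ∀ g ∈ P, ∀ h ∈ P, ∀ A, ActK e (zl S P) h A → ∃ B, ActK e (zl S P) (g * h * g⁻¹) B
  perm : ∀ g ∈ P, ∃ σ : Equiv.Perm (Fin k), ∀ v ∈ zl S P, ∀ i, e (g * v * g⁻¹) (σ i) = 0 ↔ e v i = 0
  trans : ∀ i j, ∃ s ∈ S, ∀ v ∈ zl S P, e (s * v * s⁻¹) j = 0 ↔ e v i = 0
  line : ∀ s ∈ S, ∃ σ : Equiv.Perm (Fin k), ∀ v ∈ zl S P, ∀ i, e (s * v * s⁻¹) (σ i) 1 = 0 ↔ e v i 1 = 0
  gen : ∀ K : Subgroup G, S ≤ K →
    (∀ h ∈ P, h ∈ centralizer (D : Set G) → ∀ A, ActK e (zl S P) h A → h ∈ K) → P ≤ K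
  unip : ∀ i, ∃ t ∈ S, ActK e (zl S P) t (Pi.mulSingle i (up 1)) ∧ t ∈ centralizer (D : Set G)

/-- The elements of `P` inducing elements of `SL₂(2)^k`. -/
structure IsL {F : Type} [Field F] (S P D : Subgroup G) (e : G → Fin k → Fin 2 → F) (g : G)
    (A : Fin k → Matrix.SpecialLinearGroup (Fin 2) F) : Prop where
  mem : g ∈ P
  cen : g ∈ centralizer (D : Set G)
  act : ActK e (zl S P) g A

/-- The exact elements. -/
structure Exa {F : Type} [Field F] (S P D : Subgroup G) (e : G → Fin k → Fin 2 → F)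
    (z n s : Fin k → G) (w : G) : Prop where
  ls : ∀ i, IsL S P D e (s i) (Pi.mulSingle i (up 1))
  lw : IsL S P D e w (fun _ => sw F)
  zV : ∀ i, z i ∈ zl S P
  nV : ∀ i, n i ∈ zl S P
  ez : ∀ i, e (z i) = Pi.single i ![1, 0]
  en : ∀ i, e (n i) = Pi.single i ![0, 1]
  fz : ∀ i g B, IsL S P D e g B → B i = 1 → g * z i = z i * g
  fn : ∀ i g B, IsL S P D e g B → B i = 1 → g * n i = n i * g
  sz : ∀ i, s i * z i = z i * s i
  sn : ∀ i, s i * n i * (s i)⁻¹ = z i * n i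
  wz : ∀ i, w * z i * w⁻¹ = n i
  wn : ∀ i, w * n i * w⁻¹ = z i

namespace IsL

variable {F : Type} [Field F] {S P D : Subgroup G} {e : G → Fin k → Fin 2 → F}
variable {g h : G} {A B : Fin k → Matrix.SpecialLinearGroup (Fin 2) F}

theorem nP (hg : g ∈ P) : g ∈ normalizer (zl S P : Set G) := le_normalizer_zl _ _ hg

theorem mul (hg : IsL S P D e g A) (hh : IsL S P D e h B) : IsL S P D e (g * h) (A * B) :=
  ⟨mul_mem hg.mem hh.mem, mul_mem hg.cen hh.cen, hg.act.mul hh.act (nP hh.mem)⟩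

theorem inv (hg : IsL S P D e g A) : IsL S P D e g⁻¹ A⁻¹ :=
  ⟨inv_mem hg.mem, inv_mem hg.cen, hg.act.inv (nP hg.mem)⟩

theorem one : IsL S P D e (1 : G) 1 := ⟨one_mem _, one_mem _, ActK.one⟩

end IsL

namespace CrdK

variable [Finite G] {S : Sylow 2 G} {P H D : Subgroup G}
variable {F : Type} [Field F] {e : G → Fin k → Fin 2 → F}
variable (C : CrdK F (S : Subgroup G) P D k e)

section basic

include C

theorem e_one : e 1 = 0 := by
  have := C.mul 1 (zl (S : Subgroup G) P).one_mem 1 (zl (S : Subgroup G) P).one_mem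
  rw [mul_one] at this
  exact left_eq_add.1 this

theorem e_inv {v : G} (hv : v ∈ zl (S : Subgroup G) P) : e v⁻¹ = - e v := by
  have := C.mul v⁻¹ ((zl (S : Subgroup G) P).inv_mem hv) v hv
  rw [inv_mul_cancel, C.e_one] at this
  exact (neg_eq_of_add_eq_zero_left this.symm).symm

theorem eq_one {x : F} (hx : x ≠ 0) : x = 1 := (C.two x).resolve_left hx

/-- the vectors of `F_2²` -/
theorem vec (x : Fin 2 → F) : x = 0 ∨ x = ![1, 0] ∨ x = ![0, 1] ∨ x = ![1, 1] := by
  rcases C.two (x 0) with h0 | h0 <;> rcases C.two (x 1) with h1 | h1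
  · left; funext i; fin_cases i; exacts [h0, h1]
  · right; right; left; funext i; fin_cases i; exacts [h0, h1]
  · right; left; funext i; fin_cases i; exacts [h0, h1]
  · right; right; right; funext i; fin_cases i; exacts [h0, h1]

omit C in
theorem con {g v : G} (hg : g ∈ P) (hv : v ∈ zl (S : Subgroup G) P) :
    g * v * g⁻¹ ∈ zl (S : Subgroup G) P :=
  (mem_normalizer_iff.1 (IsL.nP hg) _).1 hv

/-- conjugate by an element of `P` -/
theorem conj {g h : G} {A : Fin k → Matrix.SpecialLinearGroup (Fin 2) F} (hg : g ∈ P)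
    (hh : IsL (S : Subgroup G) P D e h A) : ∃ B, IsL (S : Subgroup G) P D e (g * h * g⁻¹) B := by
  obtain ⟨B, hB⟩ := C.norm g hg h hh.mem A hh.act
  exact ⟨B, mul_mem (mul_mem hg hh.mem) (inv_mem hg),
    (mem_normalizer_iff.1 (conj_cent (C.PD hg)) h).1 hh.cen, hB⟩

theorem exists_lift (A : Fin k → Matrix.SpecialLinearGroup (Fin 2) F) : ∃ g, IsL (S : Subgroup G) P D e g A := by
  obtain ⟨g, h1, h2, h3⟩ := C.lift A
  exact ⟨g, h1, h3, h2⟩

end basic

section main

variable (hc : IsCharacteristicTwoType G) (hPH : IsParS (S : Subgroup G) P)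
include hc hPH

theorem sqV : ∀ v ∈ zl (S : Subgroup G) P, v * v = 1 := fun v hv => by
  rw [← pow_two]; exact (FFThm.elem_zl hc S hPH.isLoc).2 v hv

theorem abV : ∀ v ∈ zl (S : Subgroup G) P, ∀ w ∈ zl (S : Subgroup G) P, v * w = w * v := fun v hv w hw =>
  congrArg Subtype.val ((FFThm.elem_zl hc S hPH.isLoc).1.1.1 ⟨v, hv⟩ ⟨w, hw⟩)

include C

/-- an element acting trivially on `V / D` and `D` centralises `V` -/
theorem cent {x : G} (hx : IsL (S : Subgroup G) P D e x 1) :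
    x ∈ centralizer (zl (S : Subgroup G) P : Set G) := by
  refine _root_.Cfsg.Agent.Omega.NOThreeL.RTransv.le_centralizer S hPH.le C.DV C.PD (sqV hc hPH) ⟨IsL.nP hx.mem, fun v hv => ?_⟩ hx.cen
  rw [← C.ker _ (mul_mem (con hx.mem hv) (inv_mem hv)), C.mul _ (con hx.mem hv) _ (inv_mem hv), C.e_inv hv]
  funext i
  have h1 := hx.act v hv i
  change e (x * v * x⁻¹) i + -(e v i) = 0
  rw [h1]
  change ap 1 (e v i) + -(e v i) = 0
  rw [ap_one, add_neg_cancel]

/-- two elements with the same action -/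
theorem same {x y : G} {A : Fin k → Matrix.SpecialLinearGroup (Fin 2) F} (hx : IsL (S : Subgroup G) P D e x A)
    (hy : IsL (S : Subgroup G) P D e y A) {v : G} (hv : v ∈ zl (S : Subgroup G) P) :
    x * v * x⁻¹ = y * v * y⁻¹ := by
  have h1 : y⁻¹ * x ∈ centralizer (zl (S : Subgroup G) P : Set G) := by
    refine C.cent hc hPH ?_
    have := hy.inv.mul hx
    rwa [inv_mul_cancel] at this
  have h2 := mem_centralizer_iff.1 h1 v hv
  calc x * v * x⁻¹ = y * (y⁻¹ * x * v) * x⁻¹ := by group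
    _ = y * (v * (y⁻¹ * x)) * x⁻¹ := by rw [h2]
    _ = y * v * y⁻¹ := by group

/-- **The key**: the commutator of `s ∈ SL₂(2)_i` and `v` in the `i`-th component is centralised by the elements
trivial on the `i`-th component. -/
theorem key {i : Fin k} {g s v : G} {A : Matrix.SpecialLinearGroup (Fin 2) F} {x : Fin 2 → F}
    {B : Fin k → Matrix.SpecialLinearGroup (Fin 2) F}
    (hg : IsL (S : Subgroup G) P D e g B) (hB : B i = 1) (hs : IsL (S : Subgroup G) P D e s (Pi.mulSingle i A))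
    (hv : v ∈ zl (S : Subgroup G) P) (hx : e v = Pi.single i x) :
    g * (s * v * s⁻¹ * v⁻¹) = s * v * s⁻¹ * v⁻¹ * g := by
  have hd : g * v * g⁻¹ * v⁻¹ ∈ D := by
    rw [← C.ker _ (mul_mem (con hg.mem hv) (inv_mem hv)), C.mul _ (con hg.mem hv) _ (inv_mem hv), C.e_inv hv]
    funext j
    change e (g * v * g⁻¹) j + -(e v j) = 0
    rw [hg.act v hv j, hx]
    by_cases hj : j = i
    · subst hj
      rw [hB, ap_one, add_neg_cancel]
    · rw [Pi.single_eq_of_ne hj, ap_zero, neg_zero, add_zero]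
  set d := g * v * g⁻¹ * v⁻¹ with hdef
  have hcomm : B * Pi.mulSingle i A = Pi.mulSingle i A * B := by
    funext j
    rw [Pi.mul_apply, Pi.mul_apply]
    by_cases hj : j = i
    · subst hj
      rw [hB, one_mul, mul_one]
    · rw [Pi.mulSingle_eq_of_ne hj, one_mul, mul_one]
  have h1 := hg.mul hs
  rw [hcomm] at h1
  have h2 := C.same hc hPH h1 (hs.mul hg) hv
  have h3 : s * d = d * s := (mem_centralizer_iff.1 hs.cen d hd).symm
  have h4 : g * (s * v * s⁻¹) * g⁻¹ = d * (s * v * s⁻¹) := by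
    calc g * (s * v * s⁻¹) * g⁻¹ = g * s * v * (g * s)⁻¹ := by group
      _ = s * g * v * (s * g)⁻¹ := h2
      _ = (s * d) * v * s⁻¹ := by rw [hdef]; group
      _ = d * (s * v * s⁻¹) := by rw [h3]; group
  have h5 : g * (s * v * s⁻¹ * v⁻¹) * g⁻¹ = s * v * s⁻¹ * v⁻¹ := by
    have e1 : g * (s * v * s⁻¹ * v⁻¹) * g⁻¹ = (g * (s * v * s⁻¹) * g⁻¹) * (g * v * g⁻¹)⁻¹ := by group
    have e2 : g * v * g⁻¹ = d * v := by rw [hdef]; group
    have hcV : s * v * s⁻¹ * v⁻¹ ∈ zl (S : Subgroup G) P := mul_mem (con hs.mem hv) (inv_mem hv)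
    have h6 := abV hc hPH d (C.DV hd) _ hcV
    rw [e1, h4, e2]
    calc d * (s * v * s⁻¹) * (d * v)⁻¹ = (d * (s * v * s⁻¹ * v⁻¹)) * d⁻¹ := by group
      _ = s * v * s⁻¹ * v⁻¹ := by rw [h6]; group
  exact mul_inv_eq_iff_eq_mul.1 h5

variable [CharP F 2]

/-- **The exact elements.** -/
theorem exists_exa : ∃ (z n s : Fin k → G) (w : G), Exa (S : Subgroup G) P D e z n s w := by
  choose s hs using fun i : Fin k => C.exists_lift (Pi.mulSingle i (up 1))
  choose v hvV hv using fun i : Fin k => C.surj (Pi.single i ![0, 1])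
  obtain ⟨w, hw⟩ := C.exists_lift fun _ => sw F
  set z : Fin k → G := fun i => s i * v i * (s i)⁻¹ * (v i)⁻¹ with hz
  set n : Fin k → G := fun i => w * z i * w⁻¹ with hn
  have zV : ∀ i, z i ∈ zl (S : Subgroup G) P := fun i => mul_mem (con (hs i).mem (hvV i)) (inv_mem (hvV i))
  have nV : ∀ i, n i ∈ zl (S : Subgroup G) P := fun i => con hw.mem (zV i)
  have ez : ∀ i, e (z i) = Pi.single i ![1, 0] := by
    intro i
    rw [hz]
    simp only
    rw [C.mul _ (con (hs i).mem (hvV i)) _ (inv_mem (hvV i)), C.e_inv (hvV i)]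
    funext j
    change e (s i * v i * (s i)⁻¹) j + -(e (v i) j) = _
    rw [(hs i).act _ (hvV i) j, hv]
    by_cases hj : j = i
    · subst hj
      rw [Pi.single_eq_same, Pi.single_eq_same, Pi.mulSingle_eq_same, ap_up']
      funext l
      fin_cases l
      · simp
      · simp
    · rw [Pi.single_eq_of_ne hj, Pi.single_eq_of_ne hj, ap_zero, neg_zero, add_zero]
  have en : ∀ i, e (n i) = Pi.single i ![0, 1] := by
    intro i
    funext j
    rw [hn]
    simp only
    rw [hw.act _ (zV i) j, ez]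
    by_cases hj : j = i
    · subst hj
      rw [Pi.single_eq_same, Pi.single_eq_same, ap_sw_z]
    · rw [Pi.single_eq_of_ne hj, Pi.single_eq_of_ne hj, ap_zero]
  have fz : ∀ i g B, IsL (S : Subgroup G) P D e g B → B i = 1 → g * z i = z i * g := fun i g B hg hB =>
    C.key hc hPH hg hB (hs i) (hvV i) (hv i)
  have fn : ∀ i g B, IsL (S : Subgroup G) P D e g B → B i = 1 → g * n i = n i * g := by
    intro i g B hg hB
    have h1 := fz i _ _ ((hw.inv.mul hg).mul hw) (by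
      rw [Pi.mul_apply, Pi.mul_apply, hB, mul_one, Pi.inv_apply, inv_mul_cancel])
    calc g * n i = w * ((w⁻¹ * g * w) * z i) * w⁻¹ := by rw [hn]; group
      _ = w * (z i * (w⁻¹ * g * w)) * w⁻¹ := by rw [h1]
      _ = n i * g := by rw [hn]; group
  have sz : ∀ i, s i * z i = z i * s i := by
    intro i
    have h1 := (hs i).mul (hs i)
    have e0 : (Pi.mulSingle i (up (1 : F)) * Pi.mulSingle i (up 1) :
        Fin k → Matrix.SpecialLinearGroup (Fin 2) F) = 1 := by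
      rw [← Pi.mulSingle_mul, up_sq, Pi.mulSingle_one]
    rw [e0] at h1
    have h2 := mem_centralizer_iff.1 (C.cent hc hPH h1) _ (hvV i)
    have h3 : z i * z i = 1 := sqV hc hPH _ (zV i)
    have h4 : s i * z i * (s i)⁻¹ = z i := by
      have e1 : s i * z i * (s i)⁻¹ = (s i * s i * v i) * (s i * s i)⁻¹ * (s i * v i * (s i)⁻¹)⁻¹ := by
        rw [hz]; group
      have e2 : (s i * v i * (s i)⁻¹)⁻¹ = (v i)⁻¹ * (z i)⁻¹ := by rw [hz]; group
      rw [e1, ← h2, e2]
      calc v i * (s i * s i) * (s i * s i)⁻¹ * ((v i)⁻¹ * (z i)⁻¹) = (z i)⁻¹ := by group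
        _ = z i := inv_eq_of_mul_eq_one_left h3
    exact mul_inv_eq_iff_eq_mul.1 h4
  have sn : ∀ i, s i * n i * (s i)⁻¹ = z i * n i := by
    intro i
    have hd : (v i)⁻¹ * n i ∈ D := by
      rw [← C.ker _ (mul_mem (inv_mem (hvV i)) (nV i)), C.mul _ (inv_mem (hvV i)) _ (nV i), C.e_inv (hvV i),
        hv, en, neg_add_cancel]
    have h1 := mem_centralizer_iff.1 (hs i).cen _ hd
    calc s i * n i * (s i)⁻¹ = s i * v i * ((v i)⁻¹ * n i) * (s i)⁻¹ := by group
      _ = s i * v i * (s i)⁻¹ * (s i * ((v i)⁻¹ * n i)) * (s i)⁻¹ := by group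
      _ = s i * v i * (s i)⁻¹ * ((v i)⁻¹ * n i * s i) * (s i)⁻¹ := by rw [h1]
      _ = z i * n i := by rw [hz]; group
  have wn : ∀ i, w * n i * w⁻¹ = z i := by
    intro i
    have h1 := hw.mul hw
    have e0 : ((fun _ => sw F) * (fun _ => sw F) : Fin k → Matrix.SpecialLinearGroup (Fin 2) F) = 1 := by
      funext j
      exact sw_sq
    rw [e0] at h1
    have h2 := mem_centralizer_iff.1 (C.cent hc hPH h1) _ (zV i)
    calc w * n i * w⁻¹ = (w * w * z i) * (w * w)⁻¹ := by rw [hn]; group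
      _ = z i := by rw [← h2]; group
  exact ⟨z, n, s, w, hs, hw, zV, nV, ez, en, fz, fn, sz, sn, fun i => rfl, wn⟩

end main

section exa

variable [CharP F 2] (hc : IsCharacteristicTwoType G) (hPH : IsParS (S : Subgroup G) P)
variable {z n s : Fin k → G} {w : G} (E : Exa (S : Subgroup G) P D e z n s w)
include hc hPH C E

/-- `z i n i` -/
theorem ezn (i : Fin k) : e (z i * n i) = Pi.single i ![1, 1] := by
  rw [C.mul _ (E.zV i) _ (E.nV i), E.ez, E.en, ← Pi.single_add]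
  congr 1
  funext l
  fin_cases l
  · simp
  · simp

theorem Nn_le {i : Fin k} {x : G} (hx : x ∈ Nn z n i) : x ∈ zl (S : Subgroup G) P := by
  rcases hx with rfl | rfl | rfl
  · exact E.zV i
  · exact E.nV i
  · exact mul_mem (E.zV i) (E.nV i)

theorem zz (i : Fin k) : z i * z i = 1 := sqV hc hPH _ (E.zV i)

theorem zn_comm (i : Fin k) : z i * n i = n i * z i := abV hc hPH _ (E.zV i) _ (E.nV i)

/-- the coordinates of the elements of `N_i` -/
theorem e_Nn {i : Fin k} {x : G} (hx : x ∈ Nn z n i) : ∃ y : Fin 2 → F, y ≠ 0 ∧ e x = Pi.single i y := by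
  rcases hx with rfl | rfl | rfl
  · exact ⟨_, fun h => one_ne_zero (congrFun h 0), E.ez i⟩
  · exact ⟨_, fun h => one_ne_zero (congrFun h 1), E.en i⟩
  · exact ⟨_, fun h => one_ne_zero (congrFun h 0), C.ezn hc hPH E i⟩

/-- two elements with the same `i`-th component act in the same way on `N_i` -/
theorem same_i {i : Fin k} {g h : G} {A B : Fin k → Matrix.SpecialLinearGroup (Fin 2) F}
    (hg : IsL (S : Subgroup G) P D e g A) (hh : IsL (S : Subgroup G) P D e h B) (hAB : A i = B i) {x : G}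
    (hx : x ∈ Nn z n i) : g * x * g⁻¹ = h * x * h⁻¹ := by
  have h1 := hh.inv.mul hg
  have h2 : (B⁻¹ * A) i = 1 := by
    rw [Pi.mul_apply, Pi.inv_apply, hAB, inv_mul_cancel]
  have h3 : h⁻¹ * g * x = x * (h⁻¹ * g) := by
    rcases hx with rfl | rfl | rfl
    · exact E.fz i _ _ h1 h2
    · exact E.fn i _ _ h1 h2
    · calc h⁻¹ * g * (z i * n i) = (h⁻¹ * g * z i) * n i := by group
        _ = z i * (h⁻¹ * g * n i) := by rw [E.fz i _ _ h1 h2]; group
        _ = z i * n i * (h⁻¹ * g) := by rw [E.fn i _ _ h1 h2]; group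
  calc g * x * g⁻¹ = h * (h⁻¹ * g * x) * g⁻¹ := by group
    _ = h * (x * (h⁻¹ * g)) * g⁻¹ := by rw [h3]
    _ = h * x * h⁻¹ := by group

/-- `N_i` is invariant under the elements inducing `SL₂(2)^k`. -/
theorem inv_Nn {i : Fin k} {g : G} {A : Fin k → Matrix.SpecialLinearGroup (Fin 2) F}
    (hg : IsL (S : Subgroup G) P D e g A) {x : G} (hx : x ∈ Nn z n i) : g * x * g⁻¹ ∈ Nn z n i := by
  -- the matrices with this property
  let Q : Matrix.SpecialLinearGroup (Fin 2) F → Prop := fun M =>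
    ∀ g A, IsL (S : Subgroup G) P D e g A → A i = M → ∀ x ∈ Nn z n i, g * x * g⁻¹ ∈ Nn z n i
  have of_one : ∀ {g A M}, IsL (S : Subgroup G) P D e g A → A i = M → (∀ x ∈ Nn z n i, g * x * g⁻¹ ∈ Nn z n i) →
      Q M := by
    intro g A M hg hA h g' A' hg' hA' x hx
    rw [C.same_i hc hPH E hg' hg (hA'.trans hA.symm) hx]
    exact h x hx
  have Qmul : ∀ {M N}, Q M → Q N → Q (M * N) := by
    intro M N hM hN
    obtain ⟨g1, h1⟩ := C.exists_lift (Pi.mulSingle i M)
    obtain ⟨g2, h2⟩ := C.exists_lift (Pi.mulSingle i N)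
    refine of_one (h1.mul h2) (by rw [Pi.mul_apply, Pi.mulSingle_eq_same, Pi.mulSingle_eq_same]) fun x hx => ?_
    have e1 : g1 * g2 * x * (g1 * g2)⁻¹ = g1 * (g2 * x * g2⁻¹) * g1⁻¹ := by group
    rw [e1]
    have hM1 : (Pi.mulSingle i M : Fin k → Matrix.SpecialLinearGroup (Fin 2) F) i = M := by
      rw [Pi.mulSingle_eq_same]
    have hN1 : (Pi.mulSingle i N : Fin k → Matrix.SpecialLinearGroup (Fin 2) F) i = N := by
      rw [Pi.mulSingle_eq_same]
    exact hM g1 _ h1 hM1 _ (hN g2 _ h2 hN1 _ hx)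
  have hzn : ∀ g : G, g * (z i * n i) * g⁻¹ = (g * z i * g⁻¹) * (g * n i * g⁻¹) := fun g => by group
  have Q1 : Q 1 := of_one IsL.one rfl fun x hx => by
    rwa [one_mul, inv_one, mul_one]
  have Qup : Q (up 1) := by
    refine of_one (E.ls i) (Pi.mulSingle_eq_same i _) fun x hx => ?_
    have h1 : s i * z i * (s i)⁻¹ = z i := by rw [E.sz, mul_inv_cancel_right]
    rcases hx with rfl | rfl | rfl
    · left; exact h1
    · right; right; exact E.sn i
    · right; left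
      rw [hzn, h1, E.sn, ← mul_assoc, C.zz hc hPH E, one_mul]
  have Qsw : Q (sw F) := by
    refine of_one E.lw rfl fun x hx => ?_
    rcases hx with rfl | rfl | rfl
    · right; left; exact E.wz i
    · left; exact E.wn i
    · right; right
      rw [hzn, E.wz, E.wn, C.zn_comm hc hPH E]
  have Qlo : Q (lo 1) := by
    rw [lo_eq]
    exact Qmul (Qmul Qup Qsw) Qup
  have Qup' : ∀ b : F, Q (up b) := by
    intro b
    rcases C.two b with rfl | rfl
    · rw [up_zero]; exact Q1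
    · exact Qup
  have Qlo' : ∀ b : F, Q (lo b) := by
    intro b
    rcases C.two b with rfl | rfl
    · rw [lo_zero]; exact Q1
    · exact Qlo
  obtain ⟨a, b, c, d, hA⟩ := exists_up_lo (A i)
  exact Qmul (Qmul (Qmul (Qup' a) (Qlo' b)) (Qup' c)) (Qlo' d) g A hg hA x hx

omit C hc hPH E in
/-- `V₀ = ⟨z_i, n_i⟩` -/
theorem Nn_V₀ {i : Fin k} {x : G} (hx : x ∈ Nn z n i) : x ∈ _root_.Subgroup.closure (Set.range z ∪ Set.range n) := by
  have hz : z i ∈ _root_.Subgroup.closure (Set.range z ∪ Set.range n) := _root_.Subgroup.subset_closure (Or.inl ⟨i, rfl⟩)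
  have hn : n i ∈ closure (Set.range z ∪ Set.range n) := _root_.Subgroup.subset_closure (Or.inr ⟨i, rfl⟩)
  rcases hx with rfl | rfl | rfl
  · exact hz
  · exact hn
  · exact mul_mem hz hn

theorem V₀_le : _root_.Subgroup.closure (Set.range z ∪ Set.range n) ≤ zl (S : Subgroup G) P := by
  rw [closure_le]
  rintro x (⟨i, rfl⟩ | ⟨i, rfl⟩)
  · exact E.zV i
  · exact E.nV i

/-- `V₀` is invariant -/
theorem inv_V₀ {g : G} {A : Fin k → Matrix.SpecialLinearGroup (Fin 2) F}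
    (hg : IsL (S : Subgroup G) P D e g A) {x : G} (hx : x ∈ _root_.Subgroup.closure (Set.range z ∪ Set.range n)) :
    g * x * g⁻¹ ∈ closure (Set.range z ∪ Set.range n) := by
  have h1 : _root_.Subgroup.closure (Set.range z ∪ Set.range n) ≤
      (closure (Set.range z ∪ Set.range n)).comap (MulAut.conj g).toMonoidHom := by
    rw [closure_le]
    rintro y (⟨i, rfl⟩ | ⟨i, rfl⟩)
    · exact Nn_V₀ (C.inv_Nn hc hPH E hg (i := i) (Or.inl rfl))
    · exact Nn_V₀ (C.inv_Nn hc hPH E hg (i := i) (Or.inr (Or.inl rfl)))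
  exact h1 hx

/-- `V₀ ∩ D = 1` -/
theorem V₀_inf {x : G} (hx : x ∈ _root_.Subgroup.closure (Set.range z ∪ Set.range n)) (hD : x ∈ D) : x = 1 := by
  obtain ⟨ρ, hρ⟩ := C.exists_lift fun _ => up 1 * sw F
  have hV := C.V₀_le hc hPH E
  have hab := abV hc hPH
  -- the action of `ρ`
  have hz : ∀ i, ρ * z i * ρ⁻¹ = z i * n i := by
    intro i
    rw [C.same_i hc hPH E hρ ((E.ls i).mul E.lw) (by rw [Pi.mul_apply, Pi.mulSingle_eq_same]) (Or.inl rfl)]
    calc s i * w * z i * (s i * w)⁻¹ = s i * (w * z i * w⁻¹) * (s i)⁻¹ := by group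
      _ = z i * n i := by rw [E.wz, E.sn]
  have hn : ∀ i, ρ * n i * ρ⁻¹ = z i := by
    intro i
    rw [C.same_i hc hPH E hρ ((E.ls i).mul E.lw) (by rw [Pi.mul_apply, Pi.mulSingle_eq_same])
      (Or.inr (Or.inl rfl))]
    calc s i * w * n i * (s i * w)⁻¹ = s i * (w * n i * w⁻¹) * (s i)⁻¹ := by group
      _ = z i := by rw [E.wn, E.sz, mul_inv_cancel_right]
  have key : ∀ y ∈ _root_.Subgroup.closure (Set.range z ∪ Set.range n),
      y * (ρ * y * ρ⁻¹) * (ρ * (ρ * y * ρ⁻¹) * ρ⁻¹) = 1 := by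
    intro y hy
    induction hy using closure_induction with
    | mem y hy =>
      rcases hy with ⟨i, rfl⟩ | ⟨i, rfl⟩
      · have h1 : ρ * (z i * n i) * ρ⁻¹ = n i := by
          have e1 : ρ * (z i * n i) * ρ⁻¹ = (ρ * z i * ρ⁻¹) * (ρ * n i * ρ⁻¹) := by group
          rw [e1, hz, hn, C.zn_comm hc hPH E, mul_assoc, C.zz hc hPH E, mul_one]
        rw [hz, h1, ← mul_assoc, C.zz hc hPH E, one_mul]
        exact sqV hc hPH _ (E.nV i)
      · rw [hn, hz, ← C.zn_comm hc hPH E]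
        exact sqV hc hPH _ (mul_mem (E.zV i) (E.nV i))
    | one => simp
    | mul a b ha' hb' ha hb =>
      have va := hV ha'
      have vb := hV hb'
      have va1 := con hρ.mem va
      have vb1 := con hρ.mem vb
      have va2 := con hρ.mem va1
      have e1 : a * b * (ρ * (a * b) * ρ⁻¹) * (ρ * (ρ * (a * b) * ρ⁻¹) * ρ⁻¹) =
          a * (b * (ρ * a * ρ⁻¹)) * ((ρ * b * ρ⁻¹) * (ρ * (ρ * a * ρ⁻¹) * ρ⁻¹)) *
            (ρ * (ρ * b * ρ⁻¹) * ρ⁻¹) := by group
      rw [e1, hab b vb _ va1, hab _ vb1 _ va2]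
      have e2 : a * (ρ * a * ρ⁻¹ * b) * (ρ * (ρ * a * ρ⁻¹) * ρ⁻¹ * (ρ * b * ρ⁻¹)) *
          (ρ * (ρ * b * ρ⁻¹) * ρ⁻¹) = a * (ρ * a * ρ⁻¹) * (b * (ρ * (ρ * a * ρ⁻¹) * ρ⁻¹)) *
            ((ρ * b * ρ⁻¹) * (ρ * (ρ * b * ρ⁻¹) * ρ⁻¹)) := by group
      rw [e2, hab b vb _ va2]
      have e3 : a * (ρ * a * ρ⁻¹) * (ρ * (ρ * a * ρ⁻¹) * ρ⁻¹ * b) *
          ((ρ * b * ρ⁻¹) * (ρ * (ρ * b * ρ⁻¹) * ρ⁻¹)) =
          (a * (ρ * a * ρ⁻¹) * (ρ * (ρ * a * ρ⁻¹) * ρ⁻¹)) *
            (b * (ρ * b * ρ⁻¹) * (ρ * (ρ * b * ρ⁻¹) * ρ⁻¹)) := by group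
      rw [e3, ha, hb, one_mul]
    | inv a ha' ha =>
      rw [inv_eq_of_mul_eq_one_left (sqV hc hPH a (hV ha'))]
      exact ha
  have h1 := key x hx
  have h2 : ρ * x * ρ⁻¹ = x := by
    rw [← mem_centralizer_iff.1 hρ.cen x hD, mul_inv_cancel_right]
  rw [h2, h2, sqV hc hPH x (hV hx), one_mul] at h1
  exact h1

/-- injectivity of the coordinates on `V₀` -/
theorem inj {x y : G} (hx : x ∈ _root_.Subgroup.closure (Set.range z ∪ Set.range n))
    (hy : y ∈ closure (Set.range z ∪ Set.range n)) (h : e x = e y) : x = y := by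
  have hV := C.V₀_le hc hPH E
  have h1 : x * y⁻¹ ∈ D := by
    rw [← C.ker _ (mul_mem (hV hx) (inv_mem (hV hy))), C.mul _ (hV hx) _ (inv_mem (hV hy)), C.e_inv (hV hy), h,
      add_neg_cancel]
  exact mul_inv_eq_one.1 (C.V₀_inf hc hPH E (mul_mem hx (inv_mem hy)) h1)

/-- `V₀` covers `V / D` -/
theorem exists_V₀ (x : Fin k → Fin 2 → F) : ∃ y ∈ _root_.Subgroup.closure (Set.range z ∪ Set.range n), e y = x := by
  have hV := C.V₀_le hc hPH E
  let I : AddSubgroup (Fin k → Fin 2 → F) :=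
    { carrier := {x | ∃ y ∈ _root_.Subgroup.closure (Set.range z ∪ Set.range n), e y = x}
      zero_mem' := ⟨1, one_mem _, C.e_one⟩
      add_mem' := by
        rintro _ _ ⟨a, ha, rfl⟩ ⟨b, hb, rfl⟩
        exact ⟨a * b, mul_mem ha hb, C.mul a (hV ha) b (hV hb)⟩
      neg_mem' := by
        rintro _ ⟨a, ha, rfl⟩
        exact ⟨a⁻¹, inv_mem ha, C.e_inv (hV ha)⟩ }
  have h1 : ∀ i (y : Fin 2 → F), Pi.single i y ∈ I := by
    intro i y
    rcases C.vec y with rfl | rfl | rfl | rfl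
    · rw [Pi.single_zero]; exact I.zero_mem
    · exact ⟨z i, _root_.Subgroup.subset_closure (Or.inl ⟨i, rfl⟩), E.ez i⟩
    · exact ⟨n i, _root_.Subgroup.subset_closure (Or.inr ⟨i, rfl⟩), E.en i⟩
    · exact ⟨z i * n i, Nn_V₀ (Or.inr (Or.inr rfl)), C.ezn hc hPH E i⟩
  have h2 : x ∈ I := by
    rw [← Finset.univ_sum_single x]
    exact I.sum_mem fun i _ => h1 i _
  exact h2

/-- `V = V₀ D` -/
theorem exists_mul_D {v : G} (hv : v ∈ zl (S : Subgroup G) P) :
    ∃ x ∈ _root_.Subgroup.closure (Set.range z ∪ Set.range n), ∃ d ∈ D, v = x * d := by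
  obtain ⟨x, hx, hxv⟩ := C.exists_V₀ hc hPH E (e v)
  have hxV := C.V₀_le hc hPH E hx
  refine ⟨x, hx, x⁻¹ * v, ?_, by group⟩
  rw [← C.ker _ (mul_mem (inv_mem hxV) hv), C.mul _ (inv_mem hxV) _ hv, C.e_inv hxV, hxv, neg_add_cancel]

/-- commutators with `SL₂(2)^k` are in `V₀` -/
theorem comm_V₀ {h v : G} {A : Fin k → Matrix.SpecialLinearGroup (Fin 2) F}
    (hh : IsL (S : Subgroup G) P D e h A) (hv : v ∈ zl (S : Subgroup G) P) :
    h * v * h⁻¹ * v⁻¹ ∈ _root_.Subgroup.closure (Set.range z ∪ Set.range n) := by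
  obtain ⟨x, hx, d, hd, rfl⟩ := C.exists_mul_D hc hPH E hv
  have h1 := mem_centralizer_iff.1 hh.cen d hd
  have e1 : h * (x * d) * h⁻¹ * (x * d)⁻¹ = h * x * h⁻¹ * x⁻¹ := by
    calc h * (x * d) * h⁻¹ * (x * d)⁻¹ = h * x * (d * h⁻¹) * d⁻¹ * x⁻¹ := by group
      _ = h * x * (h⁻¹ * (h * d) * h⁻¹) * d⁻¹ * x⁻¹ := by group
      _ = h * x * h⁻¹ * x⁻¹ := by rw [← h1]; group
  rw [e1]
  exact mul_mem (C.inv_V₀ hc hPH E hh hx) (inv_mem hx)

/-- `z i` is a commutator -/
theorem z_eq (i : Fin k) : z i = s i * n i * (s i)⁻¹ * (n i)⁻¹ := by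
  rw [E.sn, mul_inv_cancel_right]

/-- `P` normalises `V₀` -/
theorem conj_z {g : G} (hg : g ∈ P) (i : Fin k) : g * z i * g⁻¹ ∈ _root_.Subgroup.closure (Set.range z ∪ Set.range n) := by
  obtain ⟨B, hB⟩ := C.conj hg (E.ls i)
  have h1 := C.comm_V₀ hc hPH E hB (con hg (E.nV i))
  have e1 : g * z i * g⁻¹ = g * s i * g⁻¹ * (g * n i * g⁻¹) * (g * s i * g⁻¹)⁻¹ * (g * n i * g⁻¹)⁻¹ := by
    rw [C.z_eq hc hPH E i]; group
  rw [e1]
  exact h1

theorem conj_Nn {g : G} (hg : g ∈ P) {i : Fin k} {x : G} (hx : x ∈ Nn z n i) :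
    g * x * g⁻¹ ∈ _root_.Subgroup.closure (Set.range z ∪ Set.range n) := by
  have hz := C.conj_z hc hPH E hg i
  have hn : g * n i * g⁻¹ ∈ _root_.Subgroup.closure (Set.range z ∪ Set.range n) := by
    have h1 := C.conj_z hc hPH E (mul_mem hg E.lw.mem) i
    have e1 : g * w * z i * (g * w)⁻¹ = g * (w * z i * w⁻¹) * g⁻¹ := by group
    rwa [e1, E.wz] at h1
  rcases hx with rfl | rfl | rfl
  · exact hz
  · exact hn
  · have e1 : g * (z i * n i) * g⁻¹ = (g * z i * g⁻¹) * (g * n i * g⁻¹) := by group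
    rw [e1]
    exact mul_mem hz hn

/-- `P` normalises `V₀` -/
theorem conj_V₀ {g : G} (hg : g ∈ P) {x : G} (hx : x ∈ _root_.Subgroup.closure (Set.range z ∪ Set.range n)) :
    g * x * g⁻¹ ∈ closure (Set.range z ∪ Set.range n) := by
  have h1 : _root_.Subgroup.closure (Set.range z ∪ Set.range n) ≤
      (closure (Set.range z ∪ Set.range n)).comap (MulAut.conj g).toMonoidHom := by
    rw [closure_le]
    rintro y (⟨i, rfl⟩ | ⟨i, rfl⟩)
    · exact C.conj_Nn hc hPH E hg (i := i) (Or.inl rfl)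
    · exact C.conj_Nn hc hPH E hg (i := i) (Or.inr (Or.inl rfl))
  exact h1 hx

/-- an element of `V₀` with coordinates in the `i`-th component -/
theorem mem_Nn {i : Fin k} {x : G} (hx : x ∈ _root_.Subgroup.closure (Set.range z ∪ Set.range n)) {y : Fin 2 → F} (hy : y ≠ 0)
    (h : e x = Pi.single i y) : x ∈ Nn z n i := by
  rcases C.vec y with rfl | rfl | rfl | rfl
  · exact absurd rfl hy
  · left; exact C.inj hc hPH E hx (Nn_V₀ (Or.inl rfl)) (h.trans (E.ez i).symm)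
  · right; left; exact C.inj hc hPH E hx (Nn_V₀ (Or.inr (Or.inl rfl))) (h.trans (E.en i).symm)
  · right; right; exact C.inj hc hPH E hx (Nn_V₀ (Or.inr (Or.inr rfl))) (h.trans (C.ezn hc hPH E i).symm)

/-- `P` permutes the `N_i` -/
theorem perm_Nn {g : G} (hg : g ∈ P) : ∃ σ : Equiv.Perm (Fin k), ∀ i, ∀ x ∈ Nn z n i, g * x * g⁻¹ ∈ Nn z n (σ i) := by
  obtain ⟨σ, hσ⟩ := C.perm g hg
  refine ⟨σ, fun i x hx => ?_⟩
  have hxV := C.Nn_le hc hPH E hx
  obtain ⟨y, hy, hxy⟩ := C.e_Nn hc hPH E hx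
  have h1 : ∀ j, j ≠ σ i → e (g * x * g⁻¹) j = 0 := by
    intro j hj
    obtain ⟨l, rfl⟩ := σ.surjective j
    rw [hσ x hxV l, hxy, Pi.single_eq_of_ne]
    rintro rfl
    exact hj rfl
  have h2 : e (g * x * g⁻¹) (σ i) ≠ 0 := by
    intro h
    rw [hσ x hxV i, hxy, Pi.single_eq_same] at h
    exact hy h
  refine C.mem_Nn hc hPH E (C.conj_Nn hc hPH E hg hx) h2 ?_
  funext j
  by_cases hj : j = σ i
  · subst hj
    rw [Pi.single_eq_same]
  · rw [Pi.single_eq_of_ne hj, h1 j hj]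

/-- the index of an element of `N_i` -/
theorem disj {i j : Fin k} {x : G} (hi : x ∈ Nn z n i) (hj : x ∈ Nn z n j) : i = j := by
  obtain ⟨y, hy, h1⟩ := C.e_Nn hc hPH E hi
  obtain ⟨y', -, h2⟩ := C.e_Nn hc hPH E hj
  by_contra hij
  have h3 := congrFun (h1.symm.trans h2) i
  rw [Pi.single_eq_same, Pi.single_eq_of_ne hij] at h3
  exact hy h3

/-- an element of `N_i` with second coordinate `0` -/
theorem eq_z {i : Fin k} {x : G} (hx : x ∈ Nn z n i) (h : e x i 1 = 0) : x = z i := by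
  rcases hx with rfl | rfl | rfl
  · rfl
  · rw [E.en, Pi.single_eq_same] at h
    exact absurd h one_ne_zero
  · rw [C.ezn hc hPH E, Pi.single_eq_same] at h
    exact absurd h one_ne_zero

/-- `S` permutes the `z i` -/
theorem perm_z {g : G} (hg : g ∈ (S : Subgroup G)) : ∃ σ : Equiv.Perm (Fin k), ∀ i, g * z i * g⁻¹ = z (σ i) := by
  obtain ⟨σ, hσ⟩ := C.perm_Nn hc hPH E (hPH.le hg)
  obtain ⟨τ, hτ⟩ := C.line g hg
  refine ⟨σ, fun i => C.eq_z hc hPH E (hσ i (z i) (Or.inl rfl)) ?_⟩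
  obtain ⟨l, hl⟩ := τ.surjective (σ i)
  rw [← hl, hτ _ (E.zV i) l, E.ez]
  by_cases hj : l = i
  · subst hj
    rw [Pi.single_eq_same]
    rfl
  · rw [Pi.single_eq_of_ne hj]
    rfl

/-- `S` is transitive on the `z i` -/
theorem trans_z (i j : Fin k) : ∃ g ∈ (S : Subgroup G), g * z i * g⁻¹ = z j := by
  obtain ⟨g, hg, h⟩ := C.trans i j
  obtain ⟨σ, hσ⟩ := C.perm_z hc hPH E hg
  refine ⟨g, hg, ?_⟩
  have h1 := hσ i
  have h2 : σ i = j := by
    by_contra hne
    have h3 := (h _ (E.zV i)).1 (by rw [h1, E.ez, Pi.single_eq_of_ne (fun h0 => hne h0.symm)])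
    rw [E.ez, Pi.single_eq_same] at h3
    exact one_ne_zero (congrFun h3 0)
  rw [h1, h2]

/-- **An abelian normal subgroup of `S` normalises the `N_i`.** -/
theorem perm_id {U : Subgroup G} (hUS : U ≤ (S : Subgroup G)) (hSU : (S : Subgroup G) ≤ normalizer (U : Set G))
    (hab : ∀ u ∈ U, ∀ v ∈ U, u * v = v * u) {u : G} (hu : u ∈ U) (i : Fin k) :
    u * n i * u⁻¹ ∈ Nn z n i ∧ u * z i * u⁻¹ = z i := by
  have huS := hUS hu
  have huP := hPH.le huS
  have hVS : zl (S : Subgroup G) P ≤ (S : Subgroup G) := IsParS.zl_le_S hc hPH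
  have habV := abV hc hPH
  obtain ⟨σ, hσ⟩ := C.perm_Nn hc hPH E huP
  obtain ⟨σ', hσ'⟩ := C.perm_Nn hc hPH E (inv_mem huP)
  obtain ⟨τ, hτ⟩ := C.perm_z hc hPH E huS
  have hτσ : ∀ j, τ j = σ j := fun j => by
    have h1 := hσ j (z j) (Or.inl rfl)
    rw [hτ j] at h1
    exact C.disj hc hPH E (Or.inl rfl) h1
  suffices h : σ i = i by
    refine ⟨?_, by rw [hτ i, hτσ, h]⟩
    have h1 := hσ i (n i) (Or.inr (Or.inl rfl))
    rwa [h] at h1
  by_contra hne
  have hne' : σ' i ≠ i := by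
    intro h
    have h1 := hσ' i (n i) (Or.inr (Or.inl rfl))
    rw [h] at h1
    have h2 := hσ i _ h1
    have e1 : u * (u⁻¹ * n i * u⁻¹⁻¹) * u⁻¹ = n i := by group
    rw [e1] at h2
    exact hne (C.disj hc hPH E h2 (Or.inr (Or.inl rfl)))
  obtain ⟨t, htS, htA, htD⟩ := C.unip i
  have ht : IsL (S : Subgroup G) P D e t (Pi.mulSingle i (up 1)) := ⟨hPH.le htS, htD, htA⟩
  have hcomm : ∀ j, j ≠ i → ∀ x ∈ Nn z n j, t * x = x * t := by
    intro j hj x hx
    have hB : (Pi.mulSingle i (up 1) : Fin k → Matrix.SpecialLinearGroup (Fin 2) F) j = 1 :=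
      Pi.mulSingle_eq_of_ne hj _
    rcases hx with rfl | rfl | rfl
    · exact E.fz j t _ ht hB
    · exact E.fn j t _ ht hB
    · calc t * (z j * n j) = (t * z j) * n j := by group
        _ = z j * (t * n j) := by rw [E.fz j t _ ht hB]; group
        _ = z j * n j * t := by rw [E.fn j t _ ht hB]; group
  have htn : t * n i * t⁻¹ = z i * n i := by
    rw [C.same_i hc hPH E ht (E.ls i) rfl (Or.inr (Or.inl rfl)), E.sn]
  have htz : t * z i * t⁻¹ = z i := by
    rw [C.same_i hc hPH E ht (E.ls i) rfl (Or.inl rfl), E.sz, mul_inv_cancel_right]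
  have htn' : t⁻¹ * n i * t = z i * n i := by
    have h1 : t * (z i * n i) * t⁻¹ = n i := by
      calc t * (z i * n i) * t⁻¹ = (t * z i * t⁻¹) * (t * n i * t⁻¹) := by group
        _ = n i := by rw [htz, htn, ← mul_assoc, C.zz hc hPH E, one_mul]
    calc t⁻¹ * n i * t = t⁻¹ * (t * (z i * n i) * t⁻¹) * t := by rw [h1]
      _ = z i * n i := by group
  have hcU : u * n i * u⁻¹ * (n i)⁻¹ ∈ U := by
    have h1 := (mem_normalizer_iff.1 (hSU (hVS (E.nV i))) _).1 (inv_mem hu)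
    have e1 : u * n i * u⁻¹ * (n i)⁻¹ = u * (n i * u⁻¹ * (n i)⁻¹) := by group
    rw [e1]
    exact mul_mem hu h1
  have hwU : u * t * u⁻¹ * t⁻¹ ∈ U := by
    have h1 := (mem_normalizer_iff.1 (hSU htS) _).1 (inv_mem hu)
    have e1 : u * t * u⁻¹ * t⁻¹ = u * (t * u⁻¹ * t⁻¹) := by group
    rw [e1]
    exact mul_mem hu h1
  have h1 := hab _ hwU _ hcU
  have hn' := hσ i (n i) (Or.inr (Or.inl rfl))
  have h2 : t⁻¹ * (u * n i * u⁻¹) * t = u * n i * u⁻¹ := by
    calc t⁻¹ * (u * n i * u⁻¹) * t = t⁻¹ * (u * n i * u⁻¹ * t) := by group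
      _ = t⁻¹ * (t * (u * n i * u⁻¹)) := by rw [hcomm _ hne _ hn']
      _ = u * n i * u⁻¹ := by group
  have h3 : t * (u⁻¹ * (z i * n i) * u) * t⁻¹ = u⁻¹ * (z i * n i) * u := by
    have h4 := hσ' i (z i * n i) (Or.inr (Or.inr rfl))
    rw [inv_inv] at h4
    rw [hcomm _ hne' _ h4, mul_inv_cancel_right]
  have h4 : (u * t * u⁻¹ * t⁻¹) * (u * n i * u⁻¹) * (u * t * u⁻¹ * t⁻¹)⁻¹ = z (σ i) * (u * n i * u⁻¹) := by
    calc (u * t * u⁻¹ * t⁻¹) * (u * n i * u⁻¹) * (u * t * u⁻¹ * t⁻¹)⁻¹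
        = u * t * u⁻¹ * (t⁻¹ * (u * n i * u⁻¹) * t) * u * t⁻¹ * u⁻¹ := by group
      _ = u * (t * n i * t⁻¹) * u⁻¹ := by rw [h2]; group
      _ = (u * z i * u⁻¹) * (u * n i * u⁻¹) := by rw [htn]; group
      _ = z (σ i) * (u * n i * u⁻¹) := by rw [hτ i, hτσ]
  have h5 : (u * t * u⁻¹ * t⁻¹) * n i * (u * t * u⁻¹ * t⁻¹)⁻¹ = z i * n i := by
    calc (u * t * u⁻¹ * t⁻¹) * n i * (u * t * u⁻¹ * t⁻¹)⁻¹
        = u * (t * (u⁻¹ * (t⁻¹ * n i * t) * u) * t⁻¹) * u⁻¹ := by group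
      _ = z i * n i := by rw [htn', h3]; group
  have h6 : z (σ i) * (u * n i * u⁻¹) * (z i * n i)⁻¹ = u * n i * u⁻¹ * (n i)⁻¹ := by
    calc z (σ i) * (u * n i * u⁻¹) * (z i * n i)⁻¹
        = ((u * t * u⁻¹ * t⁻¹) * (u * n i * u⁻¹) * (u * t * u⁻¹ * t⁻¹)⁻¹) *
          ((u * t * u⁻¹ * t⁻¹) * n i * (u * t * u⁻¹ * t⁻¹)⁻¹)⁻¹ := by rw [h4, h5]
      _ = (u * t * u⁻¹ * t⁻¹) * (u * n i * u⁻¹ * (n i)⁻¹) * (u * t * u⁻¹ * t⁻¹)⁻¹ := by group
      _ = (u * n i * u⁻¹ * (n i)⁻¹) * (u * t * u⁻¹ * t⁻¹) * (u * t * u⁻¹ * t⁻¹)⁻¹ := by rw [h1]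
      _ = u * n i * u⁻¹ * (n i)⁻¹ := by group
  have hV1 := C.Nn_le hc hPH E hn'
  have h7 : z (σ i) = z i := by
    have h8 : z (σ i) * (z i)⁻¹ * (u * n i * u⁻¹ * (n i)⁻¹) = u * n i * u⁻¹ * (n i)⁻¹ := by
      calc z (σ i) * (z i)⁻¹ * (u * n i * u⁻¹ * (n i)⁻¹)
          = z (σ i) * ((z i)⁻¹ * (u * n i * u⁻¹ * (n i)⁻¹)) := by group
        _ = z (σ i) * ((u * n i * u⁻¹ * (n i)⁻¹) * (z i)⁻¹) := by
            rw [habV _ (inv_mem (E.zV i)) _ (mul_mem hV1 (inv_mem (E.nV i)))]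
        _ = z (σ i) * (u * n i * u⁻¹) * (z i * n i)⁻¹ := by group
        _ = u * n i * u⁻¹ * (n i)⁻¹ := h6
    exact mul_inv_eq_one.1 (mul_eq_right.1 h8)
  exact hne (C.disj hc hPH E (x := z i) (by rw [← h7]; exact Or.inl rfl) (Or.inl rfl))

/-- the action of `U` -/
theorem U_n {U : Subgroup G} (hUS : U ≤ (S : Subgroup G)) (hSU : (S : Subgroup G) ≤ normalizer (U : Set G))
    (hab : ∀ u ∈ U, ∀ v ∈ U, u * v = v * u) {g : G} (hg : g ∈ U) (i : Fin k) :
    g * n i * g⁻¹ = n i ∨ g * n i * g⁻¹ = z i * n i := by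
  obtain ⟨h1, h2⟩ := C.perm_id hc hPH E hUS hSU hab hg i
  rcases h1 with h1 | h1 | h1
  · exfalso
    have h3 : n i = z i := by
      have h4 : g⁻¹ * (g * n i * g⁻¹) * g = g⁻¹ * (g * z i * g⁻¹) * g := by rw [h1, h2]
      calc n i = g⁻¹ * (g * n i * g⁻¹) * g := by group
        _ = g⁻¹ * (g * z i * g⁻¹) * g := h4
        _ = z i := by group
    have h5 := E.en i
    rw [h3, E.ez] at h5
    have h6 := congrFun h5 i
    rw [Pi.single_eq_same, Pi.single_eq_same] at h6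
    exact one_ne_zero (congrFun h6 0)
  · exact Or.inl h1
  · exact Or.inr h1

theorem U_z {U : Subgroup G} (hUS : U ≤ (S : Subgroup G)) (hSU : (S : Subgroup G) ≤ normalizer (U : Set G))
    (hab : ∀ u ∈ U, ∀ v ∈ U, u * v = v * u) {g : G} (hg : g ∈ U) (i : Fin k) : g * z i = z i * g :=
  mul_inv_eq_iff_eq_mul.1 (C.perm_id hc hPH E hUS hSU hab hg i).2

end exa

section prod

omit [Finite G] in
theorem prod_mem {A : Subgroup G} {f : Fin k → G} (h : ∀ i, f i ∈ A) : (List.ofFn f).prod ∈ A := by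
  refine A.list_prod_mem fun x hx => ?_
  obtain ⟨i, rfl⟩ := (List.mem_ofFn' f x).1 hx
  exact h i

omit [Finite G] in
theorem conj_prod (g : G) (f : Fin k → G) :
    g * (List.ofFn f).prod * g⁻¹ = (List.ofFn fun i => g * f i * g⁻¹).prod := by
  have h := map_list_prod (MulAut.conj g) (List.ofFn f)
  rw [List.map_ofFn] at h
  exact h

omit [Finite G] in
theorem prod_perm {f : Fin k → G} (hf : ∀ i j, f i * f j = f j * f i) (σ : Equiv.Perm (Fin k)) :
    (List.ofFn fun i => f (σ i)).prod = (List.ofFn f).prod := by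
  refine (Equiv.Perm.ofFn_comp_perm σ f).prod_eq' ?_
  rw [List.pairwise_ofFn]
  intro i j _
  exact hf _ _

include C in
theorem e_prod {f : Fin k → G} (hf : ∀ i, f i ∈ zl (S : Subgroup G) P) :
    e (List.ofFn f).prod = ∑ i, e (f i) := by
  have key : ∀ l : List G, (∀ x ∈ l, x ∈ zl (S : Subgroup G) P) → e l.prod = (l.map e).sum := by
    intro l
    induction l with
    | nil => intro _; simp [C.e_one]
    | cons a l ih =>
      intro h
      have h1 : ∀ x ∈ l, x ∈ zl (S : Subgroup G) P := fun x hx => h x (List.mem_cons_of_mem a hx)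
      rw [List.prod_cons, C.mul a (h a List.mem_cons_self) _ (Subgroup.list_prod_mem _ h1), ih h1,
        List.map_cons, List.sum_cons]
  rw [key _ fun x hx => by
    obtain ⟨i, rfl⟩ := (List.mem_ofFn' f x).1 hx
    exact hf i, List.map_ofFn, List.sum_ofFn]
  rfl

end prod

section hyp

variable [CharP F 2] (hc : IsCharacteristicTwoType G) (hPH : IsParS (S : Subgroup G) P)
variable {z n s : Fin k → G} {w : G} (E : Exa (S : Subgroup G) P D e z n s w)
include hc hPH C E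

/-- the coordinates of `e` -/
theorem e_e : e (List.ofFn z).prod = fun _ => ![1, 0] := by
  rw [C.e_prod E.zV]
  have h1 : ∀ i, e (z i) = Pi.single i ((fun _ => ![1, 0] : Fin k → Fin 2 → F) i) := fun i => E.ez i
  rw [Finset.sum_congr rfl fun i _ => h1 i]
  exact Finset.univ_sum_single _

theorem ee_V₀ : (List.ofFn z).prod ∈ _root_.Subgroup.closure (Set.range z ∪ Set.range n) :=
  prod_mem fun i => _root_.Subgroup.subset_closure (Or.inl ⟨i, rfl⟩)

theorem ee_V : (List.ofFn z).prod ∈ zl (S : Subgroup G) P := prod_mem E.zV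

/-- `e ∈ Z` -/
theorem ee_Z : (List.ofFn z).prod ∈ zc (S : Subgroup G) := by
  have hV := C.ee_V hc hPH E
  refine mem_zc.2 ⟨IsParS.zl_le_S hc hPH hV, fun g hg => ?_, by rw [pow_two]; exact sqV hc hPH _ hV⟩
  obtain ⟨σ, hσ⟩ := C.perm_z hc hPH E hg
  rw [← mul_inv_eq_iff_eq_mul, conj_prod]
  have h1 : (fun i => g * z i * g⁻¹) = fun i => z (σ i) := funext hσ
  rw [h1]
  exact prod_perm (fun i j => abV hc hPH _ (E.zV i) _ (E.zV j)) σ

omit E in
/-- the second coordinates vanish on `Z` -/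
theorem e_Z {x : G} (hx : x ∈ zc (S : Subgroup G)) (i : Fin k) : e x i 1 = 0 := by
  obtain ⟨t, htS, h1, -⟩ := C.unip i
  have h3 := h1 x (zc_le_zl _ _ hx) i
  have h4 : t * x * t⁻¹ = x := by
    rw [(mem_zc.1 hx).2.1 t htS, mul_inv_cancel_right]
  rw [h4, Pi.mulSingle_eq_same] at h3
  change e x i = ap (up 1) (e x i) at h3
  rw [ap_up'] at h3
  have h5 : e x i 0 = e x i 0 + 1 * e x i 1 := congrFun h3 0
  rw [one_mul] at h5
  exact left_eq_add.1 h5

omit E in
/-- `Z ∩ D ≤ C(P)` -/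
theorem DZ {x : G} (hx : x ∈ zc (S : Subgroup G)) (hD : x ∈ D) : x ∈ centralizer (P : Set G) := by
  have h1 : P ≤ centralizer ({x} : Set G) := by
    refine C.gen _ (fun g hg => ?_) fun h _ hhD _ _ => ?_
    · exact mem_centralizer_singleton_iff.2 ((mem_zc.1 hx).2.1 g hg)
    · exact mem_centralizer_singleton_iff.2 (mem_centralizer_iff.1 hhD x hD).symm
  rw [mem_centralizer_iff]
  intro g hg
  exact mem_centralizer_singleton_iff.1 (h1 hg)

theorem Zor {x : G} (hx : x ∈ zc (S : Subgroup G)) :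
    x ∈ centralizer (P : Set G) ∨ (List.ofFn z).prod * x ∈ centralizer (P : Set G) := by
  have hxV : x ∈ zl (S : Subgroup G) P := zc_le_zl _ _ hx
  have h1 : ∀ i j, e x i = 0 → e x j = 0 := by
    intro i j h
    obtain ⟨g, hg, hgv⟩ := C.trans i j
    have h4 : g * x * g⁻¹ = x := by
      rw [(mem_zc.1 hx).2.1 g hg, mul_inv_cancel_right]
    have h5 := (hgv x hxV).2 h
    rwa [h4] at h5
  by_cases h : ∀ i, e x i = 0
  · left
    exact C.DZ hc hPH hx ((C.ker x hxV).1 (funext h))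
  · right
    push Not at h
    obtain ⟨i, hi⟩ := h
    refine C.DZ hc hPH (mul_mem (C.ee_Z hc hPH E) hx) ?_
    rw [← C.ker _ (mul_mem (C.ee_V hc hPH E) hxV), C.mul _ (C.ee_V hc hPH E) _ hxV, C.e_e hc hPH E]
    funext j
    have hj : e x j ≠ 0 := fun h0 => hi (h1 j i h0)
    have h2 := C.e_Z hc hPH hx j
    have h3 : e x j 0 = 1 := C.eq_one fun h0 => hj (by funext l; fin_cases l; exacts [h0, h2])
    have h4 : (1 : F) + 1 = 0 := CharTwo.add_self_eq_zero 1
    funext l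
    fin_cases l
    · change (1 : F) + e x j 0 = 0
      rw [h3, h4]
    · change (0 : F) + e x j 1 = 0
      rw [h2, add_zero]

theorem cov {v : G} (hv : v ∈ zl (S : Subgroup G) P) : ∃ x ∈ _root_.Subgroup.closure (Set.range z ∪ Set.range n),
    ∃ ε ∈ zc (S : Subgroup G) ⊓ centralizer (P : Set G), v = x * ε := by
  have hVS : zl (S : Subgroup G) P ≤ (S : Subgroup G) := IsParS.zl_le_S hc hPH
  have hP : P ≤ normalizer (closure (Set.range z ∪ Set.range n) : Set G) := by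
    intro g hg
    rw [mem_normalizer_iff]
    intro x
    refine ⟨fun hx => C.conj_V₀ hc hPH E hg hx, fun hx => ?_⟩
    have h1 := C.conj_V₀ hc hPH E (inv_mem hg) hx
    have e1 : g⁻¹ * (g * x * g⁻¹) * g⁻¹⁻¹ = x := by group
    rwa [e1] at h1
  have hP' : P ≤ normalizer ((zc (S : Subgroup G) ⊓ centralizer (P : Set G) : Subgroup G) : Set G) :=
    RTools.le_normalizer_of_comm (comm_symm inf_le_right)
  have h1 : zl (S : Subgroup G) P ≤ _root_.Subgroup.closure (Set.range z ∪ Set.range n) ⊔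
      (zc (S : Subgroup G) ⊓ centralizer (P : Set G)) := by
    refine zl_le (fun x hx => ?_) (RTools.le_normalizer_sup hP hP')
    rcases C.Zor hc hPH E hx with h | h
    · exact (le_sup_right : zc (S : Subgroup G) ⊓ centralizer (P : Set G) ≤ _) ⟨hx, h⟩
    · have h2 := (le_sup_left : closure (Set.range z ∪ Set.range n) ≤ closure (Set.range z ∪ Set.range n) ⊔
        (zc (S : Subgroup G) ⊓ centralizer (P : Set G))) (C.ee_V₀ hc hPH E)
      have h3 := (le_sup_right : zc (S : Subgroup G) ⊓ centralizer (P : Set G) ≤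
        closure (Set.range z ∪ Set.range n) ⊔ (zc (S : Subgroup G) ⊓ centralizer (P : Set G)))
          ⟨mul_mem (C.ee_Z hc hPH E) hx, h⟩
      have h4 := mul_mem (inv_mem h2) h3
      rwa [inv_mul_cancel_left] at h4
  have h2 : zc (S : Subgroup G) ⊓ centralizer (P : Set G) ≤
      normalizer (closure (Set.range z ∪ Set.range n) : Set G) :=
    (inf_le_left.trans ((zc_le _).trans hPH.le)).trans hP
  have h3 : v ∈ ((closure (Set.range z ∪ Set.range n) : Set G) *
      ((zc (S : Subgroup G) ⊓ centralizer (P : Set G) : Subgroup G) : Set G)) := by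
    rw [← coe_mul_of_right_le_normalizer_left _ _ h2]
    exact h1 hv
  obtain ⟨x, hx, ε, hε, rfl⟩ := Set.mem_mul.1 h3
  exact ⟨x, hx, ε, hε, rfl⟩

theorem Cz {g : G} (hg : g ∈ P) : g ∈ CZ (S : Subgroup G) ↔ ∀ i, ∃ j, g * z i * g⁻¹ = z j := by
  obtain ⟨σ, hσ⟩ := C.perm_Nn hc hPH E hg
  have hσz : ∀ i, g * z i * g⁻¹ ∈ Nn z n (σ i) := fun i => hσ i (z i) (Or.inl rfl)
  have hσV : ∀ i, g * z i * g⁻¹ ∈ zl (S : Subgroup G) P := fun i => con hg (E.zV i)
  constructor
  · intro h j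
    have h1 : g * (List.ofFn z).prod * g⁻¹ = (List.ofFn z).prod := by
      rw [← mem_centralizer_iff.1 h _ (C.ee_Z hc hPH E), mul_inv_cancel_right]
    rw [conj_prod] at h1
    have h2 := C.e_prod hσV
    rw [h1, C.e_e hc hPH E] at h2
    have h3 := congrFun h2 (σ j)
    rw [Finset.sum_apply, Finset.sum_eq_single j ?_ (fun h => absurd (Finset.mem_univ j) h)] at h3
    · refine ⟨σ j, C.eq_z hc hPH E (hσz j) ?_⟩
      rw [← h3]
      rfl
    · intro i _ hij
      obtain ⟨y, -, hy⟩ := C.e_Nn hc hPH E (hσz i)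
      rw [hy, Pi.single_eq_of_ne]
      exact fun h0 => hij (σ.injective h0).symm
  · intro h
    have h1 : ∀ i, g * z i * g⁻¹ = z (σ i) := by
      intro i
      obtain ⟨j, hj⟩ := h i
      have h2 := hσz i
      rw [hj] at h2 ⊢
      rw [C.disj hc hPH E h2 (Or.inl rfl)]
    have h2 : g * (List.ofFn z).prod * g⁻¹ = (List.ofFn z).prod := by
      rw [conj_prod, funext h1]
      exact prod_perm (fun i j => abV hc hPH _ (E.zV i) _ (E.zV j)) σ
    have h3 : g * (List.ofFn z).prod = (List.ofFn z).prod * g := mul_inv_eq_iff_eq_mul.1 h2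
    refine mem_centralizer_iff.2 fun x hx => ?_
    rcases C.Zor hc hPH E hx with h4 | h4
    · exact (mem_centralizer_iff.1 h4 g hg).symm
    · have h5 := mem_centralizer_iff.1 h4 g hg
      have h6 : (List.ofFn z).prod * (x * g) = (List.ofFn z).prod * (g * x) := by
        calc (List.ofFn z).prod * (x * g) = (List.ofFn z).prod * x * g := by group
          _ = (g * (List.ofFn z).prod) * x := by rw [← h5]; group
          _ = (List.ofFn z).prod * (g * x) := by rw [h3]; group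
      exact mul_left_cancel h6

/-- `D ≤ Z ∩ C(P)` -/
theorem D_le {d : G} (hd : d ∈ D) : d ∈ zc (S : Subgroup G) ⊓ centralizer (P : Set G) := by
  obtain ⟨x, hx, ε, hε, h1⟩ := C.cov hc hPH E (C.DV hd)
  have hεV : ε ∈ zl (S : Subgroup G) P := zc_le_zl _ _ hε.1
  have hεD : ε ∈ D := by
    rw [← C.ker _ hεV]
    have h2 : ∀ i, e ε i = 0 := by
      intro i
      have h3 := C.e_Z hc hPH hε.1 i
      have h4 := E.lw.act ε hεV i
      have h5 : w * ε * w⁻¹ = ε := by
        rw [mem_centralizer_iff.1 hε.2 w E.lw.mem, mul_inv_cancel_right]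
      rw [h5] at h4
      rcases C.vec (e ε i) with h6 | h6 | h6 | h6
      · exact h6
      · exfalso
        rw [h6] at h4
        rw [ap_sw_z] at h4
        exact one_ne_zero (congrFun h4 0)
      · rw [h6] at h3; exact absurd h3 one_ne_zero
      · rw [h6] at h3; exact absurd h3 one_ne_zero
    exact funext h2
  have h2 : x ∈ D := by
    have h3 : x = d * ε⁻¹ := by rw [h1]; group
    rw [h3]
    exact mul_mem hd (inv_mem hεD)
  rw [h1, C.V₀_inf hc hPH E hx h2, one_mul]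
  exact hε

omit E in
/-- **`HypK`.** -/
theorem exists_hypK (Da : DataLow (S : Subgroup G)) (hPA : PairA (S : Subgroup G) P H)
    (hmin : ∀ H₁ : Subgroup G, IsLong (S : Subgroup G) H₁ → H₁ ≤ H → H₁ ≠ H →
      zl (S : Subgroup G) P ≤ centralizer (zl (S : Subgroup G) H₁ : Set G)) :
    ∃ (z n : Fin k → G) (e w : G), HypK S P H z n e w := by
  obtain ⟨z, n, s, w, E⟩ := C.exists_exa hc hPH
  have hUS : zl (S : Subgroup G) H ≤ (S : Subgroup G) := IsLong.zl_le_S hc hPA.long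
  have hSU : (S : Subgroup G) ≤ normalizer (zl (S : Subgroup G) H : Set G) :=
    hPA.long.loc.le.trans (le_normalizer_zl _ _)
  have hab : ∀ u ∈ zl (S : Subgroup G) H, ∀ v ∈ zl (S : Subgroup G) H, u * v = v * u := fun u hu v hv =>
    mem_centralizer_iff.1 ((zl_abel hc S hPA.long.loc).1 hv) u hu
  refine ⟨z, n, _, w, hc, Da, hPH, hPA.long, hPA.ne, hmin, E.zV, E.nV, fun i h => ?_, fun i h => ?_,
    fun i j x => C.disj hc hPH E, fun v => C.cov hc hPH E, rfl, C.ee_Z hc hPH E, fun x => C.Zor hc hPH E,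
    fun p hp => C.perm_Nn hc hPH E hp, fun g hg i => ?_, C.trans_z hc hPH E, fun p => C.Cz hc hPH E,
    fun u hu i => C.U_n hc hPH E hUS hSU hab hu i, fun u hu i => C.U_z hc hPH E hUS hSU hab hu i,
    E.lw.mem, E.wz, E.wn⟩
  · have h5 := E.ez i
    rw [h, C.e_one] at h5
    have h6 := congrFun h5 i
    rw [Pi.single_eq_same] at h6
    exact one_ne_zero (congrFun h6 0).symm
  · have h5 := E.ez i
    rw [← h, E.en] at h5
    have h6 := congrFun h5 i
    rw [Pi.single_eq_same, Pi.single_eq_same] at h6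
    exact zero_ne_one (congrFun h6 0)
  · obtain ⟨σ, hσ⟩ := C.perm_z hc hPH E hg
    exact ⟨σ i, hσ i⟩

end hyp

end CrdK

/-- **`CrdK` from `NatK`.** -/
theorem crdK_of_natK [Finite G] {S : Sylow 2 G} {P D : Subgroup G} {F : Type} [Field F]
    (hF : ∀ x : F, x = 0 ∨ x = 1)
    (M : NatK F (S : Subgroup G) P (zl (S : Subgroup G) P) D k) (hDV : D ≤ zl (S : Subgroup G) P) :
    CrdK F (S : Subgroup G) P D k M.e := by
  have hcon : ∀ {g v : G}, g ∈ P → v ∈ zl (S : Subgroup G) P → g * v * g⁻¹ ∈ zl (S : Subgroup G) P := fun hg hv =>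
    (mem_normalizer_iff.1 (le_normalizer_zl _ _ hg) _).1 hv
  have ker' : ∀ g ∈ P, ∀ v ∈ zl (S : Subgroup G) P, M.e (g * v * g⁻¹) = 0 ↔ M.e v = 0 := by
    intro g hg v hv
    obtain ⟨σ, hσ⟩ := M.perm g hg
    constructor
    · intro h
      funext i
      exact (hσ v hv i).1 (congrFun h _)
    · intro h
      funext i
      obtain ⟨j, rfl⟩ := σ.surjective i
      exact (hσ v hv j).2 (congrFun h j)
  refine ⟨hF, M.mul, M.surj, M.ker, hDV, ?_, fun A => ?_, ?_, M.perm, M.trans, M.line, ?_, ?_⟩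
  · intro g hg
    rw [mem_normalizer_iff]
    intro x
    constructor
    · intro hx
      have hxW := hDV hx
      rw [← M.ker _ (hcon hg hxW), ker' g hg x hxW]
      exact (M.ker x hxW).2 hx
    · intro hx
      have hxW : x ∈ zl (S : Subgroup G) P := (mem_normalizer_iff.1 (le_normalizer_zl _ _ hg) _).2 (hDV hx)
      rw [← M.ker x hxW, ← ker' g hg x hxW]
      exact (M.ker _ (hcon hg hxW)).2 hx
  · obtain ⟨g, hg, h1, h2⟩ := M.lift A
    exact ⟨g, hg, h1, mem_centralizer_iff.2 fun d hd => (h2 d hd).symm⟩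
  · exact fun g hg h hh A hA => M.norm g hg h hh A hA
  · intro K h1 h2
    exact M.gen K h1 fun h hh A hA => h2 h hh (mem_centralizer_iff.2 fun d hd => (hA.2 d hd).symm) A hA.1
  · intro i
    obtain ⟨t, ht, h1, h2⟩ := M.unip (Pi.single i 1)
    refine ⟨t, ht, ?_, mem_centralizer_iff.2 fun d hd => (h2 d hd).symm⟩
    have e1 : (Pi.mulSingle i (up 1) : Fin k → Matrix.SpecialLinearGroup (Fin 2) F) =
        fun j => up ((Pi.single i 1 : Fin k → F) j) := by
      funext j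
      by_cases hj : j = i
      · subst hj
        rw [Pi.mulSingle_eq_same, Pi.single_eq_same]
      · rw [Pi.mulSingle_eq_of_ne hj, Pi.single_eq_of_ne hj, up_zero]
    rw [e1]
    exact h1

/-- a minimal long `H` -/
theorem exists_min [Finite G] {S : Sylow 2 G} {P H : Subgroup G} (hPH : PairA (S : Subgroup G) P H) :
    ∃ H₁ ≤ H, PairA (S : Subgroup G) P H₁ ∧ ∀ H' : Subgroup G, IsLong (S : Subgroup G) H' → H' ≤ H₁ → H' ≠ H₁ →
      zl (S : Subgroup G) P ≤ centralizer (zl (S : Subgroup G) H' : Set G) := by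
  let s : Set (Subgroup G) := {H' | H' ≤ H ∧ PairA (S : Subgroup G) P H'}
  obtain ⟨H₁, h1⟩ := (Set.toFinite s).exists_minimal ⟨H, le_rfl, hPH⟩
  refine ⟨H₁, h1.prop.1, h1.prop.2, fun H' hL hle hne => ?_⟩
  by_contra hcon
  exact hne (le_antisymm hle (h1.le_of_le ⟨hle.trans h1.prop.1, ⟨hPH.par, hL, hcon⟩⟩ hle))

/-- **The plug**: `R ∩ (A)` with `V_P` of type `NatK F .. k`, `|F| = 2`, gives `HypK`; nothing about offenders. -/
theorem exists_hypK_of_natK [Finite G] {S : Sylow 2 G} {P H D : Subgroup G} {F : Type} [Field F] [CharP F 2]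
    (hc : IsCharacteristicTwoType G) (Da : DataLow (S : Subgroup G)) (hPH : PairA (S : Subgroup G) P H)
    (hF : ∀ x : F, x = 0 ∨ x = 1)
    (M : NatK F (S : Subgroup G) P (zl (S : Subgroup G) P) D k) (hDV : D ≤ zl (S : Subgroup G) P) :
    ∃ H₁ ≤ H, ∃ (z n : Fin k → G) (e w : G), HypK S P H₁ z n e w := by
  obtain ⟨H₁, h1, h2, h3⟩ := exists_min hPH
  exact ⟨H₁, h1, (crdK_of_natK hF M hDV).exists_hypK hc h2.par Da h2 h3⟩

end Cfsg.Agent.Omega.NOThreeL.RTools.Many
end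

-- part: Mrg/Omega/NOThreeL/RSym
section
/-!
# NO-3L, case (A), with radical: `V_P` of type `S_{2^m+1}^k` is impossible (helper797)

`AFourSym.no_sym` (#14566 (2), #16668, helper477) without the hypothesis `C_Z(P) = 1`.  `V = V_P`,
`D = C_V(O²(P))`, `M : SymK S P V D k m`, `m ≥ 2`.

* `const_r` : `Z` is constant on the nonzero points of every component (modulo `D`);
* `exists_moved` : an element of `S` acting nontrivially on `V / D` moves a nonzero point;
* `false_of` : instead of a transposition, the square `g = x²` of a lift `x` of a 3-cycle `(y w u)` on nonzero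
  points: `x` centralises `D` and `Z` modulo `D`, so `g` centralises `Z`;
* `no_sym` : **there is no pair of type (A) with `V_P` of type `S_{2^m+1}^k`** (`Data S`).
-/

set_option autoImplicit false

namespace Cfsg.Agent.Omega.NOThreeL.RSym

open Subgroup Cfsg Cfsg.Agent.ZN Cfsg.Agent.Omega.MinPar Cfsg.Agent.Omega.Frame Cfsg.Agent.Omega.FrameNOFF
open Cfsg.Agent.ZN.ChoiceBase Cfsg.Agent.ZN.ChoiceSit
open Cfsg.Agent.Omega.Node.NO3L Cfsg.Agent.Omega.NOThreeL.Basic
open Cfsg.Agent.Omega.FFThm (Off SymK ActsSym)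
open Cfsg.Agent.MinSimple.VModule (le_normalizer_zl)
open Cfsg.Agent.Omega.NOThreeL.AThree (exists_perm odd_pow acts_pow exists_ne ai ia)

universe u

variable {G : Type u} [Group G] [Finite G]

/-- **`Z` is constant on the nonzero points.** -/
theorem const_r (S : Sylow 2 G) {P V D : Subgroup G} {k m : ℕ} (hm : 1 ≤ m) (hSP : (S : Subgroup G) ≤ P)
    (hPV : P ≤ normalizer (V : Set G)) (M : SymK (S : Subgroup G) P V D k m) {z : G} (hzV : z ∈ V)
    (hz : ∀ s ∈ (S : Subgroup G), s * z = z * s) (i : Fin k) {x y : Fin (2 ^ m + 1)} (hx : x ≠ 0)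
    (hy : y ≠ 0) : M.e z i x = M.e z i y := by
  classical
  have hN : ∀ {g : G}, g ∈ P → ∀ v ∈ V, g * v * g⁻¹ ∈ V := fun hg v hv =>
    (mem_normalizer_iff.1 (hPV hg) v).1 hv
  have h2m : 0 < 2 ^ m := by positivity
  obtain ⟨π, hπ0, hπn, hπ⟩ := exists_perm h2m
  obtain ⟨g, hg, hact, -⟩ := M.lift (Function.update 1 i π)
  -- the 2-part
  obtain ⟨a, r, hr, ho⟩ := Nat.exists_eq_two_pow_mul_odd (n := orderOf g) (orderOf_pos g).ne'
  have hp : IsPGroup 2 (zpowers (g ^ r)) := by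
    rintro ⟨u, hu⟩
    obtain ⟨j, rfl⟩ := mem_zpowers_iff.1 hu
    refine ⟨a, Subtype.ext ?_⟩
    have h1 : (g ^ r) ^ 2 ^ a = 1 := by
      rw [← pow_mul, mul_comm, ← ho, pow_orderOf_eq_one]
    change ((g ^ r) ^ j) ^ 2 ^ a = 1
    rw [← zpow_natCast, ← zpow_mul, mul_comm, zpow_mul, zpow_natCast, h1, one_zpow]
  obtain ⟨n, hn, hnS⟩ := FFThm.exists_conj_le S hSP hp (zpowers_le.2 (pow_mem hg r))
  have hS : n * g ^ r * n⁻¹ ∈ (S : Subgroup G) := hnS (by
    rw [mem_cj]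
    have : n⁻¹ * (n * g ^ r * n⁻¹) * n = g ^ r := by group
    rw [this]
    exact mem_zpowers _)
  have hgr := acts_pow (hPV hg) hact r
  obtain ⟨σ, τ, hστ⟩ := M.perm n hn
  -- the action of `n g^r n⁻¹`
  have hconj : ActsSym M.e V (n * g ^ r * n⁻¹) 1
      (fun l => τ (σ⁻¹ l) * ((Function.update 1 i π : Fin k → Equiv.Perm (Fin (2 ^ m + 1))) ^ r) (σ⁻¹ l) *
        (τ (σ⁻¹ l))⁻¹) := by
    intro v hv l u
    obtain ⟨j, rfl⟩ := σ.surjective l
    obtain ⟨u, rfl⟩ := (τ j).surjective u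
    have hw : n⁻¹ * v * n ∈ V := by
      have := (mem_normalizer_iff.1 (inv_mem (hPV hn)) v).1 hv
      rwa [inv_inv] at this
    have e1 : n * g ^ r * n⁻¹ * v * (n * g ^ r * n⁻¹)⁻¹ = n * (g ^ r * (n⁻¹ * v * n) * (g ^ r)⁻¹) * n⁻¹ := by
      group
    have e2 : n * (n⁻¹ * v * n) * n⁻¹ = v := by group
    have h3 := hστ _ (hN (pow_mem hg r) _ hw) j
      (((Function.update 1 i π : Fin k → Equiv.Perm (Fin (2 ^ m + 1))) ^ r) j u)
    have h4 := hgr _ hw j u
    have h5 := hστ _ hw j u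
    rw [e2] at h5
    rw [e1]
    simp only [Equiv.Perm.one_apply, ia, Equiv.Perm.mul_apply] at h3 h4 h5 ⊢
    rw [h3, h4, h5]
  have hfix := M.fix0 _ hS _ _ hconj (σ i)
  simp only [ia, Equiv.Perm.mul_apply, Pi.pow_apply, Function.update_self] at hfix
  -- `τ i` fixes `0`
  have hπr : (π ^ r) ((τ i)⁻¹ 0) = (τ i)⁻¹ 0 := by
    have := congrArg (⇑(τ i)⁻¹) hfix
    rwa [ia] at this
  have hτ0 : (τ i)⁻¹ 0 = 0 := by
    by_contra hne
    have h1 : π ((τ i)⁻¹ 0) = (τ i)⁻¹ 0 := by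
      have := odd_pow hπn hr (f := fun x => x = (τ i)⁻¹ 0) (fun x => by
        apply propext
        constructor
        · intro h
          rw [← hπr] at h
          exact (π ^ r).injective h
        · rintro rfl
          exact hπr) ((τ i)⁻¹ 0)
      simpa only [_root_.Equiv.Perm.coe_inv, _root_.eq_iff_iff, _root_.iff_true] using this
    have h2 : ∀ j : ℕ, (π ^ j) ((τ i)⁻¹ 0) = (τ i)⁻¹ 0 := by
      intro j
      induction j with
      | zero => rfl
      | succ j ih => rw [pow_succ', Equiv.Perm.mul_apply, ih, h1]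
    have h3 : ∀ y : Fin (2 ^ m + 1), y ≠ 0 → y = (τ i)⁻¹ 0 := by
      intro y hy
      obtain ⟨j, hj⟩ := hπ _ y hne hy
      rw [← hj, h2]
    have h4 : 2 ^ 1 ≤ 2 ^ m := Nat.pow_le_pow_right (by norm_num) hm
    have h5 : (⟨1, by omega⟩ : Fin (2 ^ m + 1)) = ⟨2, by omega⟩ := by
      rw [h3 ⟨1, by omega⟩ (by simp [Fin.ext_iff]), ← h3 ⟨2, by omega⟩ (by simp [Fin.ext_iff])]
    simp [Fin.ext_iff] at h5
  -- `w = n⁻¹ z n`
  have hw : n⁻¹ * z * n ∈ V := by
    have := (mem_normalizer_iff.1 (inv_mem (hPV hn)) z).1 hzV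
    rwa [inv_inv] at this
  have hwfix : g ^ r * (n⁻¹ * z * n) * (g ^ r)⁻¹ = n⁻¹ * z * n := by
    have h1 := hz _ hS
    have e1 : g ^ r * (n⁻¹ * z * n) * (g ^ r)⁻¹ =
        n⁻¹ * ((n * g ^ r * n⁻¹) * z) * (n * g ^ r * n⁻¹)⁻¹ * n := by group
    rw [e1, h1]
    group
  have hwc : ∀ x y : Fin (2 ^ m + 1), x ≠ 0 → y ≠ 0 →
      M.e (n⁻¹ * z * n) i x = M.e (n⁻¹ * z * n) i y := by
    have h1 : ∀ x, M.e (n⁻¹ * z * n) i ((π ^ r) x) = M.e (n⁻¹ * z * n) i x := by
      intro x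
      have h2 := hgr _ hw i x
      rw [hwfix] at h2
      simpa only [_root_.Equiv.Perm.coe_one, _root_.id_eq, _root_.Pi.pow_apply, _root_.Function.update_self] using h2
    have h2 : ∀ x, M.e (n⁻¹ * z * n) i (π x) = M.e (n⁻¹ * z * n) i x := odd_pow hπn hr h1
    intro x y hx hy
    obtain ⟨j, rfl⟩ := hπ x y hx hy
    clear hy
    induction j with
    | zero => rfl
    | succ j ih => rw [pow_succ', Equiv.Perm.mul_apply, h2, ih]
  have hzc : ∀ x y : Fin (2 ^ m + 1), x ≠ 0 → y ≠ 0 → M.e z (σ i) x = M.e z (σ i) y := by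
    have h1 : ∀ x, M.e z (σ i) (τ i x) = M.e (n⁻¹ * z * n) i x := by
      intro x
      have h2 := hστ _ hw i x
      have e2 : n * (n⁻¹ * z * n) * n⁻¹ = z := by group
      rwa [e2] at h2
    have h0 : τ i 0 = 0 := by
      have := congrArg (τ i) hτ0
      rw [ai] at this
      exact this.symm
    intro x y hx hy
    obtain ⟨x, rfl⟩ := (τ i).surjective x
    obtain ⟨y, rfl⟩ := (τ i).surjective y
    rw [h1, h1]
    exact hwc x y (fun h => hx (by rw [h, h0])) fun h => hy (by rw [h, h0])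
  obtain ⟨t, ht, σ', τ', hact', hσ'⟩ := M.trans i (σ i)
  have h1 : ∀ x, M.e z (σ i) (τ' i x) = M.e z i x := by
    intro x
    have h2 := hact' z hzV i x
    have e2 : t * z * t⁻¹ = z := by rw [hz t ht]; group
    rwa [e2, hσ'] at h2
  have h0 : τ' i 0 = 0 := M.fix0 t ht σ' τ' hact' i
  rw [← h1, ← h1]
  exact hzc _ _ (fun h => hx ((τ' i).injective (h.trans h0.symm))) fun h =>
    hy ((τ' i).injective (h.trans h0.symm))

/-- two further nonzero points -/
theorem exists_two {m : ℕ} (hm : 2 ≤ m) (x y : Fin (2 ^ m + 1)) :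
    ∃ w u, w ≠ 0 ∧ w ≠ x ∧ w ≠ y ∧ u ≠ 0 ∧ u ≠ x ∧ u ≠ y ∧ u ≠ w := by
  obtain ⟨w, hw0, hwx, hwy⟩ := exists_ne hm x y
  have h1 : ({0, x, y, w} : Finset (Fin (2 ^ m + 1))).card < Fintype.card (Fin (2 ^ m + 1)) := by
    have h2 : ({0, x, y, w} : Finset (Fin (2 ^ m + 1))).card ≤ 4 := Finset.card_le_four
    have h3 : 2 ^ 2 ≤ 2 ^ m := Nat.pow_le_pow_right (by norm_num) hm
    rw [Fintype.card_fin]
    omega
  obtain ⟨u, hu⟩ := Finset.exists_mem_notMem_of_card_lt_card (s := {0, x, y, w}) (t := Finset.univ) (by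
    rwa [Finset.card_univ])
  have h2 := hu.2
  simp only [Finset.mem_insert, Finset.mem_singleton, not_or] at h2
  exact ⟨w, u, hw0, hwx, hwy, h2.1, h2.2.1, h2.2.2.1, h2.2.2.2⟩

/-- the 3-cycle `y → u → w → y` -/
def cyc {n : ℕ} (y w u : Fin n) : Equiv.Perm (Fin n) := Equiv.swap y u * Equiv.swap u w

theorem cyc_y {n : ℕ} {y w u : Fin n} (h1 : w ≠ y) (h2 : u ≠ y) : cyc y w u y = u := by
  simp [cyc, Equiv.swap_apply_of_ne_of_ne h2.symm h1.symm]

theorem cyc_u {n : ℕ} {y w u : Fin n} (h1 : w ≠ y) (h3 : u ≠ w) : cyc y w u u = w := by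
  simp [cyc, Equiv.swap_apply_of_ne_of_ne h1 h3.symm]

theorem cyc_w {n : ℕ} {y w u : Fin n} : cyc y w u w = y := by
  simp [cyc]

theorem cyc_of_ne {n : ℕ} {y w u x : Fin n} (h1 : x ≠ y) (h2 : x ≠ w) (h3 : x ≠ u) : cyc y w u x = x := by
  simp [cyc, Equiv.swap_apply_of_ne_of_ne h3 h2, Equiv.swap_apply_of_ne_of_ne h1 h3]

/-- **A quadratic abelian subgroup of `S` normalised by `C_P(Z)` centralises `V / D`** (`V` of type
`S_{2^m+1}^k`). -/
theorem false_of (S : Sylow 2 G) {P V Z A D : Subgroup G} {k m : ℕ} (hm : 2 ≤ m)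
    (hSP : (S : Subgroup G) ≤ P) (hPV : P ≤ normalizer (V : Set G)) (hDV : D ≤ V)
    (hV2 : ∀ v ∈ V, v * v = 1) (M : SymK (S : Subgroup G) P V D k m)
    (hZV : Z ≤ V) (hZ : ∀ s ∈ (S : Subgroup G), ∀ z ∈ Z, s * z = z * s) (hAS : A ≤ (S : Subgroup G))
    (hA : ∀ a ∈ A, ∀ b ∈ A, a * b = b * a) (hVA : V ≤ normalizer (A : Set G))
    (hn : ∀ g ∈ P, (∀ z ∈ Z, g * z = z * g) → g ∈ normalizer (A : Set G))
    {a : G} (ha : a ∈ A) {v₀ : G} (hv₀ : v₀ ∈ V) (hne : a * v₀ * a⁻¹ * v₀⁻¹ ∉ D) : False := by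
  classical
  have hN : ∀ {g : G}, g ∈ P → ∀ v ∈ V, g * v * g⁻¹ ∈ V := fun hg v hv =>
    (mem_normalizer_iff.1 (hPV hg) v).1 hv
  have hN' : ∀ {g : G}, g ∈ P → ∀ v ∈ V, g⁻¹ * v * g ∈ V := fun {g} hg v hv => by
    have := hN (inv_mem hg) v hv
    rwa [inv_inv] at this
  -- equality of coordinates is equality modulo `D`
  have hmod : ∀ {v w : G}, v ∈ V → w ∈ V → M.e v = M.e w → v * w⁻¹ ∈ D := by
    intro v w hv hw he
    have h1 : M.e (v * w⁻¹) = 0 := by
      have h2 := M.mul (v * w⁻¹) (mul_mem hv (inv_mem hw)) w hw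
      rw [inv_mul_cancel_right, he] at h2
      exact right_eq_add.mp h2
    exact (M.ker _ (mul_mem hv (inv_mem hw))).1 h1
  have haP : a ∈ P := hSP (hAS ha)
  obtain ⟨σ, τ, hact⟩ := M.perm a haP
  have h0 : ∀ i, τ i 0 = 0 := M.fix0 a (hAS ha) σ τ hact
  -- a moved nonzero point
  obtain ⟨i, x, hx0, hmv⟩ : ∃ (i : Fin k) (x : Fin (2 ^ m + 1)), x ≠ 0 ∧ ¬ (σ i = i ∧ τ i x = x) := by
    by_contra hcon
    push Not at hcon
    apply hne
    refine hmod (hN haP _ hv₀) hv₀ ?_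
    funext i x
    obtain ⟨w, hw0, -, -⟩ := exists_ne hm x x
    have h1 := hcon i w hw0
    by_cases hx : x = 0
    · subst hx
      have h2 := hact v₀ hv₀ i 0
      rwa [h1.1, h0] at h2
    · have h3 := hcon i x hx
      have h2 := hact v₀ hv₀ i x
      rwa [h3.1, h3.2] at h2
  set j := σ i with hj
  set y := τ i x with hy
  have hy0 : y ≠ 0 := fun h => hx0 ((τ i).injective (by rw [← hy, h, h0]))
  obtain ⟨w, u, hw0, hwx, hwy, hu0, hux, huy, huw⟩ := exists_two hm x y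
  obtain ⟨x₁, hx₁, hx₁act, hx₁D⟩ := M.lift (Function.update 1 j (cyc y w u))
  set g : G := x₁ ^ 2 with hgdef
  have hg : g ∈ P := pow_mem hx₁ 2
  have hgact : ActsSym M.e V g 1 ((Function.update 1 j (cyc y w u) : Fin k → Equiv.Perm (Fin (2 ^ m + 1))) ^ 2) := acts_pow (hPV hx₁) hx₁act 2
  -- `g` centralises `Z`
  have hgZ : ∀ z ∈ Z, g * z = z * g := by
    intro z hz
    have hzV := hZV hz
    have hc := fun (l : Fin k) {x y : Fin (2 ^ m + 1)} => const_r S (by omega) hSP hPV M hzV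
      (fun s hs => hZ s hs z hz) l (x := x) (y := y)
    have h1 : M.e (x₁ * z * x₁⁻¹) = M.e z := by
      funext l t
      by_cases hl : l = j
      · have h2 : ∀ r, M.e (x₁ * z * x₁⁻¹) j (cyc y w u r) = M.e z j r := by
          intro r
          have h2 := hx₁act z hzV j r
          rw [Function.update_self] at h2
          simpa only [Equiv.Perm.one_apply] using h2
        rw [hl]
        by_cases h3 : t = y
        · have h4 := h2 w
          rw [cyc_w] at h4
          rw [h3, h4]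
          exact hc _ hw0 hy0
        · by_cases h5 : t = w
          · have h4 := h2 u
            rw [cyc_u hwy huw] at h4
            rw [h5, h4]
            exact hc _ hu0 hw0
          · by_cases h6 : t = u
            · have h4 := h2 y
              rw [cyc_y hwy huy] at h4
              rw [h6, h4]
              exact hc _ hy0 hu0
            · have h4 := h2 t
              rwa [cyc_of_ne h3 h5 h6] at h4
      · have h2 := hx₁act z hzV l t
        rw [Function.update_of_ne hl] at h2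
        simpa only [_root_.Equiv.Perm.coe_one, _root_.id_eq, _root_.Pi.one_apply] using h2
    have h2 := hmod (hN hx₁ z hzV) hzV h1
    set d := x₁ * z * x₁⁻¹ * z⁻¹ with hd
    have h3 : x₁ * d * x₁⁻¹ = d := by rw [hx₁D d h2]; group
    have h4 : g * z * g⁻¹ = x₁ * d * x₁⁻¹ * d * z := by
      rw [hgdef, hd, pow_two]; group
    rw [h3, hV2 d (hDV h2), one_mul] at h4
    calc g * z = g * z * g⁻¹ * g := by group
      _ = z * g := by rw [h4]
  have hb : g * a * g⁻¹ ∈ A := (mem_normalizer_iff.1 (hn g hg hgZ) a).1 ha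
  -- the vector
  obtain ⟨v, hv, hve⟩ := M.surj (Function.update 0 i (fun u => if u = x ∨ u = 0 then 1 else 0)) (by
    intro l
    by_cases hl : l = i
    · subst hl
      rw [Function.update_self]
      have h1 : ∀ u : Fin (2 ^ m + 1), (if u = x ∨ u = 0 then (1 : ZMod 2) else 0) =
          (if u = x then 1 else 0) + if u = 0 then 1 else 0 := by
        intro u
        by_cases h2 : u = x
        · have : u ≠ 0 := h2 ▸ hx0
          simp [h2, hx0]
        · simp [h2]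
      rw [Finset.sum_congr rfl fun u _ => h1 u, Finset.sum_add_distrib]
      simp only [Finset.sum_ite_eq', Finset.mem_univ, if_true]
      exact CharTwo.add_self_eq_zero _
    · rw [Function.update_of_ne hl]
      simp)
  have hvi : ∀ u, M.e v i u = if u = x ∨ u = 0 then 1 else 0 := fun u => by rw [hve, Function.update_self]
  have hvl : ∀ l, l ≠ i → ∀ u, M.e v l u = 0 := fun l hl u => by
    rw [hve, Function.update_of_ne hl]; rfl
  have hav : a * v * a⁻¹ ∈ V := hN haP v hv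
  -- values of `a v a⁻¹`
  have k1 : ∀ u, u ≠ y → u ≠ 0 → M.e (a * v * a⁻¹) j u = 0 := by
    intro u hu hu0
    obtain ⟨u, rfl⟩ := (τ i).surjective u
    have h1 := hact v hv i u
    rw [← hj] at h1
    rw [h1, hvi, if_neg]
    rintro (h | h)
    · exact hu (by rw [h])
    · exact hu0 (by rw [h, h0])
  have k2 : ∀ l, l ≠ j → ∀ u, M.e (a * v * a⁻¹) l u = 0 := by
    intro l hl u
    obtain ⟨l, rfl⟩ := σ.surjective l
    obtain ⟨u, rfl⟩ := (τ l).surjective u
    rw [hact v hv l u]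
    exact hvl l (fun h => hl (by rw [h])) _
  -- the commutator
  set c := a * v * a⁻¹ * v⁻¹ with hcdef
  have hcV : c ∈ V := mul_mem hav (inv_mem hv)
  have hcA : c ∈ A := by
    have h1 : v * a⁻¹ * v⁻¹ ∈ A := (mem_normalizer_iff.1 (hVA hv) _).1 (inv_mem ha)
    have e1 : c = a * (v * a⁻¹ * v⁻¹) := by rw [hcdef]; group
    rw [e1]
    exact mul_mem ha h1
  have hce : M.e c = M.e (a * v * a⁻¹) + M.e v := by
    have h1 := M.mul c hcV v hv
    have e1 : c * v = a * v * a⁻¹ := by rw [hcdef]; group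
    rw [e1] at h1
    rw [h1]
    funext l u
    simp only [Pi.add_apply]
    rw [add_assoc, CharTwo.add_self_eq_zero, add_zero]
  -- the two values of `c`
  have k3 : M.e c j w = 0 := by
    rw [hce]
    simp only [Pi.add_apply]
    rw [k1 w hwy hw0, zero_add]
    by_cases hji : j = i
    · rw [hji, hvi, if_neg]
      rintro (h | h)
      · exact hwx h
      · exact hw0 h
    · exact hvl j hji w
  have hxy : j = i → x ≠ y := fun h h' => hmv ⟨h, h'.symm⟩
  have k4 : M.e c i x = 1 := by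
    rw [hce]
    simp only [Pi.add_apply]
    rw [hvi, if_pos (Or.inl rfl)]
    by_cases hji : j = i
    · have h1 := k1 x (hxy hji) hx0
      rw [hji] at h1
      rw [h1, zero_add]
    · rw [k2 i (fun h => hji h.symm), zero_add]
  -- `b = g a g⁻¹` centralises `c`
  have hbc : g * a * g⁻¹ * c * (g * a * g⁻¹)⁻¹ = c := by
    rw [hA _ hb _ hcA]; group
  have hc' : g⁻¹ * c * g ∈ V := hN' hg c hcV
  have k5 : M.e (g⁻¹ * c * g) i x = M.e c i x := by
    have h1 := hgact _ hc' i x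
    have e1 : g * (g⁻¹ * c * g) * g⁻¹ = c := by group
    rw [e1] at h1
    rw [← h1]
    simp only [Equiv.Perm.one_apply, Pi.pow_apply]
    by_cases hji : j = i
    · rw [hji, Function.update_self, pow_two, Equiv.Perm.mul_apply,
        cyc_of_ne (hxy hji) hwx.symm hux.symm, cyc_of_ne (hxy hji) hwx.symm hux.symm]
    · rw [Function.update_of_ne (fun h => hji h.symm)]; simp
  have k6 : M.e (a * (g⁻¹ * c * g) * a⁻¹) j y = M.e (g⁻¹ * c * g) i x := hact _ hc' i x
  have k7 : M.e c j w = M.e (a * (g⁻¹ * c * g) * a⁻¹) j y := by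
    have h1 := hgact _ (hN haP _ hc') j y
    rw [Pi.pow_apply, Function.update_self, pow_two, Equiv.Perm.mul_apply, cyc_y hwy huy, cyc_u hwy huw] at h1
    simp only [Equiv.Perm.one_apply] at h1
    have e1 : g * (a * (g⁻¹ * c * g) * a⁻¹) * g⁻¹ = g * a * g⁻¹ * c * (g * a * g⁻¹)⁻¹ := by group
    rwa [e1, hbc] at h1
  rw [k3, k6, k5, k4] at k7
  exact zero_ne_one k7

/-- **There is no pair of type (A) with `V_P` of type `S_{2^m+1}^k`** (no hypothesis on `C_Z(P)`). -/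
theorem no_sym {S : Sylow 2 G} (hc : IsCharacteristicTwoType G) {P H : Subgroup G}
    (h : PairA (S : Subgroup G) P H) {k m : ℕ} (hm : 2 ≤ m)
    (M : SymK (S : Subgroup G) P (zl (S : Subgroup G) P) (FrameFF.cv (S : Subgroup G) P) k m) : False := by
  have hAS : zl (S : Subgroup G) H ≤ (S : Subgroup G) := IsLong.zl_le_S hc h.long
  have hPV : P ≤ normalizer (zl (S : Subgroup G) P : Set G) := le_normalizer_zl _ _
  have hel := FFThm.elem_zl hc S h.long.loc
  have h3 : ∃ a ∈ zl (S : Subgroup G) H, ∃ v ∈ zl (S : Subgroup G) P,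
      a * v * a⁻¹ * v⁻¹ ∉ FrameFF.cv (S : Subgroup G) P := by
    by_contra hcon
    push Not at hcon
    refine h.ne fun v hv => ?_
    rw [mem_centralizer_iff]
    intro a ha
    exact All.HOne.comm_of_sec hc S h.par (hAS ha) (hcon a ha) v hv
  obtain ⟨a, ha, v, hv, hav⟩ := h3
  refine false_of S hm h.par.le hPV (inf_le_left) (fun v hv => All.HOne.zl_sq' hc S h.par hv) M
    (MinSimple.VModule.zc_le_zl _ _)
    (fun s hs z hz => (MinSimple.VModule.mem_zc.1 hz).2.1 s hs) hAS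
    (fun a ha b hb => ?_) (PairA.le_normalizer' hc h) (fun g hg hgz => ?_) ha hv hav
  · exact congrArg Subtype.val (hel.1.is_comm.comm ⟨a, ha⟩ ⟨b, hb⟩)
  · refine le_normalizer_zl _ _ (h.long.cz ?_)
    rw [mem_centralizer_iff]
    intro z hz
    exact (hgz z hz).symm

end Cfsg.Agent.Omega.NOThreeL.RSym
end

private theorem dce_11bb59177290 : _root_.True := by
  try have : _root_.True := by simp only [_root_.Cfsg.Agent.Omega.NOThreeL.RAOne.kk.eq_1]
  try have : _root_.True := by simp only [_root_.Cfsg.Agent.Omega.NOThreeL.RTransv.Tt.eq_1]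
  try have : _root_.True := by simp only [_root_.Cfsg.Agent.Omega.NOThreeL.RTools.Many.sw.eq_1]
  try have : _root_.True := by simp only [_root_.Cfsg.Agent.Omega.NOThreeL.RSym.cyc.eq_1]
  try have : _root_.True := by simp only [_root_.Cfsg.Agent.Omega.NOThreeL.RAOne.ww.eq_1]
  exact _root_.True.intro
end

-- part: Mrg/Omega/NOThreeL/AFour/Frame
section
prune_inst 0xc0100e005122000000180500a0001c4292000000006b0000c1000a0006c8ad0020418721b020130200102a44203c0068129800504000000000008000011d0481040010021000a000210000c09800000000000000000000000000000000000000000000000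
set_option linter.all false
open scoped Cfsg.Agent.FastGrp

-- merged: Cfsg.Agent.Mrg.Omega.NOThreeL.ATwo.Main
section

/-!
# NO-3L A2, `q = 2` (text #14933, helper850)

`D : DataZ S`, `E : Exact S P H`, `V_P` a sum of `k ≥ 1` natural `SL₂(2)`-modules: contradiction.

* `Fr` : the situation; `ind` : `U_H` induces all upper unitriangular elements of `SL₂(2)^k`;
* `exists_z`, `cfg` : `Z = ⟨z⟩` and `Cfg M z U_H`;
* `gdata` : `GData`; `fixed_four` : (6); `fixed_two` : (4);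
* `false_of` : the contradiction; `a2_two` : the socket `Main.A2` for fields of order 2.
-/

set_option autoImplicit false
set_option Elab.async false

namespace Cfsg.Agent.Omega.NOThreeL.ATwo

open Subgroup Cfsg Cfsg.Agent.ZN Cfsg.Agent.Omega.FrameNOFF
open Cfsg.Agent.ZN.ChoiceBase hiding mem_zc
open Cfsg.Agent.Omega.MinPar Cfsg.Agent.Omega.FFThm Cfsg.Agent.Omega.Node.NO3L
open Cfsg.Agent.Omega.NOThreeL.Basic Cfsg.Agent.Omega.NOThreeL.Main
open Cfsg.Agent.MinSimple.VModule (le_normalizer_zl zl_le zc_le_zl zc_le mem_zc zl_comm zl_sq le_o2 o2_isPGroup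
  le_normalizer_o2 le_centralizer_zc o2_le)
open Cfsg.Agent.Lib.SL2Mat
open Cfsg.Agent.Omega.NatPair (ap ap_mul ap_one ap_inv_ap ap_ap_inv exists_ap ap_add)
open Cfsg.Agent.Omega.IId (Ind cj_mem cj_mem' e_inj acts_mul acts_inv acts_one sg sg_spec e_one e_inv fac
  exists_ind exists_trans exists_fac ext_fac mem_fac eq_one_of_cent)
open scoped Pointwise

universe u

variable {G : Type u} [Group G]

/-! ### Commutators on `V` -/

section comm

variable {F : Type} [Field F] {S P : Subgroup G} {k : ℕ} {M : NatK F S P (zl S P) ⊥ k}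

/-- `u` acts as `up b`; the coordinates of `u v u⁻¹ v⁻¹`. -/
theorem e_cm {u v : G} {b : Fin k → F} (hu : u ∈ P) (hv : v ∈ zl S P) (h : Up M u b) (i : Fin k) :
    M.e (u * v * u⁻¹ * v⁻¹) i = ![b i * M.e v i 1, 0] := by
  rw [M.mul _ (cj_mem hu hv) _ (inv_mem hv), Pi.add_apply, h.1 v hv i, e_inv M hv, Pi.neg_apply]
  apply NatPair.ext2
  · rw [Pi.add_apply, NatPair.ap_zero', Pi.neg_apply]
    simp
  · rw [Pi.add_apply, NatPair.ap_one', Pi.neg_apply]
    simp

/-- `b i = 0` if and only if `u` centralises the `i`-th factor. -/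
theorem b_eq_zero_iff {u : G} {b : Fin k → F} (hu : u ∈ P) (h : Up M u b) (i : Fin k) :
    b i = 0 ↔ u ∈ centralizer (fac M i : Set G) := by
  constructor
  · intro h0
    rw [mem_centralizer_iff]
    intro v hv
    have h1 : u * v * u⁻¹ = v := by
      refine e_inj M (cj_mem hu hv.1) hv.1 (funext fun j => ?_)
      rw [h.1 v hv.1 j]
      by_cases hj : j = i
      · rw [hj]
        change ap (up (b i)) _ = _
        rw [h0, up_zero, ap_one]
      · rw [hv.2 j hj]
        apply NatPair.ext2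
        · rw [NatPair.ap_zero']; simp
        · rw [NatPair.ap_one']; simp
    calc v * u = u * v * u⁻¹ * u := by rw [h1]
      _ = u * v := by group
  · intro hc
    obtain ⟨v, hv, he⟩ := exists_fac M i ![0, 1]
    have h1 := mem_centralizer_iff.1 hc v hv
    have h2 := e_cm hu hv.1 h i
    have h3 : u * v * u⁻¹ * v⁻¹ = 1 := by rw [← h1]; group
    rw [h3, e_one, he] at h2
    have h4 := congrFun h2 0
    simp at h4
    exact h4.symm

end comm

variable [Finite G] {S : Sylow 2 G} {P H : Subgroup G} {F : Type} [Field F] {k : ℕ}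

/-- The situation. -/
structure Fr (S : Sylow 2 G) (P H : Subgroup G) (M : NatK F (S : Subgroup G) P (zl (S : Subgroup G) P) ⊥ k) : Prop
    where
  hc : IsCharacteristicTwoType G
  ne : (S : Subgroup G) ≠ ⊥
  D : Data (S : Subgroup G)
  E : Exact (S : Subgroup G) P H
  two : ∀ x : F, x = 0 ∨ x = 1
  pos : 0 < k

namespace Fr

variable {M : NatK F (S : Subgroup G) P (zl (S : Subgroup G) P) ⊥ k} (h : Fr S P H M)
include h

theorem SP : (S : Subgroup G) ≤ P := h.E.par.le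

theorem SH : (S : Subgroup G) ≤ H := h.E.long.loc.le

theorem US : zl (S : Subgroup G) H ≤ (S : Subgroup G) := IsLong.zl_le_S h.hc h.E.long

theorem UP : zl (S : Subgroup G) H ≤ P := h.US.trans h.SP

theorem VS : zl (S : Subgroup G) P ≤ (S : Subgroup G) := IsParS.zl_le_S h.hc h.E.par

theorem ab : ∀ u ∈ zl (S : Subgroup G) H, ∀ v ∈ zl (S : Subgroup G) H, u * v = v * u := by
  intro u hu v hv
  have h1 := (NOThreeL.Pair.zl_abel h.hc S h.E.long.loc).1
  exact mem_centralizer_iff.1 (h1 hv) u hu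

theorem sq : ∀ u ∈ zl (S : Subgroup G) H, u * u = 1 := by
  intro u hu
  have h1 := (mem_zc.1 (h.E.long.loc.zl_le S h.hc hu)).2.2
  rwa [pow_two] at h1

/-- `U_H` induces all upper unitriangular elements of `SL₂(F)^k`. -/
theorem ind : Ind M (zl (S : Subgroup G) H) Set.univ := by
  obtain ⟨I, hI⟩ := exists_ind M h.US h.E.off
  have hI' : I = Set.univ := by
    by_contra hne
    obtain ⟨j, hj⟩ : ∃ j, j ∉ I := by
      by_contra hcon
      push Not at hcon
      exact hne (Set.eq_univ_of_forall hcon)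
    refine h.E.off.ne fun u hu => ?_
    obtain ⟨b, hb, hub⟩ := hI.act u hu
    have hb0 : b = 0 := by
      funext i
      by_contra h0
      obtain ⟨t, ht, htf⟩ := exists_trans M h.SP j i
      have hu' : t⁻¹ * u * t ∈ zl (S : Subgroup G) H := by
        have h1 := (mem_normalizer_iff.1 (inv_mem (le_normalizer_zl _ _ (h.SH ht))) u).1 hu
        rwa [inv_inv] at h1
      obtain ⟨b', hb', hub'⟩ := hI.act _ hu'
      have h2 := (b_eq_zero_iff (M := M) (h.UP hu') hub' j).1 (hb' j hj)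
      apply h0
      refine (b_eq_zero_iff (M := M) (h.UP hu) hub i).2 ?_
      rw [mem_centralizer_iff] at h2 ⊢
      intro v hv
      have hv' : t⁻¹ * v * t ∈ fac M j := by
        rw [← mem_cj, htf]
        exact hv
      have h3 := h2 _ hv'
      calc v * u = t * ((t⁻¹ * v * t) * (t⁻¹ * u * t)) * t⁻¹ := by group
        _ = t * ((t⁻¹ * u * t) * (t⁻¹ * v * t)) * t⁻¹ := by rw [h3]
        _ = u * v := by group
    rw [hb0] at hub
    exact Up.cent (M := M) (h.UP hu) hub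
  rw [← hI']
  exact hI

theorem exists_u (b : Fin k → F) : ∃ u ∈ zl (S : Subgroup G) H, Up M u b :=
  h.ind.ex b fun _ hi => (hi (Set.mem_univ _)).elim

/-- the generator of `Z` -/
theorem exists_z : ∃ z ∈ zc (S : Subgroup G), z ≠ 1 ∧ (∀ i, M.e z i = ![1, 0]) ∧
    ∀ x ∈ zc (S : Subgroup G), x ≠ 1 → x = z := by
  have key : ∀ x ∈ zc (S : Subgroup G), x ≠ 1 → ∀ i, M.e x i = ![1, 0] := by
    intro x hx hx1 i
    have hxV : x ∈ zl (S : Subgroup G) P := zc_le_zl _ _ hx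
    have hxc := (mem_zc.1 hx).2.1
    have h1 : M.e x i ≠ 0 := fun h0 => hx1 (eq_one_of_cent M hxV hxc h0)
    obtain ⟨u, hu, huA⟩ := h.exists_u fun _ => 1
    have h2 := hxc u (h.US hu)
    have h3 := e_cm (h.UP hu) hxV huA i
    have h4 : u * x * u⁻¹ * x⁻¹ = 1 := by rw [h2]; group
    rw [h4, e_one] at h3
    have h5 : M.e x i 1 = 0 := by
      have := congrFun h3 0
      simp at this
      exact this.symm
    have h6 : M.e x i 0 = 1 := by
      rcases h.two (M.e x i 0) with h0 | h0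
      · exact absurd (NatPair.ext2 h0 h5) h1
      · exact h0
    exact NatPair.ext2 h6 h5
  have hne : zc (S : Subgroup G) ≠ ⊥ := ZN.ChoiceSit.zc_ne_bot S.isPGroup' h.ne
  obtain ⟨z, hz, hz1⟩ : ∃ z ∈ zc (S : Subgroup G), z ≠ 1 := by
    by_contra hcon
    push Not at hcon
    exact hne ((eq_bot_iff_forall _).2 hcon)
  refine ⟨z, hz, hz1, key z hz hz1, fun x hx hx1 => ?_⟩
  refine e_inj M (zc_le_zl _ _ hx) (zc_le_zl _ _ hz) (funext fun i => ?_)
  rw [key x hx hx1 i, key z hz hz1 i]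

variable {z : G}

theorem core {T : Subgroup G} (hz : ∀ x ∈ zc (S : Subgroup G), x ≠ 1 → x = z)
    (hT : T ≤ zl (S : Subgroup G) H) (hn : (S : Subgroup G) ≤ normalizer (T : Set G)) (h1 : T ≠ ⊥) : z ∈ T := by
  have : Fact (Nat.Prime 2) := ⟨Nat.prime_two⟩
  have hTp : IsPGroup 2 T := S.isPGroup'.to_le (hT.trans h.US)
  have h2 := Cfsg.Agent.PLocal.OffenderStep.inf_centralizer_ne_bot T (S : Subgroup G) hTp S.isPGroup' hn h1
  obtain ⟨x, hx, hx1⟩ : ∃ x ∈ T ⊓ centralizer ((S : Subgroup G) : Set G), x ≠ 1 := by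
    by_contra hcon
    push Not at hcon
    exact h2 ((eq_bot_iff_forall _).2 hcon)
  rw [mem_inf] at hx
  have h3 : x ∈ zc (S : Subgroup G) := by
    refine mem_zc.2 ⟨h.US (hT hx.1), fun b hb => mem_centralizer_iff.1 hx.2 b hb, ?_⟩
    rw [pow_two]
    exact h.sq x (hT hx.1)
  rw [← hz x h3 hx1]
  exact hx.1

omit h in
theorem mem_CZ (hz : ∀ x ∈ zc (S : Subgroup G), x ≠ 1 → x = z) {g : G} (hg : g * z = z * g) :
    g ∈ CZ (S : Subgroup G) := by
  refine mem_centralizer_iff.2 fun x hx => ?_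
  by_cases h1 : x = 1
  · rw [h1, one_mul, mul_one]
  · rw [hz x hx h1, hg]

theorem cfg (hzm : z ∈ zc (S : Subgroup G)) (hez : ∀ i, M.e z i = ![1, 0])
    (hz : ∀ x ∈ zc (S : Subgroup G), x ≠ 1 → x = z) : Cfg M z (zl (S : Subgroup G) H) where
  two := h.two
  pos := h.pos
  SP := h.SP
  zV := zc_le_zl _ _ hzm
  ez := hez
  ind := h.ind
  UP := h.UP
  cent := fun g hg => le_normalizer_zl _ _ (h.E.long.cz (mem_CZ hz hg))
  ab := h.ab
  sq := h.sq
  core := fun T hT hn h1 => h.core hz hT hn h1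

/-! ### The functionals -/

end Fr

open Classical in
/-- `phi M i u = 0` iff `u` centralises the `i`-th factor. -/
noncomputable def phi {S P : Subgroup G} (M : NatK F S P (zl S P) ⊥ k) (i : Fin k) (u : G) : ZMod 2 :=
  if u ∈ centralizer (fac M i : Set G) then 0 else 1

omit [Finite G] in
theorem phi_eq_zero {S P : Subgroup G} {M : NatK F S P (zl S P) ⊥ k} {i : Fin k} {u : G} :
    phi M i u = 0 ↔ u ∈ centralizer (fac M i : Set G) := by
  unfold phi
  split_ifs with h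
  · exact ⟨fun _ => h, fun _ => rfl⟩
  · exact ⟨fun h0 => absurd h0 (by decide), fun h0 => absurd h0 h⟩

omit [Finite G] in
theorem phi_eq_one {S P : Subgroup G} {M : NatK F S P (zl S P) ⊥ k} {i : Fin k} {u : G} :
    phi M i u = 1 ↔ phi M i u ≠ 0 := by
  unfold phi
  split_ifs with h
  · exact ⟨fun h0 => absurd h0 (by decide), fun h0 => absurd rfl h0⟩
  · exact ⟨fun _ => by decide, fun _ => rfl⟩

omit [Finite G] in
theorem phi_up {S P : Subgroup G} {M : NatK F S P (zl S P) ⊥ k} {i : Fin k} {u : G} {b : Fin k → F}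
    (hu : u ∈ P) (h : Up M u b) : phi M i u = 0 ↔ b i = 0 := by
  rw [phi_eq_zero, b_eq_zero_iff (M := M) hu h]

omit [Finite G] in
theorem phi_of_cent {S P : Subgroup G} {M : NatK F S P (zl S P) ⊥ k} {i : Fin k} {u : G}
    (h : u ∈ centralizer (zl S P : Set G)) : phi M i u = 0 :=
  phi_eq_zero.2 (centralizer_le (fun _ hv => hv.1) h)

omit [Finite G] in
theorem phi_congr {S P : Subgroup G} {M : NatK F S P (zl S P) ⊥ k} {i j : Fin k} {u v : G}
    (h : phi M i u = 0 ↔ phi M j v = 0) : phi M i u = phi M j v := by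
  by_cases h0 : phi M i u = 0
  · rw [h0, h.1 h0]
  · rw [phi_eq_one.2 h0, phi_eq_one.2 fun h1 => h0 (h.2 h1)]

omit [Finite G] in
theorem phi_conj {S P : Subgroup G} {M : NatK F S P (zl S P) ⊥ k} {i j : Fin k} {s u : G}
    (hs : cj s (fac M i) = fac M j) : phi M i (s⁻¹ * u * s) = phi M j u := by
  refine phi_congr ?_
  rw [phi_eq_zero, phi_eq_zero, ← hs, ← cj_centralizer, mem_cj]

omit [Finite G] in
/-- coordinates of a product -/
theorem e_prod {S P : Subgroup G} (M : NatK F S P (zl S P) ⊥ k) (l : List G) (hl : ∀ x ∈ l, x ∈ zl S P) :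
    M.e l.prod = (l.map M.e).sum := by
  induction l with
  | nil => exact e_one M
  | cons a l ih =>
    rw [List.prod_cons, List.map_cons, List.sum_cons, M.mul a (hl a List.mem_cons_self) _
      (Subgroup.list_prod_mem _ fun x hx => hl x (List.mem_cons_of_mem _ hx)),
      ih fun x hx => hl x (List.mem_cons_of_mem _ hx)]

omit [Finite G] in
theorem four_conj {H U : Subgroup G} {φ ψ : G → ZMod 2} {s : G} (hs : s ∈ H) (hn : ∀ x ∈ H, ∀ u ∈ U, x * u * x⁻¹ ∈ U)
    (hφ : ∀ u ∈ U, φ (s⁻¹ * u * s) = ψ u) (h : Four H U φ) : Four H U ψ := by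
  obtain ⟨e, he, d, hd, he1, hd1, hed, he0, hd0, ⟨x, hx, hxT⟩, ⟨y, hy, hyT⟩⟩ := h
  have tv : ∀ {e x : G}, TvBy U φ e x → TvBy U ψ (s * e * s⁻¹) (s * x * s⁻¹) := by
    intro e x hT u hu
    have hu' : s⁻¹ * u * s ∈ U := by
      have := hn s⁻¹ (inv_mem hs) u hu
      rwa [inv_inv] at this
    have h1 := hT _ hu'
    have e1 : s * x * s⁻¹ * u * (s * x * s⁻¹)⁻¹ = s * (x * (s⁻¹ * u * s) * x⁻¹) * s⁻¹ := by group
    rw [e1, h1, hφ u hu]
    split_ifs with h0
    · group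
    · group
  have m0 : ∀ {e : G}, e ∈ U → φ e = 0 → ψ (s * e * s⁻¹) = 0 := by
    intro e he h0
    rw [← hφ _ (hn s hs e he)]
    have e1 : s⁻¹ * (s * e * s⁻¹) * s = e := by group
    rw [e1, h0]
  refine ⟨s * e * s⁻¹, hn s hs e he, s * d * s⁻¹, hn s hs d hd, ?_, ?_, ?_, m0 he he0, m0 hd hd0,
    ⟨_, mul_mem (mul_mem hs hx) (inv_mem hs), tv hxT⟩, ⟨_, mul_mem (mul_mem hs hy) (inv_mem hs), tv hyT⟩⟩
  · exact fun h0 => he1 (conj_eq_one_iff.1 h0)
  · exact fun h0 => hd1 (conj_eq_one_iff.1 h0)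
  · intro h0
    exact hed (mul_left_cancel (mul_right_cancel h0))

namespace Fr

variable {M : NatK F (S : Subgroup G) P (zl (S : Subgroup G) P) ⊥ k} (h : Fr S P H M) {z : G}
include h

theorem nrm : ∀ x ∈ H, ∀ u ∈ zl (S : Subgroup G) H, x * u * x⁻¹ ∈ zl (S : Subgroup G) H :=
  fun x hx u hu => (mem_normalizer_iff.1 (le_normalizer_zl _ _ hx) u).1 hu

/-- `W_H` centralises `V`. -/
theorem WV : W (S : Subgroup G) H ≤ centralizer (zl (S : Subgroup G) P : Set G) := by
  have h1 : W (S : Subgroup G) H ≤ WP (S : Subgroup G) := W_le fun P hP _ c hc => line_le_WP hP hc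
  have h2 := Basic.comm_of_le h.hc h.D (x := 1) (y := 1) (by
    rw [map_one, one_smul, one_smul]; exact WP_le_Q h.D) (by
    rw [map_one, one_smul, one_smul]; exact WP_le_Q h.D)
  rw [map_one, one_smul] at h2
  exact (h1.trans h2).trans (centralizer_le (zl_le_WP h.E.par))

/-- The product `n` of `V`: the elements `n i`, `c i` of the `i`-th factor. -/
theorem exists_tv [CharP F 2] (i : Fin k) {c n : G} (hc : c ∈ zl (S : Subgroup G) P)
    (hce : M.e c = Pi.single i ![1, 0]) (hn : n ∈ zl (S : Subgroup G) P) (hne : M.e n = Pi.single i ![0, 1]) :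
    TvBy (zl (S : Subgroup G) H) (phi M i) c n := by
  intro u hu
  obtain ⟨b, -, hb⟩ := h.ind.act u hu
  have h1 : ∀ j, M.e (u * n * u⁻¹ * n⁻¹) j = ![b j * M.e n j 1, 0] := e_cm (h.UP hu) hn hb
  have hmem : u * n * u⁻¹ * n⁻¹ ∈ zl (S : Subgroup G) P := mul_mem (cj_mem (h.UP hu) hn) (inv_mem hn)
  have h2 : n * u * n⁻¹ = (u * n * u⁻¹ * n⁻¹)⁻¹ * u := by group
  have hphi := phi_up (M := M) (i := i) (h.UP hu) hb
  rw [h2]
  split_ifs with h00
  · have h0 := hphi.1 h00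
    have h3 : u * n * u⁻¹ * n⁻¹ = 1 := by
      refine e_inj M hmem (one_mem _) (funext fun j => ?_)
      rw [h1 j, e_one]
      by_cases hj : j = i
      · rw [hj, h0]
        apply NatPair.ext2 <;> simp
      · rw [hne, Pi.single_eq_of_ne hj]
        apply NatPair.ext2 <;> simp
    rw [h3, inv_one, one_mul]
  · have hb1 : b i = 1 := (h.two _).resolve_left fun h0 => h00 (hphi.2 h0)
    have h3 : u * n * u⁻¹ * n⁻¹ = c := by
      refine e_inj M hmem hc (funext fun j => ?_)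
      rw [h1 j, hce]
      by_cases hj : j = i
      · rw [hj, hb1, hne, Pi.single_eq_same, Pi.single_eq_same]
        apply NatPair.ext2 <;> simp
      · rw [hne, Pi.single_eq_of_ne hj, Pi.single_eq_of_ne hj]
        apply NatPair.ext2 <;> simp
    rw [h3]
    have hcU : c ∈ zl (S : Subgroup G) H := by
      rw [← h3]
      have e : u * n * u⁻¹ * n⁻¹ = u * (n * u⁻¹ * n⁻¹) := by group
      rw [e]
      exact mul_mem hu (h.nrm n (h.SH (h.VS hn)) _ (inv_mem hu))
    have h4 := h.sq c hcU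
    rw [inv_eq_of_mul_eq_one_left h4]
    exact h.ab c hcU u hu

theorem c_mem [CharP F 2] (i : Fin k) {c : G} (hc : c ∈ zl (S : Subgroup G) P)
    (hce : M.e c = Pi.single i ![1, 0]) : c ∈ zl (S : Subgroup G) H := by
  obtain ⟨n, hn, hne⟩ := M.surj (Pi.single i ![0, 1])
  obtain ⟨u, hu, hub⟩ := h.exists_u (Pi.single i 1)
  have h1 := h.exists_tv i hc hce hn hne u hu
  rw [if_neg (by
    rw [phi_up (h.UP hu) hub, Pi.single_eq_same]
    exact one_ne_zero)] at h1
  have h2 : c = u⁻¹ * (n * u * n⁻¹) := by rw [h1]; group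
  rw [h2]
  exact mul_mem (inv_mem hu) (h.nrm n (h.SH (h.VS hn)) _ hu)

theorem gen (hz : ∀ x ∈ zc (S : Subgroup G), x ≠ 1 → x = z) (L : Subgroup G) (A : Subgroup G)
    (hA : ∀ x ∈ L, x * z * x⁻¹ ∈ A) : zl (S : Subgroup G) L ≤ A := by
  refine iSup_le fun g => ?_
  intro w hw
  have hw' := NoFF.Basic.mem_conj.1 hw
  by_cases h1 : (g : G)⁻¹ * w * g = 1
  · have h2 : w = 1 := by
      calc w = g * ((g : G)⁻¹ * w * g) * (g : G)⁻¹ := by group
        _ = 1 := by rw [h1]; group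
    rw [h2]
    exact one_mem _
  · have h2 := hz _ hw' h1
    have h3 : w = g * z * (g : G)⁻¹ := by rw [← h2]; group
    rw [h3]
    exact hA g g.2

theorem gdata [CharP F 2] (hzm : z ∈ zc (S : Subgroup G)) (hez : ∀ i, M.e z i = ![1, 0])
    (hz : ∀ x ∈ zc (S : Subgroup G), x ≠ 1 → x = z) {c : Fin k → G}
    (hcV : ∀ i, c i ∈ zl (S : Subgroup G) P) (hce : ∀ i, M.e (c i) = Pi.single i ![1, 0]) :
    GData H (zl (S : Subgroup G) H) (W (S : Subgroup G) H) (S : Subgroup G) (o2 (CZ (S : Subgroup G))) z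
      (phi M) c where
  UH := h.US.trans h.SH
  SH := h.SH
  nrm := h.nrm
  ab := h.ab
  sq := h.sq
  zU := zc_le_zl _ _ hzm
  gen := fun A hA => h.gen hz H A hA
  core := fun T hT hn h1 => h.core hz hT hn h1
  add := by
    intro i u hu v hv
    obtain ⟨b, -, hb⟩ := h.ind.act u hu
    obtain ⟨b', -, hb'⟩ := h.ind.act v hv
    have h1 := phi_up (M := M) (i := i) (h.UP hu) hb
    have h2 := phi_up (M := M) (i := i) (h.UP hv) hb'
    have h3 := phi_up (M := M) (i := i) (mul_mem (h.UP hu) (h.UP hv)) (Up.mul (h.UP hv) hb hb')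
    rw [Pi.add_apply] at h3
    rcases h.two (b i) with e1 | e1 <;> rcases h.two (b' i) with e2 | e2
    · rw [h1.2 e1, h2.2 e2, h3.2 (by rw [e1, e2, add_zero]), add_zero]
    · rw [h1.2 e1, phi_eq_one.2 fun h0 => one_ne_zero (e2.symm.trans (h2.1 h0)),
        phi_eq_one.2 fun h0 => one_ne_zero (α := F) (by rw [← h3.1 h0, e1, e2, zero_add]), zero_add]
    · rw [h2.2 e2, phi_eq_one.2 fun h0 => one_ne_zero (e1.symm.trans (h1.1 h0)),
        phi_eq_one.2 fun h0 => one_ne_zero (α := F) (by rw [← h3.1 h0, e1, e2, add_zero]), add_zero]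
    · rw [phi_eq_one.2 fun h0 => one_ne_zero (e1.symm.trans (h1.1 h0)),
        phi_eq_one.2 fun h0 => one_ne_zero (e2.symm.trans (h2.1 h0)),
        h3.2 (by rw [e1, e2]; exact CharTwo.add_self_eq_zero 1)]
      decide
  ne := by
    intro i
    obtain ⟨u, hu, hub⟩ := h.exists_u (Pi.single i 1)
    refine ⟨u, hu, fun h0 => ?_⟩
    have h1 := (phi_up (M := M) (h.UP hu) hub).1 h0
    rw [Pi.single_eq_same] at h1
    exact one_ne_zero h1
  cU := fun i => h.c_mem i (hcV i) (hce i)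
  c0 := by
    intro i
    refine phi_of_cent (M := M) ?_
    rw [mem_centralizer_iff]
    intro v hv
    exact e_inj M (mul_mem hv (hcV i)) (mul_mem (hcV i) hv) (by
      rw [M.mul v hv _ (hcV i), M.mul _ (hcV i) v hv, add_comm])
  cne := by
    intro i h0
    have h1 := hce i
    rw [h0, e_one] at h1
    have h2 := congrFun (congrFun h1 i) 0
    rw [Pi.single_eq_same] at h2
    simp at h2
  prod := by
    have hm : ∀ x ∈ List.ofFn c, x ∈ zl (S : Subgroup G) P := by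
      intro x hx
      obtain ⟨i, rfl⟩ := (List.mem_ofFn' c x).1 hx
      exact hcV i
    refine e_inj M (zc_le_zl _ _ hzm) (Subgroup.list_prod_mem _ hm) ?_
    rw [e_prod M _ hm, List.map_ofFn, List.sum_ofFn]
    funext j
    rw [Finset.sum_apply, Finset.sum_eq_single j]
    · change _ = M.e (c j) j
      rw [hce j, Pi.single_eq_same, hez j]
    · intro i _ hij
      change M.e (c i) j = 0
      rw [hce i, Pi.single_eq_of_ne hij.symm]
    · intro h0
      exact absurd (Finset.mem_univ j) h0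
  tr := by
    intro i
    obtain ⟨n, hn, hne⟩ := M.surj (Pi.single i ![0, 1])
    exact ⟨n, h.SH (h.VS hn), h.D.low P h.E.par hn, h.exists_tv i (hcV i) (hce i) hn hne⟩
  QP := by
    intro x hx
    obtain ⟨n, hn⟩ := o2_isPGroup (CZ (S : Subgroup G)) ⟨x, hx⟩
    exact ⟨n, congrArg Subtype.val hn⟩
  QH := (o2_le _).trans h.E.long.cz
  Qn := fun x _ hxz y hy => (mem_normalizer_iff.1 (le_normalizer_o2 _ (mem_CZ hz hxz)) y).1 hy
  perm := by
    intro s hs i
    exact ⟨sg M (h.SP hs) i, fun u _ => phi_conj (IId.conj_fac M (h.SP hs) i)⟩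
  trans := by
    intro i j
    obtain ⟨s, hs, h1⟩ := exists_trans M h.SP i j
    exact ⟨s, hs, fun u _ => phi_conj h1⟩
  WU := W_le_zl h.E.long.cz
  Wn := fun x _ hxz w hw => (mem_normalizer_iff.1 (CZ_le_normalizer_W _ _ (mem_CZ hz hxz)) w).1 hw
  Wφ := fun i w hw => phi_of_cent (M := M) (h.WV hw)

/-- **(4)** no four transvections: a conjugate `z^x ∈ W_H`, `x ∈ H`, is `z`. -/
theorem fixed_two [CharP F 2] (hzm : z ∈ zc (S : Subgroup G)) (hez : ∀ i, M.e z i = ![1, 0])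
    (hz : ∀ x ∈ zc (S : Subgroup G), x ≠ 1 → x = z)
    (h4 : ∀ i, ¬ Four H (zl (S : Subgroup G) H) (phi M i)) {x : G} (hx : x ∈ H)
    (hxW : x * z * x⁻¹ ∈ W (S : Subgroup G) H) : x * z * x⁻¹ = z := by
  obtain ⟨a, b, U', hC⟩ := (h.cfg hzm hez hz).exists_comps
  have hWU : W (S : Subgroup G) H ≤ zl (S : Subgroup G) H := W_le_zl h.E.long.cz
  have hCH : centralizer (zl (S : Subgroup G) P : Set G) ≤ H :=
    (centralizer_le (zc_le_zl _ _)).trans h.E.long.cz
  -- `Y` is contained in the sum of the lines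
  have hY : ∀ y ∈ zl (S : Subgroup G) H, y ∈ centralizer (zl (S : Subgroup G) P : Set G) →
      y ∈ IId.lines M Set.univ := by
    intro y hy hyD
    refine hC.gen hy hyD fun i v hv hvA => ?_
    obtain ⟨m1, d1⟩ := hC.co.pi_mem (u := v) hv hyD
    have hid := hC.idem hv hy hyD
    obtain ⟨c, hc, hce⟩ := M.surj (Pi.single i ![1, 0])
    have hline : c ∈ IId.lines M Set.univ := by
      refine ⟨⟨hc, fun j hj => (hj (Set.mem_univ j)).elim⟩, fun j => ?_⟩
      rw [hce]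
      by_cases hj : j = i
      · rw [hj, Pi.single_eq_same]; rfl
      · rw [Pi.single_eq_of_ne hj]; rfl
    by_cases he1 : pi a b v y = 1
    · rw [he1]; exact one_mem _
    · have hec : pi a b v y = c := by
        by_contra hne
        obtain ⟨n, hn, hnn⟩ := M.surj (Pi.single i ![0, 1])
        refine h4 i ⟨pi a b v y, m1, c, h.c_mem i hc hce, he1, ?_, hne, phi_of_cent (M := M) d1,
          phi_of_cent (M := M) ?_, ⟨_, hCH (hC.co.rho_D d1), ?_⟩, ⟨n, h.SH (h.VS hn), h.exists_tv i hc hce hn hnn⟩⟩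
        · intro h0
          rw [h0, e_one] at hce
          have h2 := congrFun (congrFun hce i) 0
          rw [Pi.single_eq_same] at h2
          simp at h2
        · rw [mem_centralizer_iff]
          intro w hw
          exact e_inj M (mul_mem hw hc) (mul_mem hc hw) (by
            rw [M.mul w hw _ hc, M.mul _ hc w hw, add_comm])
        · intro u hu
          obtain ⟨β, -, hβ⟩ := h.ind.act u hu
          have h5 := hC.val hu hv hβ hvA m1 d1 hid
          have h6 := phi_up (M := M) (i := i) (h.UP hu) hβ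
          set e := pi a b v y with he
          have h7 : a * b * e * (a * b)⁻¹ * u * (a * b * e * (a * b)⁻¹)⁻¹ = (pi a b u e)⁻¹ * u := by
            unfold pi
            group
          rw [h7, h5]
          by_cases h8 : β i = 0
          · rw [if_pos h8, if_pos (h6.2 h8), inv_one, one_mul]
          · rw [if_neg h8, if_neg fun h9 => h8 (h6.1 h9), hC.co.sq' m1]
            exact h.ab e m1 u hu
      rw [hec]
      exact hline
  set w := x * z * x⁻¹ with hw
  have hwl := hY w (hWU hxW) (h.WV hxW)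
  have hwV : w ∈ zl (S : Subgroup G) P := hwl.1.1
  by_contra hne
  obtain ⟨i, hi⟩ : ∃ i, M.e w i = 0 := by
    by_contra hcon
    push Not at hcon
    apply hne
    refine e_inj M hwV (zc_le_zl _ _ hzm) (funext fun i => ?_)
    rw [hez i]
    have h1 := hwl.2 i
    have h2 : M.e w i 0 = 1 := by
      rcases h.two (M.e w i 0) with h0 | h0
      · exact absurd (NatPair.ext2 h0 h1) (hcon i)
      · exact h0
    exact NatPair.ext2 h2 h1
  obtain ⟨v, hv, hvA⟩ := h.exists_u (Pi.single i 1)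
  have hv'A := hC.rho_lo (h.UP hv) hvA
  have hv'P : a * b * v * (a * b)⁻¹ ∈ P := mul_mem (mul_mem hC.rhoP (h.UP hv)) (inv_mem hC.rhoP)
  set v' := a * b * v * (a * b)⁻¹ with hv'
  have hcomm : v' * w = w * v' := by
    have h1 : v' * w * v'⁻¹ = w := by
      refine e_inj M (cj_mem hv'P hwV) hwV (funext fun j => ?_)
      rw [hv'A.1 w hwV j]
      by_cases hj : j = i
      · rw [hj, hi]
        apply NatPair.ext2
        · rw [NatPair.ap_zero']; simp
        · rw [NatPair.ap_one']; simp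
      · change ap (lo ((Pi.single i 1 : Fin k → F) j)) _ = _
        rw [Pi.single_eq_of_ne hj, lo_zero, ap_one]
    calc v' * w = v' * w * v'⁻¹ * v' := by group
      _ = w * v' := by rw [h1]
  have hv'H : v' ∈ H := by
    have h1 : x⁻¹ * v' * x * z = z * (x⁻¹ * v' * x) := by
      calc x⁻¹ * v' * x * z = x⁻¹ * (v' * w) * x := by rw [hw]; group
        _ = x⁻¹ * (w * v') * x := by rw [hcomm]
        _ = z * (x⁻¹ * v' * x) := by rw [hw]; group
    have h2 := mul_mem (mul_mem hx (h.E.long.cz (mem_CZ hz h1))) (inv_mem hx)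
    have e : x * (x⁻¹ * v' * x) * x⁻¹ = v' := by group
    rwa [e] at h2
  obtain ⟨c, hc, hce⟩ := M.surj (Pi.single i ![1, 0])
  have hcU := h.c_mem i hc hce
  have hqU := h.nrm v' hv'H c hcU
  have hqV := cj_mem hv'P hc
  have hqe := hv'A.1 c hc i
  rw [hce, Pi.single_eq_same] at hqe
  have h1 := h.ab v hv _ hqU
  have h2 := e_cm (h.UP hv) hqV hvA i
  have h3 : v * (v' * c * v'⁻¹) * v⁻¹ * (v' * c * v'⁻¹)⁻¹ = 1 := by
    rw [h1]; group
  rw [h3, e_one, hqe, Pi.single_eq_same] at h2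
  have h4 := congrFun h2 0
  have e5 : ap (lo ((Pi.single i 1 : Fin k → F) i)) ![1, 0] 1 = 1 := by
    rw [Pi.single_eq_same, NatPair.ap_one']
    simp
  change (0 : F) = 1 * ap (lo ((Pi.single i 1 : Fin k → F) i)) ![1, 0] 1 at h4
  rw [e5, one_mul] at h4
  exact zero_ne_one h4

/-- **A2, `q = 2`** (helper850 #14933). -/
theorem false_of [CharP F 2] : False := by
  obtain ⟨z, hzm, hz1, hez, hz⟩ := h.exists_z
  have hfix : ∀ x ∈ H, x * z * x⁻¹ ∈ W (S : Subgroup G) H → x * z * x⁻¹ = z := by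
    intro x hx hxW
    choose c hcV hce using fun i : Fin k => M.surj (Pi.single i ![1, 0])
    have hG := h.gdata hzm hez hz hcV hce
    by_cases h4 : ∀ i, Four H (zl (S : Subgroup G) H) (phi M i)
    · exact hG.fixed h.pos h4 hx hxW
    · push Not at h4
      obtain ⟨i, hi⟩ := h4
      refine h.fixed_two hzm hez hz (fun j hj => hi ?_) hx hxW
      obtain ⟨s, hs, h1⟩ := hG.trans j i
      exact four_conj (h.SH hs) h.nrm h1 hj
  -- all `V_P`, `P ≤ H`, are trivial
  have hW : W (S : Subgroup G) H ≤ zc (S : Subgroup G) := by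
    refine W_le fun R hR hRH c hc => ?_
    have h1 : zl (S : Subgroup G) R ≤ zc (S : Subgroup G) := by
      refine h.gen hz R _ fun x hx => ?_
      have h2 : x * z * x⁻¹ ∈ W (S : Subgroup G) H := zl_le_W hR hRH
        ((mem_normalizer_iff.1 (le_normalizer_zl _ _ hx) z).1 (zc_le_zl _ _ hzm))
      rw [hfix x (hRH hx) h2]
      exact hzm
    have h2 : MulAut.conj c • zc (S : Subgroup G) = zc (S : Subgroup G) :=
      NOThreeL.Pair.conj_eq_of_mem (centralizer_le_normalizer _ hc)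
    rw [← h2]
    exact NoFF.Basic.conj_le_iff.2 h1
  have hUZ : zl (S : Subgroup G) H ≤ zc (S : Subgroup G) := by
    refine zl_le le_rfl ?_
    by_contra hn
    exact (W_not_le S h.E.long.loc hn).2 hW
  refine h.E.off.ne (hUZ.trans ?_)
  rw [le_centralizer_iff]
  exact h.VS.trans (le_centralizer_zc _)

end Fr

end Cfsg.Agent.Omega.NOThreeL.ATwo

end

-- merged: Cfsg.Agent.Mrg.Omega.NOThreeL.AFour.Frame
section

/-!
# NO-3L A4: the frame (`V_P` a sum of natural modules, nothing about offenders)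

`FrA S P H M` : `DataZ S`, `PairA S P H`, `M : NatK F S P (zl S P) ⊥ k`.

* `cent_le` : `C_G(z) ≤ N_G(Z)` for `z ∈ Z#` (`C_Z(P) = 1` for all `P ∈ P*(S)`);
* `FrA.exists_b` : every `u ∈ U_H` acts on `V_P` as `up b`; `FrA.exists_ne` : `b i ≠ 0` for some `u`;
* `FrA.line_le` : the lines are contained in `U_H`;
* `FrA.ez` : `z ∈ Z#` has coordinates `![c, 0]`, `c ≠ 0`; `FrA.exists_full` : full vectors are `P`-conjugate into `Z`;
* `FrA.fix` : `t ∈ H` fixing a full vector: `[V_P, V_P ^ t] = 1`;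
* `FrA.two_elt` : `a ∈ V_P`, `b` an involution in `C_G(z)`: `a b` has order a power of 2.
-/

set_option autoImplicit false
set_option Elab.async false

namespace Cfsg.Agent.Omega.NOThreeL.AFour

open Subgroup Cfsg Cfsg.Agent.ZN Cfsg.Agent.Omega.FrameNOFF
open Cfsg.Agent.ZN.ChoiceBase hiding mem_zc
open Cfsg.Agent.Omega.MinPar Cfsg.Agent.Omega.FFThm Cfsg.Agent.Omega.Node.NO3L Cfsg.Agent.Omega.Frame
open Cfsg.Agent.Omega.NOThreeL.Basic Cfsg.Agent.Omega.NOThreeL.Main
open Cfsg.Agent.MinSimple.VModule (le_normalizer_zl zl_le zc_le_zl zc_le mem_zc zl_comm zl_sq le_o2 o2_isPGroup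
  le_normalizer_o2 le_centralizer_zc o2_le normalizer_le_normalizer_zc)
open Cfsg.Agent.Lib.SL2Mat
open Cfsg.Agent.Omega.NoFF.Basic (conj_conj mem_conj conj_le_iff)
open Cfsg.Agent.Omega.NOThreeL.Pair (conj_eq_of_mem)
open Cfsg.Agent.Omega.NatPair (ap ap_mul ap_one ap_inv_ap ap_ap_inv exists_ap ap_add)
open Cfsg.Agent.Omega.IId (Ind cj_mem cj_mem' e_inj e_one e_inv sg sg_spec fac exists_fac exists_trans line
  mem_line eq_one_of_cent)
open Cfsg.Agent.Omega.NOThreeL.ATwo (Up e_cm b_eq_zero_iff)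
open scoped Pointwise

universe u

variable {G : Type u} [Group G] [Finite G] {S : Sylow 2 G} {P H : Subgroup G} {F : Type} [Field F] {k : ℕ}

/-- `C_G(z) ≤ N_G(Z)` for `z ∈ Z#`. -/
theorem cent_le (D : DataZ (S : Subgroup G)) {z : G} (hz : z ∈ zc (S : Subgroup G)) (hz1 : z ≠ 1) :
    centralizer ({z} : Set G) ≤ normalizer (zc (S : Subgroup G) : Set G) := by
  obtain ⟨-, hzc, hz2⟩ := mem_zc.1 hz
  have hS : (S : Subgroup G) ≤ centralizer ({z} : Set G) := fun s hs =>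
    mem_centralizer_singleton_iff.2 (hzc s hs)
  have hL := isLoc_centralizer S hz2 hz1 hS
  by_contra hnot
  obtain ⟨P, hP, hPL, hPn⟩ := hL.exists_not_le S (M := normalizer (zc (S : Subgroup G) : Set G))
    (inf_le_right.trans (normalizer_le_normalizer_zc _)) hnot
  have h1 := D.cz P ⟨hP, hPn⟩
  have h2 : z ∈ zc (S : Subgroup G) ⊓ centralizer (P : Set G) := by
    refine ⟨hz, mem_centralizer_iff.2 fun p hp => ?_⟩
    exact mem_centralizer_singleton_iff.1 (hPL hp)
  rw [h1, mem_bot] at h2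
  exact hz1 h2

/-- The situation. -/
structure FrA (S : Sylow 2 G) (P H : Subgroup G) (M : NatK F (S : Subgroup G) P (zl (S : Subgroup G) P) ⊥ k) : Prop
    where
  hc : IsCharacteristicTwoType G
  ne : (S : Subgroup G) ≠ ⊥
  D : DataZ (S : Subgroup G)
  E : PairA (S : Subgroup G) P H
  pos : 0 < k

namespace FrA

variable {M : NatK F (S : Subgroup G) P (zl (S : Subgroup G) P) ⊥ k} (h : FrA S P H M)
include h

theorem SP : (S : Subgroup G) ≤ P := h.E.par.le

theorem SH : (S : Subgroup G) ≤ H := h.E.long.loc.le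

theorem US : zl (S : Subgroup G) H ≤ (S : Subgroup G) := IsLong.zl_le_S h.hc h.E.long

theorem UP : zl (S : Subgroup G) H ≤ P := h.US.trans h.SP

theorem VS : zl (S : Subgroup G) P ≤ (S : Subgroup G) := IsParS.zl_le_S h.hc h.E.par

theorem VH : zl (S : Subgroup G) P ≤ H := h.VS.trans h.SH

theorem ab : ∀ u ∈ zl (S : Subgroup G) H, ∀ v ∈ zl (S : Subgroup G) H, u * v = v * u := by
  intro u hu v hv
  have h1 := (NOThreeL.Pair.zl_abel h.hc S h.E.long.loc).1
  exact mem_centralizer_iff.1 (h1 hv) u hu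

theorem sq : ∀ u ∈ zl (S : Subgroup G) H, u * u = 1 := by
  intro u hu
  have h1 := (mem_zc.1 (h.E.long.loc.zl_le S h.hc hu)).2.2
  rwa [pow_two] at h1

theorem nrm : ∀ x ∈ H, ∀ u ∈ zl (S : Subgroup G) H, x * u * x⁻¹ ∈ zl (S : Subgroup G) H :=
  fun x hx u hu => (mem_normalizer_iff.1 (le_normalizer_zl _ _ hx) u).1 hu

theorem quad : Quad (S : Subgroup G) P (zl (S : Subgroup G) H) where
  SP := h.SP
  VS := h.VS
  US := h.US
  SU := h.SH.trans (le_normalizer_zl _ _)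
  ab := h.ab
  sq := h.sq

section char2

variable [CharP F 2]

theorem exists_b {u : G} (hu : u ∈ zl (S : Subgroup G) H) : ∃ b : Fin k → F, Up M u b :=
  h.quad.exists_up M hu

omit [CharP F 2] in
/-- `U_H` does not centralise a factor. -/
theorem not_cent (i : Fin k) : ¬ zl (S : Subgroup G) H ≤ centralizer (fac M i : Set G) := by
  intro hle
  refine h.E.ne' (fun u hu => ?_)
  -- all factors
  have key : ∀ j, u ∈ centralizer (fac M j : Set G) := by
    intro j
    obtain ⟨t, ht, htf⟩ := exists_trans M h.SP i j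
    have hu' : t⁻¹ * u * t ∈ zl (S : Subgroup G) H := by
      have h1 := h.nrm t⁻¹ (inv_mem (h.SH ht)) u hu
      rwa [inv_inv] at h1
    have h2 := hle hu'
    rw [← mem_cj, cj_centralizer, htf] at h2
    exact h2
  rw [mem_centralizer_iff]
  intro v hv
  have h1 : u * v * u⁻¹ = v := by
    refine e_inj M (cj_mem (h.UP hu) hv) hv (funext fun i => ?_)
    obtain ⟨a, ha, hae, hap⟩ := IId.exists_component M hv i
    have h2 := mem_centralizer_iff.1 (key i) a ha
    have h3 : v = a * (a⁻¹ * v) := by group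
    have h4 := h.quad.loc M hu i hv ha.1 hae.symm
    rw [h4]
    have h5 : u * a * u⁻¹ = a := by rw [← h2]; group
    rw [h5, hae]
  calc v * u = u * v * u⁻¹ * u := by rw [h1]
    _ = u * v := by group

theorem exists_ne (i : Fin k) : ∃ u ∈ zl (S : Subgroup G) H, ∃ b : Fin k → F, Up M u b ∧ b i ≠ 0 := by
  obtain ⟨u, hu, hn⟩ := SetLike.not_le_iff_exists.1 (h.not_cent i)
  obtain ⟨b, hb⟩ := h.exists_b hu
  exact ⟨u, hu, b, hb, fun h0 => hn ((b_eq_zero_iff (M := M) (h.UP hu) hb i).1 h0)⟩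

/-- The lines are contained in `U_H`. -/
theorem line_le (i : Fin k) {v : G} (hv : v ∈ zl (S : Subgroup G) P) {c : F} (he : M.e v = Pi.single i ![c, 0]) :
    v ∈ zl (S : Subgroup G) H := by
  obtain ⟨u, hu, b, hb, hbi⟩ := h.exists_ne i
  obtain ⟨n, hn, hne⟩ := M.surj (Pi.single i ![0, c / b i])
  have h1 : v = u * n * u⁻¹ * n⁻¹ := by
    refine e_inj M hv (mul_mem (cj_mem (h.UP hu) hn) (inv_mem hn)) (funext fun j => ?_)
    rw [e_cm (h.UP hu) hn hb j, he, hne]
    by_cases hj : j = i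
    · subst hj
      rw [Pi.single_eq_same, Pi.single_eq_same]
      apply NatPair.ext2
      · change c = b j * (c / b j)
        field_simp
      · rfl
    · rw [Pi.single_eq_of_ne hj, Pi.single_eq_of_ne hj]
      apply NatPair.ext2 <;> simp
  rw [h1]
  exact h.quad.cm_mem hu (h.VS hn)

omit [CharP F 2] in
/-- Coordinates of the elements of `Z`. -/
theorem ez {z : G} (hz : z ∈ zc (S : Subgroup G)) (i : Fin k) : M.e z i 1 = 0 := by
  obtain ⟨t, ht, htA⟩ := M.unip fun _ => 1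
  have hzV : z ∈ zl (S : Subgroup G) P := zc_le_zl _ _ hz
  have h1 := e_cm (h.SP ht) hzV htA i
  have h2 := (mem_zc.1 hz).2.1 t ht
  have h3 : t * z * t⁻¹ * z⁻¹ = 1 := by rw [h2]; group
  rw [h3, e_one] at h1
  have := congrFun h1 0
  simpa using this.symm

omit [CharP F 2] in
theorem ez_ne {z : G} (hz : z ∈ zc (S : Subgroup G)) (hz1 : z ≠ 1) (i : Fin k) : M.e z i ≠ 0 := fun h0 =>
  hz1 (eq_one_of_cent M (zc_le_zl _ _ hz) (mem_zc.1 hz).2.1 h0)

omit [CharP F 2] in
theorem exists_z : ∃ z ∈ zc (S : Subgroup G), z ≠ 1 := by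
  have hne : zc (S : Subgroup G) ≠ ⊥ := ZN.ChoiceSit.zc_ne_bot S.isPGroup' h.ne
  by_contra hcon
  push Not at hcon
  exact hne ((eq_bot_iff_forall _).2 hcon)

omit [CharP F 2] in
/-- A full vector is `P`-conjugate to an element of `Z#`. -/
theorem exists_full {v : G} (hv : v ∈ zl (S : Subgroup G) P) (hf : ∀ i, M.e v i ≠ 0) :
    ∃ b ∈ P, ∃ z ∈ zc (S : Subgroup G), z ≠ 1 ∧ b * z * b⁻¹ = v := by
  obtain ⟨z, hz, hz1⟩ := h.exists_z
  choose A hA using fun i => exists_ap (h.ez_ne hz hz1 i) (hf i)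
  obtain ⟨b, hb, hbA⟩ := M.lift A
  refine ⟨b, hb, z, hz, hz1, ?_⟩
  refine e_inj M (cj_mem hb (zc_le_zl _ _ hz)) hv (funext fun i => ?_)
  rw [hbA.1 z (zc_le_zl _ _ hz) i, hA i]

omit [CharP F 2] in
/-- **An element fixing a full vector of `V`**: `V` and `V ^ t` commute. -/
theorem fix {v t : G} (hv : v ∈ zl (S : Subgroup G) P) (hf : ∀ i, M.e v i ≠ 0) (ht : t * v = v * t) :
    ∀ w ∈ zl (S : Subgroup G) P, ∀ w' ∈ zl (S : Subgroup G) P, t * w * t⁻¹ * w' = w' * (t * w * t⁻¹) := by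
  obtain ⟨b, hb, z, hz, hz1, hbz⟩ := h.exists_full hv hf
  -- `n = b⁻¹ t b ∈ N_G(Z)`
  have hn : b⁻¹ * t * b ∈ normalizer (zc (S : Subgroup G) : Set G) := by
    refine cent_le h.D hz hz1 (mem_centralizer_singleton_iff.2 ?_)
    have e : z = b⁻¹ * v * b := by rw [← hbz]; group
    rw [e]
    calc b⁻¹ * t * b * (b⁻¹ * v * b) = b⁻¹ * (t * v) * b := by group
      _ = b⁻¹ * (v * t) * b := by rw [ht]
      _ = b⁻¹ * v * b * (b⁻¹ * t * b) := by group
  have hnQ : b⁻¹ * t * b ∈ normalizer (o2 (CZ (S : Subgroup G)) : Set G) :=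
    (NoFF.LinesPlug.normalizer_le_normalizer_centralizer' _).trans (normalizer_le_normalizer_o2' _) hn
  set n := b⁻¹ * t * b with hnn
  have htb : t * b = b * n := by rw [hnn]; group
  have hQ : MulAut.conj (t * b) • o2 (CZ (S : Subgroup G)) = MulAut.conj b • o2 (CZ (S : Subgroup G)) := by
    rw [htb, ← conj_conj, conj_eq_of_mem hnQ]
  have h1 := Basic.comm_of_le h.hc h.D.toData (x := b) (y := t * b) (by
      rw [hQ]; exact conj_le_iff.2 (WP_le_Q h.D.toData)) (by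
      rw [← hQ]; exact conj_le_iff.2 (WP_le_Q h.D.toData))
  have hVb : MulAut.conj b • zl (S : Subgroup G) P = zl (S : Subgroup G) P :=
    conj_eq_of_mem (le_normalizer_zl _ _ hb)
  have h2 : zl (S : Subgroup G) P ≤ MulAut.conj b • WP (S : Subgroup G) := by
    rw [← hVb]
    exact conj_le_iff.2 (zl_le_WP h.E.par)
  intro w hw w' hw'
  have h3 : t * w * t⁻¹ ∈ MulAut.conj (t * b) • WP (S : Subgroup G) := by
    rw [← conj_conj, mem_conj]
    have e : t⁻¹ * (t * w * t⁻¹) * t = w := by group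
    rw [e]
    exact h2 hw
  exact mem_centralizer_iff.1 (h1 (h2 hw')) _ h3

omit [CharP F 2] in
/-- `a ∈ V`, `b` an involution or 1 in `C_G(z)`. -/
theorem two_elt {a b z : G} (ha : a ∈ zl (S : Subgroup G) P) (hz : z ∈ zc (S : Subgroup G)) (hz1 : z ≠ 1)
    (hbz : b * z = z * b) (hb : b * b = 1) : ∃ n : ℕ, (a * b) ^ 2 ^ n = 1 := by
  have hbn : b ∈ normalizer (o2 (CZ (S : Subgroup G)) : Set G) :=
    (NoFF.LinesPlug.normalizer_le_normalizer_centralizer' _).trans (normalizer_le_normalizer_o2' _)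
      (cent_le h.D hz hz1 (mem_centralizer_singleton_iff.2 hbz))
  have haQ : a ∈ o2 (CZ (S : Subgroup G)) := h.D.low P h.E.par ha
  have h1 : (a * b) ^ 2 ∈ o2 (CZ (S : Subgroup G)) := by
    have hb' : b⁻¹ = b := inv_eq_of_mul_eq_one_left hb
    have e : (a * b) ^ 2 = a * (b * a * b⁻¹) := by
      rw [hb', pow_two]; group
    rw [e]
    exact mul_mem haQ ((mem_normalizer_iff.1 hbn _).1 haQ)
  obtain ⟨n, hn⟩ := o2_isPGroup (CZ (S : Subgroup G)) ⟨_, h1⟩
  refine ⟨n + 1, ?_⟩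
  have h2 : ((a * b) ^ 2) ^ 2 ^ n = 1 := congrArg Subtype.val hn
  rw [← pow_mul] at h2
  rw [pow_succ, mul_comm (2 ^ n) 2]
  exact h2

end char2

end FrA

end Cfsg.Agent.Omega.NOThreeL.AFour

end

private theorem dce_26937f5c96bf : _root_.True := by
  try have : _root_.True := by simp only [_root_.Cfsg.Agent.Omega.Frame.Ctx.congr_simp]
  exact _root_.True.intro
end

-- part: Mrg/Omega/NOThreeL/AFour/Big
section
prune_inst 0xc0100e005122000000180500a0001c4282000000006b0000e040020006c88d00200187218020110210102a4400340068139800104000000000000000011d0481000010029008a000200000801000000000000000000000000000000000000000000000000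
set_option linter.all false
open scoped Cfsg.Agent.FastGrp

-- merged: Cfsg.Agent.Omega.NOThreeL.AFour.Ax
section

/-!
# NO-3L A4: axes, centres and root groups of a not necessarily exact pair (THEOREM EXACT, #16392 II)

`M` normalises the elementary abelian group `U`; `L : (ι → F) → G` is an injective homomorphism with values in all
`K i ≤ U`; `R i = {L (single i c)}`; `N i ≤ M` centralises `K i` and `{[u, t] | t ∈ N i} = R i` for all
`u ∈ U - K i`; `|U : K i| ≤ |F|`, `|F| > 2`. Axes are the `M`-conjugates of the `K i`.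

* `Ax.five` : an axis which meets `Z` contains all `R i`;
* `Ax.six` : an axis which does not contain `Z` contains no full vector `L x`, `x i ≠ 0` for all `i`;
* `Ax.seven` : it contains all `R l` but one, `R i`, and `U = R i × g` (`NN i g`);
* `Ax.noedge`, `Ax.claim`;
* `Ax.exact` : for all `i`, `U = (⋂_{l ≠ i} K l) (K i)` and `|U| = |F| |K i|`.
-/

set_option autoImplicit false
set_option Elab.async false

namespace Cfsg.Agent.Omega.NOThreeL.AFour

open Subgroup Cfsg.Agent.ZN Cfsg.Agent.ZN.ChoiceBase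
open Cfsg.Agent.Omega.NOThreeL.ATwo (YY le_YY YY_le cj_YY_le card_YY_le)

universe u

variable {G : Type u} [Group G] {F : Type*} [Field F] {ι : Type*} [DecidableEq ι]

/-- The family of axes, centres and root groups. -/
structure Ax (M U Z : Subgroup G) (K R N : ι → Subgroup G) (L : (ι → F) → G) : Prop where
  MU : ∀ m ∈ M, ∀ u ∈ U, m * u * m⁻¹ ∈ U
  ab : ∀ u ∈ U, ∀ v ∈ U, u * v = v * u
  sq : ∀ u ∈ U, u * u = 1
  KU : ∀ i, K i ≤ U
  add : ∀ x y, L (x + y) = L x * L y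
  inj : Function.Injective L
  LK : ∀ x i, L x ∈ K i
  memR : ∀ i g, g ∈ R i ↔ ∃ c : F, L (Pi.single i c) = g
  NM : ∀ i, N i ≤ M
  cent : ∀ i, ∀ a ∈ K i, ∀ t ∈ N i, a * t = t * a
  comm : ∀ i, ∀ u ∈ U, ∀ t ∈ N i, u * t * u⁻¹ * t⁻¹ ∈ R i
  full : ∀ i, ∀ u ∈ U, u ∉ K i → ∀ y ∈ R i, ∃ t ∈ N i, u * t * u⁻¹ * t⁻¹ = y
  idx : ∀ i, Nat.card U ≤ Nat.card F * Nat.card (K i)
  trans : ∀ i j, ∃ s ∈ M, cj s (K i) = K j ∧ (∀ z ∈ Z, s * z = z * s) ∧
    ∃ d : F, s * L (Pi.single i 1) * s⁻¹ = L (Pi.single j d)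
  ZL : ∀ z ∈ Z, ∃ x, L x = z
  gen : ∀ A : Subgroup G, (∀ h ∈ M, cj h Z ≤ A) → U ≤ A
  ne : ∀ i, ¬ U ≤ K i
  o2 : ∀ i j, ∀ a ∈ N i, ∀ x ∈ M, ∀ b ∈ cj x (N j), ∀ z ∈ Z, z ≠ 1 → b * z = z * b → ∃ n : ℕ, (a * b) ^ 2 ^ n = 1
  fix : ∀ x : ι → F, (∀ i, x i ≠ 0) → ∀ t ∈ M, t * L x = L x * t → ∀ z ∈ Z, ∀ j, t * z * t⁻¹ ∈ K j

namespace Ax

variable {M U Z : Subgroup G} {K R N : ι → Subgroup G} {L : (ι → F) → G} (h : Ax M U Z K R N L)
include h

theorem L_zero : L 0 = 1 := by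
  have h1 := h.add 0 0
  rw [add_zero] at h1
  exact (mul_eq_left.1 h1.symm)

theorem RK (i j : ι) : R i ≤ K j := by
  intro g hg
  obtain ⟨c, rfl⟩ := (h.memR i g).1 hg
  exact h.LK _ j

theorem L_mem_R (i : ι) (c : F) : L (Pi.single i c) ∈ R i := (h.memR i _).2 ⟨c, rfl⟩

theorem sq' {u : G} (hu : u ∈ U) : u⁻¹ = u := inv_eq_of_mul_eq_one_left (h.sq u hu)

theorem cjU {x : G} (hx : x ∈ M) {u : G} (hu : u ∈ U) : x⁻¹ * u * x ∈ U := by
  have := h.MU x⁻¹ (inv_mem hx) u hu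
  rwa [inv_inv] at this

theorem cjKU {x : G} (hx : x ∈ M) (i : ι) : cj x (K i) ≤ U := by
  intro u hu
  rw [mem_cj] at hu
  have h1 := h.MU x hx _ (h.KU i hu)
  have e : x * (x⁻¹ * u * x) * x⁻¹ = u := by group
  rwa [e] at h1

theorem YY_le_self (B : Subgroup G) : YY M K R B ≤ B := by
  refine YY_le fun i x _ he => ?_
  rw [← he]
  exact cj_mono x (h.RK i i)

/-- Elements of conjugate root groups. -/
theorem comm' {x : G} (hx : x ∈ M) {i : ι} {u t : G} (hu : u ∈ U) (ht : t ∈ cj x (N i)) :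
    u * t * u⁻¹ * t⁻¹ ∈ cj x (R i) := by
  rw [mem_cj] at ht ⊢
  have h1 := h.comm i _ (h.cjU hx hu) _ ht
  have e : x⁻¹ * (u * t * u⁻¹ * t⁻¹) * x =
    x⁻¹ * u * x * (x⁻¹ * t * x) * (x⁻¹ * u * x)⁻¹ * (x⁻¹ * t * x)⁻¹ := by group
  rwa [e]

theorem full' {x : G} (hx : x ∈ M) {i : ι} {u y : G} (hu : u ∈ U) (huA : u ∉ cj x (K i)) (hy : y ∈ cj x (R i)) :
    ∃ t ∈ cj x (N i), u * t * u⁻¹ * t⁻¹ = y := by
  rw [mem_cj] at huA hy
  obtain ⟨t, ht, he⟩ := h.full i _ (h.cjU hx hu) huA _ hy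
  refine ⟨x * t * x⁻¹, ?_, ?_⟩
  · rw [mem_cj]
    have e : x⁻¹ * (x * t * x⁻¹) * x = t := by group
    rwa [e]
  · calc u * (x * t * x⁻¹) * u⁻¹ * (x * t * x⁻¹)⁻¹ =
        x * (x⁻¹ * u * x * t * (x⁻¹ * u * x)⁻¹ * t⁻¹) * x⁻¹ := by group
      _ = y := by rw [he]; group

theorem cent' {x : G} {i : ι} {a t : G} (ha : a ∈ cj x (K i)) (ht : t ∈ cj x (N i)) : a * t = t * a := by
  rw [mem_cj] at ha ht
  have h1 := h.cent i _ ha _ ht
  calc a * t = x * ((x⁻¹ * a * x) * (x⁻¹ * t * x)) * x⁻¹ := by group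
    _ = x * ((x⁻¹ * t * x) * (x⁻¹ * a * x)) * x⁻¹ := by rw [h1]
    _ = t * a := by group

theorem NM' {x : G} (hx : x ∈ M) {i : ι} {t : G} (ht : t ∈ cj x (N i)) : t ∈ M := by
  rw [mem_cj] at ht
  have e : t = x * (x⁻¹ * t * x) * x⁻¹ := by group
  rw [e]
  exact mul_mem (mul_mem hx (h.NM i ht)) (inv_mem hx)

omit h in
/-- A root element whose centre is in `B` normalises `B`. -/
theorem cj_le {t : G} {B : Subgroup G} (hB : B ≤ U) (hc : ∀ u ∈ U, u * t * u⁻¹ * t⁻¹ ∈ B) : cj t B ≤ B := by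
  intro b hb
  rw [mem_cj] at hb
  have h1 := hc _ (hB hb)
  have e : t⁻¹ * b * t * t * (t⁻¹ * b * t)⁻¹ * t⁻¹ = t⁻¹ * b * t * b⁻¹ := by group
  rw [e] at h1
  have h2 := mul_mem (inv_mem h1) hb
  have e2 : (t⁻¹ * b * t * b⁻¹)⁻¹ * (t⁻¹ * b * t) = b := by group
  rwa [e2] at h2

variable [Finite G]

omit h in
theorem cj_eq {t : G} {B : Subgroup G} (hB : B ≤ U) (hc : ∀ u ∈ U, u * t * u⁻¹ * t⁻¹ ∈ B) : cj t B = B :=
  Subgroup.eq_of_le_of_card_ge (cj_le hB hc) (card_cj t B).ge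

/-- **Symmetry.** -/
theorem symm {g g' : G} (hg : g ∈ M) (hg' : g' ∈ M) {i j : ι}
    (hle : YY M K R (cj g (K i)) ≤ cj g' (K j)) : YY M K R (cj g' (K j)) ≤ cj g (K i) := by
  set a := cj g (K i) with ha
  set b := cj g' (K j) with hb
  have hbU : b ≤ U := h.cjKU hg' j
  by_contra hcon
  obtain ⟨f, hf, hfa⟩ := SetLike.not_le_iff_exists.mp hcon
  have hfU : f ∈ U := hbU (h.YY_le_self b hf)
  have key : YY M K R a ≤ YY M K R b := by
    refine YY_le fun l x hx he => ?_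
    intro y hy
    obtain ⟨t, ht, hty⟩ := h.full' hx hfU (by rw [he]; exact hfa) hy
    have htM := h.NM' hx ht
    have hcen : cj x (R l) ≤ b := (le_YY hx he).trans hle
    have h2 : cj t b = b := cj_eq hbU fun u hu => hcen (h.comm' hx hu ht)
    have h3 : cj t (YY M K R b) ≤ YY M K R b := by
      have := cj_YY_le (A := K) (Yc := R) htM b
      rwa [h2] at this
    have h4 : t * f⁻¹ * t⁻¹ ∈ YY M K R b := h3 (by
      rw [mem_cj]
      have e : t⁻¹ * (t * f⁻¹ * t⁻¹) * t = f⁻¹ := by group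
      rw [e]
      exact inv_mem hf)
    rw [← hty]
    have e : f * t * f⁻¹ * t⁻¹ = f * (t * f⁻¹ * t⁻¹) := by group
    rw [e]
    exact mul_mem hf h4
  obtain ⟨s, hs, hse, -⟩ := h.trans i j
  have hab : cj (g' * s * g⁻¹) a = b := by
    rw [ha, hb, cj_cj, ← hse, cj_cj]
    congr 1
    group
  have h5 : Nat.card (YY M K R b) ≤ Nat.card (YY M K R a) := by
    have hba : cj (g' * s * g⁻¹)⁻¹ b = a := by rw [← hab, cj_inv_cj]
    have := card_YY_le (A := K) (Yc := R) (inv_mem (mul_mem (mul_mem hg' hs) (inv_mem hg))) b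
    rwa [hba] at this
  have h6 := Subgroup.eq_of_le_of_card_ge key h5
  rw [← h6] at hf
  exact hfa (h.YY_le_self a hf)

omit [Finite G] [DecidableEq ι] h in
/-- If `YY B` is not contained in `A`, some conjugate of an `R j` is not. -/
theorem exists_not_le {A B : Subgroup G} (hn : ¬ YY M K R B ≤ A) :
    ∃ j, ∃ x ∈ M, cj x (K j) = B ∧ ∃ y ∈ cj x (R j), y ∉ A := by
  by_contra hcon
  push Not at hcon
  exact hn (YY_le fun j x hx he y hy => hcon j x hx he y hy)

omit [Finite G] h in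
/-- an element whose third power centralises `r` and whose order is a power of 2. -/
theorem comm_of_three {c r : G} {n : ℕ} (h3 : c ^ 3 * r = r * c ^ 3) (hn : c ^ 2 ^ n = 1) : c * r = r * c := by
  have h1 : c ^ 3 ∈ centralizer ({r} : Set G) := mem_centralizer_singleton_iff.2 h3
  have h2 : c ^ 2 ^ n ∈ centralizer ({r} : Set G) := by rw [hn]; exact one_mem _
  have hcop : IsCoprime (3 : ℤ) ((2 ^ n : ℕ) : ℤ) := by
    have : Nat.Coprime 3 (2 ^ n) := Nat.Coprime.pow_right n (by decide)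
    exact_mod_cast this.isCoprime
  obtain ⟨a, b, hab⟩ := hcop
  have h4 : c = (c ^ 3) ^ a * (c ^ 2 ^ n) ^ b := by
    rw [← zpow_natCast c 3, ← zpow_natCast c (2 ^ n), ← zpow_mul, ← zpow_mul, ← zpow_add]
    have e : ((3 : ℕ) : ℤ) * a + ((2 ^ n : ℕ) : ℤ) * b = 1 := by
      rw [← hab]; push_cast; ring
    rw [e, zpow_one]
  have h5 : c ∈ centralizer ({r} : Set G) := by
    rw [h4]
    exact mul_mem (zpow_mem h1 a) (zpow_mem h2 b)
  exact mem_centralizer_singleton_iff.1 h5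

/-- **(5)** an axis which meets `Z` contains all `R i`. -/
theorem five {x : G} (hx : x ∈ M) {j : ι} {z : G} (hz : z ∈ Z) (hz1 : z ≠ 1) (hzg : z ∈ cj x (K j)) (i : ι) :
    R i ≤ cj x (K j) := by
  by_contra hcon
  obtain ⟨r, hr, hrg⟩ := SetLike.not_le_iff_exists.mp hcon
  have hrU : r ∈ U := h.KU i (h.RK i i hr)
  have h1 : ¬ YY M K R (cj x (K j)) ≤ K i := by
    intro hle
    have h2 : YY M K R (cj 1 (K i)) ≤ cj x (K j) := h.symm hx (one_mem M) (by rwa [cj_one])
    rw [cj_one] at h2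
    have h3 : cj 1 (R i) ≤ YY M K R (K i) := le_YY (one_mem M) (cj_one _)
    rw [cj_one] at h3
    exact hcon (h3.trans h2)
  obtain ⟨l, x', hx', he, y, hy, hyK⟩ := exists_not_le h1
  have hyg : y ∈ cj x' (K l) := cj_mono x' (h.RK l l) hy
  have hyU : y ∈ U := h.cjKU hx' l hyg
  obtain ⟨b, hb, hby⟩ := h.full' hx' hrU (by rw [he]; exact hrg) hy
  obtain ⟨a, ha, har⟩ := h.full i y hyU hyK r hr
  have hbz : b * z = z * b := (h.cent' (by rw [he]; exact hzg) hb).symm
  obtain ⟨n, hn⟩ := h.o2 i l a ha x' hx' b hb z hz hz1 hbz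
  -- the action on `⟨r, y⟩`
  have hry := h.ab r hrU y hyU
  have e1 : b * r * b⁻¹ = y * r := by
    have h2 : b * r⁻¹ * b⁻¹ = r⁻¹ * y := by rw [← hby]; group
    have h3 : b * r * b⁻¹ = (b * r⁻¹ * b⁻¹)⁻¹ := by group
    rw [h3, h2, mul_inv_rev, inv_inv, h.sq' hyU]
  have e2 : b * y * b⁻¹ = y := by
    have := h.cent' hyg hb
    rw [← this]; group
  have e3 : a * y * a⁻¹ = r * y := by
    have h2 : a * y⁻¹ * a⁻¹ = y⁻¹ * r := by rw [← har]; group
    have h3 : a * y * a⁻¹ = (a * y⁻¹ * a⁻¹)⁻¹ := by group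
    rw [h3, h2, mul_inv_rev, inv_inv, h.sq' hrU]
  have e4 : a * r * a⁻¹ = r := by
    have := h.cent i r (h.RK i i hr) a ha
    rw [← this]; group
  set c := a * b with hc
  have c1 : c * r * c⁻¹ = y := by
    calc c * r * c⁻¹ = a * (b * r * b⁻¹) * a⁻¹ := by rw [hc]; group
      _ = (a * y * a⁻¹) * (a * r * a⁻¹) := by rw [e1]; group
      _ = r * y * r := by rw [e3, e4]
      _ = y := by rw [hry, mul_assoc, h.sq r hrU, mul_one]
  have c2 : c * y * c⁻¹ = r * y := by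
    calc c * y * c⁻¹ = a * (b * y * b⁻¹) * a⁻¹ := by rw [hc]; group
      _ = r * y := by rw [e2, e3]
  have c3 : c ^ 3 * r = r * c ^ 3 := by
    have h2 : c ^ 3 * r * (c ^ 3)⁻¹ = r := by
      have e : c ^ 3 = c * c * c := by rw [pow_succ, pow_two]
      calc c ^ 3 * r * (c ^ 3)⁻¹ = c * (c * (c * r * c⁻¹) * c⁻¹) * c⁻¹ := by rw [e]; group
        _ = (c * r * c⁻¹) * (c * y * c⁻¹) := by
          rw [c1, c2]
          calc c * (r * y) * c⁻¹ = (c * r * c⁻¹) * (c * y * c⁻¹) := by group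
            _ = y * (r * y) := by rw [c1, c2]
        _ = r := by
          rw [c1, c2, ← mul_assoc, ← hry, mul_assoc, h.sq y hyU, mul_one]
    calc c ^ 3 * r = c ^ 3 * r * (c ^ 3)⁻¹ * c ^ 3 := by group
      _ = r * c ^ 3 := by rw [h2]
  have h2 := comm_of_three c3 hn
  have h3 : r = y := by
    rw [← c1, h2]; group
  exact hrg (by rw [h3, ← he]; exact hyg)

omit [Finite G] in
/-- A subgroup containing all components contains `L x`. -/
theorem L_mem [Fintype ι] {A : Subgroup G} {x : ι → F} (hA : ∀ i, L (Pi.single i (x i)) ∈ A) : L x ∈ A := by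
  have key : ∀ s : Finset ι, L (∑ i ∈ s, Pi.single i (x i)) ∈ A := by
    intro s
    induction s using Finset.induction_on with
    | empty => rw [Finset.sum_empty, h.L_zero]; exact one_mem _
    | insert a s ha ih => rw [Finset.sum_insert ha, h.add]; exact mul_mem (hA a) ih
  have h1 := key Finset.univ
  rwa [Finset.univ_sum_single] at h1

/-- **(6)** an axis which does not contain `Z` contains no full vector. -/
theorem six [Fintype ι] {x : G} (hx : x ∈ M) {j : ι} (hZ : ¬ Z ≤ cj x (K j)) {v : ι → F} (hv : ∀ i, v i ≠ 0) :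
    L v ∉ cj x (K j) := by
  intro hmem
  obtain ⟨z, hz, hzg⟩ := SetLike.not_le_iff_exists.mp hZ
  obtain ⟨w, hw⟩ := h.ZL z hz
  have hzU : z ∈ U := by rw [← hw]; exact h.KU j (h.LK w j)
  apply hZ
  have key : ∀ i, YY M K R (cj x (K j)) ≤ K i := by
    intro i
    refine YY_le fun l x' hx' he y hy => ?_
    obtain ⟨t, ht, hty⟩ := h.full' hx' hzU (by rw [he]; exact hzg) hy
    have h1 : t * L v = L v * t := (h.cent' (by rw [he]; exact hmem) ht).symm
    have h2 := h.fix v hv t (h.NM' hx' ht) h1 z hz i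
    have h3 : z ∈ K i := by rw [← hw]; exact h.LK w i
    have h4 := mul_mem h3 (inv_mem h2)
    have e : z * (t * z * t⁻¹)⁻¹ = z * t * z⁻¹ * t⁻¹ := by group
    rw [e, hty] at h4
    exact h4
  have h5 : ∀ i, R i ≤ cj x (K j) := by
    intro i
    have h2 : YY M K R (cj 1 (K i)) ≤ cj x (K j) := h.symm hx (one_mem M) (by rw [cj_one]; exact key i)
    rw [cj_one] at h2
    have h3 : cj 1 (R i) ≤ YY M K R (K i) := le_YY (one_mem M) (cj_one _)
    rw [cj_one] at h3
    exact h3.trans h2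
  intro z' hz'
  obtain ⟨w', hw'⟩ := h.ZL z' hz'
  rw [← hw']
  exact h.L_mem fun i => h5 i (h.L_mem_R i _)

omit [Finite G] in
theorem L_neg (x : ι → F) : L (-x) = (L x)⁻¹ := by
  have h1 := h.add x (-x)
  rw [add_neg_cancel, h.L_zero] at h1
  exact (inv_eq_of_mul_eq_one_right h1.symm).symm

omit [Finite G] [DecidableEq ι] h in
theorem exists_ne [Finite F] (hF : 2 < Nat.card F) (y : F) : ∃ w : F, w ≠ 0 ∧ w + y ≠ 0 := by
  classical
  by_contra hcon
  push Not at hcon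
  have : Fintype F := Fintype.ofFinite F
  have h1 : (Finset.univ : Finset F) ⊆ {0, -y} := by
    intro w _
    rw [Finset.mem_insert, Finset.mem_singleton]
    by_cases h0 : w = 0
    · exact Or.inl h0
    · exact Or.inr (eq_neg_of_add_eq_zero_left (hcon w h0))
  have h2 := Finset.card_le_card h1
  have h3 : ({0, -y} : Finset F).card ≤ 2 := Finset.card_le_two
  rw [Finset.card_univ, ← Nat.card_eq_fintype_card] at h2
  omega

/-- The axes which contain all `R l`, `l ≠ i`, and are complements of `R i`. -/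
def NN (U : Subgroup G) (L : (ι → F) → G) (i : ι) (g : Subgroup G) : Prop :=
  (∀ x : ι → F, x i = 0 → L x ∈ g) ∧ (∀ c : F, c ≠ 0 → L (Pi.single i c) ∉ g) ∧
    ∀ u ∈ U, ∃ c : F, ∃ a ∈ g, u = L (Pi.single i c) * a

/-- **(7)** -/
theorem seven [Fintype ι] [Finite F] (hF : 2 < Nat.card F) {x : G} (hx : x ∈ M) {j : ι}
    (hZ : ¬ Z ≤ cj x (K j)) :
    (∃ i, NN U L i (cj x (K j))) ∧ Nat.card U = Nat.card F * Nat.card (K j) := by
  set g := cj x (K j) with hg
  have hgU : g ≤ U := h.cjKU hx j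
  have six := fun (v : ι → F) (hv : ∀ i, v i ≠ 0) => h.six hx hZ hv
  rw [← hg] at six
  obtain ⟨i, hi⟩ : ∃ i, ∀ c : F, c ≠ 0 → L (Pi.single i c) ∉ g := by
    by_contra hcon
    push Not at hcon
    choose v hv hvg using hcon
    exact six v hv (h.L_mem hvg)
  -- `U = R i × g`
  have hLU : ∀ v, L v ∈ U := fun v => h.KU i (h.LK v i)
  let f : F → U ⧸ g.subgroupOf U := fun c => QuotientGroup.mk ⟨L (Pi.single i c), hLU _⟩
  have hinj : Function.Injective f := by
    intro c d hcd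
    have h1 := QuotientGroup.eq.1 hcd
    rw [mem_subgroupOf] at h1
    change (L (Pi.single i c))⁻¹ * L (Pi.single i d) ∈ g at h1
    rw [← h.L_neg, ← h.add, ← Pi.single_neg, ← Pi.single_add] at h1
    by_contra hne
    exact hi _ (fun h0 => hne (by rw [neg_add_eq_zero] at h0; exact h0)) h1
  have hcg : Nat.card (g.subgroupOf U) = Nat.card (K j) := by
    rw [Nat.card_congr (subgroupOfEquivOfLe hgU).toEquiv, hg, card_cj]
  have hcU : Nat.card U = Nat.card (U ⧸ g.subgroupOf U) * Nat.card (K j) := by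
    rw [card_eq_card_quotient_mul_card_subgroup (g.subgroupOf U), hcg]
  have hle : Nat.card (U ⧸ g.subgroupOf U) ≤ Nat.card F := by
    have h1 := h.idx j
    rw [hcU] at h1
    exact Nat.le_of_mul_le_mul_right h1 Nat.card_pos
  have hbij := hinj.bijective_of_nat_card_le hle
  have hsur : ∀ u ∈ U, ∃ c : F, ∃ a ∈ g, u = L (Pi.single i c) * a := by
    intro u hu
    obtain ⟨c, hc⟩ := hbij.2 (QuotientGroup.mk ⟨u, hu⟩)
    have h1 := QuotientGroup.eq.1 hc
    rw [mem_subgroupOf] at h1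
    exact ⟨c, _, h1, by
      change u = L (Pi.single i c) * ((L (Pi.single i c))⁻¹ * u)
      group⟩
  have hfull : ∀ y : ι → F, y i = 0 → (∀ l, l ≠ i → y l ≠ 0) → L y ∈ g := by
    intro y hy hyl
    obtain ⟨c, a, ha, he⟩ := hsur (L y) (hLU y)
    by_cases hc : c = 0
    · rw [he, hc, Pi.single_zero, h.L_zero, one_mul]
      exact ha
    · exfalso
      have h1 : a = L (-Pi.single i c + y) := by rw [h.add, h.L_neg, he]; group
      refine six (-Pi.single i c + y) (fun l => ?_) (by rw [← h1]; exact ha)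
      by_cases hl : l = i
      · rw [hl, Pi.add_apply, Pi.neg_apply, Pi.single_eq_same, hy, add_zero]
        exact neg_ne_zero.2 hc
      · rw [Pi.add_apply, Pi.neg_apply, Pi.single_eq_of_ne hl, neg_zero, zero_add]
        exact hyl l hl
  refine ⟨⟨i, fun y hy => ?_, hi, hsur⟩, ?_⟩
  · choose w hw hwy using fun l => exists_ne hF (y l)
    have h1 : L (Function.update w i 0) ∈ g := by
      refine hfull _ (Function.update_self _ _ _) fun l hl => ?_
      rw [Function.update_of_ne hl]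
      exact hw l
    have h2 : L (Function.update w i 0 + y) ∈ g := by
      refine hfull _ ?_ fun l hl => ?_
      · rw [Pi.add_apply, Function.update_self, hy, add_zero]
      · rw [Pi.add_apply, Function.update_of_ne hl]
        exact hwy l
    rw [h.add] at h2
    exact (mul_mem_cancel_left h1).1 h2
  · rw [hcU]
    congr 1
    exact (Nat.card_eq_of_bijective f hbij).symm

omit [Finite G] in
/-- A root element acts on `r`: `t r t⁻¹ = [r, t] r`. -/
theorem conj_root {r t y : G} (hy : y ∈ U) (ht : r * t * r⁻¹ * t⁻¹ = y) : t * r * t⁻¹ = y * r := by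
  have h2 : t * r⁻¹ * t⁻¹ = r⁻¹ * y := by rw [← ht]; group
  have h3 : t * r * t⁻¹ = (t * r⁻¹ * t⁻¹)⁻¹ := by group
  rw [h3, h2, mul_inv_rev, inv_inv, h.sq' hy]

/-- **(8)** no edge between `NN i` and `NN i'`. -/
theorem noedge [Fintype ι] [CharP F 2] {x2 x3 : G} (hx3 : x3 ∈ M)
    {j2 j3 i i' : ι} (hne : i ≠ i') (h2 : NN U L i' (cj x2 (K j2))) (h3 : NN U L i (cj x3 (K j3))) :
    YY M K R (cj x2 (K j2)) ≤ cj x3 (K j3) := by
  set g2 := cj x2 (K j2) with hg2
  set g3 := cj x3 (K j3) with hg3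
  by_contra hcon
  obtain ⟨l, x, hx, he, y, hy, hyg⟩ := exists_not_le hcon
  have hyU : y ∈ U := h.cjKU hx l (cj_mono x (h.RK l l) hy)
  have hLU : ∀ v, L v ∈ U := fun v => h.KU i (h.LK v i)
  obtain ⟨c, a, ha, hya⟩ := h3.2.2 y hyU
  have hc : c ≠ 0 := by
    rintro rfl
    apply hyg
    rw [hya, Pi.single_zero, h.L_zero, one_mul]
    exact ha
  obtain ⟨t, ht, hty⟩ := h.full' hx (hLU (Pi.single i' 1)) (by rw [he]; exact h2.2.1 1 one_ne_zero) hy
  have htM := h.NM' hx ht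
  -- the full vector
  set v : ι → F := Function.update (fun _ => 1) i c with hv
  have hvf : ∀ l, v l ≠ 0 := by
    intro l
    by_cases hl : l = i
    · rw [hv, hl, Function.update_self]; exact hc
    · rw [hv, Function.update_of_ne hl]; exact one_ne_zero
  have hfixL : ∀ w : ι → F, w i' = 0 → t * L w * t⁻¹ = L w := by
    intro w hw
    have h1 : L w ∈ cj x (K l) := by rw [he]; exact h2.1 w hw
    have h4 := h.cent' h1 ht
    rw [← h4]; group
  have htv : t * L v * t⁻¹ = y * L v := by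
    have e1 : v = Pi.single i' 1 + (v - Pi.single i' 1) := by abel
    have h4 : (v - Pi.single i' (1 : F) : ι → F) i' = 0 := by
      rw [Pi.sub_apply, Pi.single_eq_same, hv, Function.update_of_ne hne.symm, sub_self]
    have h5 := hfixL _ h4
    have h6 := h.conj_root hyU hty
    calc t * L v * t⁻¹ = (t * L (Pi.single i' 1) * t⁻¹) * (t * L (v - Pi.single i' 1) * t⁻¹) := by
          rw [e1, h.add, ← e1]; group
      _ = y * (L (Pi.single i' 1) * L (v - Pi.single i' 1)) := by rw [h5, h6, mul_assoc]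
      _ = y * L v := by rw [← h.add, ← e1]
  have htg : t * L v * t⁻¹ ∈ g3 := by
    rw [htv, hya, h.ab _ (hLU _) a (h.cjKU hx3 j3 ha), mul_assoc, ← h.add]
    refine mul_mem ha (h3.1 _ ?_)
    rw [Pi.add_apply, Pi.single_eq_same, hv, Function.update_self]
    exact CharTwo.add_self_eq_zero c
  -- the axis `g3 ^ (t⁻¹)`
  have hmem : L v ∈ cj (t⁻¹ * x3) (K j3) := by
    rw [← cj_cj, ← hg3, mem_cj, inv_inv]
    exact htg
  have hx' : t⁻¹ * x3 ∈ M := mul_mem (inv_mem htM) hx3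
  have hZ : Z ≤ cj (t⁻¹ * x3) (K j3) := by
    by_contra hZ
    exact h.six hx' hZ hvf hmem
  -- `Z ≠ 1`
  obtain ⟨z, hz, hz1⟩ : ∃ z ∈ Z, z ≠ 1 := by
    by_contra hc0
    push Not at hc0
    refine h.ne i (h.gen _ fun m _ w hw => ?_)
    rw [mem_cj] at hw
    have h5 := hc0 _ hw
    have h6 : w = 1 := by
      calc w = m * (m⁻¹ * w * m) * m⁻¹ := by group
        _ = 1 := by rw [h5]; group
    rw [h6]
    exact one_mem _
  have h5 := h.five hx' hz hz1 (hZ hz) i (h.L_mem_R i 1)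
  rw [← cj_cj, ← hg3, mem_cj, inv_inv] at h5
  have h6 : (Pi.single i (1 : F) : ι → F) i' = 0 := Pi.single_eq_of_ne hne.symm _
  rw [hfixL _ h6] at h5
  exact h3.2.1 1 one_ne_zero h5

omit [Finite G] in
/-- `Z ≠ 1` -/
theorem exists_z (i : ι) : ∃ z ∈ Z, z ≠ 1 := by
  by_contra hc0
  push Not at hc0
  refine h.ne i (h.gen _ fun m _ w hw => ?_)
  rw [mem_cj] at hw
  have h5 := hc0 _ hw
  have h6 : w = 1 := by
    calc w = m * (m⁻¹ * w * m) * m⁻¹ := by group
      _ = 1 := by rw [h5]; group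
  rw [h6]
  exact one_mem _

/-- If `NN i g`, then `Z` is not contained in `g`. -/
theorem not_le_of_NN {x : G} (hx : x ∈ M) {i j : ι} (hn : NN U L i (cj x (K j))) : ¬ Z ≤ cj x (K j) := by
  intro hle
  obtain ⟨z, hz, hz1⟩ := h.exists_z i
  exact hn.2.1 1 one_ne_zero (h.five hx hz hz1 (hle hz) i (h.L_mem_R i 1))

/-- `NN i` is not empty. -/
theorem exists_NN [Fintype ι] [Finite F] (hF : 2 < Nat.card F) (i : ι) :
    ∃ x ∈ M, ∃ j, NN U L i (cj x (K j)) := by
  -- some axis does not contain `Z`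
  obtain ⟨x, hx, hZ⟩ : ∃ x ∈ M, ¬ Z ≤ cj x (K i) := by
    by_contra hcon
    push Not at hcon
    refine h.ne i (h.gen _ fun m hm => ?_)
    have h1 := hcon m⁻¹ (inv_mem hm)
    have h2 := cj_mono m h1
    rwa [cj_cj_inv] at h2
  obtain ⟨m, hm⟩ := (h.seven hF hx hZ).1
  obtain ⟨s, hs, hsK, hsZ, d, hd⟩ := h.trans m i
  refine ⟨s * x, mul_mem hs hx, i, ?_⟩
  have hZ' : ¬ Z ≤ cj (s * x) (K i) := by
    intro hle
    apply hZ
    intro z hz
    have h1 := hle hz
    rw [← cj_cj, mem_cj] at h1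
    have e : s⁻¹ * z * s = z := by
      have := hsZ z hz
      calc s⁻¹ * z * s = s⁻¹ * (z * s) := by group
        _ = s⁻¹ * (s * z) := by rw [this]
        _ = z := by group
    rwa [e] at h1
  obtain ⟨m', hm'⟩ := (h.seven hF (mul_mem hs hx) hZ').1
  by_cases hmi : m' = i
  · rw [hmi] at hm'
    exact hm'
  · exfalso
    have h1 : L (Pi.single i d) ∈ cj (s * x) (K i) := hm'.1 _ (Pi.single_eq_of_ne hmi _)
    rw [← hd, ← cj_cj, mem_cj] at h1
    have e : s⁻¹ * (s * L (Pi.single m 1) * s⁻¹) * s = L (Pi.single m 1) := by group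
    rw [e] at h1
    exact hm.2.1 1 one_ne_zero h1

/-- **(9)** the centre of `g ∈ NN i` is contained in `K l`, `l ≠ i`. -/
theorem claim [Fintype ι] [Finite F] [CharP F 2] (hF : 2 < Nat.card F) {x : G} (hx : x ∈ M) {i j l : ι}
    (hn : NN U L i (cj x (K j))) (hl : l ≠ i) : YY M K R (cj x (K j)) ≤ K l := by
  set g := cj x (K j) with hg
  by_contra hcon
  obtain ⟨x2, hx2, j2, h2⟩ := h.exists_NN hF l
  set g2 := cj x2 (K j2) with hg2
  -- `g2` and `K l` are adjacent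
  have h3 : ¬ YY M K R g2 ≤ K l := by
    intro hle
    have h4 : YY M K R (cj 1 (K l)) ≤ g2 := h.symm hx2 (one_mem M) (by rwa [cj_one])
    rw [cj_one] at h4
    have h5 : cj 1 (R l) ≤ YY M K R (K l) := le_YY (one_mem M) (cj_one _)
    rw [cj_one] at h5
    exact h2.2.1 1 one_ne_zero (h4 (h5 (h.L_mem_R l 1)))
  obtain ⟨m, x', hx', he, w, hw, hwK⟩ := exists_not_le h3
  obtain ⟨z, hz, hzg⟩ := SetLike.not_le_iff_exists.mp (h.not_le_of_NN hx2 h2)
  obtain ⟨zz, hzz⟩ := h.ZL z hz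
  have hzU : z ∈ U := by rw [← hzz]; exact h.KU l (h.LK zz l)
  have hzK : z ∈ K l := by rw [← hzz]; exact h.LK zz l
  obtain ⟨t, ht, htw⟩ := h.full' hx' hzU (by rw [he]; exact hzg) hw
  have htM := h.NM' hx' ht
  -- `K l ^ (t⁻¹) ∈ NN l`
  have h4 : z ∉ cj t⁻¹ (K l) := by
    intro h5
    rw [mem_cj, inv_inv] at h5
    apply hwK
    have e : w = z * (t * z * t⁻¹)⁻¹ := by rw [← htw]; group
    rw [e]
    exact mul_mem hzK (inv_mem h5)
  have h5 : ¬ Z ≤ cj t⁻¹ (K l) := fun hle => h4 (hle hz)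
  obtain ⟨m', hm'⟩ := (h.seven hF (inv_mem htM) h5).1
  have hml : m' = l := by
    by_contra hne
    have h6 : L (Pi.single m' (1 : F)) ∈ cj x' (K m) := by
      rw [he]
      exact h2.1 _ (Pi.single_eq_of_ne (Ne.symm hne) _)
    have h7 := h.cent' h6 ht
    apply hm'.2.1 1 one_ne_zero
    rw [mem_cj, inv_inv, ← h7]
    have e : L (Pi.single m' (1 : F)) * t * t⁻¹ = L (Pi.single m' 1) := by group
    rw [e]
    exact h.LK _ _
  rw [hml] at hm'
  -- `t` normalises `g`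
  have h6 : YY M K R g2 ≤ g := h.noedge hx hl.symm h2 hn
  have h7 : cj t⁻¹ g = g := by
    refine cj_eq (h.cjKU hx j) fun u hu => h6 (le_YY hx' he (h.comm' hx' hu (inv_mem ht)))
  have h8 : YY M K R g ≤ cj t⁻¹ (K l) := h.noedge (inv_mem htM) hl hn hm'
  have h9 : cj t⁻¹ (YY M K R g) ≤ YY M K R g := by
    have := cj_YY_le (A := K) (Yc := R) (inv_mem htM) g
    rwa [h7] at this
  apply hcon
  intro y hy
  have h10 : t⁻¹ * y * t ∈ YY M K R g := h9 (by
    rw [mem_cj, inv_inv]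
    have e : t * (t⁻¹ * y * t) * t⁻¹ = y := by group
    rwa [e])
  have h11 := h8 h10
  rw [mem_cj, inv_inv] at h11
  have e : t * (t⁻¹ * y * t) * t⁻¹ = y := by group
  rwa [e] at h11

/-- **THEOREM EXACT**, abstract form. -/
theorem exact [Fintype ι] [Finite F] [CharP F 2] (hF : 2 < Nat.card F) (i : ι) :
    (∀ u ∈ U, ∃ y ∈ U, (∀ l, l ≠ i → y ∈ K l) ∧ y⁻¹ * u ∈ K i) ∧ Nat.card U = Nat.card F * Nat.card (K i) := by
  obtain ⟨x, hx, j, hn⟩ := h.exists_NN hF i
  set g := cj x (K j) with hg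
  have h3 : ¬ YY M K R g ≤ K i := by
    intro hle
    have h4 : YY M K R (cj 1 (K i)) ≤ g := h.symm hx (one_mem M) (by rwa [cj_one])
    rw [cj_one] at h4
    have h5 : cj 1 (R i) ≤ YY M K R (K i) := le_YY (one_mem M) (cj_one _)
    rw [cj_one] at h5
    exact hn.2.1 1 one_ne_zero (h4 (h5 (h.L_mem_R i 1)))
  obtain ⟨m, x', hx', he, w, hw, hwK⟩ := exists_not_le h3
  -- the axis `K i` with respect to the conjugate under `x'`
  rw [mem_cj] at hw
  obtain ⟨c, hc⟩ := (h.memR m _).1 hw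
  have hw' : L (Pi.single m c) ∉ cj x'⁻¹ (K i) := by
    intro h5
    rw [mem_cj, inv_inv, hc] at h5
    have e : x' * (x'⁻¹ * w * x') * x'⁻¹ = w := by group
    rw [e] at h5
    exact hwK h5
  have h5 : ¬ Z ≤ cj x'⁻¹ (K i) := by
    intro hle
    obtain ⟨z, hz, hz1⟩ := h.exists_z i
    exact hw' (h.five (inv_mem hx') hz hz1 (hle hz) m (h.L_mem_R m c))
  obtain ⟨⟨m', hm'⟩, hcard⟩ := h.seven hF (inv_mem hx') h5
  have hmm : m' = m := by
    by_contra hne
    exact hw' (hm'.1 _ (Pi.single_eq_of_ne hne _))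
  rw [hmm] at hm'
  refine ⟨fun u hu => ?_, hcard⟩
  obtain ⟨d, a, ha, he2⟩ := hm'.2.2 _ (h.cjU hx' hu)
  have hyR : x' * L (Pi.single m d) * x'⁻¹ ∈ cj x' (R m) := by
    rw [mem_cj]
    have e : x'⁻¹ * (x' * L (Pi.single m d) * x'⁻¹) * x' = L (Pi.single m d) := by group
    rw [e]
    exact h.L_mem_R m d
  have hyY := le_YY hx' he hyR
  refine ⟨x' * L (Pi.single m d) * x'⁻¹, h.MU x' hx' _ (h.KU i (h.LK _ i)), fun l hl => h.claim hF hx hn hl hyY, ?_⟩
  rw [mem_cj, inv_inv] at ha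
  have e : (x' * L (Pi.single m d) * x'⁻¹)⁻¹ * u = x' * a * x'⁻¹ := by
    have e3 : u = x' * (x'⁻¹ * u * x') * x'⁻¹ := by group
    rw [e3, he2]
    group
  rw [e]
  exact ha

end Ax

end Cfsg.Agent.Omega.NOThreeL.AFour

end

-- merged: Cfsg.Agent.Mrg.Omega.NOThreeL.AFour.Big
section

/-!
# NO-3L A4, `q > 2`: `U_H` induces all upper unitriangular matrices (THEOREM EXACT, #16740 (A4a))

* `FrA.ax` : the family `C_U(N_i)`, `line M i`, `N_i = fac M i` is an `Ax`;
* `FrA.ind` : `Ind M (zl S H) Set.univ`;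
* `off_of_ind` : then `U_H` offends on `V_P`.
-/

set_option autoImplicit false
set_option Elab.async false

namespace Cfsg.Agent.Omega.NOThreeL.AFour

open Subgroup Cfsg Cfsg.Agent.ZN Cfsg.Agent.Omega.FrameNOFF
open Cfsg.Agent.ZN.ChoiceBase hiding mem_zc
open Cfsg.Agent.Omega.MinPar Cfsg.Agent.Omega.FFThm Cfsg.Agent.Omega.Node.NO3L Cfsg.Agent.Omega.Frame
open Cfsg.Agent.Omega.NOThreeL.Basic Cfsg.Agent.Omega.NOThreeL.Main
open Cfsg.Agent.MinSimple.VModule (le_normalizer_zl zl_le zc_le_zl zc_le mem_zc)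
open Cfsg.Agent.Lib.SL2Mat
open Cfsg.Agent.Omega.NoFF.Basic (conj_conj mem_conj conj_le_iff)
open Cfsg.Agent.Omega.NatPair (ap ap_mul ap_one exists_ap ap_add)
open Cfsg.Agent.Omega.IId (Ind cj_mem cj_mem' e_inj e_one e_inv e_eq_zero sg sg_spec fac exists_fac exists_trans line
  mem_line eq_one_of_cent conj_line ext_fac)
open Cfsg.Agent.Omega.NOThreeL.ATwo (Up e_cm b_eq_zero_iff)
open scoped Pointwise

universe u

variable {G : Type u} [Group G] [Finite G] {S : Sylow 2 G} {P H : Subgroup G} {F : Type} [Field F] {k : ℕ}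

section vec

variable {S P : Subgroup G} (M : NatK F S P (zl S P) ⊥ k)

/-- The element of `V` with coordinates `![x i, 0]`. -/
noncomputable def vec (x : Fin k → F) : G := (M.surj fun i => ![x i, 0]).choose

omit [Finite G] in
theorem vec_mem (x : Fin k → F) : vec M x ∈ zl S P := (M.surj fun i => ![x i, 0]).choose_spec.1

omit [Finite G] in
theorem e_vec (x : Fin k → F) (i : Fin k) : M.e (vec M x) i = ![x i, 0] :=
  congrFun (M.surj fun i => ![x i, 0]).choose_spec.2 i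

omit [Finite G] in
theorem vec_add (x y : Fin k → F) : vec M (x + y) = vec M x * vec M y := by
  refine e_inj M (vec_mem M _) (mul_mem (vec_mem M x) (vec_mem M y)) (funext fun i => ?_)
  rw [M.mul _ (vec_mem M x) _ (vec_mem M y), Pi.add_apply, e_vec, e_vec, e_vec]
  apply NatPair.ext2 <;> simp

omit [Finite G] in
theorem vec_inj : Function.Injective (vec M) := by
  intro x y hxy
  funext i
  have h1 := e_vec M x i
  rw [hxy, e_vec] at h1
  exact (congrFun h1 0).symm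

omit [Finite G] in
theorem vec_single_mem (i : Fin k) (c : F) : vec M (Pi.single i c) ∈ line M i := by
  rw [mem_line]
  refine ⟨⟨vec_mem M _, fun j hj => ?_⟩, ?_⟩
  · rw [e_vec, Pi.single_eq_of_ne hj]
    apply NatPair.ext2 <;> simp
  · rw [e_vec]; rfl

omit [Finite G] in
theorem mem_line_iff (i : Fin k) (g : G) : g ∈ line M i ↔ ∃ c : F, vec M (Pi.single i c) = g := by
  constructor
  · intro hg
    rw [mem_line] at hg
    refine ⟨M.e g i 0, ext_fac M (i := i) ((mem_line M).1 (vec_single_mem M i _)).1 hg.1 ?_⟩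
    rw [e_vec, Pi.single_eq_same]
    apply NatPair.ext2
    · rfl
    · exact hg.2.symm
  · rintro ⟨c, rfl⟩
    exact vec_single_mem M i c

omit [Finite G] in
theorem eq_vec {v : G} (hv : v ∈ zl S P) (h1 : ∀ i, M.e v i 1 = 0) : vec M (fun i => M.e v i 0) = v := by
  refine e_inj M (vec_mem M _) hv (funext fun i => ?_)
  rw [e_vec]
  apply NatPair.ext2
  · rfl
  · exact (h1 i).symm

end vec

namespace FrA

variable {M : NatK F (S : Subgroup G) P (zl (S : Subgroup G) P) ⊥ k} (h : FrA S P H M)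
include h

variable [CharP F 2]

theorem vec_single (i : Fin k) (c : F) : vec M (Pi.single i c) ∈ zl (S : Subgroup G) H := by
  refine h.line_le i (vec_mem M _) (c := c) (funext fun j => ?_)
  rw [e_vec]
  by_cases hj : j = i
  · rw [hj, Pi.single_eq_same, Pi.single_eq_same]
  · rw [Pi.single_eq_of_ne hj, Pi.single_eq_of_ne hj]
    apply NatPair.ext2 <;> simp

theorem vec_mem_U (x : Fin k → F) : vec M x ∈ zl (S : Subgroup G) H := by
  have key : ∀ s : Finset (Fin k), vec M (∑ i ∈ s, Pi.single i (x i)) ∈ zl (S : Subgroup G) H := by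
    intro s
    induction s using Finset.induction_on with
    | empty =>
      rw [Finset.sum_empty]
      have h1 : vec M 0 = 1 := by
        rw [← e_eq_zero M (vec_mem M _)]
        funext i
        rw [e_vec]
        apply NatPair.ext2 <;> simp
      rw [h1]
      exact one_mem _
    | insert a s ha ih =>
      rw [Finset.sum_insert ha, vec_add]
      exact mul_mem (h.vec_single a _) ih
  have h1 := key Finset.univ
  rwa [Finset.univ_sum_single] at h1

/-- `|U : C_U(N_i)| ≤ q` -/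
theorem idx [Finite F] (i : Fin k) : Nat.card (zl (S : Subgroup G) H) ≤
    Nat.card F * Nat.card (zl (S : Subgroup G) H ⊓ centralizer (fac M i : Set G) : Subgroup G) := by
  set U := zl (S : Subgroup G) H with hU
  set K := U ⊓ centralizer (fac M i : Set G) with hK
  have hKU : K ≤ U := inf_le_left
  choose! b hb using fun (u : G) (hu : u ∈ U) => h.exists_b hu
  let f : (U ⧸ K.subgroupOf U) → F := fun q => b (q.out : U) i
  have hinj : Function.Injective f := by
    intro q q' hqq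
    have hq := hb _ q.out.2
    have hq' := hb _ q'.out.2
    have h1 : b (q.out : U) i = b (q'.out : U) i := hqq
    have h2 : ((q.out : U) : G)⁻¹ * (q'.out : U) ∈ K := by
      refine ⟨U.mul_mem (U.inv_mem q.out.2) q'.out.2, ?_⟩
      have h3 := ATwo.Up.mul (h.UP q'.out.2) (ATwo.Up.inv (h.UP q.out.2) hq) hq'
      refine (b_eq_zero_iff (M := M) (mul_mem (inv_mem (h.UP q.out.2)) (h.UP q'.out.2)) h3 i).1 ?_
      rw [Pi.add_apply, Pi.neg_apply, h1, neg_add_cancel]
    have h3 : (QuotientGroup.mk (q.out : U) : U ⧸ K.subgroupOf U) = QuotientGroup.mk (q'.out : U) := by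
      rw [QuotientGroup.eq, mem_subgroupOf]
      exact h2
    rwa [QuotientGroup.out_eq', QuotientGroup.out_eq'] at h3
  have h1 := Nat.card_le_card_of_injective f hinj
  have hcg : Nat.card (K.subgroupOf U) = Nat.card K := Nat.card_congr (subgroupOfEquivOfLe hKU).toEquiv
  rw [card_eq_card_quotient_mul_card_subgroup (K.subgroupOf U), hcg]
  exact Nat.mul_le_mul_right _ h1

/-- **The family.** -/
theorem ax [Finite F] : Ax H (zl (S : Subgroup G) H) (zc (S : Subgroup G))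
    (fun i => zl (S : Subgroup G) H ⊓ centralizer (fac M i : Set G)) (fun i => line M i) (fun i => fac M i)
    (vec M) where
  MU := h.nrm
  ab := h.ab
  sq := h.sq
  KU := fun i => inf_le_left
  add := vec_add M
  inj := vec_inj M
  LK := fun x i => ⟨h.vec_mem_U x, mem_centralizer_iff.2 fun v hv => IId.comm M hv.1 (vec_mem M x)⟩
  memR := mem_line_iff M
  NM := fun i v hv => h.VH hv.1
  cent := fun i a ha t ht => (mem_centralizer_iff.1 ha.2 t ht).symm
  comm := by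
    intro i u hu t ht
    obtain ⟨b, hb⟩ := h.exists_b hu
    have h1 := e_cm (h.UP hu) ht.1 hb
    rw [mem_line]
    refine ⟨⟨mul_mem (cj_mem (h.UP hu) ht.1) (inv_mem ht.1), fun j hj => ?_⟩, ?_⟩
    · rw [h1 j, ht.2 j hj]
      apply NatPair.ext2 <;> simp
    · rw [h1 i]; rfl
  full := by
    intro i u hu huK y hy
    obtain ⟨b, hb⟩ := h.exists_b hu
    have hbi : b i ≠ 0 := fun h0 => huK ⟨hu, (b_eq_zero_iff (M := M) (h.UP hu) hb i).1 h0⟩
    rw [mem_line] at hy
    obtain ⟨t, ht, hte⟩ := exists_fac M i ![0, M.e y i 0 / b i]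
    refine ⟨t, ht, ?_⟩
    refine e_inj M (mul_mem (cj_mem (h.UP hu) ht.1) (inv_mem ht.1)) hy.1.1 (funext fun j => ?_)
    rw [e_cm (h.UP hu) ht.1 hb j]
    by_cases hj : j = i
    · subst hj
      rw [hte]
      apply NatPair.ext2
      · change b j * (M.e y j 0 / b j) = _
        field_simp
      · exact hy.2.symm
    · rw [ht.2 j hj, hy.1.2 j hj]
      apply NatPair.ext2 <;> simp
  idx := h.idx
  trans := by
    intro i j
    obtain ⟨t, ht, htf⟩ := exists_trans M h.SP i j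
    refine ⟨t, h.SH ht, ?_, fun z hz => (mem_zc.1 hz).2.1 t ht, ?_⟩
    · rw [cj_inf, cj_centralizer, htf, cj_eq_of_mem_normalizer (le_normalizer_zl _ _ (h.SH ht))]
    · have h1 : t * vec M (Pi.single i 1) * t⁻¹ ∈ line M j := by
        have h2 := conj_line M h.SP ht i
        have h3 : sg M (h.SP ht) i = j := (IId.sg_eq_iff M (h.SP ht)).2 htf
        rw [h3] at h2
        rw [← h2, mem_cj]
        have e : t⁻¹ * (t * vec M (Pi.single i 1) * t⁻¹) * t = vec M (Pi.single i 1) := by group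
        rw [e]
        exact vec_single_mem M i 1
      obtain ⟨d, hd⟩ := (mem_line_iff M j _).1 h1
      exact ⟨d, hd.symm⟩
  ZL := fun z hz => ⟨_, eq_vec M (zc_le_zl _ _ hz) (h.ez hz)⟩
  gen := by
    intro A hA
    refine iSup_le fun g => ?_
    intro w hw
    refine hA g g.2 ?_
    rw [mem_cj]
    exact mem_conj.1 hw
  ne := by
    intro i hle
    exact h.not_cent i (hle.trans inf_le_right)
  o2 := by
    intro i j a ha x hx b hb z hz hz1 hbz
    refine h.two_elt ha.1 hz hz1 hbz ?_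
    rw [mem_cj] at hb
    have h1 := IId.sq M hb.1
    calc b * b = x * ((x⁻¹ * b * x) * (x⁻¹ * b * x)) * x⁻¹ := by group
      _ = 1 := by rw [h1]; group
  fix := by
    intro x hx t ht htx z hz j
    refine ⟨h.nrm t ht z (zc_le_zl _ _ hz), mem_centralizer_iff.2 fun v hv => ?_⟩
    have hf : ∀ i, M.e (vec M x) i ≠ 0 := by
      intro i h0
      rw [e_vec] at h0
      exact hx i (congrFun h0 0)
    exact (h.fix (vec_mem M x) hf htx z (zc_le_zl _ _ hz) v hv.1).symm

/-- **THEOREM EXACT**: `U_H` induces all upper unitriangular elements of `SL₂(F)^k`. -/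
theorem ind [Finite F] (hF : 2 < Nat.card F) : Ind M (zl (S : Subgroup G) H) Set.univ := by
  set U := zl (S : Subgroup G) H with hU
  have hax := h.ax
  -- an element moving only the factor `i`
  have key : ∀ (i : Fin k) (c : F), ∃ u ∈ U, Up M u (Pi.single i c) := by
    intro i c
    obtain ⟨hex, hcard⟩ := hax.exact hF i
    choose! b hb using fun (u : G) (hu : u ∈ U) => h.exists_b hu
    set K := U ⊓ centralizer (fac M i : Set G) with hK
    have hKU : K ≤ U := inf_le_left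
    -- `b i` is onto
    let f : (U ⧸ K.subgroupOf U) → F := fun q => b (q.out : U) i
    have hinj : Function.Injective f := by
      intro q q' hqq
      have hq := hb _ q.out.2
      have hq' := hb _ q'.out.2
      have h1 : b (q.out : U) i = b (q'.out : U) i := hqq
      have h2 : ((q.out : U) : G)⁻¹ * (q'.out : U) ∈ K := by
        refine ⟨U.mul_mem (U.inv_mem q.out.2) q'.out.2, ?_⟩
        have h3 := ATwo.Up.mul (h.UP q'.out.2) (ATwo.Up.inv (h.UP q.out.2) hq) hq'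
        refine (b_eq_zero_iff (M := M) (mul_mem (inv_mem (h.UP q.out.2)) (h.UP q'.out.2)) h3 i).1 ?_
        rw [Pi.add_apply, Pi.neg_apply, h1, neg_add_cancel]
      have h3 : (QuotientGroup.mk (q.out : U) : U ⧸ K.subgroupOf U) = QuotientGroup.mk (q'.out : U) := by
        rw [QuotientGroup.eq, mem_subgroupOf]
        exact h2
      rwa [QuotientGroup.out_eq', QuotientGroup.out_eq'] at h3
    have hcg : Nat.card (K.subgroupOf U) = Nat.card K := Nat.card_congr (subgroupOfEquivOfLe hKU).toEquiv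
    have hq : Nat.card F ≤ Nat.card (U ⧸ K.subgroupOf U) := by
      rw [card_eq_card_quotient_mul_card_subgroup (K.subgroupOf U), hcg] at hcard
      exact (Nat.eq_of_mul_eq_mul_right Nat.card_pos hcard).ge
    have hbij := hinj.bijective_of_nat_card_le hq
    obtain ⟨q, hq⟩ := hbij.2 c
    obtain ⟨y, hy, hyl, hyi⟩ := hex _ q.out.2
    refine ⟨y, hy, ?_⟩
    have h1 : b y = Pi.single i c := by
      funext l
      by_cases hl : l = i
      · subst hl
        rw [Pi.single_eq_same]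
        have h3 := ATwo.Up.mul (h.UP q.out.2) (ATwo.Up.inv (h.UP hy) (hb y hy)) (hb _ q.out.2)
        have h4 := (b_eq_zero_iff (M := M) (mul_mem (inv_mem (h.UP hy)) (h.UP q.out.2)) h3 l).2 hyi.2
        rw [Pi.add_apply, Pi.neg_apply, neg_add_eq_zero] at h4
        rw [h4]
        exact hq
      · rw [Pi.single_eq_of_ne hl]
        exact (b_eq_zero_iff (M := M) (h.UP hy) (hb y hy) l).2 (hyl l hl).2
    rw [← h1]
    exact hb y hy
  refine ⟨fun a ha => ?_, fun b _ => ?_⟩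
  · obtain ⟨b, hb⟩ := h.exists_b ha
    exact ⟨b, fun i hi => (hi (Set.mem_univ i)).elim, hb⟩
  · have key2 : ∀ s : Finset (Fin k), ∃ u ∈ U, Up M u (∑ i ∈ s, Pi.single i (b i)) := by
      intro s
      induction s using Finset.induction_on with
      | empty =>
        refine ⟨1, one_mem _, ?_⟩
        rw [Finset.sum_empty]
        exact ATwo.up_of_cent (M := M) (one_mem _)
      | insert a s ha ih =>
        obtain ⟨u, hu, hub⟩ := ih
        obtain ⟨v, hv, hvb⟩ := key a (b a)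
        refine ⟨v * u, mul_mem hv hu, ?_⟩
        rw [Finset.sum_insert ha]
        exact ATwo.Up.mul (h.UP hu) hvb hub
    obtain ⟨u, hu, hub⟩ := key2 Finset.univ
    rw [Finset.univ_sum_single] at hub
    exact ⟨u, hu, hub⟩

end FrA

end Cfsg.Agent.Omega.NOThreeL.AFour

end
end

-- part: Mrg/Omega/NOThreeL/ATwo/MainQ
section
prune_inst 0xd0100700552200000018050020001c429200010000680000c040000004c88d0020410121b020110210002e4420340068129800004028000000000000011d0481002010009008a000220000000000000000000000000000000000000000000000000000000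
set_option linter.all false
open scoped Cfsg.Agent.FastGrp

-- merged: Cfsg.Agent.Omega.NOThreeL.ATwo.Core2
section

/-!
# NO-3L A2 (text #16411 (2)): commutation of `pi u` and `pi v`

* `Co.pi_comm` : `pi u (pi v y) = pi v (pi u y)` if `[u, v^ρ] ∈ D` and `[v, u^ρ] ∈ D`;
* `Co.orth'` : `pi u (pi v y) = 1` if moreover `pi v` is idempotent.
-/

set_option autoImplicit false
set_option Elab.async false

namespace Cfsg.Agent.Omega.NOThreeL.ATwo

open Subgroup

universe u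

variable {G : Type u} [Group G]

namespace Co

variable {U U' D : Subgroup G} {a b : G} (h : Co U U' D a b)
include h

/-- conjugate of `y^ρ` by `[u, v^ρ]` -/
theorem conj_rho {u v y : G} (hu : u ∈ U) (hv : v ∈ U)
    (hd : u * (a * b * v * (a * b)⁻¹) * u⁻¹ * (a * b * v * (a * b)⁻¹)⁻¹ ∈ D)
    (hy : y ∈ U) (hyD : y ∈ D) :
    u * (a * b * v * (a * b)⁻¹) * u⁻¹ * (a * b * v * (a * b)⁻¹)⁻¹ * (a * b * y * (a * b)⁻¹) *
      (u * (a * b * v * (a * b)⁻¹) * u⁻¹ * (a * b * v * (a * b)⁻¹)⁻¹)⁻¹ =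
      a * b * (pi a b v (pi a b u y) * y) * (a * b)⁻¹ := by
  have hkey := h.key hu hv hd hy hyD
  obtain ⟨h1, h2⟩ := h.rho_Y hy hyD
  obtain ⟨hx, hxD⟩ := h.pi_mem (u := u) hu hyD
  obtain ⟨hw, hwD⟩ := h.pi_mem (u := v) hv hxD
  have h4 := h.rho v hv
  have h5 := h.ab' _ h4 _ h1
  have h6 := h.rho_conj hv hx hxD
  obtain ⟨h7, h8⟩ := h.rho_Y hw hwD
  set Z := a * b * y * (a * b)⁻¹ with hZ
  set v' := a * b * v * (a * b)⁻¹ with hv'
  set x := pi a b u y with hxe
  set w := pi a b v x with hwe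
  set W := a * b * w * (a * b)⁻¹ with hW
  have e1 : u * Z * u⁻¹ = x * Z := by
    rw [hxe]
    unfold pi
    rw [← hZ]
    group
  have e2 : u * W * u⁻¹ = pi a b u w * W := by
    unfold pi
    rw [← hW]
    group
  have hui := h.sq' hu
  have e4 : v'⁻¹ * Z * v' = Z := by
    rw [mul_assoc, ← h5]; group
  have e5 : u⁻¹ * Z * u = x * Z := by rw [← e1, hui]
  have e6 : v' * Z * v'⁻¹ = Z := by rw [h5]; group
  calc u * v' * u⁻¹ * v'⁻¹ * Z * (u * v' * u⁻¹ * v'⁻¹)⁻¹
      = u * (v' * (u⁻¹ * (v'⁻¹ * Z * v') * u) * v'⁻¹) * u⁻¹ := by group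
    _ = u * (v' * (x * Z) * v'⁻¹) * u⁻¹ := by rw [e4, e5]
    _ = u * ((v' * x * v'⁻¹) * (v' * Z * v'⁻¹)) * u⁻¹ := by group
    _ = u * (W * x * Z) * u⁻¹ := by rw [h6, e6]
    _ = (u * W * u⁻¹) * (u * x * u⁻¹) * (u * Z * u⁻¹) := by group
    _ = pi a b u w * W * x * (x * Z) := by
        have e7 : u * x * u⁻¹ = x := by rw [h.ab u hu x hx]; group
        rw [e1, e2, e7]
    _ = pi a b u w * (W * (x * x) * Z) := by group
    _ = W * Z := by rw [h.sq x hx, mul_one, hkey, one_mul]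
    _ = a * b * (w * y) * (a * b)⁻¹ := by rw [hW, hZ]; group

/-- conjugate of `y` by `[u, v^ρ]` -/
theorem conj_Y {u v y : G} (hu : u ∈ U) (hv : v ∈ U)
    (hd' : v * (a * b * u * (a * b)⁻¹) * v⁻¹ * (a * b * u * (a * b)⁻¹)⁻¹ ∈ D)
    (hy : y ∈ U) (hyD : y ∈ D) :
    u * (a * b * v * (a * b)⁻¹) * u⁻¹ * (a * b * v * (a * b)⁻¹)⁻¹ * y *
      (u * (a * b * v * (a * b)⁻¹) * u⁻¹ * (a * b * v * (a * b)⁻¹)⁻¹)⁻¹ =
      pi a b u (pi a b v y) * y := by
  have hkey := h.key hv hu hd' hy hyD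
  obtain ⟨hw, hwD⟩ := h.pi_mem (u := v) hv hyD
  obtain ⟨hp, hpD⟩ := h.pi_mem (u := u) hu hwD
  obtain ⟨hW, hWD⟩ := h.rho_Y hw hwD
  have h4 := h.rho v hv
  have h6 := h.rho_conj hv hy hyD
  have h7 := h.rho_conj hv hp hpD
  rw [hkey] at h7
  have h9 := h.ab' _ h4 _ hW
  set v' := a * b * v * (a * b)⁻¹ with hv'
  set w := pi a b v y with hwe
  set W := a * b * w * (a * b)⁻¹ with hWe
  set p := pi a b u w with hpe
  have hWW : W * W = 1 := by
    have e : W * W = a * b * (w * w) * (a * b)⁻¹ := by rw [hWe]; group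
    rw [e, h.sq w hw]; group
  have hvv : v'⁻¹ = v' := by
    have e : v'⁻¹ = a * b * v⁻¹ * (a * b)⁻¹ := by rw [hv']; group
    rw [e, h.sq' hv]
  have e1 : u * W * u⁻¹ = p * W := by
    rw [hpe]
    unfold pi
    rw [← hWe]
    group
  have e2 : v'⁻¹ * y * v' = W * y := by
    have e : v'⁻¹ * y * v' = v' * y * v'⁻¹ := by rw [hvv]
    rw [e, h6]
  have e3 : u⁻¹ * (W * y) * u = p * W * y := by
    have e : u⁻¹ * (W * y) * u = u * (W * y) * u⁻¹ := by rw [h.sq' hu]
    have e' : u * y * u⁻¹ = y := by rw [h.ab u hu y hy]; group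
    calc u⁻¹ * (W * y) * u = u * (W * y) * u⁻¹ := e
      _ = (u * W * u⁻¹) * (u * y * u⁻¹) := by group
      _ = p * W * y := by rw [e1, e']
  have e4 : v' * W * v'⁻¹ = W := by rw [h9]; group
  have e5 : v' * p * v'⁻¹ = p := by rw [h7]; group
  have e6 : v' * (p * W * y) * v'⁻¹ = p * y := by
    calc v' * (p * W * y) * v'⁻¹ = (v' * p * v'⁻¹) * (v' * W * v'⁻¹) * (v' * y * v'⁻¹) := by group
      _ = p * W * (W * y) := by rw [e4, e5, h6]
      _ = p * (W * W) * y := by group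
      _ = p * y := by rw [hWW, mul_one]
  have e7 : u * (p * y) * u⁻¹ = p * y := by
    rw [h.ab u hu _ (mul_mem hp hy)]; group
  calc u * v' * u⁻¹ * v'⁻¹ * y * (u * v' * u⁻¹ * v'⁻¹)⁻¹
      = u * (v' * (u⁻¹ * (v'⁻¹ * y * v') * u) * v'⁻¹) * u⁻¹ := by group
    _ = p * y := by rw [e2, e3, e6, e7]

/-- **Commutation.** -/
theorem pi_comm {u v y : G} (hu : u ∈ U) (hv : v ∈ U)
    (hd : u * (a * b * v * (a * b)⁻¹) * u⁻¹ * (a * b * v * (a * b)⁻¹)⁻¹ ∈ D)
    (hd' : v * (a * b * u * (a * b)⁻¹) * v⁻¹ * (a * b * u * (a * b)⁻¹)⁻¹ ∈ D)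
    (hy : y ∈ U) (hyD : y ∈ D) : pi a b u (pi a b v y) = pi a b v (pi a b u y) := by
  have h1 := h.conj_rho hu hv hd hy hyD
  have h2 := h.conj_Y hu hv hd' hy hyD
  set δ := u * (a * b * v * (a * b)⁻¹) * u⁻¹ * (a * b * v * (a * b)⁻¹)⁻¹ with hδ
  -- `κ₁ = [a, δ] ∈ Y`, `κ₂ = [b, δ] ∈ Y'`
  have k1 : a⁻¹ * δ * a * δ⁻¹ ∈ U ∧ a⁻¹ * δ * a * δ⁻¹ ∈ D := by
    constructor
    · have e : a⁻¹ * δ * a * δ⁻¹ = a⁻¹ * (δ * a * δ⁻¹) := by group
      rw [e]
      exact mul_mem (inv_mem h.aU) (h.DU δ hd a h.aU)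
    · have := h.UD a⁻¹ (inv_mem h.aU) δ hd
      rw [inv_inv] at this
      exact mul_mem this (inv_mem hd)
  have k2 : b⁻¹ * δ * b * δ⁻¹ ∈ U' ∧ b⁻¹ * δ * b * δ⁻¹ ∈ D := by
    constructor
    · have e : b⁻¹ * δ * b * δ⁻¹ = b⁻¹ * (δ * b * δ⁻¹) := by group
      rw [e]
      exact mul_mem (inv_mem h.bU) (h.DU' δ hd b h.bU)
    · have := h.UD' b⁻¹ (inv_mem h.bU) δ hd
      rw [inv_inv] at this
      exact mul_mem this (inv_mem hd)
  set κ₁ := a⁻¹ * δ * a * δ⁻¹ with hκ₁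
  set κ₂ := b⁻¹ * δ * b * δ⁻¹ with hκ₂
  -- `c = κ₁ [κ₁, b] κ₂`
  have k3 : κ₁⁻¹ * b⁻¹ * κ₁ * b ∈ U' ∧ κ₁⁻¹ * b⁻¹ * κ₁ * b ∈ D := by
    constructor
    · have := h.DU' κ₁⁻¹ (inv_mem k1.2) b⁻¹ (inv_mem h.bU)
      rw [inv_inv] at this
      exact mul_mem this h.bU
    · have e : κ₁⁻¹ * b⁻¹ * κ₁ * b = κ₁⁻¹ * (b⁻¹ * κ₁ * b) := by group
      rw [e]
      have := h.UD' b⁻¹ (inv_mem h.bU) κ₁ k1.2
      rw [inv_inv] at this
      exact mul_mem (inv_mem k1.2) this
  have hyy : δ * y * δ⁻¹ ∈ U ∧ δ * y * δ⁻¹ ∈ D :=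
    ⟨h.DU δ hd y hy, mul_mem (mul_mem hd hyD) (inv_mem hd)⟩
  have c1 := h.ab κ₁ k1.1 _ hyy.1
  have c2 := h.comm hyy.1 hyy.2 k2.1 k2.2
  have c3 := h.comm hyy.1 hyy.2 k3.1 k3.2
  set X := δ * y * δ⁻¹ with hX
  have e1 : δ * (a * b * y * (a * b)⁻¹) * δ⁻¹ = a * b * X * (a * b)⁻¹ := by
    have e2 : (a * b)⁻¹ * δ * (a * b) = κ₁ * (κ₁⁻¹ * b⁻¹ * κ₁ * b) * κ₂ * δ := by
      rw [hκ₁, hκ₂]; group
    have e3 : (κ₁ * (κ₁⁻¹ * b⁻¹ * κ₁ * b) * κ₂) * X = X * (κ₁ * (κ₁⁻¹ * b⁻¹ * κ₁ * b) * κ₂) := by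
      calc (κ₁ * (κ₁⁻¹ * b⁻¹ * κ₁ * b) * κ₂) * X = κ₁ * (κ₁⁻¹ * b⁻¹ * κ₁ * b) * (κ₂ * X) := by group
        _ = κ₁ * ((κ₁⁻¹ * b⁻¹ * κ₁ * b) * X) * κ₂ := by rw [← c2]; group
        _ = (κ₁ * X) * (κ₁⁻¹ * b⁻¹ * κ₁ * b) * κ₂ := by rw [← c3]; group
        _ = X * (κ₁ * (κ₁⁻¹ * b⁻¹ * κ₁ * b) * κ₂) := by rw [c1]; group
    calc δ * (a * b * y * (a * b)⁻¹) * δ⁻¹
        = a * b * (((a * b)⁻¹ * δ * (a * b)) * y * ((a * b)⁻¹ * δ * (a * b))⁻¹) * (a * b)⁻¹ := by group
      _ = a * b * ((κ₁ * (κ₁⁻¹ * b⁻¹ * κ₁ * b) * κ₂) * X *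
          (κ₁ * (κ₁⁻¹ * b⁻¹ * κ₁ * b) * κ₂)⁻¹) * (a * b)⁻¹ := by rw [e2, hX]; group
      _ = a * b * X * (a * b)⁻¹ := by rw [e3]; group
  rw [h1, h2] at e1
  have e4 : pi a b v (pi a b u y) * y = pi a b u (pi a b v y) * y := by
    have := congrArg (fun t => (a * b)⁻¹ * t * (a * b)) e1
    simpa [mul_assoc] using this
  exact (mul_right_cancel e4).symm

/-- Orthogonality. -/
theorem orth' {u v : G} (hu : u ∈ U) (hv : v ∈ U)
    (hd : u * (a * b * v * (a * b)⁻¹) * u⁻¹ * (a * b * v * (a * b)⁻¹)⁻¹ ∈ D)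
    (hd' : v * (a * b * u * (a * b)⁻¹) * v⁻¹ * (a * b * u * (a * b)⁻¹)⁻¹ ∈ D)
    (iv : ∀ y, y ∈ U → y ∈ D → pi a b v (pi a b v y) = pi a b v y)
    {y : G} (hy : y ∈ U) (hyD : y ∈ D) : pi a b u (pi a b v y) = 1 := by
  obtain ⟨m, d⟩ := h.pi_mem (u := v) hv hyD
  have h1 := h.key hv hu hd' hy hyD
  rw [← h.pi_comm hu hv hd hd' m d, iv y hy hyD] at h1
  exact h1

end Co

end Cfsg.Agent.Omega.NOThreeL.ATwo

end

-- merged: Cfsg.Agent.Mrg.Omega.NOThreeL.ATwo.ExactQ
section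

/-!
# NO-3L A2, all `q` (text #16411 (1), (2), helper69)

`M : NatK F S P (zl S P) ⊥ k`, `V = zl S P`; `U` elementary abelian, normalised by `S` and `C_G(V)`, induces all upper
unitriangular elements of `SL₂(F)^k` on `V`; every nontrivial `S`-invariant subgroup of `U` contains a nontrivial
element of `V`.

* `CfgQ.inf_eq` : `U ∩ U^w = 1` for `w ∈ P` acting as antidiagonal matrices;
* `CfgQ.exists_comps` : the pair `U`, `U^w` over `C_G(V)` (`CompsQ`);
* `CompsQ.idem`, `CompsQ.orth`, `CompsQ.inj` : `pi u` is idempotent for 0/1-vectors, `pi u (pi v y) = 1` for disjoint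
  supports (`v` a 0/1-vector), `pi u` is injective for full support.
-/

set_option autoImplicit false
set_option Elab.async false

namespace Cfsg.Agent.Omega.NOThreeL.ATwo

open Subgroup Cfsg Cfsg.Agent.ZN Cfsg.Agent.ZN.ChoiceBase
open Cfsg.Agent.Omega.MinPar Cfsg.Agent.Omega.FFThm
open Cfsg.Agent.MinSimple.VModule (le_normalizer_zl)
open Cfsg.Agent.Lib.SL2Mat
open Cfsg.Agent.Omega.NatPair (ap ap_mul ap_one ap_inv_ap ap_ap_inv exists_ap ap_add)
open Cfsg.Agent.Omega.IId (Ind cj_mem cj_mem' e_inj acts_mul acts_inv acts_one sg sg_spec e_one e_inv)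

universe u

variable {G : Type u} [Group G] {F : Type} [Field F] {S P : Subgroup G} {k : ℕ}

section mat

variable [CharP F 2]

theorem wm_up_c (c : F) (hc : c ≠ 0) (b : F) : wm c hc * up b * (wm c hc)⁻¹ = lo (-(c⁻¹ * c⁻¹ * b)) := by
  rw [ent_inv]
  refine ext_ent ?_ ?_ ?_ ?_ <;> simp only [ent_mul, wm_00, wm_01, wm_10, wm_11, up_00, up_01, up_10, up_11,
    lo_00, lo_01, lo_10, lo_11, mk_00, mk_01, mk_10, mk_11] <;> field_simp <;> ring

theorem wm_inv_up (b : F) : (wm (1 : F) one_ne_zero)⁻¹ * up b * wm (1 : F) one_ne_zero = lo b := by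
  have h2 : (2 : F) = 0 := CharTwo.two_eq_zero
  rw [ent_inv]
  refine ext_ent ?_ ?_ ?_ ?_ <;> simp only [ent_mul, wm_00, wm_01, wm_10, wm_11, up_00, up_01, up_10, up_11,
    lo_00, lo_01, lo_10, lo_11, mk_00, mk_01, mk_10, mk_11, inv_one]
  · ring
  · ring
  · linear_combination (-b) * h2
  · ring

/-- `lo β = up β⁻¹ (antidiagonal) up β⁻¹` -/
theorem up_lo_up (β : F) (hβ : β ≠ 0) :
    (up β⁻¹)⁻¹ * lo β * (up β⁻¹)⁻¹ = wm (-β⁻¹) (neg_ne_zero.2 (inv_ne_zero hβ)) := by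
  rw [up_inv]
  refine ext_ent ?_ ?_ ?_ ?_ <;> simp only [ent_mul, wm_00, wm_01, wm_10, wm_11, up_00, up_01, up_10, up_11,
    lo_00, lo_01, lo_10, lo_11] <;> field_simp <;> ring

theorem wm_rho : (wm (1 : F) one_ne_zero)⁻¹ * (up (1 : F) * lo (1 : F)) = up 1 := by
  have h2 : (2 : F) = 0 := CharTwo.two_eq_zero
  rw [ent_inv]
  refine ext_ent ?_ ?_ ?_ ?_ <;> simp only [ent_mul, wm_00, wm_01, wm_10, wm_11, up_00, up_01, up_10, up_11,
    lo_00, lo_01, lo_10, lo_11, mk_00, mk_01, mk_10, mk_11, inv_one]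
  · linear_combination (-1 : F) * h2
  · linear_combination (-1 : F) * h2
  · linear_combination (1 : F) * h2
  · ring

end mat

structure CfgQ (M : NatK F S P (zl S P) ⊥ k) (U : Subgroup G) : Prop where
  pos : 0 < k
  SP : S ≤ P
  ind : Ind M U Set.univ
  UP : U ≤ P
  SU : S ≤ normalizer (U : Set G)
  cent : centralizer (zl S P : Set G) ≤ normalizer (U : Set G)
  ab : ∀ u ∈ U, ∀ v ∈ U, u * v = v * u
  sq : ∀ u ∈ U, u * u = 1
  core : ∀ T : Subgroup G, T ≤ U → S ≤ normalizer (T : Set G) → T ≠ ⊥ → ∃ x ∈ T, x ≠ 1 ∧ x ∈ zl S P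

variable {M : NatK F S P (zl S P) ⊥ k}

namespace CfgQ

variable {U : Subgroup G} (h : CfgQ M U)
include h

theorem cent_conj {g d x : G} (hg : g ∈ P) (hd : d ∈ centralizer (zl S P : Set G)) (hx : x ∈ cj g U) :
    d * x * d⁻¹ ∈ cj g U := by
  rw [mem_cj] at hx ⊢
  have h1 : g⁻¹ * d * g ∈ centralizer (zl S P : Set G) := by
    have := Cfg.cent_norm (inv_mem hg) hd
    rwa [inv_inv] at this
  have h3 := (mem_normalizer_iff.1 (h.cent h1) _).1 hx
  have e : g⁻¹ * (d * x * d⁻¹) * g = g⁻¹ * d * g * (g⁻¹ * x * g) * (g⁻¹ * d * g)⁻¹ := by group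
  rwa [e]

/-- Elements of `P` acting in the same way conjugate `U` to the same group. -/
theorem cj_congr {g x : G} (hx : x ∈ P) {A : Fin k → Matrix.SpecialLinearGroup (Fin 2) F} (hg : g ∈ P)
    (h1 : ActsSL M.e (zl S P) ⊥ g A) (h2 : ActsSL M.e (zl S P) ⊥ x A) : cj g U = cj x U := by
  have h3 : x⁻¹ * g ∈ centralizer (zl S P : Set G) := by
    refine mem_cent_of_acts (M := M) (mul_mem (inv_mem hx) hg) ?_
    have h3 := acts_mul hg (acts_inv hx h2) h1
    rwa [inv_mul_cancel] at h3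
  have h4 := cj_eq_of_mem_normalizer (h.cent h3)
  rw [← cj_cj] at h4
  have h5 := congrArg (cj x) h4
  rwa [cj_cj_inv] at h5

variable [CharP F 2]

theorem exists_up (b : Fin k → F) : ∃ u ∈ U, Up M u b :=
  h.ind.ex b fun _ hi => (hi (Set.mem_univ _)).elim

theorem exists_b {u : G} (hu : u ∈ U) : ∃ b : Fin k → F, Up M u b := by
  obtain ⟨b, -, hb⟩ := h.ind.act u hu
  exact ⟨b, hb⟩

/-- `U^w` induces all lower unitriangular elements. -/
theorem exists_lo {w : G} (hw : w ∈ P) {c : Fin k → F} {hc : ∀ i, c i ≠ 0}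
    (hwA : ActsSL M.e (zl S P) ⊥ w fun i => wm (c i) (hc i)) (b : Fin k → F) :
    ∃ v ∈ cj w U, v ∈ P ∧ ActsSL M.e (zl S P) ⊥ v fun i => lo (b i) := by
  obtain ⟨u, hu, hub⟩ := h.exists_up fun i => -(c i * c i * b i)
  refine ⟨w * u * w⁻¹, ?_, mul_mem (mul_mem hw (h.UP hu)) (inv_mem hw), ?_⟩
  · rw [mem_cj]
    have e : w⁻¹ * (w * u * w⁻¹) * w = u := by group
    rwa [e]
  · have h1 := acts_conj hw (h.UP hu) hwA hub
    have e : ((fun i => wm (c i) (hc i)) * (fun i => up (-(c i * c i * b i))) * (fun i => wm (c i) (hc i))⁻¹ :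
        Fin k → Matrix.SpecialLinearGroup (Fin 2) F) = fun i => lo (b i) := by
      funext i
      rw [Pi.mul_apply, Pi.mul_apply, Pi.inv_apply, wm_up_c]
      congr 1
      have := hc i
      field_simp
    rwa [e] at h1

/-- **(1)** `U ∩ U^w = 1`. -/
theorem inf_eq {w : G} (hw : w ∈ P) {c : Fin k → F} {hc : ∀ i, c i ≠ 0}
    (hwA : ActsSL M.e (zl S P) ⊥ w fun i => wm (c i) (hc i)) : U ⊓ cj w U = ⊥ := by
  -- `U` and `U^w` centralise `T`
  have cU : ∀ u ∈ U, ∀ t ∈ U ⊓ cj w U, u * t = t * u := fun u hu t ht => h.ab u hu t (mem_inf.1 ht).1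
  have cU' : ∀ v ∈ cj w U, ∀ t ∈ U ⊓ cj w U, v * t = t * v := by
    intro v hv t ht
    have h1 := h.ab _ (mem_cj.1 hv) _ (mem_cj.1 (mem_inf.1 ht).2)
    calc v * t = w * ((w⁻¹ * v * w) * (w⁻¹ * t * w)) * w⁻¹ := by group
      _ = w * ((w⁻¹ * t * w) * (w⁻¹ * v * w)) * w⁻¹ := by rw [h1]
      _ = t * v := by group
  -- elements of `SL₂(F)^k`
  have hSL : ∀ g ∈ P, ∀ A, ActsSL M.e (zl S P) ⊥ g A → ∃ x ∈ P, (∀ t ∈ U ⊓ cj w U, x * t = t * x) ∧
      g * x⁻¹ ∈ centralizer (zl S P : Set G) := by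
    intro g hg A hA
    choose α β γ δ hABCD using fun i => exists_up_lo (A i)
    obtain ⟨u1, hu1, hu1A⟩ := h.exists_up α
    obtain ⟨v1, hv1, hv1P, hv1A⟩ := h.exists_lo hw hwA β
    obtain ⟨u2, hu2, hu2A⟩ := h.exists_up γ
    obtain ⟨v2, hv2, hv2P, hv2A⟩ := h.exists_lo hw hwA δ
    have hx := acts_mul hv2P (acts_mul (h.UP hu2) (acts_mul hv1P hu1A hv1A) hu2A) hv2A
    have hxP : u1 * v1 * u2 * v2 ∈ P := mul_mem (mul_mem (mul_mem (h.UP hu1) hv1P) (h.UP hu2)) hv2P
    refine ⟨u1 * v1 * u2 * v2, hxP, fun t ht => ?_, ?_⟩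
    · have a1 := cU u1 hu1 t ht
      have a2 := cU' v1 hv1 t ht
      have a3 := cU u2 hu2 t ht
      have a4 := cU' v2 hv2 t ht
      calc u1 * v1 * u2 * v2 * t = u1 * v1 * u2 * (v2 * t) := by group
        _ = u1 * v1 * (u2 * t) * v2 := by rw [a4]; group
        _ = u1 * (v1 * t) * u2 * v2 := by rw [a3]; group
        _ = (u1 * t) * v1 * u2 * v2 := by rw [a2]; group
        _ = t * (u1 * v1 * u2 * v2) := by rw [a1]; group
    · refine mem_cent_of_eq (M := M) hg hxP hA ?_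
      have e : ((fun i => up (α i)) * (fun i => lo (β i)) * (fun i => up (γ i)) * (fun i => lo (δ i)) :
          Fin k → Matrix.SpecialLinearGroup (Fin 2) F) = A := by
        funext i
        rw [hABCD i]
        rfl
      rw [← e]
      exact hx
  have hnorm : ∀ g ∈ P, ∀ A, ActsSL M.e (zl S P) ⊥ g A → ∀ t ∈ U ⊓ cj w U, g * t * g⁻¹ ∈ U ⊓ cj w U := by
    intro g hg A hA t ht
    obtain ⟨x, hx, hxc, hd⟩ := hSL g hg A hA
    have h1 := hxc t ht
    have e : g * t * g⁻¹ = (g * x⁻¹) * t * (g * x⁻¹)⁻¹ := by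
      calc g * t * g⁻¹ = (g * x⁻¹) * (x * t) * x⁻¹ * (g * x⁻¹)⁻¹ := by group
        _ = (g * x⁻¹) * (t * x) * x⁻¹ * (g * x⁻¹)⁻¹ := by rw [h1]
        _ = (g * x⁻¹) * t * (g * x⁻¹)⁻¹ := by group
    rw [e, mem_inf]
    refine ⟨(mem_normalizer_iff.1 (h.cent hd) t).1 (mem_inf.1 ht).1, h.cent_conj hw hd (mem_inf.1 ht).2⟩
  have hSn : ∀ s ∈ S, ∀ t ∈ U ⊓ cj w U, s * t * s⁻¹ ∈ U ⊓ cj w U := by
    intro s hs t ht
    rw [mem_inf]
    refine ⟨(mem_normalizer_iff.1 (h.SU hs) t).1 (mem_inf.1 ht).1, ?_⟩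
    rw [mem_cj]
    have hy : s⁻¹ * w⁻¹ * s ∈ P := mul_mem (mul_mem (inv_mem (h.SP hs)) (inv_mem hw)) (h.SP hs)
    obtain ⟨B, hB⟩ := M.norm s⁻¹ (inv_mem (h.SP hs)) w⁻¹ (inv_mem hw) _ (acts_inv hw hwA).1
    rw [inv_inv] at hB
    have h1 := hnorm _ hy B ⟨hB, fun d hd => by
      rw [mem_bot] at hd
      rw [hd]; group⟩ t ht
    have h2 := (mem_normalizer_iff.1 (h.SU hs) _).1 (mem_inf.1 h1).1
    have e : s * (s⁻¹ * w⁻¹ * s * t * (s⁻¹ * w⁻¹ * s)⁻¹) * s⁻¹ = w⁻¹ * (s * t * s⁻¹) * w := by group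
    rwa [e] at h2
  by_contra hne
  obtain ⟨x, hx, hx1, hxV⟩ := h.core _ inf_le_left (by
    intro s hs
    rw [mem_normalizer_iff]
    intro t
    refine ⟨hSn s hs t, fun ht => ?_⟩
    have h1 := hSn s⁻¹ (inv_mem hs) _ ht
    have e : s⁻¹ * (s * t * s⁻¹) * s⁻¹⁻¹ = t := by group
    rwa [e] at h1) hne
  apply hx1
  obtain ⟨u, hu, huA⟩ := h.exists_up fun _ => 1
  obtain ⟨v, hv, hvP, hvA⟩ := h.exists_lo hw hwA fun _ => 1
  have h1 : u * x * u⁻¹ = x := by rw [cU u hu x hx]; group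
  have h2 : v * x * v⁻¹ = x := by rw [cU' v hv x hx]; group
  refine e_inj M hxV (one_mem _) ?_
  rw [e_one]
  funext i
  have h3 := huA.1 x hxV i
  have h4 := hvA.1 x hxV i
  rw [h1] at h3
  rw [h2] at h4
  have h5 := congrFun h3 0
  have h6 := congrFun h4 1
  rw [NatPair.ap_zero'] at h5
  rw [NatPair.ap_one'] at h6
  simp only [up_00, up_01, lo_10, lo_11, one_mul] at h5 h6
  apply NatPair.ext2
  · exact right_eq_add.1 h6
  · exact left_eq_add.1 h5

end CfgQ

/-- The pair of `U` and its opposite. -/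
structure CompsQ (M : NatK F S P (zl S P) ⊥ k) (U U' : Subgroup G) (a b w : G) : Prop extends CfgQ M U where
  co : Co U U' (centralizer (zl S P : Set G)) a b
  aP : a ∈ P
  bP : b ∈ P
  UP' : U' ≤ P
  aA : Up M a fun _ => 1
  bA : ActsSL M.e (zl S P) ⊥ b fun _ => lo 1
  wP : w ∈ P
  wA : ActsSL M.e (zl S P) ⊥ w fun _ => wm (1 : F) one_ne_zero
  Uw : U' = cj w U

theorem CfgQ.exists_comps [CharP F 2] {U : Subgroup G} (h : CfgQ M U) :
    ∃ (a b w : G) (U' : Subgroup G), CompsQ M U U' a b w := by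
  obtain ⟨w, hw, hwA⟩ := M.lift fun _ => wm (1 : F) one_ne_zero
  obtain ⟨a, ha, haA⟩ := h.exists_up fun _ => 1
  have hb : w * a * w⁻¹ ∈ P := mul_mem (mul_mem hw (h.UP ha)) (inv_mem hw)
  have hbA : ActsSL M.e (zl S P) ⊥ (w * a * w⁻¹) fun _ => lo 1 := by
    have h1 := acts_conj hw (h.UP ha) hwA haA
    have h2 : ((fun _ => wm (1 : F) one_ne_zero) * (fun _ => up 1) * (fun _ => wm (1 : F) one_ne_zero)⁻¹ :
        Fin k → Matrix.SpecialLinearGroup (Fin 2) F) = fun _ => lo 1 := by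
      funext i
      rw [Pi.mul_apply, Pi.mul_apply, Pi.inv_apply, wm_up]
    rwa [h2] at h1
  have hU'P : cj w U ≤ P := by
    intro x hx
    rw [mem_cj] at hx
    have e : x = w * (w⁻¹ * x * w) * w⁻¹ := by group
    rw [e]
    exact mul_mem (mul_mem hw (h.UP hx)) (inv_mem hw)
  have hρ : cj (a * (w * a * w⁻¹)) U = cj w U := by
    -- `w⁻¹ ρ` acts as `up 1`
    have h1 := acts_mul (mul_mem (h.UP ha) hb) (acts_inv hw hwA) (acts_mul hb haA hbA)
    have e : ((fun _ => wm (1 : F) one_ne_zero)⁻¹ * ((fun _ => up 1) * fun _ => lo 1) :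
        Fin k → Matrix.SpecialLinearGroup (Fin 2) F) = fun _ => up 1 := by
      funext i
      rw [Pi.mul_apply, Pi.mul_apply, Pi.inv_apply, wm_rho]
    rw [e] at h1
    have h2 := h.cj_congr (h.UP ha) (mul_mem (inv_mem hw) (mul_mem (h.UP ha) hb)) h1 haA
    have h3 : cj a U = U := cj_eq_of_mem_normalizer (le_normalizer ha)
    rw [h3, ← cj_cj] at h2
    have h5 := congrArg (cj w) h2
    rwa [cj_cj_inv] at h5
  refine ⟨a, w * a * w⁻¹, w, cj w U, ⟨h, ?_, h.UP ha, hb, hU'P, haA, hbA, hw, hwA, rfl⟩⟩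
  exact
    { aU := ha
      bU := by
        rw [mem_cj]
        have e : w⁻¹ * (w * a * w⁻¹) * w = a := by group
        rwa [e]
      ab := h.ab
      ab' := by
        intro u hu v hv
        rw [mem_cj] at hu hv
        have h1 := h.ab _ hu _ hv
        calc u * v = w * ((w⁻¹ * u * w) * (w⁻¹ * v * w)) * w⁻¹ := by group
          _ = w * ((w⁻¹ * v * w) * (w⁻¹ * u * w)) * w⁻¹ := by rw [h1]
          _ = v * u := by group
      sq := h.sq
      inf := by
        intro x hx hx'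
        have h1 : x ∈ U ⊓ cj w U := ⟨hx, hx'⟩
        rwa [h.inf_eq hw hwA, mem_bot] at h1
      DU := by
        intro d hd u hu
        have h1 := h.cent_conj (one_mem P) hd (x := u) (by rwa [cj_one])
        rwa [cj_one] at h1
      DU' := fun d hd u hu => h.cent_conj hw hd hu
      UD := fun u hu d hd => Cfg.cent_norm (h.UP hu) hd
      UD' := fun u hu d hd => Cfg.cent_norm (hU'P hu) hd
      rho := by
        intro u hu
        rw [← hρ, mem_cj]
        have e : (a * (w * a * w⁻¹))⁻¹ * (a * (w * a * w⁻¹) * u * (a * (w * a * w⁻¹))⁻¹) *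
          (a * (w * a * w⁻¹)) = u := by group
        rwa [e] }

namespace CompsQ

variable [CharP F 2] {a b w : G} {U U' : Subgroup G} (h : CompsQ M U U' a b w)
include h

theorem rhoP : a * b ∈ P := mul_mem h.aP h.bP

theorem rho_acts : ActsSL M.e (zl S P) ⊥ (a * b) fun _ => up 1 * lo 1 := by
  have := acts_mul h.bP h.aA h.bA
  exact this

theorem rho_lo {v : G} {c : Fin k → F} (hv : v ∈ P) (hc : Up M v c) :
    ActsSL M.e (zl S P) ⊥ (a * b * v * (a * b)⁻¹) fun i => lo (c i) := by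
  have h1 := acts_conj h.rhoP hv h.rho_acts hc
  have e : ((fun _ => up 1 * lo 1) * (fun i => up (c i)) * (fun _ => up 1 * lo 1)⁻¹ :
      Fin k → Matrix.SpecialLinearGroup (Fin 2) F) = fun i => lo (c i) := by
    funext i
    rw [Pi.mul_apply, Pi.mul_apply, Pi.inv_apply, rho_up]
  rwa [e] at h1

/-- `[u, v^ρ] ∈ C_G(V)` for disjoint supports. -/
theorem disj {u v : G} {β γ : Fin k → F} (hu : u ∈ P) (hv : v ∈ P) (h1 : Up M u β) (h2 : Up M v γ)
    (hd : ∀ i, β i = 0 ∨ γ i = 0) :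
    u * (a * b * v * (a * b)⁻¹) * u⁻¹ * (a * b * v * (a * b)⁻¹)⁻¹ ∈ centralizer (zl S P : Set G) := by
  have h3 := h.rho_lo hv h2
  have hv' : a * b * v * (a * b)⁻¹ ∈ P := mul_mem (mul_mem h.rhoP hv) (inv_mem h.rhoP)
  refine mem_cent_of_acts (M := M) (mul_mem (mul_mem (mul_mem hu hv') (inv_mem hu)) (inv_mem hv')) ?_
  have h4 := acts_mul (inv_mem hv') (acts_mul (inv_mem hu) (acts_mul hv' h1 h3) (acts_inv hu h1))
    (acts_inv hv' h3)
  have e : ((fun i => up (β i)) * (fun i => lo (γ i)) * (fun i => up (β i))⁻¹ * (fun i => lo (γ i))⁻¹ :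
      Fin k → Matrix.SpecialLinearGroup (Fin 2) F) = 1 := by
    funext i
    rw [Pi.mul_apply, Pi.mul_apply, Pi.mul_apply, Pi.inv_apply, Pi.inv_apply, Pi.one_apply]
    rcases hd i with h0 | h0
    · rw [h0, up_zero]; group
    · rw [h0, lo_zero]; group
  rwa [e] at h4

/-- `pi v` is idempotent for a 0/1-vector. -/
theorem idem {u y : G} {β : Fin k → F} (hu : u ∈ U) (hβ : Up M u β) (h01 : ∀ i, β i = 0 ∨ β i = 1) (hy : y ∈ U)
    (hyD : y ∈ centralizer (zl S P : Set G)) : pi a b u (pi a b u y) = pi a b u y := by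
  obtain ⟨v, hv, hvA⟩ := h.exists_up (1 + β)
  have h2 : (1 : F) + 1 = 0 := CharTwo.add_self_eq_zero 1
  have hd : ∀ i, β i = 0 ∨ (1 + β) i = 0 := by
    intro i
    rcases h01 i with h0 | h0
    · exact Or.inl h0
    · right
      rw [Pi.add_apply, Pi.one_apply, h0, h2]
  have hd' : ∀ i, (1 + β) i = 0 ∨ β i = 0 := fun i => (hd i).symm
  refine h.co.idem hu hv (h.disj (h.UP hu) (h.UP hv) hβ hvA hd) (h.disj (h.UP hv) (h.UP hu) hvA hβ hd') ?_ hy hyD
  refine Up.congr (M := M) (b := β + (1 + β)) (mul_mem (h.UP hu) (h.UP hv)) h.aP (Up.mul (h.UP hv) hβ hvA) ?_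
  have e : β + (1 + β) = fun _ => 1 := by
    funext i
    rw [Pi.add_apply, Pi.add_apply, Pi.one_apply]
    linear_combination (β i) * h2
  rw [e]
  exact h.aA

theorem comm {u v y : G} {β γ : Fin k → F} (hu : u ∈ U) (hv : v ∈ U) (h1 : Up M u β) (h2 : Up M v γ)
    (hd : ∀ i, β i = 0 ∨ γ i = 0) (hy : y ∈ U) (hyD : y ∈ centralizer (zl S P : Set G)) :
    pi a b u (pi a b v y) = pi a b v (pi a b u y) :=
  h.co.pi_comm hu hv (h.disj (h.UP hu) (h.UP hv) h1 h2 hd)
    (h.disj (h.UP hv) (h.UP hu) h2 h1 fun i => (hd i).symm) hy hyD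

theorem orth {u v y : G} {β γ : Fin k → F} (hu : u ∈ U) (hv : v ∈ U) (h1 : Up M u β) (h2 : Up M v γ)
    (h01 : ∀ i, γ i = 0 ∨ γ i = 1) (hd : ∀ i, β i = 0 ∨ γ i = 0) (hy : y ∈ U)
    (hyD : y ∈ centralizer (zl S P : Set G)) : pi a b u (pi a b v y) = 1 :=
  h.co.orth' hu hv (h.disj (h.UP hu) (h.UP hv) h1 h2 hd)
    (h.disj (h.UP hv) (h.UP hu) h2 h1 fun i => (hd i).symm) (fun _ hx hxD => h.idem hv h2 h01 hx hxD) hy hyD

/-- `pi v` is injective for `v` of full support. -/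
theorem inj {v y : G} {β : Fin k → F} (hv : v ∈ U) (hβ : Up M v β) (hne : ∀ i, β i ≠ 0) (hy : y ∈ U)
    (hyD : y ∈ centralizer (zl S P : Set G)) (h0 : pi a b v y = 1) : y = 1 := by
  obtain ⟨hZ, -⟩ := h.co.rho_Y hy hyD
  set Z := a * b * y * (a * b)⁻¹ with hZe
  have hc : v * Z * v⁻¹ = Z := by
    have h1 : v * Z * v⁻¹ * Z⁻¹ = 1 := h0
    exact mul_inv_eq_one.1 h1
  have hwP := h.wP
  -- `m = w⁻¹ v w` acts as `lo β`
  have hmP : w⁻¹ * v * w ∈ P := mul_mem (mul_mem (inv_mem hwP) (h.UP hv)) hwP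
  have hmA : ActsSL M.e (zl S P) ⊥ (w⁻¹ * v * w) fun i => lo (β i) := by
    have h1 := acts_mul hwP (acts_mul (h.UP hv) (acts_inv hwP h.wA) hβ) h.wA
    have e : ((fun _ => wm (1 : F) one_ne_zero)⁻¹ * (fun i => up (β i)) * (fun _ => wm (1 : F) one_ne_zero) :
        Fin k → Matrix.SpecialLinearGroup (Fin 2) F) = fun i => lo (β i) := by
      funext i
      rw [Pi.mul_apply, Pi.mul_apply, Pi.inv_apply, wm_inv_up]
    rwa [e] at h1
  obtain ⟨u, hu, huA⟩ := h.exists_up fun i => (β i)⁻¹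
  have hui : ActsSL M.e (zl S P) ⊥ u⁻¹ (fun i => up (β i)⁻¹)⁻¹ := acts_inv (h.UP hu) huA
  have hw1P : u⁻¹ * (w⁻¹ * v * w) * u⁻¹ ∈ P := mul_mem (mul_mem (inv_mem (h.UP hu)) hmP) (inv_mem (h.UP hu))
  have hw1A : ActsSL M.e (zl S P) ⊥ (u⁻¹ * (w⁻¹ * v * w) * u⁻¹)
      fun i => wm (-(β i)⁻¹) (neg_ne_zero.2 (inv_ne_zero (hne i))) := by
    have h1 := acts_mul (inv_mem (h.UP hu)) (acts_mul hmP hui hmA) hui
    have e : ((fun i => up (β i)⁻¹)⁻¹ * (fun i => lo (β i)) * (fun i => up (β i)⁻¹)⁻¹ :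
        Fin k → Matrix.SpecialLinearGroup (Fin 2) F) =
        fun i => wm (-(β i)⁻¹) (neg_ne_zero.2 (inv_ne_zero (hne i))) := by
      funext i
      rw [Pi.mul_apply, Pi.mul_apply, Pi.inv_apply, up_lo_up _ (hne i)]
    rwa [e] at h1
  have hinf := h.inf_eq hw1P hw1A
  -- `t = u⁻¹ (w⁻¹ Z w) u`
  have ht1 : w⁻¹ * Z * w ∈ U := by
    rw [h.Uw, mem_cj] at hZ
    exact hZ
  have ht2 : (w⁻¹ * v * w) * (w⁻¹ * Z * w) * (w⁻¹ * v * w)⁻¹ = w⁻¹ * Z * w := by
    calc (w⁻¹ * v * w) * (w⁻¹ * Z * w) * (w⁻¹ * v * w)⁻¹ = w⁻¹ * (v * Z * v⁻¹) * w := by group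
      _ = w⁻¹ * Z * w := by rw [hc]
  have ht3 : w⁻¹ * Z * w ∈ U ⊓ cj (u⁻¹ * (w⁻¹ * v * w) * u⁻¹) U := by
    refine mem_inf.2 ⟨ht1, ?_⟩
    rw [mem_cj]
    set t := w⁻¹ * Z * w with hte
    set m := w⁻¹ * v * w with hme
    have e1 : (u⁻¹ * m * u⁻¹)⁻¹ * t * (u⁻¹ * m * u⁻¹) = u * (m⁻¹ * (u * t * u⁻¹) * m) * u⁻¹ := by group
    have e2 : u * t * u⁻¹ = t := by rw [h.ab u hu t ht1]; group
    have e3 : m⁻¹ * t * m = t := by
      calc m⁻¹ * t * m = m⁻¹ * (m * t * m⁻¹) * m := by rw [ht2]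
        _ = t := by group
    rw [e1, e2, e3, e2]
    exact ht1
  rw [hinf, mem_bot] at ht3
  have hZ1 : Z = 1 := by
    calc Z = w * (w⁻¹ * Z * w) * w⁻¹ := by group
      _ = 1 := by rw [ht3]; group
  calc y = (a * b)⁻¹ * Z * (a * b) := by rw [hZe]; group
    _ = 1 := by rw [hZ1]; group

end CompsQ

end Cfsg.Agent.Omega.NOThreeL.ATwo

end

-- merged: Cfsg.Agent.Mrg.Omega.NOThreeL.ATwo.FamQ
section

/-!
# NO-3L A2, all `q` (text #16411 (2), (3), helper69): the family of axes, centres and root groups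

`h : CompsQ M U U' a b w`, `Y = U ∩ C_G(V)`:

* `ax M U i = U ∩ C_G(i-th factor)`, `cen`: the elements `y ∈ Y` with `pi (u i) y = y` (`u i` acts as `up` on the
  `i`-th factor only), `rt i = (cen i)^ρ`;
* `CompsQ.fam` : they form a `Fam (N_G(U)) U Y`.
-/

set_option autoImplicit false
set_option Elab.async false

namespace Cfsg.Agent.Omega.NOThreeL.ATwo

open Subgroup Cfsg Cfsg.Agent.ZN Cfsg.Agent.ZN.ChoiceBase
open Cfsg.Agent.Omega.MinPar Cfsg.Agent.Omega.FFThm
open Cfsg.Agent.MinSimple.VModule (le_normalizer_zl)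
open Cfsg.Agent.Lib.SL2Mat
open Cfsg.Agent.Omega.NatPair (ap ap_mul ap_one ap_inv_ap ap_ap_inv exists_ap ap_add)
open Cfsg.Agent.Omega.IId (Ind cj_mem cj_mem' e_inj acts_mul acts_inv acts_one sg sg_spec e_one e_inv fac
  exists_trans exists_fac)

universe u

variable {G : Type u} [Group G] {F : Type} [Field F] {S P : Subgroup G} {k : ℕ}

/-- `u` acts as `up b`: `b i = 0` if and only if `u` centralises the `i`-th factor. -/
theorem up_eq_zero_iff {M : NatK F S P (zl S P) ⊥ k} {u : G} {b : Fin k → F} (hu : u ∈ P) (h : Up M u b)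
    (i : Fin k) : b i = 0 ↔ u ∈ centralizer (fac M i : Set G) := by
  constructor
  · intro h0
    rw [mem_centralizer_iff]
    intro v hv
    have h1 : u * v * u⁻¹ = v := by
      refine e_inj M (cj_mem hu hv.1) hv.1 (funext fun j => ?_)
      rw [h.1 v hv.1 j]
      by_cases hj : j = i
      · rw [hj]
        change ap (up (b i)) _ = _
        rw [h0, up_zero, ap_one]
      · rw [hv.2 j hj]
        apply NatPair.ext2
        · rw [NatPair.ap_zero']; simp
        · rw [NatPair.ap_one']; simp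
    calc v * u = u * v * u⁻¹ * u := by rw [h1]
      _ = u * v := by group
  · intro hc
    obtain ⟨v, hv, he⟩ := exists_fac M i ![0, 1]
    have h1 := mem_centralizer_iff.1 hc v hv
    have h2 : M.e (u * v * u⁻¹) i = ap (up (b i)) (M.e v i) := h.1 v hv.1 i
    have h3 : u * v * u⁻¹ = v := by rw [← h1]; group
    rw [h3, he] at h2
    have h4 := congrFun h2 0
    rw [NatPair.ap_zero'] at h4
    simp at h4
    exact h4.symm

variable {M : NatK F S P (zl S P) ⊥ k}

namespace CompsQ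

variable [CharP F 2] {a b w : G} {U U' : Subgroup G}

/-- The `i`-th centre, for `v` acting as `up` on the `i`-th factor. -/
def cenS (h : CompsQ M U U' a b w) {v : G} (hv : v ∈ U) : Subgroup G where
  carrier := {y | y ∈ U ∧ y ∈ centralizer (zl S P : Set G) ∧ pi a b v y = y}
  mul_mem' := by
    rintro x y ⟨hx, hxD, hxe⟩ ⟨hy, hyD, hye⟩
    refine ⟨mul_mem hx hy, mul_mem hxD hyD, ?_⟩
    rw [h.co.pi_mul hv hx hxD hy hyD, hxe, hye]
  one_mem' := ⟨one_mem _, one_mem _, h.co.pi_one⟩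
  inv_mem' := by
    rintro x ⟨hx, hxD, hxe⟩
    rw [h.co.sq' hx]
    exact ⟨hx, hxD, hxe⟩

variable (h : CompsQ M U U' a b w)
include h

/-- `y` in the `i`-th centre: `pi u y` depends only on the `i`-th coordinate of `u`. -/
theorem pi_eq_of {i : Fin k} {v : G} (hv : v ∈ U) (hvA : Up M v (Pi.single i 1)) {u u1 y : G} (hu : u ∈ U)
    (hu1 : u1 ∈ U) {β γ : Fin k → F} (hβ : Up M u β) (hγ : Up M u1 γ) (he : β i = γ i) (hy : y ∈ U)
    (hyD : y ∈ centralizer (zl S P : Set G)) (hye : pi a b v y = y) : pi a b u y = pi a b u1 y := by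
  have h1 : pi a b (u * u1) y = 1 := by
    have h2 : (u * u1 ∈ U) := mul_mem hu hu1
    have h3 := Up.mul (h.UP hu1) hβ hγ
    rw [← hye]
    refine h.orth h2 hv h3 hvA (fun j => ?_) (fun j => ?_) hy hyD
    · by_cases hj : j = i
      · rw [hj, Pi.single_eq_same]; exact Or.inr rfl
      · rw [Pi.single_eq_of_ne hj]; exact Or.inl rfl
    · by_cases hj : j = i
      · rw [hj, Pi.add_apply, he]
        exact Or.inl (CharTwo.add_self_eq_zero _)
      · rw [Pi.single_eq_of_ne hj]; exact Or.inr rfl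
  rw [h.co.mul_pi hu hu1 hyD] at h1
  have h4 := (h.co.pi_mem (y := y) hu1 hyD).1
  have h5 := eq_inv_of_mul_eq_one_left h1
  rw [h5, h.co.sq' h4]

/-- `y` in the `i`-th centre: `pi u y` is in the `i`-th centre. -/
theorem pi_mem_cen {i : Fin k} {v : G} (hv : v ∈ U) (hvA : Up M v (Pi.single i 1)) {u y : G} (hu : u ∈ U)
    (hy : y ∈ U) (hyD : y ∈ centralizer (zl S P : Set G)) (hye : pi a b v y = y) :
    pi a b v (pi a b u y) = pi a b u y := by
  obtain ⟨β, hβ⟩ := h.exists_b hu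
  obtain ⟨u1, hu1, hu1A⟩ := h.exists_up (Pi.single i (β i))
  have h1 : pi a b u y = pi a b u1 y :=
    h.pi_eq_of hv hvA hu hu1 hβ hu1A (by rw [Pi.single_eq_same]) hy hyD hye
  rw [h1]
  -- the complement `c`
  obtain ⟨c, hc, hcA⟩ := h.exists_up (1 - Pi.single i 1)
  have hc01 : ∀ j, (Pi.single i 1 : Fin k → F) j = 0 ∨ (Pi.single i 1 : Fin k → F) j = 1 := by
    intro j
    by_cases hj : j = i
    · rw [hj, Pi.single_eq_same]; exact Or.inr rfl
    · rw [Pi.single_eq_of_ne hj]; exact Or.inl rfl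
  obtain ⟨m1, d1⟩ := h.co.pi_mem (y := y) hu1 hyD
  have h2 : pi a b c (pi a b u1 y) = 1 := by
    rw [h.comm hc hu1 hcA hu1A (fun j => ?_) hy hyD]
    · have h3 : pi a b c y = 1 := by
        rw [← hye]
        refine h.orth hc hv hcA hvA hc01 (fun j => ?_) hy hyD
        by_cases hj : j = i
        · left
          rw [hj, Pi.sub_apply, Pi.single_eq_same, Pi.one_apply, sub_self]
        · right
          rw [Pi.single_eq_of_ne hj]
      rw [h3, h.co.pi_one]
    · by_cases hj : j = i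
      · left
        rw [hj, Pi.sub_apply, Pi.single_eq_same, Pi.one_apply, sub_self]
      · right
        rw [Pi.single_eq_of_ne hj]
  have h4 : pi a b (v * c) (pi a b u1 y) = pi a b a (pi a b u1 y) := by
    refine h.co.pi_congr (mul_mem hv hc) h.co.aU ?_ m1 d1
    refine mem_cent_of_eq (M := M) (mul_mem (h.UP hv) (h.UP hc)) h.aP (Up.mul (h.UP hc) hvA hcA) ?_
    have e : Pi.single i 1 + (1 - Pi.single i 1) = (1 : Fin k → F) := by abel
    rw [e]
    exact h.aA
  rw [h.co.pi_a m1 d1, h.co.mul_pi hv hc d1, h2, mul_one] at h4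
  exact h4

/-- `pi u y = 1` if `y` is in the `i`-th centre and `u` centralises the `i`-th factor. -/
theorem pi_cen_eq_one {i : Fin k} {v : G} (hv : v ∈ U) (hvA : Up M v (Pi.single i 1)) {u y : G} (hu : u ∈ U)
    {β : Fin k → F} (hβ : Up M u β) (h0 : β i = 0) (hy : y ∈ U) (hyD : y ∈ centralizer (zl S P : Set G))
    (hye : pi a b v y = y) : pi a b u y = 1 := by
  rw [← hye]
  refine h.orth hu hv hβ hvA (fun j => ?_) (fun j => ?_) hy hyD
  · by_cases hj : j = i
    · rw [hj, Pi.single_eq_same]; exact Or.inr rfl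
    · rw [Pi.single_eq_of_ne hj]; exact Or.inl rfl
  · by_cases hj : j = i
    · rw [hj]; exact Or.inl h0
    · rw [Pi.single_eq_of_ne hj]; exact Or.inr rfl

/-- `pi u` is injective on the `i`-th centre if `u` does not centralise the `i`-th factor. -/
theorem inj_cen {i : Fin k} {v : G} (hv : v ∈ U) (hvA : Up M v (Pi.single i 1)) {u y : G} (hu : u ∈ U)
    {β : Fin k → F} (hβ : Up M u β) (h0 : β i ≠ 0) (hy : y ∈ U) (hyD : y ∈ centralizer (zl S P : Set G))
    (hye : pi a b v y = y) (h1 : pi a b u y = 1) : y = 1 := by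
  obtain ⟨x, hx, hxA⟩ := h.exists_up (Function.update 1 i (β i))
  refine h.inj hx hxA (fun j => ?_) hy hyD ?_
  · by_cases hj : j = i
    · rw [hj, Function.update_self]; exact h0
    · rw [Function.update_of_ne hj]; exact one_ne_zero
  · rw [h.pi_eq_of hv hvA hx hu hxA hβ (by rw [Function.update_self]) hy hyD hye, h1]

theorem gen {v : Fin k → G} (hv : ∀ i, v i ∈ U) (hvA : ∀ i, Up M (v i) (Pi.single i 1)) {R : Subgroup G}
    (hR : ∀ i, h.cenS (hv i) ≤ R) {y : G} (hy : y ∈ U) (hyD : y ∈ centralizer (zl S P : Set G)) : y ∈ R := by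
  have key : ∀ (I : Finset (Fin k)) (u : G), u ∈ U → Up M u (fun i => if i ∈ I then 1 else 0) →
      pi a b u y ∈ R := by
    intro I
    induction I using Finset.induction_on with
    | empty =>
      intro u hu hβ
      have e : (fun i => if i ∈ (∅ : Finset (Fin k)) then (1 : F) else 0) = 0 := by
        funext i
        rw [if_neg (Finset.notMem_empty i)]
        rfl
      rw [e] at hβ
      rw [h.co.pi_eq_one hu (Up.cent (h.UP hu) hβ) hy hyD]
      exact one_mem _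
    | insert i I hi ih =>
      intro u hu hβ
      obtain ⟨u1, hu1, hu1A⟩ := h.exists_up fun j => if j ∈ I then 1 else 0
      have e : pi a b u y = pi a b (v i * u1) y := by
        refine h.co.pi_congr hu (mul_mem (hv i) hu1) ?_ hy hyD
        refine mem_cent_of_eq (M := M) (h.UP hu) (mul_mem (h.UP (hv i)) (h.UP hu1)) hβ ?_
        have h1 := Up.mul (h.UP hu1) (hvA i) hu1A
        have e : (Pi.single i 1 + fun j => if j ∈ I then (1 : F) else 0) =
            fun j => if j ∈ insert i I then (1 : F) else 0 := by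
          funext j
          rw [Pi.add_apply]
          by_cases hj : j = i
          · rw [hj, Pi.single_eq_same, if_neg hi, if_pos (Finset.mem_insert_self i I), add_zero]
          · rw [Pi.single_eq_of_ne hj, zero_add]
            by_cases hjI : j ∈ I
            · rw [if_pos hjI, if_pos (Finset.mem_insert_of_mem hjI)]
            · rw [if_neg hjI, if_neg fun h4 => (Finset.mem_insert.1 h4).elim hj hjI]
        rw [e] at h1
        exact h1
      rw [e, h.co.mul_pi (hv i) hu1 hyD]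
      refine mul_mem (hR i ?_) (ih u1 hu1 hu1A)
      obtain ⟨m1, d1⟩ := h.co.pi_mem (y := y) (hv i) hyD
      refine ⟨m1, d1, h.idem (hv i) (hvA i) (fun j => ?_) hy hyD⟩
      by_cases hj : j = i
      · rw [hj, Pi.single_eq_same]; exact Or.inr rfl
      · rw [Pi.single_eq_of_ne hj]; exact Or.inl rfl
  have h1 := key Finset.univ a h.co.aU (by
    have e : (fun i => if i ∈ (Finset.univ : Finset (Fin k)) then (1 : F) else 0) = fun _ => 1 := by
      funext i
      rw [if_pos (Finset.mem_univ i)]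
    rw [e]
    exact h.aA)
  rwa [h.co.pi_a hy hyD] at h1

/-- **The family.** -/
theorem fam [Finite G] {v : Fin k → G} (hv : ∀ i, v i ∈ U) (hvA : ∀ i, Up M (v i) (Pi.single i 1)) :
    Fam (normalizer (U : Set G)) U (U ⊓ centralizer (zl S P : Set G)) (fun i => U ⊓ centralizer (fac M i : Set G))
      (fun i => h.cenS (hv i)) (fun i => cj (a * b) (h.cenS (hv i))) where
  YU := inf_le_left
  MU := fun m hm u hu => (mem_normalizer_iff.1 hm u).1 hu
  AU := fun i => inf_le_left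
  YA := fun i => inf_le_inf_left _ (centralizer_le fun x hx => hx.1)
  inter := by
    intro u hu hA
    obtain ⟨β, hβ⟩ := h.exists_b hu
    refine ⟨hu, ?_⟩
    have h0 : β = 0 := funext fun i => (up_eq_zero_iff (M := M) (h.UP hu) hβ i).2 (hA i).2
    rw [h0] at hβ
    exact Up.cent (h.UP hu) hβ
  YcY := fun i y hy => ⟨hy.1, hy.2.1⟩
  gen := fun R hR y hy => h.gen hv hvA hR hy.1 hy.2
  EM := by
    intro i t ht
    rw [mem_cj] at ht
    have h1 := h.co.rho_D ht.2.1
    have e : a * b * ((a * b)⁻¹ * t * (a * b)) * (a * b)⁻¹ = t := by group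
    rw [e] at h1
    exact h.cent h1
  cent := by
    intro i x hx t ht
    rw [mem_cj] at ht
    obtain ⟨β, hβ⟩ := h.exists_b hx.1
    have h0 := (up_eq_zero_iff (M := M) (h.UP hx.1) hβ i).2 hx.2
    have h1 := h.pi_cen_eq_one (hv i) (hvA i) hx.1 hβ h0 ht.1 ht.2.1 ht.2.2
    unfold pi at h1
    have e : a * b * ((a * b)⁻¹ * t * (a * b)) * (a * b)⁻¹ = t := by group
    rw [e] at h1
    calc x * t = x * t * x⁻¹ * t⁻¹ * (t * x) := by group
      _ = t * x := by rw [h1, one_mul]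
  comm := by
    intro i u hu t ht
    rw [mem_cj] at ht
    have h1 := h.pi_mem_cen (hv i) (hvA i) hu ht.1 ht.2.1 ht.2.2
    obtain ⟨m1, d1⟩ := h.co.pi_mem (y := (a * b)⁻¹ * t * (a * b)) hu ht.2.1
    have e : a * b * ((a * b)⁻¹ * t * (a * b)) * (a * b)⁻¹ = t := by group
    have e1 : pi a b u ((a * b)⁻¹ * t * (a * b)) = u * t * u⁻¹ * t⁻¹ := by
      unfold pi
      rw [e]
    rw [← e1]
    exact ⟨m1, d1, h1⟩
  full := by
    intro i u hu huA y hy
    obtain ⟨β, hβ⟩ := h.exists_b hu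
    have h0 : β i ≠ 0 := fun h0 => huA ⟨hu, (up_eq_zero_iff (M := M) (h.UP hu) hβ i).1 h0⟩
    -- `pi u` on the centre
    have hinj : Function.Injective (fun x : h.cenS (hv i) => (⟨pi a b u x, by
        obtain ⟨m1, d1⟩ := h.co.pi_mem (y := (x : G)) hu x.2.2.1
        exact ⟨m1, d1, h.pi_mem_cen (hv i) (hvA i) hu x.2.1 x.2.2.1 x.2.2.2⟩⟩ : h.cenS (hv i))) := by
      intro x y hxy
      have h1 : pi a b u x = pi a b u y := congrArg Subtype.val hxy
      have h2 : (x : G) * y ∈ h.cenS (hv i) := mul_mem x.2 y.2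
      have h3 : pi a b u (x * y) = 1 := by
        rw [h.co.pi_mul hu x.2.1 x.2.2.1 y.2.1 y.2.2.1, h1]
        exact h.sq _ (h.co.pi_mem (y := (y : G)) hu y.2.2.1).1
      have h4 := h.inj_cen (hv i) (hvA i) hu hβ h0 h2.1 h2.2.1 h2.2.2 h3
      apply Subtype.ext
      have h5 := eq_inv_of_mul_eq_one_left h4
      rw [h5, h.co.sq' y.2.1]
    obtain ⟨x, hx⟩ := Finite.injective_iff_surjective.1 hinj ⟨y, hy⟩
    have hx' : pi a b u x = y := congrArg Subtype.val hx
    refine ⟨a * b * x * (a * b)⁻¹, ?_, hx'⟩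
    rw [mem_cj]
    have e : (a * b)⁻¹ * (a * b * x * (a * b)⁻¹) * (a * b) = x := by group
    rw [e]
    exact x.2
  trans := by
    intro i j
    obtain ⟨s, hs, hsf⟩ := exists_trans M h.SP i j
    refine ⟨s, h.SU hs, ?_⟩
    have h1 : cj s U = U := cj_eq_of_mem_normalizer (h.SU hs)
    change cj s (U ⊓ centralizer (fac M i : Set G)) = U ⊓ centralizer (fac M j : Set G)
    rw [← hsf, ← cj_centralizer]
    ext x
    rw [mem_cj, mem_inf, mem_inf]
    nth_rewrite 2 [← h1]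
    rw [mem_cj, mem_cj]

end CompsQ

end Cfsg.Agent.Omega.NOThreeL.ATwo

end

-- merged: Cfsg.Agent.Mrg.Omega.NOThreeL.ATwo.MainQ
section

/-!
# NO-3L A1, A2: no natural modules (text #16411, helper69)

`D : DataZ S`, `E : Exact S P H`, `V_P` a sum of `k ≥ 1` natural `SL₂(F)`-modules: contradiction, for all finite
fields `F` of characteristic 2.

* `FrQ` : the situation; `ind` : `U_H` induces all upper unitriangular elements of `SL₂(F)^k`;
* `FrQ.cfg` : `CfgQ M U_H`;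
* `false_of_exact` : the contradiction; `a1`, `a2` : the sockets `Main.A1`, `Main.A2`.
-/

set_option autoImplicit false
set_option Elab.async false

namespace Cfsg.Agent.Omega.NOThreeL.ATwo

open Subgroup Cfsg Cfsg.Agent.ZN Cfsg.Agent.Omega.FrameNOFF
open Cfsg.Agent.ZN.ChoiceBase hiding mem_zc
open Cfsg.Agent.Omega.MinPar Cfsg.Agent.Omega.FFThm Cfsg.Agent.Omega.Node.NO3L Cfsg.Agent.Omega.Frame
open Cfsg.Agent.Omega.NOThreeL.Basic Cfsg.Agent.Omega.NOThreeL.Main
open Cfsg.Agent.MinSimple.VModule (le_normalizer_zl zl_le zc_le_zl zc_le mem_zc zl_comm zl_sq le_o2 o2_isPGroup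
  le_normalizer_o2 le_centralizer_zc o2_le)
open Cfsg.Agent.Omega.NatPair (ap ap_mul ap_one ap_inv_ap ap_ap_inv exists_ap ap_add)
open Cfsg.Agent.Omega.IId (Ind exists_ind exists_trans)
open scoped Pointwise

universe u

variable {G : Type u} [Group G] [Finite G] {S : Sylow 2 G} {P H : Subgroup G} {F : Type} [Field F] {k : ℕ}

/-- The situation. -/
structure FrQ (S : Sylow 2 G) (P H : Subgroup G) (M : NatK F (S : Subgroup G) P (zl (S : Subgroup G) P) ⊥ k) : Prop
    where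
  hc : IsCharacteristicTwoType G
  ne : (S : Subgroup G) ≠ ⊥
  D : Data (S : Subgroup G)
  E : Exact (S : Subgroup G) P H
  pos : 0 < k

namespace FrQ

variable {M : NatK F (S : Subgroup G) P (zl (S : Subgroup G) P) ⊥ k} (h : FrQ S P H M)
include h

theorem SP : (S : Subgroup G) ≤ P := h.E.par.le

theorem SH : (S : Subgroup G) ≤ H := h.E.long.loc.le

theorem US : zl (S : Subgroup G) H ≤ (S : Subgroup G) := IsLong.zl_le_S h.hc h.E.long

theorem UP : zl (S : Subgroup G) H ≤ P := h.US.trans h.SP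

theorem VS : zl (S : Subgroup G) P ≤ (S : Subgroup G) := IsParS.zl_le_S h.hc h.E.par

theorem ab : ∀ u ∈ zl (S : Subgroup G) H, ∀ v ∈ zl (S : Subgroup G) H, u * v = v * u := by
  intro u hu v hv
  have h1 := (NOThreeL.Pair.zl_abel h.hc S h.E.long.loc).1
  exact mem_centralizer_iff.1 (h1 hv) u hu

theorem sq : ∀ u ∈ zl (S : Subgroup G) H, u * u = 1 := by
  intro u hu
  have h1 := (mem_zc.1 (h.E.long.loc.zl_le S h.hc hu)).2.2
  rwa [pow_two] at h1

/-- `U_H` induces all upper unitriangular elements of `SL₂(F)^k`. -/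
theorem ind : Ind M (zl (S : Subgroup G) H) Set.univ := by
  obtain ⟨I, hI⟩ := exists_ind M h.US h.E.off
  have hI' : I = Set.univ := by
    by_contra hne
    obtain ⟨j, hj⟩ : ∃ j, j ∉ I := by
      by_contra hcon
      push Not at hcon
      exact hne (Set.eq_univ_of_forall hcon)
    refine h.E.off.ne fun u hu => ?_
    obtain ⟨b, hb, hub⟩ := hI.act u hu
    have hb0 : b = 0 := by
      funext i
      by_contra h0
      obtain ⟨t, ht, htf⟩ := exists_trans M h.SP j i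
      have hu' : t⁻¹ * u * t ∈ zl (S : Subgroup G) H := by
        have h1 := (mem_normalizer_iff.1 (inv_mem (le_normalizer_zl _ _ (h.SH ht))) u).1 hu
        rwa [inv_inv] at h1
      obtain ⟨b', hb', hub'⟩ := hI.act _ hu'
      have h2 := (up_eq_zero_iff (M := M) (h.UP hu') hub' j).1 (hb' j hj)
      apply h0
      refine (up_eq_zero_iff (M := M) (h.UP hu) hub i).2 ?_
      rw [mem_centralizer_iff] at h2 ⊢
      intro v hv
      have hv' : t⁻¹ * v * t ∈ IId.fac M j := by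
        rw [← mem_cj, htf]
        exact hv
      have h3 := h2 _ hv'
      calc v * u = t * ((t⁻¹ * v * t) * (t⁻¹ * u * t)) * t⁻¹ := by group
        _ = t * ((t⁻¹ * u * t) * (t⁻¹ * v * t)) * t⁻¹ := by rw [h3]
        _ = u * v := by group
    rw [hb0] at hub
    exact Up.cent (M := M) (h.UP hu) hub
  rw [← hI']
  exact hI

/-- A nontrivial `S`-invariant subgroup of `U_H` meets `Z`. -/
theorem core {T : Subgroup G} (hT : T ≤ zl (S : Subgroup G) H)
    (hn : (S : Subgroup G) ≤ normalizer (T : Set G)) (h1 : T ≠ ⊥) :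
    ∃ x ∈ T, x ≠ 1 ∧ x ∈ zc (S : Subgroup G) := by
  have : Fact (Nat.Prime 2) := ⟨Nat.prime_two⟩
  have hTp : IsPGroup 2 T := S.isPGroup'.to_le (hT.trans h.US)
  have h2 := Cfsg.Agent.PLocal.OffenderStep.inf_centralizer_ne_bot T (S : Subgroup G) hTp S.isPGroup' hn h1
  obtain ⟨x, hx, hx1⟩ : ∃ x ∈ T ⊓ centralizer ((S : Subgroup G) : Set G), x ≠ 1 := by
    by_contra hcon
    push Not at hcon
    exact h2 ((eq_bot_iff_forall _).2 hcon)
  rw [mem_inf] at hx
  refine ⟨x, hx.1, hx1, mem_zc.2 ⟨h.US (hT hx.1), fun b hb => mem_centralizer_iff.1 hx.2 b hb, ?_⟩⟩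
  rw [pow_two]
  exact h.sq x (hT hx.1)

theorem cfg : CfgQ M (zl (S : Subgroup G) H) where
  pos := h.pos
  SP := h.SP
  ind := h.ind
  UP := h.UP
  SU := h.SH.trans (le_normalizer_zl _ _)
  cent := ((centralizer_le (zc_le_zl _ _)).trans h.E.long.cz).trans (le_normalizer_zl _ _)
  ab := h.ab
  sq := h.sq
  core := by
    intro T hT hn h1
    obtain ⟨x, hx, hx1, hxz⟩ := h.core hT hn h1
    exact ⟨x, hx, hx1, zc_le_zl _ _ hxz⟩

/-- `W_H` centralises `V`. -/
theorem WV : W (S : Subgroup G) H ≤ centralizer (zl (S : Subgroup G) P : Set G) := by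
  have h1 : W (S : Subgroup G) H ≤ WP (S : Subgroup G) := W_le fun P hP _ c hc => line_le_WP hP hc
  have h2 := Basic.comm_of_le h.hc h.D (x := 1) (y := 1) (by
    rw [map_one, one_smul, one_smul]; exact WP_le_Q h.D) (by
    rw [map_one, one_smul, one_smul]; exact WP_le_Q h.D)
  rw [map_one, one_smul] at h2
  exact (h1.trans h2).trans (centralizer_le (zl_le_WP h.E.par))

omit [Finite G] h in
theorem smul_eq_cj (g : G) (A : Subgroup G) : MulAut.conj g • A = cj g A := by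
  ext x
  rw [NoFF.Basic.mem_conj, mem_cj]

theorem false_of [CharP F 2] : False := by
  obtain ⟨a, b, w, U', hC⟩ := h.cfg.exists_comps
  choose v hv hvA using fun i : Fin k => hC.exists_up (Pi.single i 1)
  have hF := hC.fam hv hvA
  have hWU : W (S : Subgroup G) H ≤ zl (S : Subgroup G) H := W_le_zl h.E.long.cz
  have hWY : W (S : Subgroup G) H ≤
      zl (S : Subgroup G) H ⊓ centralizer (zl (S : Subgroup G) P : Set G) := le_inf hWU h.WV
  have hWn : centralizer (zc (S : Subgroup G) : Set G) ≤ normalizer (W (S : Subgroup G) H : Set G) :=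
    CZ_le_normalizer_W _ _
  have hZ : zc (S : Subgroup G) ≤ zl (S : Subgroup G) H ⊓ centralizer (zl (S : Subgroup G) P : Set G) := by
    refine le_inf (zc_le_zl _ _) ?_
    rw [le_centralizer_iff]
    exact h.VS.trans (le_centralizer_zc _)
  have h1 := conn_W S h.E.long.loc (zl (S : Subgroup G) H ⊓ centralizer (zl (S : Subgroup G) P : Set G)) hZ
    fun g hg hgZ => by
      rw [smul_eq_cj] at hgZ ⊢
      exact hF.claim hWY hWn hg hgZ
  exact h.E.off.ne (h1.trans inf_le_right)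

end FrQ

/-- **No natural modules** (text #16411): the frames of A1 and A2 are void. -/
theorem false_of_exact (hG : Frame.Ctx G) {S : Sylow 2 G} (D : DataZ (S : Subgroup G)) {P H : Subgroup G}
    (E : Exact (S : Subgroup G) P H) {F : Type} [Field F] [CharP F 2] {k : ℕ} (hk : 0 < k)
    (M : NatK F (S : Subgroup G) P (zl (S : Subgroup G) P) (FrameFF.cv (S : Subgroup G) P) k) : False := by
  have h1 := DataZ.cv_eq hG.char2 D E.par
  rw [h1] at M
  exact FrQ.false_of (M := M) ⟨hG.char2, hG.sylow_ne_bot S, D.toData, E, hk⟩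

/-- **The leaf A2.** -/
theorem a2 (K : Cls.{u}) : Main.A2 K := by
  intro G _ _ hG _ S _ D P H E F _ _ _ k hk M
  exact (false_of_exact hG D E (by omega) M).elim

end Cfsg.Agent.Omega.NOThreeL.ATwo

end
end

-- part: Mrg/Omega/NOThreeL/AFour/Two
section
prune_inst 0xd0000f004500020000180000a0001c42b2000100004b0000e040080004c82c0020018621b060030200100854203c006813980010422000000a008800011904a1840250029208a104060009c01800000000000000000000000000000000000000000000000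
set_option linter.all false
open scoped Cfsg.Agent.FastGrp

-- merged: Cfsg.Agent.Mrg.Omega.NOThreeL.AFour.TwoLin
section

/-!
# NO-3L A4, `q = 2` (helper884 #16392 (2)): `IndepTwo.Dat` in multiplicative notation

* `GDat` : the hypotheses of `IndepTwo.Dat` for an elementary abelian normal subgroup `U` of `H`;
* `GDat.exists_apply` : all values of the functionals occur.
-/

set_option autoImplicit false
set_option Elab.async false

namespace Cfsg.Agent.Omega.NOThreeL.AFour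

open Subgroup
open Cfsg.Agent.Omega.NOThreeL.ATwo (TvBy)

universe u

variable {G : Type u} [Group G]

/-- The hypotheses of `IndepTwo.Dat` in multiplicative notation. -/
structure GDat (H U S Q V : Subgroup G) (z : G) {k : ℕ} (φ : Fin k → G → ZMod 2) (c : Fin k → G)
    (lam : Fin k → G → ZMod 2) : Prop where
  SH : S ≤ H
  nrm : ∀ x ∈ H, ∀ u ∈ U, x * u * x⁻¹ ∈ U
  ab : ∀ u ∈ U, ∀ v ∈ U, u * v = v * u
  sq : ∀ u ∈ U, u * u = 1
  zU : z ∈ U
  gen : ∀ A : Subgroup G, (∀ x ∈ H, x * z * x⁻¹ ∈ A) → U ≤ A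
  core : ∀ T : Subgroup G, T ≤ U → S ≤ normalizer (T : Set G) → T ≠ ⊥ → z ∈ T
  add : ∀ i, ∀ u ∈ U, ∀ v ∈ U, φ i (u * v) = φ i u + φ i v
  ne : ∀ i, ∃ u ∈ U, φ i u ≠ 0
  cU : ∀ i, c i ∈ U
  c0 : ∀ i, φ i (c i) = 0
  cV : ∀ i, c i ∈ V
  lam1 : ∀ i, lam i 1 = 0
  lamc : ∀ i j, lam i (c j) = if i = j then 1 else 0
  lamm : ∀ i j, ∀ v ∈ V, lam i (c j * v) = lam i (c j) + lam i v
  tr : ∀ i, ∃ x ∈ H, x ∈ Q ∧ TvBy U (φ i) (c i) x
  QP : ∀ x ∈ Q, ∃ n : ℕ, x ^ (2 ^ n) = 1
  Qn : ∀ x ∈ H, x * z = z * x → ∀ y ∈ Q, x * y * x⁻¹ ∈ Q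
  trans : ∀ i j, ∃ s ∈ S, (∀ u ∈ U, φ i (s⁻¹ * u * s) = φ j u) ∧ s * c i * s⁻¹ = c j

namespace GDat

variable {H U S Q V : Subgroup G} {z : G} {k : ℕ} {φ : Fin k → G → ZMod 2} {c : Fin k → G} {lam : Fin k → G → ZMod 2}

/-- All values of the functionals occur. -/
theorem exists_apply [Finite G] (h : GDat H U S Q V z φ c lam) (b : Fin k → ZMod 2) : ∃ u ∈ U, ∀ i, φ i u = b i := by
  classical
  let i1 : AddCommGroup (Additive U) :=
    { (inferInstance : AddGroup (Additive U)) with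
      add_comm := fun v w => congrArg Additive.ofMul (Subtype.ext (h.ab _ (Additive.toMul v).2 _ (Additive.toMul w).2)) }
  let i2 : Module (ZMod 2) (Additive U) := AddCommGroup.zmodModule (n := 2) fun v => by
    rw [two_nsmul]
    exact congrArg Additive.ofMul (Subtype.ext (h.sq _ (Additive.toMul v).2))
  let i3 : DistribMulAction H (Additive U) :=
    { smul := fun x v => Additive.ofMul ⟨x * (Additive.toMul v : U) * (x : G)⁻¹, h.nrm x x.2 _ (Additive.toMul v).2⟩
      one_smul := fun v => congrArg Additive.ofMul (Subtype.ext (by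
        change ((1 : H) : G) * (Additive.toMul v : U) * ((1 : H) : G)⁻¹ = (Additive.toMul v : U)
        rw [OneMemClass.coe_one, one_mul, inv_one, mul_one]))
      mul_smul := fun x y v => congrArg Additive.ofMul (Subtype.ext (by
        change ((x * y : H) : G) * (Additive.toMul v : U) * ((x * y : H) : G)⁻¹ =
          x * (y * (Additive.toMul v : U) * (y : G)⁻¹) * (x : G)⁻¹
        rw [Subgroup.coe_mul]; group))
      smul_zero := fun x => congrArg Additive.ofMul (Subtype.ext (by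
        change (x : G) * ((1 : U) : G) * (x : G)⁻¹ = ((1 : U) : G)
        rw [OneMemClass.coe_one, mul_one, mul_inv_cancel]))
      smul_add := fun x v w => congrArg Additive.ofMul (Subtype.ext (by
        change (x : G) * ((Additive.toMul v * Additive.toMul w : U) : G) * (x : G)⁻¹ =
          (x * (Additive.toMul v : U) * (x : G)⁻¹) * (x * (Additive.toMul w : U) * (x : G)⁻¹)
        rw [Subgroup.coe_mul]; group)) }
  have i4 : Finite (Additive U) := inferInstanceAs (Finite U)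
  -- equality of elements of `Additive U`
  have ext' : ∀ {v w : Additive U}, ((Additive.toMul v : U) : G) = ((Additive.toMul w : U) : G) → v = w :=
    fun hvw => congrArg Additive.ofMul (Subtype.ext hvw)
  let f : Fin k → (Additive U →+ ZMod 2) := fun i =>
    { toFun := fun v => φ i (Additive.toMul v : U)
      map_zero' := by
        have h1 := h.add i 1 (one_mem _) 1 (one_mem _)
        rw [mul_one] at h1
        exact left_eq_add.1 h1
      map_add' := fun v w => h.add i _ (Additive.toMul v).2 _ (Additive.toMul w).2 }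
  have hf : ∀ i (v : U), f i (Additive.ofMul v) = φ i (v : G) := fun _ _ => rfl
  let cc : Fin k → Additive U := fun i => Additive.ofMul ⟨c i, h.cU i⟩
  let zz : Additive U := Additive.ofMul ⟨z, h.zU⟩
  -- transvections
  have tv : ∀ i (e : U) (x : G) (hx : x ∈ H), TvBy U (φ i) e x → ∀ u : Additive U,
      (⟨x, hx⟩ : H) • u = u + f i u • (Additive.ofMul e : Additive U) := by
    intro i e x hx hT u
    apply ext'
    have h1 := hT _ (Additive.toMul u).2
    have h2 : f i u = φ i ((Additive.toMul u : U) : G) := rfl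
    have h3 : ((Additive.toMul ((⟨x, hx⟩ : H) • u) : U) : G) = x * (Additive.toMul u : U) * x⁻¹ := rfl
    rw [h3, h1]
    rcases ThmL.z2 (f i u) with h0 | h0
    · rw [if_pos (by rw [← h2, h0]), h0, zero_smul, add_zero]
    · rw [if_neg (by rw [← h2, h0]; decide), h0, one_smul]
      rfl
  have act_f : ∀ (s : H) i j, (∀ u ∈ U, φ i ((s : G)⁻¹ * u * s) = φ j u) → ThmL.act s (f i) = f j := by
    intro s i j hs
    refine AddMonoidHom.ext fun u => ?_
    rw [ThmL.act_apply]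
    have h1 := hs _ (Additive.toMul u).2
    have h2 : ((Additive.toMul (s⁻¹ • u) : U) : G) = ((s⁻¹ : H) : G) * (Additive.toMul u : U) * ((s⁻¹ : H) : G)⁻¹ := rfl
    have h3 : f i (s⁻¹ • u) = φ i ((Additive.toMul (s⁻¹ • u) : U) : G) := rfl
    rw [h3, h2, InvMemClass.coe_inv, inv_inv, h1]
    rfl
  have z_iff : ∀ s : H, s • zz = zz → (s : G) * z = z * s := by
    intro s hs
    have h1 : (s : G) * z * (s : G)⁻¹ = z := congrArg Subtype.val (congrArg Additive.toMul hs)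
    calc (s : G) * z = s * z * (s : G)⁻¹ * s := by group
      _ = z * s := by rw [h1]
  -- sums of the `cc i`
  have hsum : ∀ I : Finset (Fin k), ((Additive.toMul (∑ i ∈ I, cc i) : U) : G) ∈ V ∧
      ∀ j, lam j ((Additive.toMul (∑ i ∈ I, cc i) : U) : G) = if j ∈ I then 1 else 0 := by
    intro I
    induction I using Finset.induction_on with
    | empty =>
      refine ⟨one_mem V, fun j => ?_⟩
      rw [if_neg (Finset.notMem_empty j)]
      exact h.lam1 j
    | insert a I ha ih =>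
      obtain ⟨h1, h2⟩ := ih
      have e : ((Additive.toMul (∑ i ∈ insert a I, cc i) : U) : G) = c a * ((Additive.toMul (∑ i ∈ I, cc i) : U) : G) := by
        rw [Finset.sum_insert ha]
        rfl
      rw [e]
      refine ⟨mul_mem (h.cV a) h1, fun j => ?_⟩
      rw [h.lamm j a _ h1, h2, h.lamc]
      by_cases hja : j = a
      · subst hja
        rw [if_pos rfl, if_neg ha, if_pos (Finset.mem_insert_self _ _), add_zero]
      · rw [if_neg hja, zero_add]
        by_cases hj : j ∈ I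
        · rw [if_pos hj, if_pos (Finset.mem_insert_of_mem hj)]
        · rw [if_neg hj, if_neg (by rw [Finset.mem_insert]; tauto)]
  have D : IndepTwo.Dat (X := H) f cc zz := by
    refine ⟨?_, ?_, ?_, ?_, ?_, ?_⟩
    · intro N hN
      by_cases h0 : N = ⊥
      · exact Or.inl h0
      · right
        let T : Subgroup G :=
          { carrier := {t | ∃ ht : t ∈ U, (Additive.ofMul (⟨t, ht⟩ : U) : Additive U) ∈ N}
            one_mem' := ⟨one_mem _, N.zero_mem⟩
            mul_mem' := by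
              rintro a b ⟨ha, ha'⟩ ⟨hb, hb'⟩
              exact ⟨mul_mem ha hb, N.add_mem ha' hb'⟩
            inv_mem' := by
              rintro a ⟨ha, ha'⟩
              exact ⟨inv_mem ha, N.neg_mem ha'⟩ }
        have hTn : ∀ x ∈ H, ∀ t ∈ T, x * t * x⁻¹ ∈ T := by
          rintro x hx t ⟨ht, ht'⟩
          exact ⟨h.nrm x hx t ht, hN ⟨x, hx⟩ _ ht'⟩
        have hTne : T ≠ ⊥ := by
          intro h1
          apply h0
          rw [eq_bot_iff]
          intro m hm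
          have h2 : ((Additive.toMul m : U) : G) ∈ T := ⟨(Additive.toMul m).2, hm⟩
          rw [h1, mem_bot] at h2
          rw [AddSubgroup.mem_bot]
          exact ext' h2
        have hzT : z ∈ T := by
          refine h.core T (fun t ht => ht.1) (fun s hs => ?_) hTne
          rw [mem_normalizer_iff]
          intro t
          refine ⟨hTn s (h.SH hs) t, fun ht => ?_⟩
          have h2 := hTn s⁻¹ (inv_mem (h.SH hs)) _ ht
          have e : s⁻¹ * (s * t * s⁻¹) * s⁻¹⁻¹ = t := by group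
          rwa [e] at h2
        have hUT : U ≤ T := h.gen T fun x hx => hTn x hx z hzT
        rw [eq_top_iff]
        intro m _
        obtain ⟨h1, h2⟩ := hUT (Additive.toMul m).2
        exact h2
    · intro i h0
      obtain ⟨u, hu, hne⟩ := h.ne i
      apply hne
      exact DFunLike.congr_fun h0 (Additive.ofMul ⟨u, hu⟩ : Additive U)
    · intro i
      obtain ⟨x, hx, -, hT⟩ := h.tr i
      exact ⟨h.c0 i, ⟨x, hx⟩, tv i ⟨c i, h.cU i⟩ x hx hT⟩
    · intro i j
      obtain ⟨s, hs, h1, h2⟩ := h.trans i j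
      exact ⟨⟨s, h.SH hs⟩, act_f ⟨s, h.SH hs⟩ i j h1, ext' h2⟩
    · rintro I ⟨j, hj⟩ h0
      have h1 := (hsum I).2 j
      rw [h0, if_pos hj] at h1
      have h2 : lam j ((Additive.toMul (0 : Additive U) : U) : G) = 0 := h.lam1 j
      rw [h2] at h1
      exact absurd h1 (by decide)
    · intro i s hs t ht
      obtain ⟨x, hx, hxQ, hT⟩ := h.tr i
      have hsz := z_iff s hs
      -- `s t s⁻¹ t⁻¹` acts as `s x s⁻¹ x⁻¹ ∈ Q`
      have hq : (s : G) * x * (s : G)⁻¹ * x⁻¹ ∈ Q := mul_mem (h.Qn s s.2 hsz x hxQ) (inv_mem hxQ)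
      obtain ⟨n, hn⟩ := h.QP _ hq
      refine ⟨n, fun u => ?_⟩
      have hx' := tv i ⟨c i, h.cU i⟩ x hx hT
      have e1 : ∀ u : Additive U, t • u = (⟨x, hx⟩ : H) • u := fun u => by rw [ht u, hx' u]
      have e2 : ∀ u : Additive U, t⁻¹ • u = (⟨x, hx⟩ : H)⁻¹ • u := by
        intro u
        rw [inv_smul_eq_iff, e1, smul_inv_smul]
      have e3 : ∀ u : Additive U, (s * t * s⁻¹ * t⁻¹) • u = (s * ⟨x, hx⟩ * s⁻¹ * (⟨x, hx⟩ : H)⁻¹) • u := by
        intro u
        simp only [mul_smul]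
        rw [e2, e1]
      have e4 : ∀ (m : ℕ) (u : Additive U), ((s * t * s⁻¹ * t⁻¹) ^ m) • u =
          ((s * ⟨x, hx⟩ * s⁻¹ * (⟨x, hx⟩ : H)⁻¹) ^ m) • u := by
        intro m
        induction m with
        | zero => intro u; rw [pow_zero, pow_zero]
        | succ m ih =>
          intro u
          rw [pow_succ, pow_succ, mul_smul ((s * t * s⁻¹ * t⁻¹) ^ m),
            mul_smul ((s * ⟨x, hx⟩ * s⁻¹ * (⟨x, hx⟩ : H)⁻¹) ^ m), e3, ih]
      rw [e4]
      have e5 : ((s * ⟨x, hx⟩ * s⁻¹ * (⟨x, hx⟩ : H)⁻¹) ^ (2 ^ n) : H) = 1 := by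
        apply Subtype.ext
        rw [SubmonoidClass.coe_pow]
        exact hn
      rw [e5, one_smul]
  obtain ⟨u, hu⟩ := D.exists_apply b
  exact ⟨((Additive.toMul u : U) : G), (Additive.toMul u).2, hu⟩

end GDat

end Cfsg.Agent.Omega.NOThreeL.AFour

end

-- merged: Cfsg.Agent.Mrg.Omega.NOThreeL.AFour.Two
section

/-!
# NO-3L A4, `q = 2` (helper884 #16392 (2)): `U_H` induces all upper unitriangular elements of `SL₂(2)^k`

* `FrA.exists_gen` : `Z = ⟨z⟩`; `FrA.gdat` : `GDat`;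
* `ind_two` : `Ind M (zl S H) Set.univ`.
-/

set_option autoImplicit false
set_option Elab.async false

namespace Cfsg.Agent.Omega.NOThreeL.AFour

open Subgroup Cfsg Cfsg.Agent.ZN Cfsg.Agent.Omega.FrameNOFF
open Cfsg.Agent.ZN.ChoiceBase hiding mem_zc
open Cfsg.Agent.Omega.MinPar Cfsg.Agent.Omega.FFThm Cfsg.Agent.Omega.Node.NO3L Cfsg.Agent.Omega.Frame
open Cfsg.Agent.Omega.NOThreeL.Basic Cfsg.Agent.Omega.NOThreeL.Main
open Cfsg.Agent.MinSimple.VModule (le_normalizer_zl zl_le zc_le_zl zc_le mem_zc zl_comm zl_sq le_o2 o2_isPGroup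
  le_normalizer_o2 le_centralizer_zc o2_le)
open Cfsg.Agent.Lib.SL2Mat
open Cfsg.Agent.Omega.NatPair (ap ap_mul ap_one ap_inv_ap ap_ap_inv exists_ap ap_add)
open Cfsg.Agent.Omega.IId (Ind cj_mem cj_mem' e_inj e_one e_inv sg sg_spec sg_eq_iff fac exists_fac exists_trans
  eq_one_of_cent mem_fac ext_fac)
open Cfsg.Agent.Omega.NOThreeL.ATwo (Up e_cm b_eq_zero_iff TvBy phi phi_eq_zero phi_eq_one phi_up phi_of_cent
  phi_conj)
open scoped Pointwise

universe u

variable {G : Type u} [Group G] [Finite G] {S : Sylow 2 G} {P H : Subgroup G} {F : Type} [Field F] {k : ℕ}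

theorem charP_of_two (two : ∀ x : F, x = 0 ∨ x = 1) : CharP F 2 := by
  refine CharTwo.of_one_ne_zero_of_two_eq_zero one_ne_zero ?_
  rcases two 2 with h | h
  · exact h
  · exfalso
    have h1 : (1 : F) + 1 = 1 := by rw [one_add_one_eq_two, h]
    exact one_ne_zero (left_eq_add.1 h1.symm)

namespace FrA

variable {M : NatK F (S : Subgroup G) P (zl (S : Subgroup G) P) ⊥ k} (h : FrA S P H M)
include h

/-- the generator of `Z` -/
theorem exists_gen (two : ∀ x : F, x = 0 ∨ x = 1) : ∃ z ∈ zc (S : Subgroup G), z ≠ 1 ∧ (∀ i, M.e z i = ![1, 0]) ∧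
    ∀ x ∈ zc (S : Subgroup G), x ≠ 1 → x = z := by
  have key : ∀ x ∈ zc (S : Subgroup G), x ≠ 1 → ∀ i, M.e x i = ![1, 0] := by
    intro x hx hx1 i
    have h5 := h.ez hx i
    have h6 : M.e x i 0 = 1 := by
      rcases two (M.e x i 0) with h0 | h0
      · exact absurd (NatPair.ext2 h0 h5) (h.ez_ne hx hx1 i)
      · exact h0
    exact NatPair.ext2 h6 h5
  obtain ⟨z, hz, hz1⟩ := h.exists_z
  refine ⟨z, hz, hz1, key z hz hz1, fun x hx hx1 => ?_⟩
  refine e_inj M (zc_le_zl _ _ hx) (zc_le_zl _ _ hz) (funext fun i => ?_)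
  rw [key x hx hx1 i, key z hz hz1 i]

variable {z : G}

theorem core {T : Subgroup G} (hz : ∀ x ∈ zc (S : Subgroup G), x ≠ 1 → x = z)
    (hT : T ≤ zl (S : Subgroup G) H) (hn : (S : Subgroup G) ≤ normalizer (T : Set G)) (h1 : T ≠ ⊥) : z ∈ T := by
  have : Fact (Nat.Prime 2) := ⟨Nat.prime_two⟩
  have hTp : IsPGroup 2 T := S.isPGroup'.to_le (hT.trans h.US)
  have h2 := Cfsg.Agent.PLocal.OffenderStep.inf_centralizer_ne_bot T (S : Subgroup G) hTp S.isPGroup' hn h1
  obtain ⟨x, hx, hx1⟩ : ∃ x ∈ T ⊓ centralizer ((S : Subgroup G) : Set G), x ≠ 1 := by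
    by_contra hcon
    push Not at hcon
    exact h2 ((eq_bot_iff_forall _).2 hcon)
  rw [mem_inf] at hx
  have h3 : x ∈ zc (S : Subgroup G) := by
    refine mem_zc.2 ⟨h.US (hT hx.1), fun b hb => mem_centralizer_iff.1 hx.2 b hb, ?_⟩
    rw [pow_two]
    exact h.sq x (hT hx.1)
  rw [← hz x h3 hx1]
  exact hx.1

omit h [Finite G] in
theorem mem_CZ' (hz : ∀ x ∈ zc (S : Subgroup G), x ≠ 1 → x = z) {g : G} (hg : g * z = z * g) :
    g ∈ CZ (S : Subgroup G) := by
  refine mem_centralizer_iff.2 fun x hx => ?_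
  by_cases h1 : x = 1
  · rw [h1, one_mul, mul_one]
  · rw [hz x hx h1, hg]

omit h [Finite G] in
theorem gen' (hz : ∀ x ∈ zc (S : Subgroup G), x ≠ 1 → x = z) (L : Subgroup G) (A : Subgroup G)
    (hA : ∀ x ∈ L, x * z * x⁻¹ ∈ A) : zl (S : Subgroup G) L ≤ A := by
  refine iSup_le fun g => ?_
  intro w hw
  have hw' := NoFF.Basic.mem_conj.1 hw
  by_cases h1 : (g : G)⁻¹ * w * g = 1
  · have h2 : w = 1 := by
      calc w = g * ((g : G)⁻¹ * w * g) * (g : G)⁻¹ := by group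
        _ = 1 := by rw [h1]; group
    rw [h2]
    exact one_mem _
  · have h2 := hz _ hw' h1
    have h3 : w = g * z * (g : G)⁻¹ := by rw [← h2]; group
    rw [h3]
    exact hA g g.2

/-- The elements `n i`, `c i` of the `i`-th factor. -/
theorem exists_tv [CharP F 2] (two : ∀ x : F, x = 0 ∨ x = 1) (i : Fin k) {c n : G} (hc : c ∈ zl (S : Subgroup G) P)
    (hce : M.e c = Pi.single i ![1, 0]) (hn : n ∈ zl (S : Subgroup G) P) (hne : M.e n = Pi.single i ![0, 1]) :
    TvBy (zl (S : Subgroup G) H) (phi M i) c n := by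
  intro u hu
  obtain ⟨b, hb⟩ := h.exists_b hu
  have h1 : ∀ j, M.e (u * n * u⁻¹ * n⁻¹) j = ![b j * M.e n j 1, 0] := e_cm (h.UP hu) hn hb
  have hmem : u * n * u⁻¹ * n⁻¹ ∈ zl (S : Subgroup G) P := mul_mem (cj_mem (h.UP hu) hn) (inv_mem hn)
  have h2 : n * u * n⁻¹ = (u * n * u⁻¹ * n⁻¹)⁻¹ * u := by group
  have hphi := phi_up (M := M) (i := i) (h.UP hu) hb
  rw [h2]
  split_ifs with h00
  · have h0 := hphi.1 h00
    have h3 : u * n * u⁻¹ * n⁻¹ = 1 := by
      refine e_inj M hmem (one_mem _) (funext fun j => ?_)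
      rw [h1 j, e_one]
      by_cases hj : j = i
      · rw [hj, h0]
        apply NatPair.ext2 <;> simp
      · rw [hne, Pi.single_eq_of_ne hj]
        apply NatPair.ext2 <;> simp
    rw [h3, inv_one, one_mul]
  · have hb1 : b i = 1 := (two _).resolve_left fun h0 => h00 (hphi.2 h0)
    have h3 : u * n * u⁻¹ * n⁻¹ = c := by
      refine e_inj M hmem hc (funext fun j => ?_)
      rw [h1 j, hce]
      by_cases hj : j = i
      · rw [hj, hb1, hne, Pi.single_eq_same, Pi.single_eq_same]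
        apply NatPair.ext2 <;> simp
      · rw [hne, Pi.single_eq_of_ne hj, Pi.single_eq_of_ne hj]
        apply NatPair.ext2 <;> simp
    rw [h3]
    have hcU : c ∈ zl (S : Subgroup G) H := h.line_le i hc hce
    have h4 := h.sq c hcU
    rw [inv_eq_of_mul_eq_one_left h4]
    exact h.ab c hcU u hu

omit h in
open Classical in
/-- the coordinates as functionals -/
noncomputable def lam (M : NatK F (S : Subgroup G) P (zl (S : Subgroup G) P) ⊥ k) (i : Fin k) (v : G) : ZMod 2 :=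
  if M.e v i 0 = 0 then 0 else 1

/-- the centres are permuted by `S` -/
theorem conj_c (hzm : z ∈ zc (S : Subgroup G)) (hez : ∀ i, M.e z i = ![1, 0]) {c : Fin k → G}
    (hcV : ∀ i, c i ∈ zl (S : Subgroup G) P) (hce : ∀ i, M.e (c i) = Pi.single i ![1, 0]) {s : G}
    (hs : s ∈ (S : Subgroup G)) {i j : Fin k} (hij : cj s (fac M i) = fac M j) : s * c i * s⁻¹ = c j := by
  have hsP := h.SP hs
  have hfac : ∀ i, c i ∈ fac M i := fun i => by
    refine (mem_fac M).2 ⟨hcV i, fun j hj => ?_⟩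
    rw [hce i, Pi.single_eq_of_ne hj]
  have h1 : s * c i * s⁻¹ ∈ fac M j := by
    rw [← hij]
    exact Subgroup.mem_map.2 ⟨c i, hfac i, rfl⟩
  refine ext_fac M h1 (hfac j) ?_
  have hzV : z ∈ zl (S : Subgroup G) P := zc_le_zl _ _ hzm
  have hsz : s * z * s⁻¹ = z := by rw [(mem_zc.1 hzm).2.1 s hs]; group
  -- `d = c i⁻¹ z`
  have h2 : M.e ((c i)⁻¹ * z) i = 0 := by
    rw [M.mul _ (inv_mem (hcV i)) _ hzV, e_inv M (hcV i), Pi.add_apply, Pi.neg_apply, hez, hce, Pi.single_eq_same,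
      neg_add_cancel]
  have h3 := (sg_spec M hsP (mul_mem (inv_mem (hcV i)) hzV) i).2 h2
  rw [(sg_eq_iff M hsP).2 hij] at h3
  have e : s * ((c i)⁻¹ * z) * s⁻¹ = (s * c i * s⁻¹)⁻¹ * z := by
    calc s * ((c i)⁻¹ * z) * s⁻¹ = (s * c i * s⁻¹)⁻¹ * (s * z * s⁻¹) := by group
      _ = _ := by rw [hsz]
  rw [e, M.mul _ (inv_mem (cj_mem hsP (hcV i))) _ hzV, e_inv M (cj_mem hsP (hcV i)), Pi.add_apply, Pi.neg_apply, hez,
    neg_add_eq_zero] at h3
  rw [h3, hce, Pi.single_eq_same]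

theorem gdat [CharP F 2] (two : ∀ x : F, x = 0 ∨ x = 1) (hzm : z ∈ zc (S : Subgroup G))
    (hez : ∀ i, M.e z i = ![1, 0]) (hz : ∀ x ∈ zc (S : Subgroup G), x ≠ 1 → x = z) {c : Fin k → G}
    (hcV : ∀ i, c i ∈ zl (S : Subgroup G) P) (hce : ∀ i, M.e (c i) = Pi.single i ![1, 0]) :
    GDat H (zl (S : Subgroup G) H) (S : Subgroup G) (o2 (CZ (S : Subgroup G))) (zl (S : Subgroup G) P) z
      (phi M) c (lam M) where
  SH := h.SH
  nrm := h.nrm
  ab := h.ab
  sq := h.sq
  zU := zc_le_zl _ _ hzm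
  gen := fun A hA => gen' hz H A hA
  core := fun T hT hn h1 => h.core hz hT hn h1
  add := by
    intro i u hu v hv
    obtain ⟨b, hb⟩ := h.exists_b hu
    obtain ⟨b', hb'⟩ := h.exists_b hv
    have h1 := phi_up (M := M) (i := i) (h.UP hu) hb
    have h2 := phi_up (M := M) (i := i) (h.UP hv) hb'
    have h3 := phi_up (M := M) (i := i) (mul_mem (h.UP hu) (h.UP hv)) (Up.mul (h.UP hv) hb hb')
    rw [Pi.add_apply] at h3
    rcases two (b i) with e1 | e1 <;> rcases two (b' i) with e2 | e2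
    · rw [h1.2 e1, h2.2 e2, h3.2 (by rw [e1, e2, add_zero]), add_zero]
    · rw [h1.2 e1, phi_eq_one.2 fun h0 => one_ne_zero (e2.symm.trans (h2.1 h0)),
        phi_eq_one.2 fun h0 => one_ne_zero (α := F) (by rw [← h3.1 h0, e1, e2, zero_add]), zero_add]
    · rw [h2.2 e2, phi_eq_one.2 fun h0 => one_ne_zero (e1.symm.trans (h1.1 h0)),
        phi_eq_one.2 fun h0 => one_ne_zero (α := F) (by rw [← h3.1 h0, e1, e2, add_zero]), add_zero]
    · rw [phi_eq_one.2 fun h0 => one_ne_zero (e1.symm.trans (h1.1 h0)),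
        phi_eq_one.2 fun h0 => one_ne_zero (e2.symm.trans (h2.1 h0)),
        h3.2 (by rw [e1, e2]; exact CharTwo.add_self_eq_zero 1)]
      decide
  ne := by
    intro i
    obtain ⟨u, hu, b, hub, hb⟩ := h.exists_ne i
    exact ⟨u, hu, fun h0 => hb ((phi_up (M := M) (h.UP hu) hub).1 h0)⟩
  cU := fun i => h.line_le i (hcV i) (hce i)
  c0 := by
    intro i
    refine phi_of_cent (M := M) ?_
    rw [mem_centralizer_iff]
    intro v hv
    exact e_inj M (mul_mem hv (hcV i)) (mul_mem (hcV i) hv) (by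
      rw [M.mul v hv _ (hcV i), M.mul _ (hcV i) v hv, add_comm])
  cV := hcV
  lam1 := by
    intro i
    unfold lam
    rw [e_one]
    exact if_pos rfl
  lamc := by
    intro i j
    unfold lam
    rw [hce j]
    by_cases hij : i = j
    · subst hij
      rw [Pi.single_eq_same, if_pos rfl, if_neg]
      exact one_ne_zero
    · rw [Pi.single_eq_of_ne hij, if_neg hij]
      exact if_pos rfl
  lamm := by
    intro i j v hv
    unfold lam
    rw [M.mul _ (hcV j) v hv, Pi.add_apply, Pi.add_apply]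
    rcases two (M.e (c j) i 0) with e1 | e1 <;> rcases two (M.e v i 0) with e2 | e2 <;> rw [e1, e2]
    · simp
    · simp
    · simp
    · have h11 : (1 : F) + 1 = 0 := CharTwo.add_self_eq_zero 1
      rw [h11, if_pos rfl, if_neg one_ne_zero]
      decide
  tr := by
    intro i
    obtain ⟨n, hn, hne⟩ := M.surj (Pi.single i ![0, 1])
    exact ⟨n, h.SH (h.VS hn), h.D.low P h.E.par hn, h.exists_tv two i (hcV i) (hce i) hn hne⟩
  QP := by
    intro x hx
    obtain ⟨n, hn⟩ := o2_isPGroup (CZ (S : Subgroup G)) ⟨x, hx⟩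
    exact ⟨n, congrArg Subtype.val hn⟩
  Qn := fun x _ hxz y hy => (mem_normalizer_iff.1 (le_normalizer_o2 _ (mem_CZ' hz hxz)) y).1 hy
  trans := by
    intro i j
    obtain ⟨s, hs, h1⟩ := exists_trans M h.SP i j
    exact ⟨s, hs, fun u _ => phi_conj h1, h.conj_c hzm hez hcV hce hs h1⟩

end FrA

/-- **`q = 2`: `U_H` induces everything.** -/
theorem ind_two (hc : IsCharacteristicTwoType G) (D : DataZ (S : Subgroup G)) (h : PairA (S : Subgroup G) P H)
    (two : ∀ x : F, x = 0 ∨ x = 1) (hk : 0 < k) (M : NatK F (S : Subgroup G) P (zl (S : Subgroup G) P) ⊥ k) :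
    Ind M (zl (S : Subgroup G) H) Set.univ := by
  have hchar : CharP F 2 := charP_of_two two
  have hne : (S : Subgroup G) ≠ ⊥ := by
    intro h0
    refine h.ne' fun u _ => mem_centralizer_iff.2 fun v hv => ?_
    have h1 := IsParS.zl_le_S hc h.par hv
    rw [h0, mem_bot] at h1
    rw [h1, one_mul, mul_one]
  have f : FrA S P H M := ⟨hc, hne, D, h, hk⟩
  obtain ⟨z, hzm, hz1, hez, hz⟩ := f.exists_gen two
  choose c hcV hce using fun i : Fin k => M.surj (Pi.single i ![1, 0])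
  have g := f.gdat two hzm hez hz hcV hce
  refine ⟨fun a ha => ?_, fun b _ => ?_⟩
  · obtain ⟨b, hb⟩ := f.exists_b ha
    exact ⟨b, fun i hi => absurd (Set.mem_univ i) hi, hb⟩
  · classical
    obtain ⟨u, hu, hub⟩ := g.exists_apply fun i => if b i = 0 then 0 else 1
    refine ⟨u, hu, ?_⟩
    obtain ⟨β, hβ⟩ := f.exists_b hu
    have : β = b := by
      funext i
      have h1 := phi_up (M := M) (i := i) (f.UP hu) hβ
      have h2 := hub i
      rcases two (b i) with h3 | h3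
      · rw [if_pos h3] at h2
        rw [h1.1 h2, h3]
      · rw [if_neg (by rw [h3]; exact one_ne_zero)] at h2
        rcases two (β i) with h4 | h4
        · rw [h1.2 h4] at h2
          exact absurd h2 (by decide)
        · rw [h4, h3]
    rw [← this]
    exact hβ

end Cfsg.Agent.Omega.NOThreeL.AFour

end
end

-- part: Mrg/Omega/ThmC/TwoOf
section
set_option linter.all false
open scoped Cfsg.Agent.FastGrp


/-!
# THEOREM C (bb OMEGA 15545), case `q = 2`: DATA (W) from LEMMA Z (bb OMEGA 14650 (B))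

`Blk.ML l = [Ω₁ Z(Q), x l]`; `Blk.dat : Blk S P Q V x z → Dat S Q ML x zl`.
-/

set_option autoImplicit false

namespace Cfsg.Agent.Omega.IITwo.Three

open Subgroup Cfsg Cfsg.Agent.ZN Cfsg.Agent.MinSimple.VModule
open Cfsg.Agent.Omega.IITwo.Count (Three conj_mem conj_mem')
open scoped IsMulCommutative

universe u

variable {G : Type u} [Group G]

namespace Blk

variable {ι : Type*} {S P Q : Subgroup G} {V : ι → Subgroup G} {x : ι → G} {z : G}

/-- `M l = [Ω₁ Z(Q), x l]`. -/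
def ML (B : Blk S P Q V x z) (l : ι) : Subgroup G := (B.nh l).range.map (zc Q).subtype

variable (B : Blk S P Q V x z)
include B

theorem mem_ML {l : ι} {v : G} : v ∈ B.ML l ↔ ∃ h : v ∈ zc Q, B.nh l ⟨v, h⟩ = ⟨v, h⟩ := by
  constructor
  · rintro ⟨_, ⟨a, rfl⟩, rfl⟩
    exact ⟨(B.nh l a).2, B.nh_idem l a⟩
  · rintro ⟨h, hv⟩
    exact ⟨⟨v, h⟩, ⟨⟨v, h⟩, hv⟩, rfl⟩

theorem V_le_ML (l : ι) : V l ≤ B.ML l := fun _ hv => B.mem_ML.mpr ⟨B.VA l hv, B.nh_self hv⟩

theorem ML_le (l : ι) : B.ML l ≤ zc Q := map_subtype_le _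

theorem conj_ML [Finite G] {g : G} (hg : g ∈ P) {l m : ι}
    (h : (V l).map (MulAut.conj g).toMonoidHom = V m) {v : G} (hv : v ∈ B.ML l) :
    g * v * g⁻¹ ∈ B.ML m := by
  obtain ⟨a, ⟨b, rfl⟩, rfl⟩ := hv
  exact ⟨B.cj ⟨g, hg⟩ (B.nh l b), ⟨B.cj ⟨g, hg⟩ b, (B.cj_nh (g := ⟨g, hg⟩) h b).symm⟩, rfl⟩

theorem zc_le_iSup_ML [Finite G] [Finite ι] : zc Q ≤ ⨆ l, B.ML l := by
  classical
  have := Fintype.ofFinite ι
  intro a ha
  have h1 := congrArg Subtype.val (B.prod_nh ⟨a, ha⟩)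
  have h2 : (⟨a, ha⟩ : zc Q) ∈ (⨆ l, B.ML l).comap (zc Q).subtype := by
    rw [← B.prod_nh ⟨a, ha⟩]
    refine Subgroup.prod_mem _ fun l _ => ?_
    rw [mem_comap]
    exact (le_iSup B.ML l) ⟨_, ⟨_, rfl⟩, rfl⟩
  exact h2

end Blk

/-- **DATA (W) from LEMMA Z.** -/
theorem Blk.dat [Finite G] {S : Sylow 2 G} {P Q : Subgroup G} {ι : Type} [Finite ι]
    {V : ι → Subgroup G} {x : ι → G} {z : G} (B : Blk (S : Subgroup G) P Q V x z)
    (hSC : (S : Subgroup G) ⊓ centralizer (zc Q : Set G) ≤ Q)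
    (hCQ : centralizer (Q : Set G) ≤ Q) : ThmC.Dat S Q B.ML x B.zl where
  QS := B.QS
  SC := hSC
  CQ := hCQ
  xQ := fun l => B.PQ (B.xP l)
  le := B.ML_le
  sup := B.zc_le_iSup_ML
  nor := fun l v hv => B.conj_ML (B.xP l) (Blk.map_of_mem_norm (B.xn l)) hv
  three := by
    intro l v hv
    obtain ⟨h, hv⟩ := B.mem_ML.mp hv
    rw [B.nh_apply] at hv
    have h1 : v = (x l * v * (x l)⁻¹) * (x l * (x l * v * (x l)⁻¹) * (x l)⁻¹) :=
      (congrArg Subtype.val hv).symm
    have h2 : v * v = 1 := congrArg Subtype.val (Blk.sq_zc (⟨v, h⟩ : zc Q))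
    rw [mul_assoc, ← h1, h2]
  triv := by
    intro l m hlm v hv
    obtain ⟨h, hv⟩ := B.mem_ML.mp hv
    have h1 : B.nh l ⟨v, h⟩ = 1 := by rw [← hv]; exact B.nh_nh hlm _
    have h2 := B.nh_eq_one.mp h1
    change x l * v = v * x l at h2
    rw [h2]; group
  perm := by
    intro s hs l
    obtain ⟨m, hm⟩ := B.perm s (B.SP hs) l
    refine ⟨m, fun v hv => B.conj_ML (B.SP hs) hm hv, ?_⟩
    rcases B.cj_conj_x (g := ⟨s, B.SP hs⟩) hm with h | h
    · left
      intro v hv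
      exact congrArg (fun f : zc Q →* zc Q => ((f ⟨v, hv⟩ : zc Q) : G)) h
    · right
      intro v hv
      have h1 := congrArg (fun f : zc Q →* zc Q => ((f ⟨v, hv⟩ : zc Q) : G)) h
      change (s * x l * s⁻¹) * v * (s * x l * s⁻¹)⁻¹ = (x m)⁻¹ * v * (x m)⁻¹⁻¹ at h1
      rwa [inv_inv] at h1
  trans := by
    intro l m
    obtain ⟨s, hs, hsV⟩ := B.tr l m
    exact ⟨s, hs, fun v hv => B.conj_ML (B.SP hs) hsV hv⟩
  zm := fun l => B.V_le_ML l (B.zl_mem_V l)
  z1 := fun l => B.zl_ne_one l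
  zfix := by
    intro l v hv hfix
    obtain ⟨h, hv'⟩ := B.mem_ML.mp hv
    rcases B.fixed hv' (fun t ht htV => by
      have h1 := hfix t ht (fun w hw => B.conj_ML (B.SP ht) (Blk.map_of_mem_norm htV) hw)
      change t * v = v * t
      calc t * v = t * v * t⁻¹ * t := by group
        _ = v * t := by rw [h1]) with h1 | h1
    · exact Or.inl (congrArg Subtype.val h1)
    · exact Or.inr (congrArg Subtype.val h1)

end Cfsg.Agent.Omega.IITwo.Three

/-! ### The instance from natural factors over the field of order 2 -/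

namespace Cfsg.Agent.Omega.ThmC.TwoOf

open Subgroup Cfsg Cfsg.Agent.ZN Cfsg.Agent.ZN.ChoiceBase
open Cfsg.Agent.MinSimple.VModule hiding le_normalizer_zl
open Cfsg.Agent.Omega.MinPar Cfsg.Agent.Omega.FFThm Cfsg.Agent.Omega.IId
open Cfsg.Agent.Lib.SL2Mat
open Cfsg.Agent.Omega.NatPair (ap ap_one)
open Cfsg.Agent.Omega.IITwo.Three (Blk le_centralizer_of_odd)
open Cfsg.Agent.Omega.IITwo.Count (Three)
open Cfsg.Agent.Omega.IITwo

universe u

variable {G : Type u} [Group G]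

/-- `S ∩ C` has odd index in `C` for `C ⊴ P`, `S ≤ P` of odd index. -/
theorem not_dvd_relIndex_inf [Finite G] {S P C : Subgroup G} (hSP : S ≤ P) (hCP : C ≤ P)
    (hPC : P ≤ normalizer (C : Set G)) (h : ¬ 2 ∣ S.relIndex P) : ¬ 2 ∣ (S ⊓ C).relIndex C := by
  intro h2
  apply h
  have h1 : Nat.card (S ⊔ C : Subgroup G) * Nat.card (S ⊓ C : Subgroup G) = Nat.card S * Nat.card C := by
    rw [← Lib.ProductSet.card_mul_card_inf S C, ← coe_mul_of_left_le_normalizer_right _ _ (hSP.trans hPC)]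
    rfl
  have h3 := Lib.SylowNormalInf.card_mul_relIndex (S ⊓ C) C inf_le_right
  have h4 := Lib.SylowNormalInf.card_mul_relIndex S (S ⊔ C) le_sup_left
  have h5 : S.relIndex (S ⊔ C) = (S ⊓ C).relIndex C := by
    have hS : 0 < Nat.card S := Nat.card_pos
    have hI : 0 < Nat.card (S ⊓ C : Subgroup G) := Nat.card_pos
    refine Nat.eq_of_mul_eq_mul_left (Nat.mul_pos hS hI) ?_
    calc Nat.card S * Nat.card (S ⊓ C : Subgroup G) * S.relIndex (S ⊔ C)
        = (Nat.card S * S.relIndex (S ⊔ C)) * Nat.card (S ⊓ C : Subgroup G) := by ring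
      _ = Nat.card S * (Nat.card (S ⊓ C : Subgroup G) * (S ⊓ C).relIndex C) := by rw [h4, h1, h3]
      _ = _ := by ring
  rw [← h5] at h2
  exact h2.trans (Dvd.intro _ (relIndex_mul_relIndex _ _ _ le_sup_left (sup_le hSP hCP)))

theorem two_cases {F : Type} [Field F] (hF : Nat.card F = 2) (a : F) : a = 0 ∨ a = 1 := by
  classical
  have hfin : Finite F := Nat.finite_of_card_ne_zero (by omega)
  have := Fintype.ofFinite F
  by_contra hcon
  push Not at hcon
  have h1 : ({0, 1, a} : Finset F).card = 3 := by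
    rw [Finset.card_insert_of_notMem, Finset.card_insert_of_notMem, Finset.card_singleton]
    · simpa using fun h => hcon.2 h.symm
    · simp only [Finset.mem_insert, Finset.mem_singleton, not_or]
      exact ⟨zero_ne_one, fun h => hcon.1 h.symm⟩
  have h2 := Finset.card_le_univ ({0, 1, a} : Finset F)
  have h3 : Fintype.card F = 2 := by rw [← Nat.card_eq_fintype_card]; exact hF
  omega

variable {F : Type} [Field F] {k : ℕ}

section

variable {S P : Subgroup G} (M : NatK F S P (zl S P) ⊥ k)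

theorem part_le_iSup (s : Finset (Fin k)) : part M (s : Set (Fin k)) ≤ ⨆ l, fac M l := by
  classical
  induction s using Finset.induction_on with
  | empty => rw [Finset.coe_empty, part_empty]; exact bot_le
  | insert i s _ ih =>
    intro v hv
    obtain ⟨a, ha, h1, h2⟩ := exists_component M hv.1 i
    have h3 : a⁻¹ * v ∈ part M (s : Set (Fin k)) := by
      refine ⟨h2.1, fun j hj => ?_⟩
      by_cases hji : j = i
      · exact h2.2 j (fun h => h hji)
      · rw [M.mul _ (inv_mem ha.1) _ hv.1, e_inv M ha.1, Pi.add_apply, Pi.neg_apply,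
          ha.2 j hji, hv.2 j (fun h => by
            rw [Finset.coe_insert, Set.mem_insert_iff] at h
            rcases h with h | h
            · exact hji h
            · exact hj h), neg_zero, add_zero]
    have h4 : v = a * (a⁻¹ * v) := by group
    rw [h4]
    exact mul_mem ((le_iSup (fac M) i) ha) (ih h3)

theorem iSup_fac : ⨆ l, fac M l = zl S P := by
  refine le_antisymm (iSup_le fun l => fac_le M l) ?_
  have h := part_le_iSup M Finset.univ
  rwa [Finset.coe_univ, part_univ] at h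

/-- the second coordinates of an `S`-fixed vector vanish. -/
theorem e_one_eq_zero {v : G} (hv : v ∈ zl S P) (hS : ∀ s ∈ S, s * v = v * s) (i : Fin k) :
    M.e v i 1 = 0 := by
  obtain ⟨t, ht, h1⟩ := M.unip fun _ => 1
  have h2 : t * v * t⁻¹ = v := by rw [hS t ht]; group
  have h3 := h1.1 v hv i
  rw [h2] at h3
  have h4 := congrFun h3 0
  rw [NatPair.ap_zero'] at h4
  simpa using h4

include M in
/-- an `S`-fixed vector `≠ 1` of `V` is unique for `|F| = 2`. -/
theorem fixed_unique (hF : Nat.card F = 2) {v w : G} (hv : v ∈ zl S P) (hw : w ∈ zl S P) (hv1 : v ≠ 1)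
    (hw1 : w ≠ 1) (hvS : ∀ s ∈ S, s * v = v * s) (hwS : ∀ s ∈ S, s * w = w * s) : v = w := by
  refine e_inj M hv hw (funext fun i => ?_)
  have key : ∀ u ∈ zl S P, u ≠ 1 → (∀ s ∈ S, s * u = u * s) → M.e u i 0 = 1 := by
    intro u hu hu1 huS
    rcases two_cases hF (M.e u i 0) with h | h
    · exfalso
      apply hu1
      refine eq_one_of_cent M hu huS (i := i) ?_
      apply NatPair.ext2
      · rw [h]; rfl
      · rw [e_one_eq_zero M hu huS i]; rfl
    · exact h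
  apply NatPair.ext2
  · rw [key v hv hv1 hvS, key w hw hw1 hwS]
  · rw [e_one_eq_zero M hv hvS, e_one_eq_zero M hw hwS]

open Classical in
/-- an element of order 3 on the factor `l`. -/
theorem exists_three [CharP F 2] (l : Fin k) : ∃ g ∈ grp M {l}, Three (fac M l) g := by
  have hdet : (0 : F) * 1 - 1 * 1 = 1 := by
    rw [zero_mul, one_mul, zero_sub]
    exact CharTwo.neg_eq 1
  obtain ⟨g, hg, h1⟩ := M.lift (Function.update 1 l (mk 0 1 1 1 hdet))
  have hg' : g ∈ grp M {l} := ⟨hg, _, h1, fun j hj => Function.update_of_ne hj _ _⟩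
  refine ⟨g, hg', fun v hv => ?_⟩
  have hn := grp_normalizes M {l} {l} hg'
  have h2 : g * v * g⁻¹ ∈ fac M l := (mem_normalizer_iff.1 hn v).1 hv
  have h3 : g * (g * v * g⁻¹) * g⁻¹ ∈ fac M l := (mem_normalizer_iff.1 hn _).1 h2
  rw [← fac_eq_one M (mul_mem (mul_mem hv h2) h3), M.mul _ (mul_mem hv.1 h2.1) _ h3.1,
    M.mul _ hv.1 _ h2.1, Pi.add_apply, Pi.add_apply, h1.1 _ h2.1 l, h1.1 _ hv.1 l, Function.update_self]
  apply NatPair.ext2
  · simp only [Pi.add_apply, Pi.zero_apply, NatPair.ap_zero', NatPair.ap_one', mk_00, mk_01, mk_10, mk_11]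
    have h4 : (2 : F) = 0 := CharTwo.two_eq_zero
    linear_combination (M.e v l 0 + M.e v l 1) * h4
  · simp only [Pi.add_apply, Pi.zero_apply, NatPair.ap_zero', NatPair.ap_one', mk_00, mk_01, mk_10, mk_11]
    have h4 : (2 : F) = 0 := CharTwo.two_eq_zero
    linear_combination (M.e v l 0 + 2 * M.e v l 1) * h4

end

/-- `C_G(O₂(P)) ≤ O₂(P)`. -/
theorem centralizer_o2_le [Finite G] (hc : IsCharacteristicTwoType G) (S : Sylow 2 G) {P : Subgroup G}
    (hP : IsParS (S : Subgroup G) P) : centralizer (o2 P : Set G) ≤ o2 P := by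
  have h1 := MinSimple.Basic.char2_normalizer hc (o2_isPGroup P) hP.o2_ne
  have h2 : o2 (normalizer (o2 P : Set G)) ≤ o2 P :=
    o2_le_o2 S hP.le (le_normalizer_o2 P)
  have h3 : centralizer (o2 P : Set G) ≤ normalizer (o2 P : Set G) := centralizer_le_normalizer _
  exact (le_inf h3 (centralizer_le h2)).trans (h1.trans h2)

/-- **The instance `Blk`** from natural factors over the field of order 2. -/
theorem exists_blk [Finite G] [CharP F 2] (hF : Nat.card F = 2) (hc : IsCharacteristicTwoType G)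
    {S : Sylow 2 G} {P : Subgroup G} (hP : IsParS (S : Subgroup G) P)
    (M : NatK F (S : Subgroup G) P (zl (S : Subgroup G) P) ⊥ k) (hk : 0 < k) :
    ∃ (x : Fin k → G) (z : G), Blk (S : Subgroup G) P (o2 P) (fac M) x z ∧
      ∀ l, x l ∈ grp M {l} := by
  classical
  have hSyl := MinSimple.Basic.not_dvd_relIndex S hP.le
  have hcP := IsLoc.char2 S hc hP.isLoc
  have hVA : zl (S : Subgroup G) P ≤ zc (o2 P) := zl_le_zc hP.le S.isPGroup' hSyl hcP
  have hQS : o2 P ≤ (S : Subgroup G) := o2_le_of_sylow S.isPGroup' hSyl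
  choose x hx hx3 using exists_three M
  -- the fixed vector
  have hV2 : IsPGroup 2 (zl (S : Subgroup G) P) := by
    rintro ⟨a, ha⟩
    exact ⟨1, Subtype.ext (by simpa using zc_sq (o2 P) a (hVA ha))⟩
  have hV1 : zl (S : Subgroup G) P ≠ ⊥ := by
    intro h
    apply fac_ne_bot M ⟨0, hk⟩
    rw [eq_bot_iff, ← h]
    exact fac_le M _
  obtain ⟨z, hz, hz1, hzf⟩ := Half.exists_fixed hV2 hV1 S.isPGroup'
    (hP.le.trans (MinSimple.VModule.le_normalizer_zl (S : Subgroup G) P))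
  have hzS : ∀ s ∈ (S : Subgroup G), s * z = z * s := fun s hs => by
    calc s * z = s * z * s⁻¹ * s := by group
      _ = z * s := by rw [hzf s hs]
  have hfix : ∀ a ∈ zc (o2 P), (∀ s ∈ (S : Subgroup G), s * a = a * s) → a = 1 ∨ a = z := by
    intro a ha haS
    by_cases ha1 : a = 1
    · exact Or.inl ha1
    · right
      have h1 : a ∈ zc (S : Subgroup G) := mem_zc.mpr ⟨hQS (zc_le _ ha), haS, zc_sq _ a ha⟩
      exact fixed_unique M hF (zc_le_zl _ _ h1) hz ha1 hz1 haS hzS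
  refine ⟨x, z, ?_, hx⟩
  refine
    { SP := hP.le
      S2 := S.isPGroup'
      QS := hQS
      PQ := MinSimple.VModule.le_normalizer_o2 P
      VA := fun l => (fac_le M l).trans hVA
      four := fun l => by rw [card_fac, hF]; norm_num
      perm := fun g hg l => ⟨_, conj_fac M hg l⟩
      inj := fun l m h => fac_inj M h
      tr := fun l m => exists_trans M hP.le l m
      xP := fun l => (hx l).1
      xn := fun l => grp_normalizes M {l} {l} (hx l)
      x3 := hx3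
      xc := fun l i hil v hv => grp_comm M (Set.disjoint_singleton.2 (Ne.symm hil)) (hx l) hv
      ker := ?_
      fix := hfix
      zS := hzS
      z1 := hz1
      zV := by rw [iSup_fac]; exact hz }
  intro g hg hgV a ha
  have h1 : P ⊓ centralizer (zl (S : Subgroup G) P : Set G) ≤ centralizer (zc (o2 P) : Set G) := by
    refine le_centralizer_of_odd (S := S) (z := z) hP.le S.isPGroup' (MinSimple.VModule.le_normalizer_o2 P)
      (le_normalizer_centralizer_zl _ _) inf_le_left ?_ hfix ?_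
    · have h2 := not_dvd_relIndex_inf hP.le (C := P ⊓ centralizer (zl (S : Subgroup G) P : Set G))
        inf_le_left (le_normalizer_centralizer_zl _ _) hSyl
      have h3 : (S : Subgroup G) ⊓ (P ⊓ centralizer (zl (S : Subgroup G) P : Set G)) = o2 P := by
        rw [← inf_assoc, inf_eq_left.mpr hP.le]
        exact inf_centralizer_zl hP.toIsMinPar S.isPGroup' hSyl hcP hP.not_zc
      rwa [h3] at h2
    · intro c hc'
      exact (mem_centralizer_iff.mp hc'.2 z hz).symm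
  have h2 : g ∈ centralizer (zl (S : Subgroup G) P : Set G) := by
    rw [← iSup_fac M, mem_centralizer_iff]
    have h3 : ⨆ l, fac M l ≤ centralizer ({g} : Set G) := by
      refine iSup_le fun l v hv => mem_centralizer_iff.mpr ?_
      rintro _ rfl
      exact hgV l v hv
    intro v hv
    exact (mem_centralizer_iff.mp (h3 hv) g rfl).symm
  exact (mem_centralizer_iff.mp (h1 ⟨hg, h2⟩) a ha).symm

/-- **THEOREM C for `q = 2`** from `Stmt`. -/
theorem cc [Finite G] [CharP F 2] (hStmt : Stmt G) (hc : IsCharacteristicTwoType G)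
    {S : Sylow 2 G} {P : Subgroup G} (hP : IsParS (S : Subgroup G) P)
    (M : NatK F (S : Subgroup G) P (zl (S : Subgroup G) P) ⊥ k) (hF : Nat.card F = 2) : CC M := by
  classical
  intro i l hli
  obtain ⟨x, z, B, hx⟩ := exists_blk hF hc hP M i.pos
  have hSyl := MinSimple.Basic.not_dvd_relIndex S hP.le
  have hcP := IsLoc.char2 S hc hP.isLoc
  have hVA : zl (S : Subgroup G) P ≤ zc (o2 P) := zl_le_zc hP.le S.isPGroup' hSyl hcP
  have hSC : (S : Subgroup G) ⊓ centralizer (zc (o2 P) : Set G) ≤ o2 P :=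
    (inf_le_inf_left _ (centralizer_le hVA)).trans
      (inf_centralizer_zl hP.toIsMinPar S.isPGroup' hSyl hcP hP.not_zc).le
  have h1 := hStmt S (o2 P) (Fin k) inferInstance B.ML x B.zl (B.dat hSC (centralizer_o2_le hc S hP))
    i l (Ne.symm hli)
  -- `line M i = {1, zl i}`
  have hzl : B.zl i ∈ line M i := by
    rw [mem_line]
    refine ⟨B.zl_mem_V i, ?_⟩
    obtain ⟨t, ht, h2⟩ := M.unip fun _ => 1
    have htn : t ∈ normalizer (fac M i : Set G) :=
      grp_normalizes M Set.univ {i} ⟨hP.le ht, _, h2, fun j hj => (hj (Set.mem_univ j)).elim⟩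
    have h3 : t * B.zl i * t⁻¹ = B.zl i := by rw [B.zl_cent ht htn]; group
    have h4 := h2.1 _ (B.zl_mem_V i).1 i
    rw [h3] at h4
    have h5 := congrFun h4 0
    rw [NatPair.ap_zero'] at h5
    simpa using h5
  have hline : ∀ v ∈ line M i, v = 1 ∨ v = B.zl i := by
    intro v hv
    have hv' := (mem_line M).1 hv
    have hz' := (mem_line M).1 hzl
    have hz0 : M.e (B.zl i) i 0 = 1 := by
      rcases two_cases hF (M.e (B.zl i) i 0) with h | h
      · exfalso
        apply B.zl_ne_one i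
        rw [← fac_eq_one M hz'.1]
        apply NatPair.ext2
        · rw [h]; rfl
        · rw [hz'.2]; rfl
      · exact h
    rcases two_cases hF (M.e v i 0) with h | h
    · left
      rw [← fac_eq_one M hv'.1]
      apply NatPair.ext2
      · rw [h]; rfl
      · rw [hv'.2]; rfl
    · right
      refine ext_fac M hv'.1 hz'.1 ?_
      apply NatPair.ext2
      · rw [h, hz0]
      · rw [hv'.2, hz'.2]
  have hnorm : normalizer (line M i : Set G) = centralizer ({B.zl i} : Set G) := by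
    apply le_antisymm
    · intro g hg
      have h2 : g * B.zl i * g⁻¹ ∈ line M i := (mem_normalizer_iff.mp hg _).mp hzl
      have h3 : g * B.zl i * g⁻¹ = B.zl i := by
        refine (hline _ h2).resolve_left fun h => B.zl_ne_one i ?_
        have h4 : B.zl i = g⁻¹ * (g * B.zl i * g⁻¹) * g := by group
        rw [h4, h]; group
      refine mem_centralizer_iff.mpr ?_
      rintro _ rfl
      calc B.zl i * g = g * B.zl i * g⁻¹ * g := by rw [h3]
        _ = g * B.zl i := by group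
    · intro g hg
      refine Count.mem_norm fun v hv => ?_
      rcases hline v hv with h | h
      · rw [h]
        have : g * 1 * g⁻¹ = 1 := by group
        rw [this]; exact one_mem _
      · have h2 : g * v * g⁻¹ = B.zl i := by
          rw [h, ← mem_centralizer_iff.mp hg _ rfl]; group
        rw [h2]; exact hzl
  rw [hnorm]
  set W := o2 (centralizer ({B.zl i} : Set G)) with hW
  -- `a = zl l` and `b = a^(x l)`
  have ha : B.zl l ∈ centralizer (W : Set G) :=
    mem_centralizer_iff.mpr fun w hw => (mem_centralizer_iff.mp (h1 hw) _ rfl).symm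
  have hxC : x l ∈ centralizer ({B.zl i} : Set G) := by
    refine mem_centralizer_iff.mpr ?_
    rintro _ rfl
    exact (B.xc l i (Ne.symm hli) _ (B.zl_mem_V i)).symm
  have hxW : x l ∈ normalizer (W : Set G) := MinSimple.VModule.le_normalizer_o2 _ hxC
  have hb : x l * B.zl l * (x l)⁻¹ ∈ centralizer (W : Set G) := by
    refine mem_centralizer_iff.mpr fun w hw => ?_
    have h2 : (x l)⁻¹ * w * x l ∈ W := Count.conj_mem' hxW hw
    have h3 := mem_centralizer_iff.mp ha _ h2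
    calc w * (x l * B.zl l * (x l)⁻¹) = x l * (((x l)⁻¹ * w * x l) * B.zl l) * (x l)⁻¹ := by group
      _ = x l * (B.zl l * ((x l)⁻¹ * w * x l)) * (x l)⁻¹ := by rw [h3]
      _ = x l * B.zl l * (x l)⁻¹ * w := by group
  obtain ⟨hb1, hab, -, -⟩ := IITwo.Three.three_cycle (fun u hu => B.sq hu)
    (fun u hu v hv => B.comm hu hv) (B.xn l) (B.x3 l) (B.zl_mem_V l) (B.zl_ne_one l)
  intro v hv
  rcases IITwo.Three.four_all (B.four l) (fun u hu => B.sq hu) (B.zl_mem_V l)
    (Count.conj_mem (B.xn l) (B.zl_mem_V l)) (B.zl_ne_one l) hb1 hab v hv with h | h | h | h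
  · rw [h]; exact one_mem _
  · rw [h]; exact ha
  · rw [h]; exact hb
  · rw [h]; exact mul_mem ha hb

end Cfsg.Agent.Omega.ThmC.TwoOf
end
end
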