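import Cfsg.Agent.Mrg.Omega.IId.ThmCD.Blk_m3
import Cfsg.Agent.Omega.EH3.CoTwo.Stab_m3
import Cfsg.Agent.Omega.NO3S.PointTI_m3
import Cfsg.Agent.Mrg.Omega.NOThreeL.RA.End_mg_m3
import Cfsg.Agent.Mrg.Omega.NO3b.Chain.Group_m3
import Cfsg.Agent.Mrg.Omega.NOThreeL.RRed.Blk.Tr_m3
import Cfsg.Agent.Mrg.Omega.NOThreeL.RTools.Two_m3
import Cfsg.Agent.Mrg.Omega.NO3S.Level.Lim_m3
import Cfsg.Agent.Mrg.Omega.OM.PG.NoRad_m3
import Cfsg.Agent.Mrg.Omega.NO3S.Act.PasCore_mg_m3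
import Cfsg.Agent.Mrg.Omega.NOThreeL.RWide.ParA.One
import Cfsg.Agent.Mrg.Omega.NO3S.EThree.ExactB_m3
import Cfsg.Agent.Mrg.Omega.IId.SymWrD.Zero_m3
import Cfsg.Agent.Mrg.Omega.NOThreeL.RRed.Ex.Pf_m3
import Cfsg.Agent.Mrg.Omega.VP
import Cfsg.Agent.Mrg.Omega.NOThreeL.RLow.RC.Star_m3
import Cfsg.Agent.Mrg.Omega.NO3S.EThree.Qt_m3
import Cfsg.Agent.Mrg.Omega.FFBr.Final
import Cfsg.Agent.MinSimple.CaseD8
import Cfsg.Agent.FastGrp
import Cfsg.Agent.Prune
set_option linter.all false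

section
prune_inst 0x7ff0fef98fbdbfffdfff7e7ffffadffc39d0dfffffffff4bffecebff5fff078e39c5abad1df0d0ff4ff660bc30b87843f9ffc33fea6bdc7ffffd5ff45ffbee0fb5e7bd8971de8cb40fbc0fff63f07f8e7f3fffffffffffffffffffffffffffbefffdffffffff

-- part: Mrg/Omega/NOThreeL/RA/FromNat
section
prune_inst 0x30102104040002000018000050003c42b2000000000800002040000005800c608541282080200100183008440031006002cc00400000000000000800011c0481002000001100a100020008000004000000000000000000000000000000000000200000000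
set_option linter.all false
open scoped Cfsg.Agent.FastGrp


/-!
# NO-3L, `R ∩ (A)`, one natural factor, `|Z/E| = q` (#19087): `HypQ` from the FF theorem

`M : NatK F S P V_P (cv S P) 1` and `hl : ∀ x, ∃ z ∈ Z, M.e z 0 = (x, 0)` (`|Z/E| = |F|`, no field automorphisms).

* `exists_up_of_norm` : an additive map of `F²` which fixes the line `{(x, 0)}` pointwise, normalises `SL₂(F)` and has
  2-power order is an `up b`;
* `act_S` : every `s ∈ S` acts as `up b` on `V / C_V(O²(P))`; `cv_eq` : `C_V(O²(P)) = C_Z(P)`; `line_iff`;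
* **`hypQ`**, **`exists_hypQ`** : `V`, `U_H` not commuting implies `HypQ (fun g => M.e g 0) S P H₁` for some long `H₁ ≤ H`;
* `hl_of_card` : the condition on `Z` from `|F| ≤ |Z : C_Z(P)|`.
-/

set_option autoImplicit false
set_option linter.unusedSectionVars false

namespace Cfsg.Agent.Omega.NOThreeL.RA

open Subgroup Cfsg Cfsg.Agent.Omega.MinPar
open Cfsg.Agent.ZN (zc zl o2)
open Cfsg.Agent.Omega.Frame Cfsg.Agent.Omega.FrameNOFF
open Cfsg.Agent.Omega.Node.NO3L Cfsg.Agent.Omega.NOThreeL.Basic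
open Cfsg.Agent.Omega.NoFF.Basic (conj_conj mem_conj conj_le_iff conj_le_centralizer comm_symm comm_mono)
open Cfsg.Agent.Omega.NOThreeL.Pair (conj_eq_of_mem conj_le_normalizer zl_abel)
open Cfsg.Agent.MinSimple.VModule (zl_le zc_le_zl le_normalizer_zl zc_le o2_isPGroup le_normalizer_o2 le_o2
  normalizer_le_normalizer_zc mem_zc le_normalizer_oddGen oddGen oddGen_le)
open Cfsg.Agent.Omega.NOThreeL (mem_normalizer_of_conj_eq le_normalizer_of mem_sup_of_comm)
open Cfsg.Agent.Omega.NOThreeL.RTools (conj_mem_of_mem isLong)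
open Cfsg.Agent.Omega.NOThreeL.AOne (Act ap_up_0 ap_lo_1)
open Cfsg.Agent.Omega.NOThreeL.RFour (mem_centralizer_of_act co)
open Cfsg.Agent.Omega.FFThm (NatK ActsSL Off)
open Cfsg.Agent.Omega.FrameFF (cv)
open Cfsg.Agent.Lib.SL2Mat
open Cfsg.Agent.Omega.NatPair (ap ap_mul ap_one ap_inv_ap)
open scoped Pointwise commutatorElement

universe u

section lin

variable {F : Type} [Field F]

theorem ap_zero' (B : Matrix.SpecialLinearGroup (Fin 2) F) (x : Fin 2 → F) :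
    ap B x 0 = ent B 0 0 * x 0 + ent B 0 1 * x 1 := by
  rw [NatPair.ap_eq_mulVec, Matrix.mulVec, dotProduct, Fin.sum_univ_two]
  rfl

theorem ap_one' (B : Matrix.SpecialLinearGroup (Fin 2) F) (x : Fin 2 → F) :
    ap B x 1 = ent B 1 0 * x 0 + ent B 1 1 * x 1 := by
  rw [NatPair.ap_eq_mulVec, Matrix.mulVec, dotProduct, Fin.sum_univ_two]
  rfl

/-- An additive map of `F²` which fixes the line `{(x, 0)}` pointwise, normalises `SL₂(F)` and has 2-power order. -/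
theorem exists_up_of_norm [CharP F 2] (φ : (Fin 2 → F) → Fin 2 → F) (hadd : ∀ x y, φ (x + y) = φ x + φ y)
    (hfix : ∀ x : F, φ ![x, 0] = ![x, 0])
    (hnorm : ∀ A : Matrix.SpecialLinearGroup (Fin 2) F, ∃ B : Matrix.SpecialLinearGroup (Fin 2) F,
      ∀ x, φ (ap A x) = ap B (φ x))
    (h2 : ∃ n : ℕ, ∀ x, φ^[2 ^ n] x = x) : ∃ b, ∀ x, φ x = ap (up b) x := by
  -- the second coordinate
  obtain ⟨B, hB⟩ := hnorm (up 1)
  have hB1 : ap B ![1, 0] = ![1, 0] := by
    have h := hB ![1, 0]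
    rw [hfix] at h
    rw [← h]
    have h3 : ap (up (1 : F)) ![1, 0] = ![1, 0] := by
      funext i
      fin_cases i
      · change ap (up (1 : F)) ![1, 0] 0 = 1
        rw [ap_up_0]
        simp
      · change ap (up (1 : F)) ![1, 0] 1 = 0
        rw [ap_up_1]
        simp
    rw [h3, hfix]
  have hB00 : ent B 0 0 = 1 := by
    have h := congrFun hB1 0
    rw [ap_zero'] at h
    simpa using h
  have h1 : ∀ x, x 1 = ent B 0 1 * φ x 1 := by
    intro x
    have h := congrFun (hB x) 0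
    have h3 : ap (up (1 : F)) x = x + ![x 1, 0] := by
      funext i
      fin_cases i
      · change ap (up (1 : F)) x 0 = x 0 + x 1
        rw [ap_up_0, one_mul]
      · change ap (up (1 : F)) x 1 = x 1 + 0
        rw [ap_up_1, add_zero]
    rw [h3, hadd, hfix, ap_zero', hB00, one_mul] at h
    change φ x 0 + x 1 = _ at h
    exact add_left_cancel h
  have hne : ent B 0 1 ≠ 0 := by
    intro h
    have h3 := h1 ![0, 1]
    rw [h, zero_mul] at h3
    exact one_ne_zero h3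
  set d := (ent B 0 1)⁻¹ with hd
  have h3 : ∀ x, φ x 1 = d * x 1 := by
    intro x
    rw [h1 x, hd, inv_mul_cancel_left₀ hne]
  have h4 : ∀ n : ℕ, ∀ x, φ^[n] x 1 = d ^ n * x 1 := by
    intro n
    induction n with
    | zero => intro x; simp
    | succ n ih =>
      intro x
      rw [Function.iterate_succ_apply', h3, ih x, pow_succ]
      ring
  have hd1 : d = 1 := by
    obtain ⟨n, hn⟩ := h2
    have h5 := h4 (2 ^ n) ![0, 1]
    rw [hn] at h5
    have h6 : d ^ 2 ^ n = 1 := by simpa using h5.symm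
    have h7 : (d - 1) ^ 2 ^ n = 0 := by
      rw [sub_pow_char_pow, one_pow, h6, sub_self]
    have h8 := eq_zero_of_pow_eq_zero h7
    exact sub_eq_zero.mp h8
  have h5 : ∀ x, φ x 1 = x 1 := fun x => by rw [h3, hd1, one_mul]
  -- the first coordinate
  obtain ⟨C, hC⟩ := hnorm (lo 1)
  have h6 : ∀ x : F, φ ![0, x] 0 = (ent C 0 0 - 1) * x := by
    intro x
    have h := congrFun (hC ![x, 0]) 0
    have h7 : ap (lo (1 : F)) ![x, 0] = ![x, 0] + ![0, x] := by
      funext i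
      fin_cases i
      · change ap (lo (1 : F)) ![x, 0] 0 = x + 0
        rw [ap_zero', lo_00, lo_01]
        simp
      · change ap (lo (1 : F)) ![x, 0] 1 = 0 + x
        rw [ap_lo_1]
        simp
    rw [h7, hadd, hfix, ap_zero'] at h
    change x + φ ![0, x] 0 = ent C 0 0 * x + ent C 0 1 * 0 at h
    rw [mul_zero, add_zero] at h
    rw [sub_mul, one_mul, ← h, add_sub_cancel_left]
  refine ⟨ent C 0 0 - 1, fun x => ?_⟩
  have h7 : x = ![x 0, 0] + ![0, x 1] := by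
    funext i
    fin_cases i
    · change x 0 = x 0 + 0
      rw [add_zero]
    · change x 1 = 0 + x 1
      rw [zero_add]
  funext i
  fin_cases i
  · change φ x 0 = ap (up (ent C 0 0 - 1)) x 0
    rw [ap_up_0]
    conv_lhs => rw [h7]
    rw [hadd, hfix]
    change x 0 + φ ![0, x 1] 0 = _
    rw [h6]
  · change φ x 1 = ap (up (ent C 0 0 - 1)) x 1
    rw [ap_up_1, h5]

end lin

section nat

variable {G : Type u} [Group G] [Finite G] {F : Type} [Field F] [Finite F] [CharP F 2]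
variable (hc : IsCharacteristicTwoType G) {S : Sylow 2 G} {P H : Subgroup G}
variable (hP : IsParS (S : Subgroup G) P)
variable (M : NatK F (S : Subgroup G) P (zl (S : Subgroup G) P) (cv (S : Subgroup G) P) 1)

omit [Finite G] [Finite F] [CharP F 2] in
theorem P_cv : P ≤ normalizer (cv (S : Subgroup G) P : Set G) := by
  refine le_normalizer_of fun g hg x hx => mem_inf.mpr ⟨conj_mem_of_mem (le_normalizer_zl _ _ hg) (mem_inf.mp hx).1, ?_⟩
  rw [mem_centralizer_iff]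
  intro y hy
  have hy' : g⁻¹ * y * g ∈ oddGen P := by
    have h1 := conj_mem_of_mem (le_normalizer_oddGen P (inv_mem hg)) hy
    rwa [inv_inv] at h1
  have h1 := mem_centralizer_iff.mp (mem_inf.mp hx).2 _ hy'
  calc y * (g * x * g⁻¹) = g * ((g⁻¹ * y * g) * x) * g⁻¹ := by group
    _ = g * (x * (g⁻¹ * y * g)) * g⁻¹ := by rw [h1]
    _ = g * x * g⁻¹ * y := by group

include M

omit [Finite G] [Finite F] [CharP F 2] in
theorem mulM {v w : G} (hv : v ∈ zl (S : Subgroup G) P) (hw : w ∈ zl (S : Subgroup G) P) :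
    M.e (v * w) 0 = M.e v 0 + M.e w 0 := congrFun (M.mul v hv w hw) 0

omit [Finite G] [Finite F] [CharP F 2] in
theorem kerM {v : G} (hv : v ∈ zl (S : Subgroup G) P) : M.e v 0 = 0 ↔ v ∈ cv (S : Subgroup G) P := by
  rw [← M.ker v hv]
  constructor
  · intro h
    funext i
    rw [Subsingleton.elim i 0]
    exact h
  · intro h
    rw [h]
    rfl

omit [Finite G] [Finite F] [CharP F 2] in
theorem surjM (x : Fin 2 → F) : ∃ v ∈ zl (S : Subgroup G) P, M.e v 0 = x := by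
  obtain ⟨v, hv, h⟩ := M.surj fun _ => x
  exact ⟨v, hv, by rw [h]⟩

omit [Finite G] [Finite F] [CharP F 2] in
/-- elements with the same coordinates differ by an element of `C_V(O²(P))` -/
theorem eqM {v w : G} (hv : v ∈ zl (S : Subgroup G) P) (hw : w ∈ zl (S : Subgroup G) P)
    (h : M.e v 0 = M.e w 0) : v * w⁻¹ ∈ cv (S : Subgroup G) P := by
  rw [← kerM M (mul_mem hv (inv_mem hw))]
  have h1 := mulM M (mul_mem hv (inv_mem hw)) hw
  rw [inv_mul_cancel_right, h] at h1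
  exact right_eq_add.mp h1

omit [Finite G] [Finite F] [CharP F 2] in
/-- the action of `g ∈ P` on `V / C_V(O²(P))` -/
theorem exists_phi {g : G} (hg : g ∈ P) : ∃ φ : (Fin 2 → F) → Fin 2 → F,
    (∀ v ∈ zl (S : Subgroup G) P, M.e (g * v * g⁻¹) 0 = φ (M.e v 0)) ∧ (∀ x y, φ (x + y) = φ x + φ y) ∧
    ∀ A : Matrix.SpecialLinearGroup (Fin 2) F, ∃ B : Matrix.SpecialLinearGroup (Fin 2) F,
      ∀ x, φ (ap A x) = ap B (φ x) := by
  classical
  choose r hr hrx using surjM M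
  have hgV : ∀ {v}, v ∈ zl (S : Subgroup G) P → g * v * g⁻¹ ∈ zl (S : Subgroup G) P :=
    fun hv => conj_mem_of_mem (le_normalizer_zl _ _ hg) hv
  have h1 : ∀ v ∈ zl (S : Subgroup G) P, M.e (g * v * g⁻¹) 0 = M.e (g * r (M.e v 0) * g⁻¹) 0 := by
    intro v hv
    have h2 := eqM M hv (hr (M.e v 0)) (hrx (M.e v 0)).symm
    have h3 := conj_mem_of_mem (P_cv hg) h2
    have e1 : g * v * g⁻¹ = (g * (v * (r (M.e v 0))⁻¹) * g⁻¹) * (g * r (M.e v 0) * g⁻¹) := by group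
    have h4 : g * (v * (r (M.e v 0))⁻¹) * g⁻¹ ∈ zl (S : Subgroup G) P := hgV (mul_mem hv (inv_mem (hr _)))
    rw [e1, mulM M h4 (hgV (hr _)), (kerM M h4).mpr h3, zero_add]
  refine ⟨fun x => M.e (g * r x * g⁻¹) 0, h1, ?_, ?_⟩
  · intro x y
    have h2 : M.e (r x * r y) 0 = x + y := by rw [mulM M (hr x) (hr y), hrx, hrx]
    have h3 := h1 _ (mul_mem (hr x) (hr y))
    rw [h2] at h3
    change M.e (g * r (x + y) * g⁻¹) 0 = _
    rw [← h3]
    have e1 : g * (r x * r y) * g⁻¹ = (g * r x * g⁻¹) * (g * r y * g⁻¹) := by group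
    rw [e1, mulM M (hgV (hr x)) (hgV (hr y))]
  · intro A
    obtain ⟨k, hk, hkA⟩ := M.lift fun _ => A
    obtain ⟨B, hB⟩ := M.norm g hg k hk (fun _ => A) hkA.1
    refine ⟨B 0, fun x => ?_⟩
    have h2 := hkA.1 (r x) (hr x) 0
    rw [hrx] at h2
    have hkr : k * r x * k⁻¹ ∈ zl (S : Subgroup G) P := conj_mem_of_mem (le_normalizer_zl _ _ hk) (hr x)
    have h3 := h1 _ hkr
    rw [h2] at h3
    change M.e (g * r (ap A x) * g⁻¹) 0 = ap (B 0) (M.e (g * r x * g⁻¹) 0)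
    have e1 : g * (k * r x * k⁻¹) * g⁻¹ = g * k * g⁻¹ * (g * r x * g⁻¹) * (g * k * g⁻¹)⁻¹ := by group
    rw [← h3, ← hB _ (hgV (hr x)) 0, e1]

omit [Finite F] in
/-- **every `s ∈ S` acts as `up b`**, if `Z` covers the line -/
theorem act_S (hPS : (S : Subgroup G) ≤ P) (hl : ∀ x, ∃ z ∈ zc (S : Subgroup G), M.e z 0 = ![x, 0]) {s : G}
    (hs : s ∈ (S : Subgroup G)) : ∃ b, Act (co M) (zl (S : Subgroup G) P) s (up b) := by
  obtain ⟨φ, h1, h2, h3⟩ := exists_phi M (hPS hs)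
  obtain ⟨b, hb⟩ := exists_up_of_norm φ h2 (fun x => by
    obtain ⟨z, hz, h⟩ := hl x
    have h4 := h1 z (zc_le_zl _ _ hz)
    rw [h, (mem_zc.mp hz).2.1 s hs, mul_inv_cancel_right, h] at h4
    exact h4.symm) h3 (by
    obtain ⟨n, hn⟩ := S.isPGroup' ⟨s, hs⟩
    refine ⟨n, ?_⟩
    have h4 : ∀ m : ℕ, ∀ v ∈ zl (S : Subgroup G) P, φ^[m] (M.e v 0) = M.e (s ^ m * v * (s ^ m)⁻¹) 0 := by
      intro m
      induction m with
      | zero => intro v _; simp
      | succ m ih =>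
        intro v hv
        have h5 : s ^ m * v * (s ^ m)⁻¹ ∈ zl (S : Subgroup G) P :=
          conj_mem_of_mem (le_normalizer_zl _ _ (pow_mem (hPS hs) m)) hv
        have e1 : s * (s ^ m * v * (s ^ m)⁻¹) * s⁻¹ = s ^ (m + 1) * v * (s ^ (m + 1))⁻¹ := by
          rw [pow_succ']
          group
        rw [Function.iterate_succ_apply', ih v hv, ← h1 _ h5, e1]
    intro x
    obtain ⟨v, hv, rfl⟩ := surjM M x
    have hn' : s ^ 2 ^ n = 1 := congrArg Subtype.val hn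
    rw [h4 _ v hv, hn']
    simp)
  exact ⟨b, fun v hv => (h1 v hv).trans (hb _)⟩

include hc hP

/-- `S` centralises `C_V(O²(P))` -/
theorem S_cv (hl : ∀ x, ∃ z ∈ zc (S : Subgroup G), M.e z 0 = ![x, 0]) {s d : G}
    (hs : s ∈ (S : Subgroup G)) (hd : d ∈ cv (S : Subgroup G) P) : s * d = d * s := by
  obtain ⟨b, hb⟩ := act_S M hP.le hl hs
  obtain ⟨t, ht, htb⟩ := M.unip fun _ => b
  have htP := hP.le ht
  have htV : t ∈ normalizer (zl (S : Subgroup G) P : Set G) := le_normalizer_zl _ _ htP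
  have ht1 : Act (co M) (zl (S : Subgroup G) P) t (up b) := fun v hv => htb.1 v hv 0
  have h1 : Act M.natOver.e (zl (S : Subgroup G) P) (s * t⁻¹) 1 := by
    have h2 := hb.mul (ht1.inv htV) (inv_mem htV)
    rwa [mul_inv_cancel] at h2
  have h2 := mem_centralizer_of_act hc S hP M.natOver (mul_mem (hP.le hs) (inv_mem htP)) h1
  have h3 := mem_centralizer_iff.mp h2 d (mem_inf.mp hd).1
  have h4 := htb.2 d hd
  calc s * d = (s * t⁻¹) * (t * d) := by group
    _ = (s * t⁻¹) * (d * t) := by rw [h4]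
    _ = ((s * t⁻¹) * d) * t := by group
    _ = (d * (s * t⁻¹)) * t := by rw [h3]
    _ = d * s := by group

/-- **`C_V(O²(P)) = C_Z(P)`** -/
theorem cv_eq (hl : ∀ x, ∃ z ∈ zc (S : Subgroup G), M.e z 0 = ![x, 0]) :
    cv (S : Subgroup G) P = zc (S : Subgroup G) ⊓ centralizer (P : Set G) := by
  apply le_antisymm
  · intro d hd
    have hdV := (mem_inf.mp hd).1
    refine mem_inf.mpr ⟨mem_zc.mpr ⟨IsParS.zl_le_S hc hP hdV, fun s hs => S_cv hc hP M hl hs hd, ?_⟩, ?_⟩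
    · exact (zl_abel hc S hP.isLoc).2 d hdV
    · have h1 : oddGen P ⊔ (S : Subgroup G) = P :=
        NoFF.LinesPlug.oddGen_sup hP.le (MinSimple.Basic.not_dvd_relIndex S hP.le)
      have h2 : oddGen P ⊔ (S : Subgroup G) ≤ centralizer ({d} : Set G) := by
        refine sup_le (fun y hy => ?_) fun s hs => ?_
        · rw [mem_centralizer_iff]
          rintro _ rfl
          exact (mem_centralizer_iff.mp (mem_inf.mp hd).2 y hy).symm
        · rw [mem_centralizer_iff]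
          rintro _ rfl
          exact (S_cv hc hP M hl hs hd).symm
      rw [h1] at h2
      rw [mem_centralizer_iff]
      intro p hp
      exact (mem_centralizer_iff.mp (h2 hp) d rfl).symm
  · refine le_inf (inf_le_left.trans (zc_le_zl _ _)) (inf_le_right.trans (centralizer_le (oddGen_le P)))

/-- the line is `Z` -/
theorem line_iff (hl : ∀ x, ∃ z ∈ zc (S : Subgroup G), M.e z 0 = ![x, 0]) {v : G}
    (hv : v ∈ zl (S : Subgroup G) P) : M.e v 0 1 = 0 ↔ v ∈ zc (S : Subgroup G) := by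
  constructor
  · intro h
    obtain ⟨z, hz, hzx⟩ := hl (M.e v 0 0)
    have h1 : M.e v 0 = M.e z 0 := by
      rw [hzx]
      funext i
      fin_cases i
      · rfl
      · exact h
    have h2 := eqM M hv (zc_le_zl _ _ hz) h1
    rw [cv_eq hc hP M hl] at h2
    have h3 := mul_mem (mem_inf.mp h2).1 hz
    rwa [inv_mul_cancel_right] at h3
  · intro h
    obtain ⟨t, ht, htb⟩ := M.unip fun _ => (1 : F)
    have h1 := congrFun (htb.1 v hv 0) 0
    rw [(mem_zc.mp h).2.1 t ht, mul_inv_cancel_right, ap_up_0, one_mul] at h1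
    exact left_eq_add.mp h1

/-- **`HypQ`** -/
theorem hypQ (D : Data (S : Subgroup G)) (hl : ∀ x, ∃ z ∈ zc (S : Subgroup G), M.e z 0 = ![x, 0])
    (hH : IsLong (S : Subgroup G) H) (hne : ¬ zl (S : Subgroup G) P ≤ centralizer (zl (S : Subgroup G) H : Set G))
    (hmin : ∀ H₁ : Subgroup G, IsLong (S : Subgroup G) H₁ → H₁ ≤ H → H₁ ≠ H →
      zl (S : Subgroup G) P ≤ centralizer (zl (S : Subgroup G) H₁ : Set G)) : HypQ (co M) S P H := by
  have h0 : HypQ0 (co M) S P H :=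
    { hc := hc
      data := D
      par := hP
      long := hH
      ne := hne
      min := hmin
      mul := fun v hv w hw => mulM M hv hw
      surj := surjM M
      ker := fun v hv => by rw [← cv_eq hc hP M hl]; exact kerM M hv
      line := fun v hv => line_iff hc hP M hl hv
      lift := fun A => by
        obtain ⟨g, hg, h⟩ := M.lift fun _ => A
        exact ⟨g, hg, fun v hv => h.1 v hv 0⟩
      up1 := fun u hu => act_S M hP.le hl (IsLong.zl_le_S hc hH hu)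
      cent := fun g hg h => mem_centralizer_of_act hc S hP M.natOver hg h }
  exact h0.full

/-- **`HypQ` for some long `H₁ ≤ H`** -/
theorem exists_hypQ (D : Data (S : Subgroup G)) (hl : ∀ x, ∃ z ∈ zc (S : Subgroup G), M.e z 0 = ![x, 0])
    (hH : IsLong (S : Subgroup G) H) (hne : ¬ zl (S : Subgroup G) P ≤ centralizer (zl (S : Subgroup G) H : Set G)) :
    ∃ H₁ ≤ H, HypQ (co M) S P H₁ := by
  classical
  have h1 : ∃ n, ∃ K : Subgroup G, IsLong (S : Subgroup G) K ∧ K ≤ H ∧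
      ¬ zl (S : Subgroup G) P ≤ centralizer (zl (S : Subgroup G) K : Set G) ∧ Nat.card K = n :=
    ⟨_, H, hH, le_rfl, hne, rfl⟩
  obtain ⟨K, hK, hKH, hKne, hn⟩ := Nat.find_spec h1
  refine ⟨K, hKH, hypQ hc hP M D hl hK hKne fun H₁ h2 h3 h4 => ?_⟩
  by_contra hcon
  have h5 : Nat.card H₁ < Nat.card K := by
    refine lt_of_le_of_ne (Nat.card_le_card_of_injective _ (Subgroup.inclusion_injective h3)) fun h6 => h4 ?_
    exact Subgroup.eq_of_le_of_card_ge h3 h6.ge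
  rw [hn] at h5
  exact Nat.find_min h1 h5 ⟨H₁, h2, h3.trans hKH, hcon, rfl⟩

end nat

end Cfsg.Agent.Omega.NOThreeL.RA
end

-- part: Mrg/Omega/NOThreeL/RA/FromNat_mg
section

end

-- part: Mrg/Omega/NOThreeL/RA/NsOne
section
set_option linter.all false
open scoped Cfsg.Agent.FastGrp

-- merged: Cfsg.Agent.Mrg.Omega.NOThreeL.RA.Final
section

/-!
# NO-3L, R ∩ (A), `k = 1`, `q > 2`, no field automorphisms (#19087): the theorem

* `HypQ.false` : `HypQ`, `|F| > 2`, `C_Z(P) ≠ 1`: contradiction;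
* **`false_of_one`** : `Data S`, `[V_P, U_H] ≠ 1`, `V_P / C_V(O²(P))` natural for `SL₂(F)`, `|F| > 2`, `C_Z(P) ≠ 1` and
  `Z` covers the line of `V_P / C_V(O²(P))`: contradiction.
-/

set_option autoImplicit false
set_option linter.unusedSectionVars false

namespace Cfsg.Agent.Omega.NOThreeL.RA

open Subgroup Cfsg Cfsg.Agent.Omega.MinPar
open Cfsg.Agent.ZN (zc zl o2)
open Cfsg.Agent.Omega.Frame Cfsg.Agent.Omega.FrameNOFF
open Cfsg.Agent.Omega.Node.NO3L Cfsg.Agent.Omega.NOThreeL.Basic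
open Cfsg.Agent.Omega.FFThm (NatK)
open Cfsg.Agent.Omega.FrameFF (cv)
open Cfsg.Agent.Omega.NOThreeL.RBig.Pts (Frame)

universe u

variable {G : Type u} [Group G]

/-- **#19087** -/
theorem HypQ.false [Finite G] {F : Type} [Field F] {e : G → Fin 2 → F} {S : Sylow 2 G} {P H : Subgroup G}
    (D : HypQ e S P H) (hq : 2 < Nat.card F) (hE : zc (S : Subgroup G) ⊓ centralizer (P : Set G) ≠ ⊥) : False := by
  obtain ⟨M, _, Γ, _, _, ρ, π, Q⟩ := D.exists_md
  have : Finite M := Finite.of_surjective (fun x : ↥(zl (S : Subgroup G) H) => π x) fun m => by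
    obtain ⟨x, hx, h⟩ := Q.surj m
    exact ⟨⟨x, hx⟩, h⟩
  rcases (D.frame Q).dichotomy with h | ⟨_, h⟩
  · exact D.many_false Q h
  · exact D.false_of_QP hq hE (D.qp Q (h _ (D.pt_e Q)))

/-- **#19087** over the FF theorem: no exactness, no minimality of `H`. -/
theorem false_of_one [Finite G] {F : Type} [Field F] [Finite F] [CharP F 2] {S : Sylow 2 G} {P H : Subgroup G}
    (hc : IsCharacteristicTwoType G) (D : Data (S : Subgroup G)) (hPH : PairA (S : Subgroup G) P H)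
    (hE : zc (S : Subgroup G) ⊓ centralizer (P : Set G) ≠ ⊥) (hq : 2 < Nat.card F)
    (M : NatK F (S : Subgroup G) P (zl (S : Subgroup G) P) (cv (S : Subgroup G) P) 1)
    (hl : ∀ x, ∃ z ∈ zc (S : Subgroup G), M.e z 0 = ![x, 0]) : False := by
  obtain ⟨H₁, _, h⟩ := exists_hypQ hc hPH.par M D hl hPH.long hPH.ne
  exact h.false hq hE

end Cfsg.Agent.Omega.NOThreeL.RA

end

-- merged: Cfsg.Agent.Mrg.Omega.NOThreeL.RA.NsOne
section

/-!
# NO-3L, R ∩ (A): `RTreeA.NsOne` (#19087)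
-/

set_option autoImplicit false

namespace Cfsg.Agent.Omega.NOThreeL.RA

open Subgroup Cfsg Cfsg.Agent.Omega.MinPar
open Cfsg.Agent.ZN (zc zl o2)
open Cfsg.Agent.Omega.Frame Cfsg.Agent.Omega.FrameNOFF
open Cfsg.Agent.Omega.FrameFF (cv)
open Cfsg.Agent.Omega.NOThreeL.RTreeA (NsOne Splits)

universe u

/-- `V_P` splits over `C_V(O²(P))` if `C_Z(P) = 1`. -/
theorem splits_of_inf_eq_bot {G : Type u} [Group G] [Finite G] (hc : IsCharacteristicTwoType G) {S : Sylow 2 G}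
    {P : Subgroup G} (hP : IsParS (S : Subgroup G) P)
    (h0 : zc (S : Subgroup G) ⊓ centralizer (P : Set G) = ⊥) :
    Splits (S : Subgroup G) P (cv (S : Subgroup G) P) := by
  have h1 : cv (S : Subgroup G) P = ⊥ := NoFF.LinesPlug.inf_oddGen_eq_bot hc S hP.toIsPar h0
  rw [h1]
  exact ⟨zl (S : Subgroup G) P, le_rfl, Cfsg.Agent.MinSimple.VModule.le_normalizer_zl _ _, inf_bot_eq _, le_sup_left⟩

/-- **#19087** -/
theorem nsOne : NsOne.{u} := by
  intro G _ _ S P H F _ _ _ h M hns hl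
  exact false_of_one h.ctx.char2 h.data h.pair
    (fun h0 => hns (splits_of_inf_eq_bot h.ctx.char2 h.pair.par h0)) h.big M.toNatK hl

end Cfsg.Agent.Omega.NOThreeL.RA

end
end

-- part: Mrg/Omega/NOThreeL/RRed/LeftPair
section
set_option linter.all false
open scoped Cfsg.Agent.FastGrp

section


/-!
# Box R, `t ≥ 2` classes: the pair of full-support vectors (#25809 (2), #26343, #26368), helper863

* `mx_long` : `R` long: `𝒜(O₂(R)) ⊆ 𝒜(O₂(C_G(Z)))`;  `isLong_pair` : `C_G(z) ∩ C_G(e)` is long;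
* `exists_full` : an `S`-fixed vector of `∏_{Om} N b` with components in given sets `O b`;
* `exists_pair` : `z` of full support in `Om`, `e` of full support in the complement: `L ∩ C(z) ∩ C(e)` moves the blocks
  like `L`;
* `orb_of_irr` : `L` is transitive on the blocks of an irreducible class;
* **`all_of`** : if some `A ∈ 𝒜(O₂(C(z) ∩ C(e)))` moves `∏_{Om} N b`, and `L` is transitive on `Om`, then every `N b`,
  `b ∈ Om`, is moved by a member of `𝒜(O₂(C_G(Z)))`.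
-/

set_option autoImplicit false
set_option linter.unusedSectionVars false

namespace Cfsg.Agent.Omega.NOThreeL.RRed.LeftPair

open Subgroup Cfsg Cfsg.Agent.Omega.MinPar Cfsg.Agent.Omega.Frame Cfsg.Agent.Omega.FrameNOFF
open Cfsg.Agent.ZN (zc zl o2)
open Cfsg.Agent.Omega.Node.NO3L
open Cfsg.Agent.Omega.NoFF.ThmJQ (MxIn exists_mxIn)
open Cfsg.Agent.Omega.ML.Final (MLK)
open Cfsg.Agent.Omega.KL.TwoS (Mx)
open Cfsg.Agent.Omega.NoFF.Basic (comm_symm comm_mono)
open Cfsg.Agent.Omega.NOThreeL.RRed.Blk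
open Cfsg.Agent.MinSimple.VModule (zc_le mem_zc le_normalizer_o2 o2_isPGroup o2_le le_o2)
open scoped Pointwise

universe u v

variable {G : Type u} [Group G]

section long

variable [Finite G] {S : Sylow 2 G}

/-- `𝒜(O₂(R)) ⊆ 𝒜(O₂(C_G(Z)))` for a long group `R` -/
theorem mx_long (ml : MLK.{u, u}) (hG : Ctx G) {R A : Subgroup G} (hR : IsLong (S : Subgroup G) R)
    (hA : Mx (o2 R) A) : Mx (o2 (CZ (S : Subgroup G))) A := by
  obtain ⟨B, hB⟩ := exists_mxIn (o2 (CZ (S : Subgroup G)))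
  have kg : ∀ R : Subgroup G, IsLoc (S : Subgroup G) R → IsKGroup R := fun R h =>
    ML.GNN.kgroup_of_isLoc hG hG.not_isPGroup h
  have h1 := Sigma.swap_mx hG.char2 ml kg hR hB
  have h2 := hA.max _ (sup_le (hR.zl_le_o2 hG.char2 S) (Sigma.inf_le hG.char2 hR hB.2.1)) fun b hb => h1.1 b hb
  exact ⟨hA.le.trans (hR.o2_le S), hA.sq, fun C hC hC2 => (h1.2.2 C hC2 hC).trans h2⟩

/-- `C_G(z) ∩ C_G(e)` is long for `z, e ∈ Z`, `z ≠ 1` -/
theorem isLong_pair {z e : G} (hz : z ∈ zc (S : Subgroup G)) (he : e ∈ zc (S : Subgroup G)) (h1 : z ≠ 1) :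
    IsLong (S : Subgroup G) (centralizer ({z} : Set G) ⊓ centralizer ({e} : Set G)) := by
  have hS : ∀ {x : G}, x ∈ zc (S : Subgroup G) → (S : Subgroup G) ≤ centralizer ({x} : Set G) := fun {x} hx s hs => by
    rw [mem_centralizer_singleton_iff]
    exact (mem_zc.1 hx).2.1 s hs
  exact ⟨(RZ.LowR.isLoc_cent hz h1).of_le S (le_inf (hS hz) (hS he)) inf_le_left,
    le_inf (centralizer_le (Set.singleton_subset_iff.2 hz)) (centralizer_le (Set.singleton_subset_iff.2 he))⟩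

end long

section blocks

variable {ι : Type v} {S L U : Subgroup G} {N E : ι → Subgroup G} {R₀ : Subgroup G}

/-- the `E b`, `b ∈ Om`, fix all blocks -/
theorem conj_of_mem (h : Dec S L U N E R₀) (Om : Set ι) {a : G} (ha : a ∈ ⨆ b : Om, E b) (c : ι) :
    MulAut.conj a • N c = N c := by
  have h1 : (⨆ b : Om, E b) ≤ normalizer (N c : Set G) := iSup_le fun b => by
    by_cases hbc : (b : ι) = c
    · rw [← hbc]; exact h.EN b
    · exact (h.EC b c hbc).trans (centralizer_le_normalizer _)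
  exact RWide.LemM.smul_of_nor (h1 ha)

theorem norm_iSup_E [Finite G] (h : Dec S L U N E R₀) (Om : Set ι)
    (inv : ∀ g ∈ L, ∀ b c, MulAut.conj g • N b = N c → b ∈ Om → c ∈ Om) :
    L ≤ normalizer ((⨆ b : Om, E b : Subgroup G) : Set G) := by
  have key : ∀ g ∈ L, MulAut.conj g • (⨆ b : Om, E b : Subgroup G) ≤ ⨆ b : Om, E b := by
    intro g hg
    rw [show MulAut.conj g • (⨆ b : Om, E b : Subgroup G) = ⨆ b : Om, MulAut.conj g • E b from Subgroup.map_iSup _ _]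
    refine iSup_le fun b => ?_
    obtain ⟨c, hc, hc'⟩ := h.perm g hg b
    rw [hc']
    exact le_iSup (fun b : Om => E b) ⟨c, inv g hg b c hc b.2⟩
  intro g hg
  rw [mem_normalizer_iff]
  refine fun x => ⟨fun hx => key g hg ((conj_smul rfl).1 hx), fun hx => ?_⟩
  have h1 := key g⁻¹ (inv_mem hg) ((conj_smul rfl).1 hx)
  have e : g⁻¹ * (g * x * g⁻¹) * g⁻¹⁻¹ = x := by group
  rwa [e] at h1

/-- **`L ∩ C(z) ∩ C(e)` moves the blocks like `L`.** -/
theorem exists_pair [Finite G] (h : Dec S L U N E R₀) (Om : Set ι)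
    (inv : ∀ g ∈ L, ∀ b c, MulAut.conj g • N b = N c → b ∈ Om → c ∈ Om)
    {z e : G} (zN : z ∈ ⨆ b : Om, N b)
    (hz : L ≤ (⨆ b : Om, E b) ⊔ (L ⊓ centralizer ({z} : Set G)))
    (he : L ≤ (⨆ b : (Omᶜ : Set ι), E b) ⊔ (L ⊓ centralizer ({e} : Set G))) {g : G} (hg : g ∈ L) :
    ∃ k ∈ L, k ∈ centralizer ({z} : Set G) ∧ k ∈ centralizer ({e} : Set G) ∧
      ∀ b, MulAut.conj k • N b = MulAut.conj g • N b := by
  have inv' : ∀ g ∈ L, ∀ b c, MulAut.conj g • N b = N c → b ∈ Omᶜ → c ∈ Omᶜ := fun g hg b c hbc hb hc =>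
    hb (inv g⁻¹ (inv_mem hg) c b (by rw [← hbc, map_inv, inv_smul_smul]) hc)
  have hg1 := hz hg
  rw [sup_comm] at hg1
  obtain ⟨k, hk, a, ha, e1⟩ := mem_sup_of (inf_le_left.trans (norm_iSup_E h Om inv)) hg1
  have hk1 := he hk.1
  rw [sup_comm] at hk1
  obtain ⟨m, hm, a', ha', e2⟩ := mem_sup_of (inf_le_left.trans (norm_iSup_E h Omᶜ inv')) hk1
  have hm1 : m = k * a'⁻¹ := by rw [e2]; group
  have ha'z : a' ∈ centralizer ({z} : Set G) := by
    have h1 : (⨆ b : (Omᶜ : Set ι), E b) ≤ centralizer ((⨆ b : Om, N b : Subgroup G) : Set G) :=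
      iSup_le fun b => by
        refine comm_symm (iSup_le fun c => ?_)
        exact comm_symm (h.EC b c fun hbc => b.2 (by rw [hbc]; exact c.2))
    rw [mem_centralizer_singleton_iff]
    exact (mem_centralizer_iff.1 (h1 ha') z zN).symm
  refine ⟨m, hm.1, ?_, hm.2, fun b => ?_⟩
  · rw [hm1]
    exact mul_mem hk.2 (inv_mem ha'z)
  · have h1 : MulAut.conj g • N b = MulAut.conj k • N b := by
      rw [e1, map_mul, mul_smul, conj_of_mem h Om ha]
    have h2 : MulAut.conj k • N b = MulAut.conj m • N b := by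
      rw [e2, map_mul, mul_smul, conj_of_mem h Omᶜ ha']
    rw [h1, h2]

/-- **an `S`-fixed vector of `∏_{Om} N b` with components in the `O b`** -/
theorem exists_full [Finite ι] (h : Dec S L U N E R₀) (Om : Set ι)
    (inv : ∀ g ∈ L, ∀ b c, MulAut.conj g • N b = N c → b ∈ Om → c ∈ Om) (O : ι → Set G) (hON : ∀ b, O b ⊆ N b)
    (hO : ∀ b, ∃ x ∈ O b, ∀ s ∈ S, MulAut.conj s • N b = N b → s * x * s⁻¹ = x)
    (hc : ∀ g ∈ L, ∀ b c, MulAut.conj g • N b = N c → ∀ x ∈ O b, g * x * g⁻¹ ∈ O c) :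
    ∃ z ∈ ⨆ b : Om, N b, (∀ s ∈ S, s * z = z * s) ∧ ∀ b ∈ Om, ∃ n ∈ O b, IsC N R₀ b z n := by
  classical
  obtain ⟨f, hf1, hf2⟩ := h.exists_equi O hO fun s hs => hc s (h.SL hs)
  have := Fintype.ofFinite ι
  -- the vector
  have key : ∀ s : Finset ι, (∀ b ∈ s, b ∈ Om) → ∃ z ∈ ⨆ b : Om, N b, (∀ b ∈ s, IsC N R₀ b z (f b)) ∧
      ∀ b ∉ s, IsC N R₀ b z 1 := by
    intro s
    induction s using Finset.induction_on with
    | empty => exact fun _ => ⟨1, one_mem _, fun b hb => absurd hb (Finset.notMem_empty b), fun b _ => h.comp_one (one_mem _)⟩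
    | insert b s hb ih =>
      intro hs
      obtain ⟨e, he, h1, h2⟩ := ih fun c hc => hs c (Finset.mem_insert_of_mem hc)
      refine ⟨f b * e, mul_mem (le_iSup (fun b : Om => N b) ⟨b, hs b (Finset.mem_insert_self _ _)⟩ (hON b (hf1 b))) he,
        fun c hc => ?_, fun c hc => ?_⟩
      · rcases Finset.mem_insert.1 hc with rfl | hc
        · have := h.comp_mul (h.comp_self (hON _ (hf1 c))) (h2 c hb)
          rwa [mul_one] at this
        · have hne : b ≠ c := fun e => hb (e ▸ hc)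
          have := h.comp_mul (h.comp_ne hne (hON _ (hf1 b))) (h1 c hc)
          rwa [one_mul] at this
      · rw [Finset.mem_insert, not_or] at hc
        have := h.comp_mul (h.comp_ne (Ne.symm hc.1) (hON _ (hf1 b))) (h2 c hc.2)
        rwa [one_mul] at this
  obtain ⟨z, hz, h1, h2⟩ := key (Finset.univ.filter (· ∈ Om)) (by simp)
  have hzN : z ∈ ⨆ b, N b := (iSup_le fun b : Om => le_iSup N b.1) hz
  refine ⟨z, hz, fun s hs => ?_, fun b hb => ⟨f b, hf1 b, h1 b (by simpa using hb)⟩⟩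
  have hsL := h.SL hs
  have h3 : s * z * s⁻¹ = z := by
    refine h.ext (h.conj_mem_B hsL hzN) hzN fun c => ?_
    obtain ⟨b, hb⟩ := h.exists_pre hsL c
    by_cases hcO : c ∈ Om
    · have hbO : b ∈ Om := inv s⁻¹ (inv_mem hsL) c b (by rw [← hb, map_inv, inv_smul_smul]) hcO
      refine ⟨f c, ?_, h1 c (by simpa using hcO)⟩
      have h4 := h.comp_conj hsL hb (h1 b (by simpa using hbO))
      rwa [hf2 s hs b c hb] at h4
    · have hbO : b ∉ Om := fun hbO => hcO (inv s hsL b c hb hbO)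
      refine ⟨1, ?_, h2 c (by simpa using hcO)⟩
      have h4 := h.comp_conj hsL hb (h2 b (by simpa using hbO))
      simpa using h4
  calc s * z = (s * z * s⁻¹) * s := by group
    _ = z * s := by rw [h3]

/-- `L` is transitive on the blocks of an irreducible class -/
theorem orb_of_irr [Finite G] [Finite ι] (h : Dec S L U N E R₀) (Om : Set ι)
    (irr : ∀ X : Subgroup G, X ≤ ⨆ b : Om, N b → L ≤ normalizer (X : Set G) → X ≠ ⊥ → (⨆ b : Om, N b) ≤ X)
    (inv : ∀ g ∈ L, ∀ b c, MulAut.conj g • N b = N c → b ∈ Om → c ∈ Om) {b c : ι} (hb : b ∈ Om) (hc : c ∈ Om) :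
    ∃ g ∈ L, MulAut.conj g • N b = N c := by
  set T : Set ι := {d | ∃ g ∈ L, MulAut.conj g • N b = N d} with hT
  have hbT : b ∈ T := ⟨1, one_mem _, by rw [map_one, one_smul]⟩
  have hTO : ∀ d ∈ T, d ∈ Om := fun d ⟨g, hg, hd⟩ => inv g hg b d hd hb
  have hX1 : (⨆ d : T, N d) ≤ ⨆ d : Om, N d := iSup_le fun d => le_iSup (fun d : Om => N d) ⟨d, hTO d d.2⟩
  have key : ∀ g ∈ L, MulAut.conj g • (⨆ d : T, N d : Subgroup G) ≤ ⨆ d : T, N d := by
    intro g hg
    rw [show MulAut.conj g • (⨆ d : T, N d : Subgroup G) = ⨆ d : T, MulAut.conj g • N d from Subgroup.map_iSup _ _]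
    refine iSup_le fun d => ?_
    obtain ⟨x, hx, hx'⟩ := h.perm g hg d
    rw [hx]
    obtain ⟨y, hy, hy'⟩ := d.2
    exact le_iSup (fun d : T => N d) ⟨x, g * y, mul_mem hg hy, by rw [map_mul, mul_smul, hy', hx]⟩
  have hX2 : L ≤ normalizer ((⨆ d : T, N d : Subgroup G) : Set G) := by
    intro g hg
    rw [mem_normalizer_iff]
    refine fun x => ⟨fun hx => key g hg ((conj_smul rfl).1 hx), fun hx => ?_⟩
    have h1 := key g⁻¹ (inv_mem hg) ((conj_smul rfl).1 hx)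
    have e : g⁻¹ * (g * x * g⁻¹) * g⁻¹⁻¹ = x := by group
    rwa [e] at h1
  have hX3 : (⨆ d : T, N d : Subgroup G) ≠ ⊥ := fun e => h.ne b
    (le_bot_iff.1 ((le_iSup (fun d : T => N d) ⟨b, hbT⟩).trans e.le))
  have h1 := irr _ hX1 hX2 hX3
  by_contra hcT
  have h2 : N c ≤ Co N R₀ c := ((le_iSup (fun d : Om => N d) ⟨c, hc⟩).trans h1).trans
    (iSup_le fun d => h.N_le_Co fun e => hcT (by rw [← e]; exact d.2))
  refine h.ne c (le_bot_iff.1 ?_)
  rw [← (h.ind c : N c ⊓ Co N R₀ c = ⊥)]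
  exact le_inf le_rfl h2

end blocks

end Cfsg.Agent.Omega.NOThreeL.RRed.LeftPair

end

section


/-!
# NO-3L, box R: pure members of `𝒜(O)` (helper258)

`O ≥ N b` el. ab., every `A ∈ 𝒜(O)` acts on `N b` trivially or as the full root group with line `l b` (`RootOn`).

* `root_cen` : `N ⊓ C(A) = l` if `A` moves `N`; `relIndex_left`, `relIndex_right` : the two indices are `|l|`;
* `cut` : `C_A(N c) N c ∈ 𝒜(O)` moves `N b`;
* **`exists_pure`** : some `A ∈ 𝒜(O)` moves `N b` and centralises all other `N c`.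
-/

set_option autoImplicit false
set_option linter.unusedSectionVars false

namespace Cfsg.Agent.Omega.NOThreeL.RRed.UPure

open Subgroup Cfsg Cfsg.Agent.Omega.NOThreeL.RWide
open Cfsg.Agent.Omega.KL.TwoS (Mx)
open Cfsg.Agent.Omega.TC.LemZ (card_eq)

universe u v

variable {G : Type u} [Group G] [Finite G] {O A V Z : Subgroup G}

/-- `v ∈ V \ Z` exists -/
theorem exists_not (hZV : Z ≤ V) (hc : Nat.card V = Nat.card Z ^ 2) (hne : Z ≠ ⊥) : ∃ v ∈ V, v ∉ Z := by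
  by_contra hcon
  push Not at hcon
  have h1 : V = Z := le_antisymm hcon hZV
  rw [h1] at hc
  have h2 : 1 < Nat.card Z := (Subgroup.one_lt_card_iff_ne_bot _).2 hne
  nlinarith

theorem root_cen (hr : RootOn A V Z) (hZV : Z ≤ V) (hZ : Z ≠ ⊥) (hm : ¬ A ≤ centralizer (V : Set G)) :
    V ⊓ centralizer (A : Set G) = Z := by
  refine le_antisymm ?_ (le_inf hZV fun z hz => mem_centralizer_iff.2 fun a ha => hr.fixZ a ha z hz)
  rintro v ⟨hv, hvA⟩
  by_contra hvZ
  rcases hr.full with h1 | h1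
  · exact hm h1
  · obtain ⟨z, hz⟩ := Subgroup.ne_bot_iff_exists_ne_one.1 hZ
    obtain ⟨f, hf, h2⟩ := (h1 v hv hvZ).1 z z.2
    have h3 := mem_centralizer_iff.1 hvA f hf
    apply hz
    apply Subtype.ext
    rw [← h2, h3]
    simp

theorem relIndex_left (hr : RootOn A V Z) (hZV : Z ≤ V) (hV : V ≤ centralizer (V : Set G)) (hZ : Z ≠ ⊥)
    (hc : Nat.card V = Nat.card Z ^ 2) (hm : ¬ A ≤ centralizer (V : Set G)) :
    (centralizer (V : Set G)).relIndex A = Nat.card Z := by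
  obtain ⟨v, hv, hvZ⟩ := exists_not hZV hc hZ
  rcases hr.full with h1 | h1
  · exact absurd h1 hm
  obtain ⟨h2, h3⟩ := h1 v hv hvZ
  have hmul : ∀ f g : A, (f * g : A).1 * v * (f * g : A).1⁻¹ * v⁻¹ =
      (f.1 * v * f.1⁻¹ * v⁻¹) * (g.1 * v * g.1⁻¹ * v⁻¹) := by
    intro f g
    have e1 := hr.comm f f.2 v hv
    have e2 := hr.comm g g.2 v hv
    have e3 := hr.fixZ f f.2 _ e2
    have e4 : (g.1 * v * g.1⁻¹ * v⁻¹) * (f.1 * v * f.1⁻¹ * v⁻¹) =
      (f.1 * v * f.1⁻¹ * v⁻¹) * (g.1 * v * g.1⁻¹ * v⁻¹) := (mem_centralizer_iff.1 (hV (hZV e1)) _ (hZV e2))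
    rw [← e4, Subgroup.coe_mul]
    calc f.1 * g.1 * v * (f.1 * g.1)⁻¹ * v⁻¹ = (f.1 * (g.1 * v * g.1⁻¹ * v⁻¹)) * (v * f.1⁻¹ * v⁻¹) := by group
      _ = ((g.1 * v * g.1⁻¹ * v⁻¹) * f.1) * (v * f.1⁻¹ * v⁻¹) := by rw [e3]
      _ = _ := by group
  let φ : A →* G := MonoidHom.mk' (fun f => f.1 * v * f.1⁻¹ * v⁻¹) hmul
  have hran : φ.range = Z := by
    apply le_antisymm
    · rintro _ ⟨f, rfl⟩
      exact hr.comm f f.2 v hv
    · intro z hz
      obtain ⟨f, hf, e⟩ := h2 z hz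
      exact ⟨⟨f, hf⟩, e⟩
  have hker : φ.ker = (centralizer (V : Set G)).subgroupOf A := by
    ext f
    rw [MonoidHom.mem_ker, mem_subgroupOf]
    constructor
    · intro h4
      have h5 : f.1 * v * f.1⁻¹ * v⁻¹ = 1 := h4
      exact h3 f f.2 (by
        have h6 : f.1 * v * f.1⁻¹ = v := mul_inv_eq_one.1 h5
        calc f.1 * v = (f.1 * v * f.1⁻¹) * f.1 := by group
          _ = v * f.1 := by rw [h6])
    · intro h4
      have h5 := mem_centralizer_iff.1 h4 v hv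
      show f.1 * v * f.1⁻¹ * v⁻¹ = 1
      rw [← h5]
      simp
  rw [relIndex, ← hker, Subgroup.index_ker, hran]

theorem relIndex_right (hr : RootOn A V Z) (hZV : Z ≤ V) (hZ : Z ≠ ⊥)
    (hc : Nat.card V = Nat.card Z ^ 2) (hm : ¬ A ≤ centralizer (V : Set G)) :
    (centralizer (A : Set G)).relIndex V = Nat.card Z := by
  have h1 := card_eq V (centralizer (A : Set G))
  rw [root_cen hr hZV hZ hm, hc, pow_two] at h1
  exact (Nat.eq_of_mul_eq_mul_left Nat.card_pos h1).symm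

section fam

variable {ι : Type v} {N l : ι → Subgroup G}

/-- the frame: `N b ≤ O` with line `l b` -/
structure Fam (O : Subgroup G) (N l : ι → Subgroup G) : Prop where
  NO : ∀ b, N b ≤ O
  sq : ∀ b, ∀ v ∈ N b, v ^ 2 = 1
  com : ∀ b c, N b ≤ centralizer (N c : Set G)
  dis : ∀ b c, b ≠ c → N b ⊓ N c = ⊥
  lN : ∀ b, l b ≤ N b
  lne : ∀ b, l b ≠ ⊥
  card : ∀ b, Nat.card (N b) = Nat.card (l b) ^ 2
  root : ∀ A : Subgroup G, Mx O A → ∀ b, RootOn A (N b) (l b)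

theorem Fam.cut (h : Fam O N l) (hA : Mx O A) {b c : ι} (hbc : b ≠ c) (hmb : ¬ A ≤ centralizer (N b : Set G))
    (hmc : ¬ A ≤ centralizer (N c : Set G)) : Mx O (A ⊓ centralizer (N c : Set G) ⊔ N c) ∧
      ¬ A ⊓ centralizer (N c : Set G) ⊔ N c ≤ centralizer (N b : Set G) := by
  have h1 : Mx O (A ⊓ centralizer (N c : Set G) ⊔ N c) := by
    refine hA.sup (h.NO c) (h.sq c) ?_
    rw [relIndex_left (h.root A hA c) (h.lN c) (h.com c c) (h.lne c) (h.card c) hmc,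
      relIndex_right (h.root A hA c) (h.lN c) (h.lne c) (h.card c) hmc]
  refine ⟨h1, fun h2 => hmb ?_⟩
  have h3 : N b ≤ A ⊓ centralizer (N c : Set G) ⊔ N c :=
    h1.le_of_comm (h.NO b) (h.sq b) (fun v hv => mem_centralizer_iff.2 fun a ha =>
      (mem_centralizer_iff.1 (h2 ha) v hv).symm)
  intro a ha
  refine mem_centralizer_iff.2 fun v hv => ?_
  have h4 : A ⊓ centralizer (N c : Set G) ≤ normalizer (N c : Set G) :=
    inf_le_right.trans (centralizer_le_normalizer _)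
  have h5 : v ∈ ((A ⊓ centralizer (N c : Set G) ⊔ N c : Subgroup G) : Set G) := h3 hv
  rw [coe_mul_of_left_le_normalizer_right _ _ h4] at h5
  obtain ⟨x, hx, w, hw, e⟩ := h5
  have e' : x * w = v := e
  have hax : a * x = x * a := (mem_centralizer_iff.1 (hA.comm hx.1) a ha)
  -- `[a, v] = x [a, w] x⁻¹`
  have hv1 : a * v * a⁻¹ * v⁻¹ ∈ N b := (h.lN b) ((h.root A hA b).comm a ha v hv)
  have hw1 : a * w * a⁻¹ * w⁻¹ ∈ N c := (h.lN c) ((h.root A hA c).comm a ha w hw)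
  have e1 : a * v * a⁻¹ * v⁻¹ = a * w * a⁻¹ * w⁻¹ := by
    have hxw := mem_centralizer_iff.1 hx.2 _ hw1
    calc a * v * a⁻¹ * v⁻¹ = (a * x) * w * a⁻¹ * w⁻¹ * x⁻¹ := by rw [← e']; group
      _ = x * (a * w * a⁻¹ * w⁻¹) * x⁻¹ := by rw [hax]; group
      _ = a * w * a⁻¹ * w⁻¹ := by rw [← hxw]; group
  have h6 : a * v * a⁻¹ * v⁻¹ ∈ N b ⊓ N c := ⟨hv1, e1 ▸ hw1⟩
  rw [h.dis b c hbc] at h6
  have h7 : a * v * a⁻¹ = v := mul_inv_eq_one.1 (mem_bot.1 h6)
  calc v * a = (a * v * a⁻¹) * a := by rw [h7]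
    _ = a * v := by group

/-- **pure members of `𝒜(O)`** -/
theorem Fam.exists_pure [Finite ι] (h : Fam O N l) {b : ι} (hm : ∃ A, Mx O A ∧ ¬ A ≤ centralizer (N b : Set G)) :
    ∃ A, Mx O A ∧ ¬ A ≤ centralizer (N b : Set G) ∧ ∀ c, c ≠ b → A ≤ centralizer (N c : Set G) := by
  classical
  have key : ∀ n : ℕ, ∀ A, Mx O A → ¬ A ≤ centralizer (N b : Set G) →
      Set.ncard {c | ¬ A ≤ centralizer (N c : Set G)} ≤ n →
      ∃ A, Mx O A ∧ ¬ A ≤ centralizer (N b : Set G) ∧ ∀ c, c ≠ b → A ≤ centralizer (N c : Set G) := by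
    intro n
    induction n with
    | zero =>
      intro A hA hmb hn
      exfalso
      have h1 : {c | ¬ A ≤ centralizer (N c : Set G)} = ∅ :=
        (Set.ncard_eq_zero (Set.toFinite _)).1 (Nat.le_zero.1 hn)
      have h2 : b ∈ {c | ¬ A ≤ centralizer (N c : Set G)} := hmb
      rw [h1] at h2
      exact h2
    | succ n ih =>
      intro A hA hmb hn
      by_cases hall : ∀ c, c ≠ b → A ≤ centralizer (N c : Set G)
      · exact ⟨A, hA, hmb, hall⟩
      · push Not at hall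
        obtain ⟨c, hc, hmc⟩ := hall
        obtain ⟨h1, h2⟩ := h.cut hA (Ne.symm hc) hmb hmc
        refine ih _ h1 h2 ?_
        have h3 : {d | ¬ A ⊓ centralizer (N c : Set G) ⊔ N c ≤ centralizer (N d : Set G)} ⊂
            {d | ¬ A ≤ centralizer (N d : Set G)} := by
          refine ⟨fun d hd hd' => hd (sup_le (inf_le_left.trans hd') (h.com c d)), fun h4 => ?_⟩
          exact h4 (show c ∈ {d | ¬ A ≤ centralizer (N d : Set G)} from hmc) (sup_le inf_le_right (h.com c c))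
        have h4 := Set.ncard_lt_ncard h3 (Set.toFinite _)
        omega
  obtain ⟨A, hA, hmb⟩ := hm
  exact key _ A hA hmb le_rfl

end fam

end Cfsg.Agent.Omega.NOThreeL.RRed.UPure

end
end

-- part: Mrg/Omega/NOThreeL/RLow/Final
section
prune_inst 0x200000000000000000040001c4282000000000b00010000020006800c028000062080000000000020040030000000000010000000000000000001180080000000020000a000000000000000000000000000000000000000000000000000200000000
set_option linter.all false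
open scoped Cfsg.Agent.FastGrp

-- merged: Cfsg.Agent.Mrg.Omega.NOThreeL.RLow.FrontP
section

section


/-!
# THEOREM R-LOW (#21762, helper597), the front for a set `Fa` of minimal parabolics

The same as `Low/LA/Front.lean` for a subset `Fa` of `P*(S)`.

`S` a Sylow 2-subgroup, `M ≤ N_G(V)` a group containing all `P ∈ Fa`, `F` a maximal bad subgroup of `V`
(`Flat.Hyp V F`), `X = C_G(F)`, `R = O₂(X)`, `E = V ∩ R = EE V F`, `W = ⟨E^X⟩ = WW V F`.

A *chamber* is an element `g` of `M` (standing for `S^g = MulAut.conj g • S`); its lines are `V_P^g`,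
`P ∈ Fa`; a line is *good* if it is contained in `E`.

* `Ch Fa M S W n g` : `g` is at gallery distance at most `n` from a chamber `a ∈ M` with `W ≤ S^a`;
* `Fr S M V F n` : all lines of chambers at distance `< n` are good, `1` is at distance `≤ n`;
* `Fr.gal` : **(GAL)** good lines `l`, `l'` at distance `≤ n`, `x ∈ X`: `[l^x, l'] = 1`, `l^x ≤ S^g`;
* `BB M S V F n` : the group generated by the `X`-conjugates of the good lines of chambers at distance `≤ n`;
  `Fr.B_comm`, `Fr.B_sq`, `Fr.X_norm_B`, `Fr.B_le_W`, `Fr.B_le_conj`, `Fr.cent_le_conj`.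
-/

set_option autoImplicit false

namespace Cfsg.Agent.Omega.NOThreeL.RLow.FP

open Subgroup Cfsg Cfsg.Agent.ZN Cfsg.Agent.Omega.MinPar Cfsg.Agent.Omega.Frame
open Cfsg.Agent.Omega.FrameNOFF
open Cfsg.Agent.Omega.NoFF.Basic (V conj_conj mem_conj conj_le_iff conj_le_centralizer comm_symm comm_mono
  Z_le_V V_le conj_V_mul Sys Gal conj_Z_le conj_self)
open Cfsg.Agent.Omega.NOne.Flat (EE WW Bad)
open Cfsg.Agent.Omega.NOne.NearFF (c)
open Cfsg.Agent.MinSimple.VModule (zl_le le_normalizer_zl zc_le_zl zc_le zl_le_zc o2_isPGroup le_normalizer_o2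
  mem_zc le_o2 o2_le le_centralizer_zc zc_sq)
open scoped Pointwise

universe u

variable {G : Type u} [Group G]

/-- `g` is at distance at most `n` from a chamber `a ∈ M` with `W ≤ S^a`. -/
def Ch (Fa : Set (Subgroup G)) (M S W : Subgroup G) (n : ℕ) (g : G) : Prop :=
  ∃ a, a ∈ M ∧ W ≤ MulAut.conj a • S ∧ Gal Fa n a g

/-- The good lines of the chambers at distance `≤ n`. -/
def Gd (Fa : Set (Subgroup G)) (M S V F : Subgroup G) (n : ℕ) : Set (Subgroup G) :=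
  {l | ∃ j ≤ n, ∃ g, Ch Fa M S (WW V F) j g ∧ ∃ P, P ∈ Fa ∧ l = MulAut.conj g • zl S P ∧ l ≤ EE V F}

/-- `B`: generated by the `X`-conjugates of the good lines of the chambers at distance `≤ n`. -/
def BB (Fa : Set (Subgroup G)) (M S V F : Subgroup G) (n : ℕ) : Subgroup G :=
  sSup {A | ∃ l ∈ Gd Fa M S V F n, ∃ x ∈ centralizer (F : Set G), A = MulAut.conj x • l}

/-- **The front**: all lines of chambers at distance `< n` are good, `1` is at distance `≤ n`. -/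
structure Fr [Finite G] (Fa : Set (Subgroup G)) (S : Sylow 2 G) (M V F : Subgroup G) (n : ℕ) : Prop where
  hc : IsCharacteristicTwoType G
  noff : ¬ FF (S : Subgroup G)
  hyp : NOne.Flat.Hyp V F
  PP : ∀ P ∈ Fa, IsParS (S : Subgroup G) P
  PM : ∀ P ∈ Fa, P ≤ M
  MV : M ≤ normalizer (V : Set G)
  ZV : zc (S : Subgroup G) ≤ V
  least : ∀ j < n, ∀ g, Ch Fa M (S : Subgroup G) (WW V F) j g → ∀ P ∈ Fa,
    MulAut.conj g • zl (S : Subgroup G) P ≤ EE V F
  one : Ch Fa M (S : Subgroup G) (WW V F) n 1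

/-! ### chambers -/

section ch

variable {Fa : Set (Subgroup G)} {M S W : Subgroup G}

theorem Ch.mul {n : ℕ} {g : G} (h : Ch Fa M S W n g) {P : Subgroup G} (hP : P ∈ Fa) {p : G} (hp : p ∈ P) :
    Ch Fa M S W (n + 1) (g * p) := by
  obtain ⟨a, ha, haW, hg⟩ := h
  exact ⟨a, ha, haW, hg.step hP hp⟩

theorem Ch.mem (hM : ∀ P ∈ Fa, P ≤ M) {n : ℕ} {g : G} (h : Ch Fa M S W n g) : g ∈ M := by
  obtain ⟨a, ha, -, hg⟩ := h
  induction hg with
  | zero => exact ha
  | step _ hP hp ih => exact mul_mem (ih ha) (hM _ hP hp)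

theorem Ch.zero_le {g : G} (h : Ch Fa M S W 0 g) : W ≤ MulAut.conj g • S := by
  obtain ⟨a, _, haW, hg⟩ := h
  cases hg
  exact haW

/-- the last step of a gallery -/
theorem Ch.last {n : ℕ} {g : G} (h : Ch Fa M S W (n + 1) g) :
    ∃ P, P ∈ Fa ∧ ∃ p ∈ P, ∃ g', Ch Fa M S W n g' ∧ g = g' * p := by
  obtain ⟨a, ha, haW, hg⟩ := h
  cases hg with
  | @step _ _ g' p P hg hP hp => exact ⟨P, hP, p, hp, g', ⟨a, ha, haW, hg⟩, rfl⟩

theorem Ch.mono {n k : ℕ} (hnk : n ≤ k) (hne : Fa.Nonempty) {g : G} (h : Ch Fa M S W n g) :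
    Ch Fa M S W k g := by
  obtain ⟨P, hP⟩ := hne
  induction hnk with
  | refl => exact h
  | step _ ih =>
    have := ih.mul hP (one_mem P)
    rwa [mul_one] at this

end ch

namespace Fr

variable [Finite G] {Fa : Set (Subgroup G)} {S : Sylow 2 G} {M V F : Subgroup G} {n : ℕ} (h : Fr Fa S M V F n)
include h

theorem sys : Sys (S : Subgroup G) (zc (S : Subgroup G)) (PS (S : Subgroup G)) :=
  FrameNOFF.sys h.hc S h.noff

/-- `C_{S^g}(V_P^g) ≤ S^{gp}` -/
theorem pass {P : Subgroup G} (hP : P ∈ Fa) {g p : G} (hp : p ∈ P) {A : Subgroup G}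
    (hA : A ≤ MulAut.conj g • (S : Subgroup G))
    (hc : A ≤ centralizer ((MulAut.conj g • zl (S : Subgroup G) P : Subgroup G) : Set G)) :
    A ≤ MulAut.conj (g * p) • (S : Subgroup G) :=
  h.sys.pass (h.PP P hP) hp hA fun _ hp' => comm_mono hc le_rfl (conj_Z_le hp')

theorem conj_V {g : G} (hg : g ∈ M) : MulAut.conj g • V = V := NOne.Flat.conj_eq_of_norm (h.MV hg)

theorem mem_M {j : ℕ} {g : G} (hg : Ch Fa M (S : Subgroup G) (WW V F) j g) : g ∈ M := hg.mem h.PM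

/-- `l^x ≤ S^{g'}`, from (GAL) for smaller distances -/
theorem gal_le {k : ℕ} (ih : ∀ m < k, ∀ i j : ℕ, i + j = m → i ≤ n → j ≤ n → ∀ g g' : G,
    Ch Fa M (S : Subgroup G) (WW V F) i g → Ch Fa M (S : Subgroup G) (WW V F) j g' →
    ∀ P P' : Subgroup G, P ∈ Fa → P' ∈ Fa →
    MulAut.conj g • zl (S : Subgroup G) P ≤ EE V F → MulAut.conj g' • zl (S : Subgroup G) P' ≤ EE V F →
    ∀ x ∈ centralizer (F : Set G),
      MulAut.conj (x * g) • zl (S : Subgroup G) P ≤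
        centralizer ((MulAut.conj g' • zl (S : Subgroup G) P' : Subgroup G) : Set G))
    {i : ℕ} (hi : i ≤ n) {g : G} (hg : Ch Fa M (S : Subgroup G) (WW V F) i g)
    {P : Subgroup G} (hP : P ∈ Fa) (hl : MulAut.conj g • zl (S : Subgroup G) P ≤ EE V F)
    {x : G} (hx : x ∈ centralizer (F : Set G)) :
    ∀ j : ℕ, i + j ≤ k → j ≤ n → ∀ g' : G, Ch Fa M (S : Subgroup G) (WW V F) j g' →
      MulAut.conj (x * g) • zl (S : Subgroup G) P ≤ MulAut.conj g' • (S : Subgroup G) := by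
  intro j
  induction j with
  | zero =>
    intro _ _ g' hg'
    refine le_trans ?_ hg'.zero_le
    rw [← conj_conj]
    exact (conj_le_iff.2 hl).trans (NOne.Flat.Hyp.conjE_le_W hx)
  | succ j ihj =>
    intro hij hj g' hg'
    obtain ⟨P', hP', p, hp, g'', hg'', rfl⟩ := hg'.last
    have h1 := h.least j (by omega) g'' hg'' P' hP'
    have h2 := ih (i + j) (by omega) i j rfl hi (by omega) g g'' hg hg'' P P' hP hP' hl h1 x hx
    exact h.pass hP' hp (ihj (by omega) (by omega) g'' hg'') h2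

/-- **(GAL)** -/
theorem gal_aux (k : ℕ) : ∀ i j : ℕ, i + j = k → i ≤ n → j ≤ n → ∀ g g' : G,
    Ch Fa M (S : Subgroup G) (WW V F) i g → Ch Fa M (S : Subgroup G) (WW V F) j g' →
    ∀ P P' : Subgroup G, P ∈ Fa → P' ∈ Fa →
    MulAut.conj g • zl (S : Subgroup G) P ≤ EE V F → MulAut.conj g' • zl (S : Subgroup G) P' ≤ EE V F →
    ∀ x ∈ centralizer (F : Set G),
      MulAut.conj (x * g) • zl (S : Subgroup G) P ≤
        centralizer ((MulAut.conj g' • zl (S : Subgroup G) P' : Subgroup G) : Set G) := by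
  induction k using Nat.strong_induction_on with
  | _ k ih =>
    intro i j hij hi hj g g' hg hg' P P' hP hP' hl hl' x hx
    have h1 := h.gal_le ih hi hg hP hl hx j (by omega) hj g' hg'
    have h2 := h.gal_le ih hj hg' hP' hl' (inv_mem hx) i (by omega) hi g hg
    refine h.sys.noff' (h.PP P hP) (h.PP P' hP') (h1.trans (conj_le_iff.2 (h.PP P' hP').le)) ?_
    have h3 := conj_le_iff (g := x).2 h2
    rw [conj_conj, conj_conj, mul_inv_cancel_left] at h3
    exact h3.trans (conj_le_iff.2 (h.PP P hP).le)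

/-- **(GAL)**: good lines at distance `≤ n`: `[l^x, l'] = 1` for `x ∈ X`. -/
theorem gal {i j : ℕ} (hi : i ≤ n) (hj : j ≤ n) {g g' : G} (hg : Ch Fa M (S : Subgroup G) (WW V F) i g)
    (hg' : Ch Fa M (S : Subgroup G) (WW V F) j g') {P P' : Subgroup G} (hP : P ∈ Fa)
    (hP' : P' ∈ Fa) (hl : MulAut.conj g • zl (S : Subgroup G) P ≤ EE V F)
    (hl' : MulAut.conj g' • zl (S : Subgroup G) P' ≤ EE V F) {x : G} (hx : x ∈ centralizer (F : Set G)) :
    MulAut.conj (x * g) • zl (S : Subgroup G) P ≤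
      centralizer ((MulAut.conj g' • zl (S : Subgroup G) P' : Subgroup G) : Set G) :=
  h.gal_aux _ i j rfl hi hj g g' hg hg' P P' hP hP' hl hl' x hx

/-! ### the group `B` -/

omit [Finite G] h in
theorem BB_le {A : Subgroup G} (hA : ∀ l ∈ Gd Fa M (S : Subgroup G) V F n, ∀ x ∈ centralizer (F : Set G),
    MulAut.conj x • l ≤ A) : BB Fa M (S : Subgroup G) V F n ≤ A :=
  sSup_le (by rintro _ ⟨l, hl, x, hx, rfl⟩; exact hA l hl x hx)

/-- `B` is abelian. -/
theorem B_comm : BB Fa M (S : Subgroup G) V F n ≤ centralizer (BB Fa M (S : Subgroup G) V F n : Set G) := by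
  refine BB_le ?_
  rintro _ ⟨i, hi, g, hg, P, hP, rfl, hl⟩ x hx
  refine comm_symm (BB_le ?_)
  rintro _ ⟨j, hj, g', hg', P', hP', rfl, hl'⟩ x' hx'
  refine comm_symm ?_
  have h1 := h.gal hi hj hg hg' hP hP' hl hl' (mul_mem (inv_mem hx') hx)
  have h2 := conj_le_centralizer (g := x') h1
  rwa [conj_conj, ← mul_assoc, mul_inv_cancel_left, ← conj_conj] at h2

/-! ### (B1) -/

/-- the adjacent chamber at distance `n - 1` -/
theorem exists_adj {k : ℕ} (hn : n = k + 1) : ∃ R, R ∈ Fa ∧ ∃ m ∈ R,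
    Ch Fa M (S : Subgroup G) (WW V F) k m := by
  have h1 := h.one
  rw [hn] at h1
  obtain ⟨R, hR, p, hp, g, hg, e⟩ := h1.last
  have e2 : g = p⁻¹ := eq_inv_of_mul_eq_one_left e.symm
  refine ⟨R, hR, p⁻¹, R.inv_mem hp, ?_⟩
  rwa [← e2]

end Fr

end Cfsg.Agent.Omega.NOThreeL.RLow.FP

end

section


/-!
# THEOREM R-LOW, the front for a family `Fa` of minimal parabolics and a root `L = ⟨Fa⟩`

* `exists_gal` : galleries;
* `exists_fr_of` : the front;
* `sit_of` : the situation `SitG Fa S V F B P`;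
* `exists_sit` : if the root module `⟨Z^L⟩` is not FF and not in `Q`, then there is a situation.
-/

set_option autoImplicit false

namespace Cfsg.Agent.Omega.NOThreeL.RLow.FL

open Subgroup Cfsg
open Cfsg.Agent.ZN hiding mem_zc le_o2 le_normalizer_o2 zl_le
open Cfsg.Agent.Omega.MinPar Cfsg.Agent.Omega.Frame
open Cfsg.Agent.Omega.FrameNOFF
open Cfsg.Agent.Omega.NoFF.Basic (conj_conj mem_conj conj_le_iff conj_le_centralizer comm_symm comm_mono Gal)
open Cfsg.Agent.Omega.NOne.Flat (EE WW Hyp)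
open Cfsg.Agent.Omega.NOThreeL.Basic (CaseA WP zl_le_WP)
open Cfsg.Agent.Omega.NOThreeL.Pair (conj_eq_of_mem)
open Cfsg.Agent.Omega.NO3b (Wc.Root Wc.VL Wc.ML)
open Cfsg.Agent.Omega.Node.NO3L
open Cfsg.Agent.Omega.NOThreeL.Low (zc_ne_bot exists_max_bad)
open Cfsg.Agent.Omega.NOThreeL.RLow.FP
open Cfsg.Agent.ZN.ChoiceBase (isPGroup_cj cj)
open Cfsg.Agent.MinSimple.VModule (zc_le_zl zc_le zl_le_zc o2_isPGroup le_normalizer_o2
  mem_zc le_o2 o2_le le_centralizer_zc zc_sq)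
open scoped Pointwise

universe u

variable {G : Type u} [Group G]

section sup

variable [Finite G] {Fa : Set (Subgroup G)} {S : Sylow 2 G} {M V F : Subgroup G} {n : ℕ}

end sup

variable [Finite G] {S : Sylow 2 G} {Fa : Set (Subgroup G)}

end Cfsg.Agent.Omega.NOThreeL.RLow.FL

end

section


/-!
# THEOREM R-LOW (#21762), part RA: the bad line `U = V_P` is FF

* `SitR.zc_inf`, `SitR.not_le` : `Z ∩ F = 1`, `V ∩ B ≰ F`; `SitR.not_notFF` : `V_P` is FF;
* `ra` : **RA**; `SitR.concl` : the FF theorem for `V_P` (with the radical `cv S P`);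
* `SitR.card_le`, `SitR.two_lt` : `|Z| ≤ ι = |B : B ∩ N|`, `2 < ι`; `SitR.t1` : (T1).
-/

set_option autoImplicit false

namespace Cfsg.Agent.Omega.NOThreeL.RLow

open Subgroup Cfsg
open Cfsg.Agent.ZN
open Cfsg.Agent.Omega.MinPar Cfsg.Agent.Omega.Frame Cfsg.Agent.Omega.FrameNOFF
open Cfsg.Agent.Omega.NO3b.EZero (NotFF)
open Cfsg.Agent.Omega.FFThm (ElemM OffM NoOverM ConclM NatKM SymKM)
open Cfsg.Agent.Omega.FrameFF (cv)
open Cfsg.Agent.Omega.NOThreeL.Low (Key.BH)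
open Cfsg.Agent.Omega.NOne.Flat (Hyp EE WW NN)
open Cfsg.Agent.Omega.NOne.NearFF (c)
open Cfsg.Agent.Omega.Half (Amb amb_of_loc)
open Cfsg.Agent.MinSimple.VModule (zc_le_zl)
open scoped Pointwise

universe u

variable {G : Type u} [Group G] [Finite G] {S : Sylow 2 G} {V F B P : Subgroup G}

theorem SitR.zc_inf (s : SitR S V F B P) : zc (S : Subgroup G) ⊓ F = ⊥ := by
  have h := s.pt P s.hP s.bad 1 (one_mem P)
  rwa [map_one, one_smul] at h

/-- The points of `U` meet `F` trivially. -/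
theorem SitR.ptP (s : SitR S V F B P) {g : G} (hg : g ∈ P) : MulAut.conj g • zc (S : Subgroup G) ⊓ F = ⊥ :=
  s.pt P s.hP s.bad g hg

theorem SitR.zc_ne_bot (s : SitR S V F B P) : zc (S : Subgroup G) ≠ ⊥ :=
  MinSimple.Basic.zc_ne_bot S.isPGroup' (s.ctx.sylow_ne_bot S)

/-- `Z ≤ V ∩ B` -/
theorem SitR.zc_le_I (s : SitR S V F B P) : zc (S : Subgroup G) ≤ V ⊓ B :=
  le_inf ((_root_.Cfsg.Agent.MinSimple.VModule.zc_le_zl _ P).trans s.UV) s.ZB

/-- `V ∩ B ≰ F` -/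
theorem SitR.not_le (s : SitR S V F B P) : ¬ V ⊓ B ≤ F := by
  intro h
  refine s.zc_ne_bot (le_bot_iff.1 ?_)
  rw [← s.zc_inf]
  exact le_inf le_rfl (s.zc_le_I.trans h)

/-- **(nFF)** -/
theorem SitR.not_notFF (s : SitR S V F B P) : ¬ NotFF (zl (S : Subgroup G) P) :=
  Low.NonFF.ff s.ctx.char2 s.hP (s.D.low P s.hP) s.flat s.BW s.FB s.comm s.XB s.not_le s.BS s.UV s.bad

/-- `U = V_P` has an offender in `S`. -/
theorem SitR.exists_off (s : SitR S V F B P) :
    ∃ A : Subgroup G, A ≤ (S : Subgroup G) ∧ OffM (zl (S : Subgroup G) P) A :=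
  Low.exists_off (s.hP.le.trans (MinSimple.VModule.le_normalizer_zl _ _)) s.not_notFF

/-- The FF theorem for the bad line. -/
theorem SitR.concl (s : SitR S V F B P) :
    NoOverM (zl (S : Subgroup G) P) P ∧ ConclM (S : Subgroup G) P := by
  obtain ⟨A, hA, ho⟩ := s.exists_off
  exact StarEnd.stmtM G (S : Subgroup G) P (MinSimple.EmptyTI.syl_of_le s.hP.le)
    s.hP.toIsMinPar (s.hP.isLoc.char2 S s.ctx.char2) ⟨A, hA.trans s.hP.le, ho⟩

/-- **RA**: `U` is an FF-module. -/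
theorem ra : StRA.{u} := by
  intro G _ _ S V F B P s
  obtain ⟨A, hA, ho⟩ := s.exists_off
  exact ⟨A, hA.trans s.hP.le, ho⟩

/-! ### Common facts -/

/-- `BH` of `Low/Key`. -/
theorem SitR.bh (s : SitR S V F B P) : Low.Key.BH V F B :=
  { s.flat with le_W := s.BW, F_le := s.FB, abel := s.comm, norm := s.XB }

theorem SitR.amb (s : SitR S V F B P) : Amb (S : Subgroup G) P (zl (S : Subgroup G) P) :=
  amb_of_loc s.ctx.char2 S s.hP.toIsPar.isLoc

/-- `|Z| ≤ |I : F|` -/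
theorem SitR.card_le (s : SitR S V F B P) : Nat.card (zc (S : Subgroup G)) ≤ F.relIndex (V ⊓ B) := by
  have h1 : F.relIndex (zc (S : Subgroup G)) = Nat.card (zc (S : Subgroup G)) := by
    rw [← inf_relIndex_right, inf_comm, s.zc_inf, relIndex_bot_left]
  rw [← h1]
  exact relIndex_le_of_le_right s.zc_le_I index_ne_zero_of_finite

/-- `2 < ι = |B : B ∩ N|` -/
theorem SitR.two_lt (s : SitR S V F B P) : 2 < (NN V F).relIndex B := by
  rw [s.bh.relIndex_B]
  exact s.card.trans_le s.card_le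

/-- `B` does not centralise `w ∈ V - E`. -/
theorem SitR.exists_moved (s : SitR S V F B P) {w : G} (hw : w ∈ V) (hwE : w ∉ EE V F) :
    ∃ b ∈ B, c w b ∉ F := by
  by_contra hall
  push Not at hall
  have h1 : B ≤ NN V F := fun b hb => s.bh.mem_NN_of_c hw hwE hb (hall b hb)
  have h2 := s.two_lt
  rw [relIndex_eq_one.2 h1] at h2
  omega

/-- **(T1)** -/
theorem SitR.t1 (s : SitR S V F B P) {w : G} (hw : w ∈ V) (hwE : w ∉ EE V F)
    (hall : ∀ b ∈ B, ∀ c ∈ B, b * w * b⁻¹ ≠ w → c * w * c⁻¹ ≠ w → b * w * b⁻¹ = c * w * c⁻¹) : False := by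
  have h1 := s.bh.relIndex_le_two hw hwE hall
  rw [← s.bh.relIndex_B] at h1
  exact absurd s.two_lt (not_lt.2 h1)

end Cfsg.Agent.Omega.NOThreeL.RLow

end

section


/-!
# THEOREM R-LOW (#21762), RE: the torus (port of `Low/Torus.lean`)

* `core_of` : the situation `Core` of `TorusCore` from `NSitR`, `x ∈ C_G(F)` bad;
* **`re : StRE`**;
* `point_of` : if `g ∈ C_G(F)` acts on `R_i` as the multiplication by `l ≠ 0`, then `Z^g` is a point of `U`;
* `tor_point` : for `r, r' ∈ R_i#` some `g ∈ C_G(F)` maps `r` to `r'` and `Z^g` is a point of `U`.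
-/

set_option autoImplicit false

namespace Cfsg.Agent.Omega.NOThreeL.RLow

open Subgroup Cfsg Cfsg.Agent.ZN Cfsg.Agent.Omega.MinPar Cfsg.Agent.Omega.Frame Cfsg.Agent.Omega.FrameNOFF
open Cfsg.Agent.Omega.NoFF.Basic (mem_conj)
open Cfsg.Agent.Omega.NOne.Frame (mem_conj')
open Cfsg.Agent.Omega.NOThreeL.Low (Blk Rtv Tor Core Key.exists_bad blk exists_blk mem_blk)
open Cfsg.Agent.Omega.NOne.Flat (Hyp EE WW NN BadX)
open Cfsg.Agent.Omega.FFThm (NatKM ActsSL)
open Cfsg.Agent.Omega.NatPair (ap ap_zero' ap_one' ap_one ext2)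
open Cfsg.Agent.Lib.SL2Mat
open scoped Pointwise

universe u



variable {G : Type u} [Group G] [Finite G] {S : Sylow 2 G} {V F B P : Subgroup G}
  {K : Type} [Field K] {k : ℕ} {N : NatKM K (S : Subgroup G) P (zl (S : Subgroup G) P) ⊥ k} {i : Fin k} {β : G → K}

namespace NSitR

variable (s : NSitR S V F B P N i β)
include s

theorem blk_le_V : blk N i ≤ V := fun _ hv => s.UV hv.1

/-- `β b = 0` if `b ∈ B` centralises `N_i` -/
theorem mem_NN_of_comm {b : G} (hb : b ∈ B) (h : ∀ n ∈ blk N i, b * n = n * b) : b ∈ NN V F := by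
  refine (s.βN b hb).1 ?_
  obtain ⟨a, ha, hea⟩ := exists_blk N i ![0, 1]
  have h1 := (s.act b hb a ha).2
  rw [h a ha, mul_inv_cancel_right, hea, NF.NatR.ap_up] at h1
  have h2 := congrFun h1 0
  simpa using h2.symm

/-- The situation of `TorusCore`. -/
theorem core_of {x : G} (hx : x ∈ centralizer (F : Set G)) (hb : BadX V x) :
    Core (centralizer (F : Set G)) V B (blk N i) (fun v => N.e v i) β x := by
  have hRE : ∀ a ∈ blk N i, N.e a i 1 = 0 → a ∈ EE V F := fun a ha h => (s.blkE a ha).2 h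
  have hBc : ∀ a ∈ B, ∀ b ∈ B, a * b = b * a := fun a ha b hb => (mem_centralizer_iff.1 (s.comm ha) b hb).symm
  have hxF : ∀ {y f : G}, y ∈ centralizer (F : Set G) → f ∈ F → y * f * y⁻¹ = f := fun {y f} hy hf => by
    have := mem_centralizer_iff.1 hy f hf
    rw [← this, mul_inv_cancel_right]
  refine ⟨s.blk_le_V, fun a ha b hb => s.flat.V_comm ha hb, s.flat.V_le_X, s.XB, hBc,
    fun a ha => by rw [← pow_two]; exact s.sq a ha, fun a ha b hb => ?_, fun a ha h => ?_,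
    fun y => exists_blk N i y, fun a ha h => s.rtB a ⟨ha, h⟩, fun b hb a ha => ?_, hx,
    fun g hg a ha hne hca a' ha' hca' he v hv w hw => ?_, fun a ha hca h => ?_, fun a ha hca h => ?_⟩
  · rw [N.mul a ha.1 b hb.1, Pi.add_apply]
  · have h1 : N.e a = 0 := by
      funext j
      by_cases hj : j = i
      · subst hj; exact h
      · exact ha.2 j hj
    exact mem_bot.1 ((N.ker a ha.1).1 h1)
  · obtain ⟨h1, h2⟩ := s.act b hb a ha
    exact ⟨h1, by rw [h2, NF.NatR.ap_up]⟩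
  · -- `ti`
    have h1 : a ∈ V ⊓ MulAut.conj g • V := by
      refine ⟨s.blk_le_V ha, ?_⟩
      rw [← he]
      exact mem_conj'.2 ⟨a', s.blk_le_V ha', rfl⟩
    have h2 : F < V ⊓ MulAut.conj g • V := by
      refine lt_of_le_of_ne (s.flat.F_le_inf hg) fun h3 => hne (s.blkF a ha ?_)
      rw [h3]; exact h1
    have h3 := s.flat.commute_of_lt hg h2
    have h4 : g * w * g⁻¹ ∈ MulAut.conj g • V := mem_conj'.2 ⟨w, hw, rfl⟩
    exact mem_centralizer_iff.1 (h3 h4) v hv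
  · -- `dis`
    have hxa : x * a * x⁻¹ ∈ B := (mem_normalizer_iff.1 (s.XB hx) a).1 (s.rtB a ⟨ha, hca⟩)
    have h1 : x * a * x⁻¹ ∈ NN V F := s.mem_NN_of_comm hxa h
    have h2 : x * a * x⁻¹ ∈ F := by
      rw [← s.flat.conjE_inf_NN hx hb]
      exact ⟨mem_conj'.2 ⟨a, hRE a ha hca, rfl⟩, h1⟩
    refine s.blkF a ha ?_
    have h3 := hxF (inv_mem hx) h2
    have e1 : x⁻¹ * (x * a * x⁻¹) * x⁻¹⁻¹ = a := by group
    rw [e1] at h3
    rw [h3]; exact h2
  · -- `dis'`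
    have hxa : x⁻¹ * a * x ∈ B := by
      have := (mem_normalizer_iff.1 (s.XB (inv_mem hx)) a).1 (s.rtB a ⟨ha, hca⟩)
      rwa [inv_inv] at this
    have h1 : x⁻¹ * a * x ∈ NN V F := by
      refine s.mem_NN_of_comm hxa fun n hn => ?_
      have h2 := congrArg (fun t => x⁻¹ * t * x) (h n hn)
      have e1 : x⁻¹ * (a * (x * n * x⁻¹)) * x = x⁻¹ * a * x * n := by group
      have e2 : x⁻¹ * (x * n * x⁻¹ * a) * x = n * (x⁻¹ * a * x) := by group
      have h3 : x⁻¹ * (a * (x * n * x⁻¹)) * x = x⁻¹ * (x * n * x⁻¹ * a) * x := h2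
      rwa [e1, e2] at h3
    refine s.blkF a ha ?_
    rw [← s.flat.E_inf_conjNN hx hb]
    exact ⟨hRE a ha hca, mem_conj.2 h1⟩

end NSitR

/-- **RE**: the torus. -/
theorem re : StRE.{u} := by
  intro G _ _ S V F B P K _ _ _ k N i β s l hl
  obtain ⟨x, hx, hb⟩ := Key.exists_bad s.flat
  obtain ⟨g, hg, h⟩ := (s.core_of hx hb).torus hl
  have hle : blk N i ⊔ ChoiceBase.cj x (blk N i) ≤ centralizer (F : Set G) := by
    have h1 : blk N i ≤ centralizer (F : Set G) := s.blk_le_V.trans s.flat.V_le_X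
    refine sup_le h1 ?_
    rintro _ ⟨n, hn, rfl⟩
    exact mul_mem (mul_mem hx (h1 hn)) (inv_mem hx)
  refine ⟨g, hle hg, fun r hr => ?_⟩
  obtain ⟨h1, h2⟩ := h r hr.1 hr.2
  have h2' : N.e (g * r * g⁻¹) i = ![l * N.e r i 0, 0] := h2
  exact ⟨⟨h1, by rw [h2']; rfl⟩, by rw [h2']; rfl⟩

/-! ### `Z^g` is a point of `U` -/

/-- If `g ∈ C_G(F)` acts on `R_i` as the multiplication by `l ≠ 0`, then `Z^g` is a point of `U`. -/
theorem NSitR.point_of (s : NSitR S V F B P N i β) {l : K} (hl : l ≠ 0) {g : G}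
    (hg : g ∈ centralizer (F : Set G))
    (h : ∀ r, Rtv N i r → Rtv N i (g * r * g⁻¹) ∧ N.e (g * r * g⁻¹) i 0 = l * N.e r i 0) :
    ∃ q ∈ P, MulAut.conj g • zc (S : Subgroup G) = MulAut.conj q • zc (S : Subgroup G) := by
  classical
  -- the torus element of the block `i`
  obtain ⟨q, hq, hqa⟩ := N.lift (Pi.mulSingle i (dg l hl))
  refine ⟨q, hq, ?_⟩
  have hzU : ∀ z ∈ zc (S : Subgroup G), z ∈ zl (S : Subgroup G) P := fun z hz =>
    Cfsg.Agent.MinSimple.VModule.zc_le_zl _ _ hz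
  have hPU : P ≤ normalizer (zl (S : Subgroup G) P : Set G) := Cfsg.Agent.MinSimple.VModule.le_normalizer_zl _ _
  have key : ∀ z ∈ zc (S : Subgroup G), g * z * g⁻¹ = q * z * q⁻¹ := by
    intro z hz
    obtain ⟨r, hr, her, hrz⟩ := s.zF z hz
    have hzU' := hzU z hz
    obtain ⟨h1, h2⟩ := h r hr
    have e1 : g * z * g⁻¹ = g * r * g⁻¹ * (r⁻¹ * z) := by
      have h3 := mem_centralizer_iff.1 hg _ hrz
      calc g * z * g⁻¹ = g * r * ((r⁻¹ * z) * g⁻¹) := by group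
        _ = g * r * (g⁻¹ * (r⁻¹ * z)) := by
          congr 1
          rw [eq_inv_mul_iff_mul_eq, ← mul_assoc, ← h3, mul_inv_cancel_right]
        _ = _ := by group
    have hrU : r⁻¹ * z ∈ zl (S : Subgroup G) P := mul_mem (inv_mem hr.1.1) hzU'
    have hzi1 : N.e z i 1 = 0 := by rw [← her]; exact hr.2
    refine NF.NatR.e_inj (M := N) ?_ (NF.NatR.cmem hPU hq hzU') ?_
    · rw [e1]; exact mul_mem h1.1.1 hrU
    · funext j
      rw [e1, N.mul _ h1.1.1 _ hrU, N.mul _ (inv_mem hr.1.1) _ hzU', NF.NatR.e_inv (M := N) hr.1.1, hqa.1 z hzU' j]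
      by_cases hj : j = i
      · subst hj
        rw [Pi.add_apply, Pi.add_apply, Pi.neg_apply, her, neg_add_cancel, add_zero, Pi.mulSingle_eq_same]
        refine ext2 ?_ ?_
        · rw [h2, her, ap_zero', dg_00, dg_01]; simp
        · rw [h1.2, ap_one', dg_10, dg_11, hzi1]; simp
      · rw [Pi.add_apply, Pi.add_apply, Pi.neg_apply, h1.1.2 j hj, hr.1.2 j hj, Pi.mulSingle_eq_of_ne hj, ap_one]
        simp
  ext y
  rw [mem_conj', mem_conj']
  constructor
  · rintro ⟨z, hz, rfl⟩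
    exact ⟨z, hz, key z hz⟩
  · rintro ⟨z, hz, rfl⟩
    exact ⟨z, hz, (key z hz).symm⟩

end Cfsg.Agent.Omega.NOThreeL.RLow

end

end

-- merged: Cfsg.Agent.Mrg.Omega.NOThreeL.RLow.RRLow
section

/-!
# Box R of NO-3L: `R = RR S ≤ Q = O₂(C_G(Z))` (helper597)

`RR S` is the largest member of `NN(S)` which is `⟨P*(S)⟩`-invariant and generated by the conjugates of its part of `Z`.
No assumption about `V*` (FF or not).

* `root_LL` : `L = ⟨P ∈ P*(S) : C_S(R) ≤ O₂(P)⟩` is a root: `⟨Z^L⟩` is not FF;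
* `zl_LL_le`, `rr_le` : `⟨Z^L⟩ ≤ Q`, `RR S ≤ Q` in box R, not (A), from the parts of THEOREM R-LOW.
-/

set_option autoImplicit false

namespace Cfsg.Agent.Omega.NOThreeL.RLow.RRLow

open Subgroup Cfsg
open Cfsg.Agent.ZN (o2 zc zl jj)
open Cfsg.Agent.ZN.ChoiceBase hiding mem_zc
open Cfsg.Agent.Omega.MinPar Cfsg.Agent.Omega.Frame Cfsg.Agent.Omega.FrameNOFF
open Cfsg.Agent.Omega.Node.NO3L Cfsg.Agent.Omega.NOThreeL.Basic
open Cfsg.Agent.Omega.NO3b.EZero (NotFF)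
open Cfsg.Agent.Omega.NO3b.Bang
open Cfsg.Agent.Omega.NO1.BestOff (Best exists_best)
open Cfsg.Agent.Omega.NOThreeL.Star (YS le_YS S_le_YS zl_mono)
open Cfsg.Agent.Omega.NOThreeL.Merge (MZ)
open Cfsg.Agent.Omega.NO3S (FFMod)
open Cfsg.Agent.Omega.NO3b (Wc.Root Wc.VL Wc.ML)
open Cfsg.Agent.Omega.NOThreeL.RZ (Inv RR LL V_le_of le_norm_V V_mono inv_RR)
open Cfsg.Agent.MinSimple.VModule (zc_le_zl le_normalizer_zl zl_le zc_le mem_zc le_centralizer_zc zc_sq
  le_normalizer_o2 o2_isPGroup o2_le le_o2 normalizer_le_normalizer_zc)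
open scoped Pointwise

universe u

variable {G : Type u} [Group G] [Finite G] {S : Sylow 2 G} {R : Subgroup G}

section inv

variable (hR : _root_.Cfsg.Agent.Omega.NOThreeL.RZ.Inv (S : Subgroup G) R)
include hR

omit [Finite G] in
theorem par {P : Subgroup G} (hP : IsParS (S : Subgroup G) P) : P ≤ normalizer (R : Set G) := (le_YS hP).trans hR.ys

end inv

end Cfsg.Agent.Omega.NOThreeL.RLow.RRLow

end

-- merged: Cfsg.Agent.Mrg.Omega.NOThreeL.RLow.SymR
section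

section


/-!
# THEOREM R-LOW (#21762), part RB: the bad line is not of symmetric type, radical or not

* `bh`, `Z_inf_F`, `two_lt`, `quad`, `false_of_few` : (T1) + (I2) for `SitR`;
* `rb : StRB` : `U = A × D`, `D = C_U(O²(P)) ≤ Z ≤ E` (the module splits), so `A ≰ E` and `SymCase.le_of_t1` for `A`.
-/

set_option autoImplicit false

namespace Cfsg.Agent.Omega.NOThreeL.RLow.SymR

open Subgroup Cfsg Cfsg.Agent.ZN Cfsg.Agent.Omega.MinPar Cfsg.Agent.Omega.Frame Cfsg.Agent.Omega.FrameNOFF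
open Cfsg.Agent.Omega.NOne.Flat (Hyp EE WW NN BadX)
open Cfsg.Agent.Omega.NOne.NearFF (c)
open Cfsg.Agent.Omega.FrameFF (cv)
open Cfsg.Agent.Omega.FFThm (SymK SymKM)
open Cfsg.Agent.ZN.ChoiceSit (Syl)
open Cfsg.Agent.MinSimple.VModule (zc_le zl_le le_normalizer_zl)
open scoped Pointwise

universe u

variable {G : Type u} [Group G] [Finite G] {S : Sylow 2 G} {V F B P : Subgroup G}

/-- 876's structure. -/
theorem bh (s : SitR S V F B P) : Low.Key.BH V F B := ⟨s.flat, s.BW, s.FB, s.comm, s.XB⟩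

theorem Z_le_I (s : SitR S V F B P) : zc (S : Subgroup G) ≤ V ⊓ B :=
  le_inf ((MinSimple.VModule.zc_le_zl _ _).trans s.UV) s.ZB

theorem I_le_E (s : SitR S V F B P) : V ⊓ B ≤ EE V F := (bh s).I_le_E

/-- `Z ∩ F = 1` -/
theorem Z_inf_F (s : SitR S V F B P) : zc (S : Subgroup G) ⊓ F = ⊥ := by
  have := s.pt P s.hP s.bad 1 (one_mem _)
  rwa [map_one, one_smul] at this

/-- **(I2)**: `2 < |I : F|` -/
theorem two_lt (s : SitR S V F B P) : 2 < F.relIndex (V ⊓ B) := by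
  refine s.card.trans_le ?_
  have h1 : F.relIndex (zc (S : Subgroup G)) = Nat.card (zc (S : Subgroup G)) := by
    rw [← inf_relIndex_right, inf_comm, Z_inf_F s, relIndex_bot_left]
  rw [← h1]
  refine relIndex_le_of_le_right (Z_le_I s) ?_
  have : Finite (↥(V ⊓ B) ⧸ F.subgroupOf (V ⊓ B)) := inferInstance
  exact index_ne_zero_of_finite

/-- `[V, B, B] = 1` -/
theorem quad (s : SitR S V F B P) {w b b' : G} (hw : w ∈ V) (hb : b ∈ B) (hb' : b' ∈ B) :
    b' * (b * w * b⁻¹ * w⁻¹) = b * w * b⁻¹ * w⁻¹ * b' := by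
  have h1 := (bh s).quad hw hb hb'
  have h2 : (c w b)⁻¹ = b * w * b⁻¹ * w⁻¹ := by rw [c]; group
  rw [← h2]
  calc b' * (c w b)⁻¹ = (c w b)⁻¹ * (c w b * b') * (c w b)⁻¹ := by group
    _ = (c w b)⁻¹ * (b' * c w b) * (c w b)⁻¹ := by rw [h1]
    _ = (c w b)⁻¹ * b' := by group

/-- **(T1) + (I2)**: no `w ∈ V - E` has at most one other `B`-conjugate. -/
theorem false_of_few (s : SitR S V F B P) {w : G} (hw : w ∈ V) (hwE : w ∉ EE V F)
    (h1 : ∀ b ∈ B, ∀ b' ∈ B, b * w * b⁻¹ ≠ w → b' * w * b'⁻¹ ≠ w → b * w * b⁻¹ = b' * w * b'⁻¹) : False :=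
  absurd (two_lt s) (not_lt.2 ((bh s).relIndex_le_two hw hwE h1))

/-- **RB**: `U` is not of symmetric type (radical or not). -/
theorem rb : StRB.{u} := by
  intro G _ _ S V F B P s k m hk hm M
  have hloc := s.hP.isLoc
  have hc := s.ctx.char2
  have hT : Syl (S : Subgroup G) P := ⟨hloc.le, S.isPGroup', fun Q _ hQ hle => S.is_maximal' hQ hle⟩
  obtain ⟨hHD, A, hAV, hsup, hinf, hAN⟩ :=
    Cfsg.Agent.Omega.IId.SymWrD.exists_compl M.toSymK hk ((by norm_num : 1 ≤ 2).trans hm) hT (hloc.char2 S hc)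
  have hamb := Half.amb_of_loc hc S hloc
  have hDV : cv (S : Subgroup G) P ≤ zl (S : Subgroup G) P := inf_le_left
  -- `D ≤ Z ≤ E`
  have hDZ : cv (S : Subgroup G) P ≤ zc (S : Subgroup G) := by
    intro d hd
    rw [MinSimple.VModule.mem_zc]
    exact ⟨s.VS (s.UV (hDV hd)), fun t ht => hHD t (hloc.le ht) d hd, hamb.sq d (hDV hd)⟩
  have hDE : cv (S : Subgroup G) P ≤ EE V F := hDZ.trans ((Z_le_I s).trans (I_le_E s))
  let M' := Cfsg.Agent.Omega.IId.SymWrD.compl M.toSymK hloc.le hamb.comm hsup hinf hAN hHD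
  have hAE : A ≤ EE V F := by
    refine Low.SymCase.le_of_t1 M' hloc.le hAN s.BS ?_ ?_
    · intro w hw b hb b' hb'
      exact quad s (s.UV (hAV hw)) hb hb'
    · intro w hw hwE h1
      exact false_of_few s (s.UV (hAV hw)) hwE h1
  exact s.bad (hsup ▸ sup_le hAE hDE)

end Cfsg.Agent.Omega.NOThreeL.RLow.SymR

end

section


/-!
# THEOREM R-LOW (#21762, helper597), RD : the natural situation (port of `Low/PSeven`)

* `two_lt` : `2 < |B : B ∩ N|` (`Z ≤ V ∩ B`, `Z ∩ F = 1`, `|Z| ≥ 4`); `qb`;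
* `act_of_bad` : `B` acts on every bad block as a subgroup of the root group;
* `rd : StRD`.
-/

set_option autoImplicit false
set_option linter.unusedSectionVars false

namespace Cfsg.Agent.Omega.NOThreeL.RLow.RD

open Subgroup Cfsg Cfsg.Agent.ZN Cfsg.Agent.Omega.MinPar Cfsg.Agent.Omega.Frame
open Cfsg.Agent.Omega.NOne.Flat (Hyp EE WW NN BadX)
open Cfsg.Agent.Omega.NOne.NearFF (c)
open Cfsg.Agent.Omega.FFThm (NatK NatKM SymKM ActsSL)
open Cfsg.Agent.Omega.Half (Amb amb_of_loc)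
open Cfsg.Agent.Omega.Half.NatA (inj eq_one e_one e_inv Mv)
open Cfsg.Agent.Omega.NO1.NSix
open Cfsg.Agent.Omega.NatPair (ap ext2 ap_zero' ap_one' exists_ap ap_one)
open Cfsg.Agent.Lib.SL2Mat
open Cfsg.Agent.MinSimple.VModule (zc_le_zl)
open Cfsg.Agent.Omega.NOThreeL.Low (Blk Rtv Tor)
open Cfsg.Agent.Omega.NOThreeL.Low.PSeven (mem_conj_of blk_em em_blk z_one z_ne Act blk_mul blk_inv blk_ext blk_one
  blk_eq_one βmul)
open scoped Pointwise

universe u

section sit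

variable {G : Type u} [Group G] [Finite G] {S : Sylow 2 G} {V F B P : Subgroup G}

/-- `BH` of `Low/Key`. -/
theorem bh (s : SitR S V F B P) : Low.Key.BH V F B :=
  { s.flat with le_W := s.BW, F_le := s.FB, abel := s.comm, norm := s.XB }

theorem amb (s : SitR S V F B P) : Amb (S : Subgroup G) P (zl (S : Subgroup G) P) :=
  amb_of_loc s.ctx.char2 S s.hP.toIsPar.isLoc

theorem zVB (s : SitR S V F B P) : zc (S : Subgroup G) ≤ V ⊓ B :=
  le_inf ((_root_.Cfsg.Agent.MinSimple.VModule.zc_le_zl (S : Subgroup G) P).trans s.UV) s.ZB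

theorem zcF (s : SitR S V F B P) : zc (S : Subgroup G) ⊓ F = ⊥ := by
  have h1 := s.pt P s.hP s.bad 1 (one_mem P)
  rwa [map_one, one_smul] at h1

/-- **(I2)** is free in box R -/
theorem two_lt (s : SitR S V F B P) : 2 < (NN V F).relIndex B := by
  have h1 : Nat.card (zc (S : Subgroup G)) ≤ F.relIndex (V ⊓ B) := by
    have h2 : F.relIndex (zc (S : Subgroup G)) = Nat.card (zc (S : Subgroup G)) := by
      rw [← inf_relIndex_right, inf_comm, zcF s, relIndex_bot_left]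
    rw [← h2]
    exact relIndex_le_of_le_right (zVB s) index_ne_zero_of_finite
  rw [(bh s).relIndex_B]
  exact s.card.trans_le h1

/-- `B` does not centralise `w ∈ V - E`. -/
theorem exists_moved (s : SitR S V F B P) {w : G} (hw : w ∈ V) (hwE : w ∉ EE V F) :
    ∃ b ∈ B, c w b ∉ F := by
  by_contra hall
  push Not at hall
  have h1 : B ≤ NN V F := fun b hb => (bh s).mem_NN_of_c hw hwE hb (hall b hb)
  have h2 := two_lt s
  rw [relIndex_eq_one.2 h1] at h2
  omega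

theorem qb (s : SitR S V F B P) : Low.Nat.QB (S : Subgroup G) (zl (S : Subgroup G) P) B (EE V F) where
  BS := s.BS
  ab := fun _ hb _ hc => (bh s).B_comm hb hc
  sq := fun b hb => by rw [← pow_two]; exact s.sq b hb
  quad := fun v hv b hb c' hc => by
    have h1 := (bh s).quad (s.UV hv) hb hc
    have h2 : b * v * b⁻¹ * v⁻¹ = (c v b)⁻¹ := by rw [c]; group
    rw [h2]
    calc c' * (c v b)⁻¹ = (c v b)⁻¹ * (c v b * c') * (c v b)⁻¹ := by group
      _ = (c v b)⁻¹ * (c' * c v b) * (c v b)⁻¹ := by rw [h1]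
      _ = (c v b)⁻¹ * c' := by group
  t1 := fun w hw hwE hall => by
    have h1 := (bh s).relIndex_le_two (s.UV hw) hwE hall
    rw [← (bh s).relIndex_B] at h1
    exact absurd (two_lt s) (not_lt.2 h1)



/-- **P7a** -/
theorem act_of_bad (s : SitR S V F B P) {K : Type} [Field K] [Finite K] [CharP K 2] {k : ℕ}
    (N : NatKM K (S : Subgroup G) P (zl (S : Subgroup G) P) ⊥ k) {i : Fin k} (hbad : ∃ w, Blk N i w ∧ w ∉ EE V F)
    {b : G} (hb : b ∈ B) : ∃ x : K, ∀ v, Blk N i v →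
      Blk N i (b * v * b⁻¹) ∧ N.e (b * v * b⁻¹) i = ap (up x) (N.e v i) := by
  have hA := amb s
  have hQ := qb s
  have hi : Low.Nat.Bad N.toNatK (EE V F) i := by
    obtain ⟨w, hw, hwE⟩ := hbad
    refine ⟨N.e w i, ?_⟩
    rwa [blk_em N hw]
  obtain ⟨x, hx⟩ := hQ.exists_up hA hi hb
  refine ⟨x, fun v hv => ⟨⟨hA.conj_mem (hQ.BP hA hb) hv.1, fun j hj => ?_⟩, hx v hv.1⟩⟩
  obtain ⟨σ, hσ⟩ := N.perm b (hQ.BP hA hb)
  have hσi : σ i = i := hQ.fix hA hi hb hσ
  have h1 := (hσ v hv.1 (σ.symm j)).2 (hv.2 _ fun h2 => hj (by rw [← hσi, ← h2, σ.apply_symm_apply]))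
  rwa [σ.apply_symm_apply] at h1

end sit

/-! ### P7b -/

section zz

variable {G : Type u} [Group G] [Finite G] {S : Sylow 2 G} {V F B P : Subgroup G}
variable {K : Type} [Field K] {k : ℕ} (N : NatKM K (S : Subgroup G) P (zl (S : Subgroup G) P) ⊥ k)

/-- Full-support vectors are in points of `U`. -/
theorem full (s : SitR S V F B P) {v : G} (hv : v ∈ zl (S : Subgroup G) P) (h : ∀ j, N.e v j ≠ 0) :
    ∃ g ∈ P, v ∈ MulAut.conj g • zc (S : Subgroup G) := by
  have hne := MinSimple.Basic.zc_ne_bot S.isPGroup' (s.ctx.sylow_ne_bot S)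
  obtain ⟨⟨z, hz⟩, hz1⟩ := ne_bot_iff_exists_ne_one.1 hne
  replace hz1 : z ≠ 1 := fun h1 => hz1 (Subtype.ext h1)
  have hzV := _root_.Cfsg.Agent.MinSimple.VModule.zc_le_zl (S : Subgroup G) P hz
  choose A hA using fun j => exists_ap (z_ne N hz hz1 j) (h j)
  obtain ⟨g, hg, hgA, -⟩ := N.lift A
  refine ⟨g, hg, ?_⟩
  have h1 : g * z * g⁻¹ = v := by
    apply inj N.toNatK ((amb s).conj_mem hg hzV) hv
    funext j
    rw [hgA z hzV j, hA]
  rw [← h1]
  exact mem_conj_of hz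

/-- `F ∩ U` has no full-support vector. -/
theorem nfull (s : SitR S V F B P) (hk : 0 < k) {f : G} (hf : f ∈ F) (hfU : f ∈ zl (S : Subgroup G) P) :
    ∃ j, N.e f j = 0 := by
  by_contra hall
  push Not at hall
  obtain ⟨g, hg, hfg⟩ := full N s hfU hall
  have h1 := s.pt P s.hP s.bad g hg
  have h2 : f ∈ MulAut.conj g • zc (S : Subgroup G) ⊓ F := mem_inf.2 ⟨hfg, hf⟩
  rw [h1, mem_bot] at h2
  apply hall ⟨0, hk⟩
  rw [h2, e_one N.toNatK]
  rfl

end zz

section pb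

variable {G : Type u} [Group G] [Finite G] {S : Sylow 2 G} {V F B P : Subgroup G}
variable {K : Type} [Field K] [CharP K 2] {k : ℕ} {N : NatKM K (S : Subgroup G) P (zl (S : Subgroup G) P) ⊥ k}
variable {i : Fin k} {β : G → K}

/-- `R_i ≤ E` for a bad block -/
theorem rt_le (s : SitR S V F B P) (h : Act N B i β) {r : G} (hr : Rtv N i r) : r ∈ EE V F := by
  by_contra hE
  obtain ⟨b, hb, hbF⟩ := exists_moved s (s.UV hr.1.1) hE
  apply hbF
  rw [h.c_eq_one hb hr.1 (by rw [hr.2, mul_zero])]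
  exact one_mem F

theorem exists_beta (s : SitR S V F B P) (h : Act N B i β) (hbad : ∃ w, Blk N i w ∧ w ∉ EE V F) :
    ∃ b ∈ B, β b ≠ 0 := by
  obtain ⟨w, hw, hwE⟩ := hbad
  obtain ⟨b, hb, hbF⟩ := exists_moved s (s.UV hw.1) hwE
  refine ⟨b, hb, fun h0 => hbF ?_⟩
  rw [h.c_eq_one hb hw (by rw [h0, zero_mul])]
  exact one_mem F

/-- `I ≤ R_i F` -/
theorem I_le (s : SitR S V F B P) (h : Act N B i β) (hbad : ∃ w, Blk N i w ∧ w ∉ EE V F) {a : G}
    (ha : a ∈ V ⊓ B) : ∃ r, Rtv N i r ∧ r⁻¹ * a ∈ F := by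
  obtain ⟨w, hw, hwE⟩ := hbad
  obtain ⟨b, hb, hbF⟩ := (bh s).surj (s.UV hw.1) hwE ha
  exact ⟨c w b, ⟨h.c_blk hb hw, h.c_one hb hw⟩, hbF⟩

/-- **(*)** -/
theorem zF (s : SitR S V F B P) (h : Act N B i β) (hbad : ∃ w, Blk N i w ∧ w ∉ EE V F) {z : G}
    (hz : z ∈ zc (S : Subgroup G)) : ∃ r, Rtv N i r ∧ N.e r i = N.e z i ∧ r⁻¹ * z ∈ F := by
  by_cases hz1 : z = 1
  · refine ⟨1, ⟨blk_one, by rw [e_one N.toNatK]; rfl⟩, by rw [hz1], ?_⟩
    rw [hz1, inv_one, one_mul]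
    exact one_mem F
  · have hzU := _root_.Cfsg.Agent.MinSimple.VModule.zc_le_zl (S : Subgroup G) P hz
    have hzI : z ∈ V ⊓ B := mem_inf.2 ⟨s.UV hzU, s.ZB hz⟩
    obtain ⟨r, hr, hrF⟩ := I_le s h hbad hzI
    refine ⟨r, hr, ?_, hrF⟩
    obtain ⟨j, hj⟩ := nfull N s i.pos hrF (mul_mem (inv_mem hr.1.1) hzU)
    rw [N.mul _ (inv_mem hr.1.1) _ hzU, e_inv N.toNatK hr.1.1, Pi.add_apply, Pi.neg_apply] at hj
    by_cases hji : j = i
    · rw [hji, neg_add_eq_zero] at hj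
      exact hj
    · rw [hr.1.2 j hji, neg_zero, zero_add] at hj
      exact absurd hj (z_ne N hz hz1 j)

/-- **(**)** `N_i ∩ F = 1` -/
theorem blkF (s : SitR S V F B P) (h : Act N B i β) (hbad : ∃ w, Blk N i w ∧ w ∉ EE V F) {v : G}
    (hv : Blk N i v) (hvF : v ∈ F) : v = 1 := by
  by_contra hv1
  have hne := MinSimple.Basic.zc_ne_bot S.isPGroup' (s.ctx.sylow_ne_bot S)
  obtain ⟨⟨z, hz⟩, hz1⟩ := ne_bot_iff_exists_ne_one.1 hne
  replace hz1 : z ≠ 1 := fun h1 => hz1 (Subtype.ext h1)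
  have hzU := _root_.Cfsg.Agent.MinSimple.VModule.zc_le_zl (S : Subgroup G) P hz
  obtain ⟨r, hr, hrz, hrF⟩ := zF s h hbad hz
  have hrU := mul_mem (inv_mem hr.1.1) hzU
  obtain ⟨j, hj⟩ := nfull N s i.pos (mul_mem hvF hrF) (mul_mem hv.1 hrU)
  rw [N.mul _ hv.1 _ hrU, N.mul _ (inv_mem hr.1.1) _ hzU, e_inv N.toNatK hr.1.1, Pi.add_apply, Pi.add_apply,
    Pi.neg_apply] at hj
  by_cases hji : j = i
  · rw [hji, hrz, neg_add_cancel, add_zero] at hj
    exact hv1 (blk_eq_one hv (by rw [hj]; rfl) (by rw [hj]; rfl))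
  · rw [hv.2 j hji, hr.1.2 j hji, neg_zero, zero_add, zero_add] at hj
    exact absurd hj (z_ne N hz hz1 j)

/-- `N_i ∩ E = R_i` -/
theorem blkE (s : SitR S V F B P) (h : Act N B i β) (hbad : ∃ w, Blk N i w ∧ w ∉ EE V F) {v : G}
    (hv : Blk N i v) : v ∈ EE V F ↔ N.e v i 1 = 0 := by
  refine ⟨fun hE => ?_, fun h1 => rt_le s h ⟨hv, h1⟩⟩
  obtain ⟨b, hb, hb0⟩ := exists_beta s h hbad
  have h1 : c v b = 1 := blkF s h hbad (h.c_blk hb hv) (s.flat.comm_EW hE (s.BW hb))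
  have h2 := h.c_zero hb hv
  rw [h1, e_one N.toNatK] at h2
  exact (mul_eq_zero.1 h2.symm).resolve_left hb0

/-- `C_B(N_i) = B ∩ N` -/
theorem βN (s : SitR S V F B P) (h : Act N B i β) (hbad : ∃ w, Blk N i w ∧ w ∉ EE V F) {b : G}
    (hb : b ∈ B) : β b = 0 ↔ b ∈ NN V F := by
  obtain ⟨w, hw, hwE⟩ := id hbad
  have hwV := s.UV hw.1
  rw [← s.flat.c_mem_F_iff hwV hwE (s.BW hb)]
  constructor
  · intro h0
    rw [h.c_eq_one hb hw (by rw [h0, zero_mul])]
    exact one_mem F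
  · intro hF
    have h1 : c w b = 1 := blkF s h hbad (h.c_blk hb hw) hF
    have h2 := h.c_zero hb hw
    rw [h1, e_one N.toNatK] at h2
    exact (mul_eq_zero.1 h2.symm).resolve_right fun h3 => hwE ((blkE s h hbad hw).2 h3)

/-- `R_i ∩ I = λ β(B)` for all `λ ≠ 0` -/
theorem exists_of_I (s : SitR S V F B P) (h : Act N B i β) (hbad : ∃ w, Blk N i w ∧ w ∉ EE V F) {l : K}
    (hl : l ≠ 0) {r : G} (hr : Rtv N i r) (hrB : r ∈ B) : ∃ b ∈ B, β b * l = N.e r i 0 := by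
  have hw := em_blk N i ![0, l]
  have hw1 : N.e (_root_.Cfsg.Agent.Omega.NO1.NSix.em N.toNatK i ![0, l]) i 1 = l := by rw [e_em_self]; rfl
  have hwE : em N.toNatK i ![0, l] ∉ EE V F := by
    rw [blkE s h hbad hw, hw1]
    exact hl
  obtain ⟨b, hb, hbF⟩ := (bh s).surj (s.UV hw.1) hwE (mem_inf.2 ⟨s.UV hr.1.1, hrB⟩)
  have h1 := blkF s h hbad (blk_mul (blk_inv (h.c_blk hb hw)) hr.1) hbF
  rw [inv_mul_eq_one] at h1
  refine ⟨b, hb, ?_⟩
  rw [← h1, h.c_zero hb hw, hw1]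

theorem βsurj (s : SitR S V F B P) (h : Act N B i β) (hbad : ∃ w, Blk N i w ∧ w ∉ EE V F) (x : K) :
    ∃ b ∈ B, β b = x := by
  by_cases hx : x = 0
  · exact ⟨1, one_mem B, by rw [hx, βN s h hbad (one_mem B)]; exact one_mem _⟩
  obtain ⟨b0, hb0, hb0'⟩ := exists_beta s h hbad
  -- `r = [w, b0]`, `w = (0, 1)`
  have hw := em_blk N i ![0, 1]
  have hw1 : N.e (_root_.Cfsg.Agent.Omega.NO1.NSix.em N.toNatK i ![0, 1]) i 1 = 1 := by rw [e_em_self]; rfl
  have hr : Rtv N i (c (em N.toNatK i ![0, 1]) b0) := ⟨h.c_blk hb0 hw, h.c_one hb0 hw⟩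
  have hrB := ((bh s).c_memI (s.UV hw.1) hb0).2
  obtain ⟨b, hb, hbx⟩ := exists_of_I s h hbad (l := β b0 / x) (div_ne_zero hb0' hx) hr hrB
  rw [h.c_zero hb0 hw, hw1, mul_one] at hbx
  refine ⟨b, hb, ?_⟩
  field_simp at hbx
  exact hbx

theorem rtB (s : SitR S V F B P) (h : Act N B i β) (hbad : ∃ w, Blk N i w ∧ w ∉ EE V F) {r : G}
    (hr : Rtv N i r) : r ∈ B := by
  obtain ⟨b, hb, hbx⟩ := βsurj s h hbad (N.e r i 0)
  have hw := em_blk N i ![0, 1]
  have hw1 : N.e (_root_.Cfsg.Agent.Omega.NO1.NSix.em N.toNatK i ![0, 1]) i 1 = 1 := by rw [e_em_self]; rfl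
  have h1 : c (em N.toNatK i ![0, 1]) b = r := by
    refine blk_ext (h.c_blk hb hw) hr.1 ?_ ?_
    · rw [h.c_zero hb hw, hw1, mul_one, hbx]
    · rw [h.c_one hb hw, hr.2]
  rw [← h1]
  exact ((bh s).c_memI (s.UV hw.1) hb).2

theorem card_eq (s : SitR S V F B P) (h : Act N B i β) (hbad : ∃ w, Blk N i w ∧ w ∉ EE V F) :
    (NN V F).relIndex B = Nat.card K := by
  let φ : B →* Multiplicative K :=
    { toFun := fun b => Multiplicative.ofAdd (β b)
      map_one' := by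
        have h1 : β 1 = 0 := by rw [βN s h hbad (one_mem B)]; exact one_mem _
        simp [h1]
      map_mul' := fun b b' => by
        rw [coe_mul, βmul h b.2 b'.2]
        rfl }
  have hφ : Function.Surjective φ := by
    intro x
    obtain ⟨b, hb, hx⟩ := βsurj s h hbad (Multiplicative.toAdd x)
    exact ⟨⟨b, hb⟩, by show Multiplicative.ofAdd (β b) = x; rw [hx]; rfl⟩
  have hker : φ.ker = (NN V F).subgroupOf B := by
    ext b
    rw [MonoidHom.mem_ker, mem_subgroupOf, ← βN s h hbad b.2]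
    exact Multiplicative.ofAdd.injective.eq_iff' rfl
  rw [relIndex, ← hker, index_ker, MonoidHom.range_eq_top.2 hφ, card_top]
  exact Nat.card_congr Multiplicative.toAdd

end pb

/-- **RD** -/
theorem rd : StRD.{u} := by
  intro G _ _ S V F B P s K _ _ _ k N hk
  -- the functions `β`
  have hact' : ∀ j : Fin k, (∃ w, Blk N j w ∧ w ∉ EE V F) → ∃ β : G → K, Act N B j β := by
    classical
    intro j hj
    choose x hx using fun (b : G) (hb : b ∈ B) => act_of_bad s N hj hb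
    refine ⟨fun b => if hb : b ∈ B then x b hb else 0, fun b hb v hv => ?_⟩
    have h1 := hx b hb v hv
    simp only [dif_pos hb]
    exact h1
  -- a bad block
  obtain ⟨i, hbad⟩ : ∃ i : Fin k, ∃ w, Blk N i w ∧ w ∉ EE V F := by
    by_contra hall
    push Not at hall
    exact s.bad fun v hv => mem_of_em N.toNatK hv fun j => hall j _ (em_blk N j _)
  obtain ⟨β, h⟩ := hact' i hbad
  refine ⟨i, β, { s with
    bad_i := hbad
    βmul := fun b hb b' hb' => βmul h hb hb'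
    βsurj := βsurj s h hbad
    βN := fun b hb => βN s h hbad hb
    act := h
    blkE := fun v hv => blkE s h hbad hv
    blkF := fun v hv hvF => blkF s h hbad hv hvF
    rtB := fun v hv => rtB s h hbad hv
    rtE := fun v hv h1 => mem_of_em N.toNatK hv fun j => ?_
    I := fun a ha => I_le s h hbad ha
    cardB := card_eq s h hbad
    zF := fun z hz => zF s h hbad hz
    nfull := fun f hf hfU => nfull N s hk hf hfU
    full := fun v hv hv1 => full N s hv hv1 }⟩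
  by_cases hj : ∃ w, Blk N j w ∧ w ∉ EE V F
  · obtain ⟨γ, hγ⟩ := hact' j hj
    exact rt_le s hγ ⟨em_blk N j _, by rw [e_em_self]; exact h1 j⟩
  · by_contra hE
    exact hj ⟨_, em_blk N j _, hE⟩

end Cfsg.Agent.Omega.NOThreeL.RLow.RD

end

end

-- merged: Cfsg.Agent.Mrg.Omega.NOThreeL.RLow.RC.CVq
section

section


/-!
# THEOREM R-LOW (#21762), part RC (a): `|C_V(B) : F| ≤ q`

`s : SitR S V F B P`, `M : NatKM K S P (zl S P) (cv S P) k`, the radical `D = cv S P` is arbitrary, `q = |K|`.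

* `nb`, `qb` : the inputs `Nb`, `QB` of `NO3S/KeyRad` for `SitR`;
* `exists_bad` : some `blk M i = [U, L_i]` is not in `E` (the block `i` is bad);
* `mem_E` : `C_V(B) ≤ E`;
* `exists_beta` : some `b ∈ B` acts as `up β`, `β ≠ 0`, on a bad block;
* `exists_up_of_comm` : `t ∈ S` which centralises all `[u, b]`, `u ∈ U`, `b ∈ B`, acts as `up a` on a bad block;
* `cvq` : `|C_V(B) : F| ≤ q`.
-/

set_option autoImplicit false

namespace Cfsg.Agent.Omega.NOThreeL.RLow.RC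

open Subgroup Cfsg Cfsg.Agent.ZN Cfsg.Agent.Omega.MinPar Cfsg.Agent.Omega.NoFF.Basic
open Cfsg.Agent.Omega.NOne.Flat (Hyp EE WW NN BadX badX_inv)
open Cfsg.Agent.Omega.NOne.NearFF (c c_def)
open Cfsg.Agent.Omega.FrameFF (cv)
open Cfsg.Agent.Omega.FFThm (NatKM)
open Cfsg.Agent.Omega.NatPair (ap ap_one ap_zero' ap_one' ext2)
open Cfsg.Agent.Lib.SL2Mat (up up_00 up_01 up_10 up_11)
open Cfsg.Agent.Omega.NOThreeL.Low.Key (norm_conj_mem)
open Cfsg.Agent.Omega.NOThreeL.Low.Nat (QB)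
open Cfsg.Agent.Omega.NO3S.ThmB (Nb)
open Cfsg.Agent.Omega.NO3S.KeyRad (blk Mv ph em em_mem e_em_self e_em_ne)
open scoped Pointwise

universe u

/-- counting -/
theorem relIndex_le_of_fun {G : Type u} [Group G] [Finite G] {A C : Subgroup G} {X : Type*} [Finite X] (φ : A → X)
    (h : ∀ a b : A, φ a = φ b → (a : G)⁻¹ * b ∈ C) : C.relIndex A ≤ Nat.card X := by
  rw [relIndex, index]
  refine Nat.card_le_card_of_injective (fun q : A ⧸ C.subgroupOf A => φ q.out) ?_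
  intro x y hxy
  have h2 := h _ _ hxy
  have h3 : (x.out : A ⧸ C.subgroupOf A) = y.out := by
    rw [QuotientGroup.eq, mem_subgroupOf]
    exact h2
  rwa [QuotientGroup.out_eq', QuotientGroup.out_eq'] at h3

/-- a 2-power root of unity in characteristic 2 is trivial -/
theorem eq_one_of_pow {K : Type*} [Field K] [CharP K 2] {a : K} {n : ℕ} (h : a ^ 2 ^ n = 1) : a = 1 := by
  have h1 : (a - 1) ^ 2 ^ n = 0 := by rw [sub_pow_char_pow, h, one_pow, sub_self]
  exact sub_eq_zero.1 (pow_eq_zero_iff (by positivity) |>.1 h1)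

variable {G : Type u} [Group G] [Finite G] {S : Sylow 2 G} {V F B P : Subgroup G}

section sit

variable (s : SitR S V F B P)
include s

/-- the input of `NO3S/KeyRad` for `B` -/
theorem qb : QB (S : Subgroup G) (zl (S : Subgroup G) P) B (EE V F) where
  BS := s.BS
  ab _ hb _ hc := (SymR.bh s).B_comm hb hc
  sq b hb := by rw [← pow_two]; exact s.sq b hb
  quad _ hv _ hb _ hc := SymR.quad s (s.UV hv) hb hc
  t1 _ hw hwE h := SymR.false_of_few s (s.UV hw) hwE h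

/-- `C_V(B) ≤ E` -/
theorem mem_E {r : G} (hr : r ∈ V) (hrB : ∀ b ∈ B, b * r = r * b) : r ∈ EE V F := by
  by_contra hE
  refine SymR.false_of_few s hr hE fun b hb _ _ h1 _ => absurd ?_ h1
  rw [hrB b hb, mul_inv_cancel_right]

variable {K : Type} [Field K] {k : ℕ}
  (M : NatKM K (S : Subgroup G) P (zl (S : Subgroup G) P) (cv (S : Subgroup G) P) k)

theorem nb : Nb M := NO3S.ThmB.Inst.nb s.ctx.char2 s.hP M

/-- some block is bad -/
theorem exists_bad [CharP K 2] : ∃ i, ¬ blk M i ≤ EE V F := by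
  refine NO3S.KeyRad.exists_blk (nb s M) (Z := zc (S : Subgroup G)) ZN.zc_le_zl ?_
    (fun L hZ hP => MinSimple.VModule.zl_le hZ hP) ((SymR.Z_le_I s).trans (SymR.I_le_E s)) s.bad
  intro z hz t ht
  exact (MinSimple.VModule.mem_zc.1 hz).2.1 t ht

variable {M} {i : Fin k} [Finite K] [CharP K 2] (hi : ¬ blk M i ≤ EE V F)
include hi

/-- some `b ∈ B` is not trivial on the bad block -/
theorem exists_beta : ∃ b ∈ B, ∃ β : K, β ≠ 0 ∧
    ∀ v ∈ zl (S : Subgroup G) P, M.e (b * v * b⁻¹) i = ap (up β) (M.e v i) := by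
  by_contra hcon
  push Not at hcon
  have h := nb s M
  obtain ⟨w, hw, hwE⟩ := SetLike.not_le_iff_exists.1 hi
  have key : ∀ b ∈ B, b * w * b⁻¹ = w := by
    intro b hb
    obtain ⟨β, hβ⟩ := NO3S.KeyRad.exists_up h (qb s) hi hb
    have h0 : β = 0 := by
      by_contra hne
      obtain ⟨v, hv, h1⟩ := hcon b hb β hne
      exact h1 (hβ v hv)
    have h1 := NO3S.KeyRad.eq_lift h (qb s) (i := i) (b := b) (g := 1) (A := 1) (NO3S.KeyRad.BP h (qb s) hb)
      (one_mem _) (fun v hv => by rw [hβ v hv, h0, Lib.SL2Mat.up_zero])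
      (fun v hv => by rw [one_mul, inv_one, mul_one, ap_one]) hw
    rw [h1, one_mul, inv_one, mul_one]
  exact SymR.false_of_few s (s.UV (NO3S.KeyRad.blk_le h i hw)) hwE fun b hb _ _ h1 _ => absurd (key b hb) h1

/-- `t ∈ S` which centralises `[U, B]` acts as an upper unitriangular matrix on the bad block. -/
theorem exists_up_of_comm {t : G} (ht : t ∈ (S : Subgroup G))
    (hc : ∀ v ∈ zl (S : Subgroup G) P, ∀ b ∈ B, t * (b * v * b⁻¹ * v⁻¹) = b * v * b⁻¹ * v⁻¹ * t) :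
    ∃ a : K, ∀ v ∈ zl (S : Subgroup G) P, M.e (t * v * t⁻¹) i = ap (up a) (M.e v i) := by
  have h := nb s M
  have q := qb s
  have htP : t ∈ P := s.hP.le ht
  obtain ⟨b, hb, β, hβ0, hβ⟩ := exists_beta s hi
  have hbP : b ∈ P := s.hP.le (s.BS hb)
  obtain ⟨σb, hσb⟩ := M.perm b hbP
  have hσbi := NO3S.KeyRad.fix h q hi hb hσb
  -- the vectors `r x = [b, (0, x/β)]`
  have hr : ∀ x : K, ∃ r ∈ zl (S : Subgroup G) P, t * r * t⁻¹ = r ∧ M.e r i = ![x, 0] ∧ ∀ l, l ≠ i → M.e r l = 0 := by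
    intro x
    have hu := em_mem M i ![0, x / β]
    have hbu := h.memV hbP hu
    refine ⟨b * _root_.Cfsg.Agent.Omega.NO3S.KeyRad.em M i ![0, x / β] * b⁻¹ * (em M i ![0, x / β])⁻¹, mul_mem hbu (inv_mem hu), ?_, ?_, ?_⟩
    · rw [hc _ hu b hb, mul_inv_cancel_right]
    · rw [h.e_div hbu hu, Pi.add_apply, hβ _ hu, e_em_self]
      apply ext2
      · rw [Pi.add_apply, ap_zero', up_00, up_01]
        simp [hβ0, mul_div_cancel₀]
      · rw [Pi.add_apply, ap_one', up_10, up_11]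
        simp [CharTwo.add_self_eq_zero]
    · intro l hl
      have h1 := (hσb _ hu (σb.symm l)).2 (e_em_ne M (fun h2 => hl (by rw [← hσbi, ← h2, σb.apply_symm_apply])) _)
      rw [σb.apply_symm_apply] at h1
      rw [h.e_div hbu hu, Pi.add_apply, h1, e_em_ne M hl, add_zero]
  obtain ⟨σ, hσ⟩ := M.perm t htP
  have hσi : σ i = i := by
    obtain ⟨r, hrU, hrt, hri, hrl⟩ := hr 1
    have h1 := hσ r hrU i
    by_contra hne
    rw [hrt, hrl _ hne, hri] at h1
    have h2 := congrFun (h1.1 rfl) 0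
    simp at h2
  have he : ∀ v ∈ zl (S : Subgroup G) P, M.e (t * v * t⁻¹) i = ph M t i i (M.e v i) := by
    intro v hv
    have h1 := NO3S.KeyRad.e_conj h htP hσ hv i
    rwa [hσi] at h1
  have hadd := NO3S.KeyRad.ph_add h (M := M) htP i i
  obtain ⟨τ, hτ⟩ := NO3S.KeyRad.exists_semi h htP hσ i
  rw [hσi] at hτ
  have hfix : ∀ x : K, ph M t i i ![x, 0] = ![x, 0] := by
    intro x
    obtain ⟨r, hrU, hrt, hri, -⟩ := hr x
    have h1 := he r hrU
    rw [hrt, hri] at h1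
    exact h1.symm
  have hτ1 : ∀ x : K, τ x = x := by
    intro x
    have h1 := hτ x ![1, 0]
    have h2 : x • (![1, 0] : Fin 2 → K) = ![x, 0] := ext2 (by simp) (by simp)
    rw [h2, hfix, hfix] at h1
    have h3 := congrFun h1 0
    simpa using h3.symm
  have hdec : ∀ x : Fin 2 → K, x = ![x 0, 0] + x 1 • ![0, 1] := fun x => ext2 (by simp) (by simp)
  have hT : ∀ x : Fin 2 → K, ph M t i i x = ![x 0 + ph M t i i ![0, 1] 0 * x 1, ph M t i i ![0, 1] 1 * x 1] := by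
    intro x
    conv_lhs => rw [hdec x]
    rw [hadd, hfix, hτ, hτ1]
    apply ext2
    · simp [mul_comm]
    · simp [mul_comm]
  -- the entry at `(1, 1)`
  obtain ⟨ν, hν⟩ : ∃ ν, ph M t i i ![0, 1] 1 = ν := ⟨_, rfl⟩
  have hν1 : ν = 1 := by
    obtain ⟨n, hn⟩ := S.isPGroup' ⟨t, ht⟩
    have hn' : t ^ 2 ^ n = 1 := congrArg Subtype.val hn
    have hpow : ∀ m : ℕ, ∀ v ∈ zl (S : Subgroup G) P, M.e (t ^ m * v * (t ^ m)⁻¹) i 1 = ν ^ m * M.e v i 1 := by
      intro m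
      induction m with
      | zero => intro v hv; simp
      | succ m ih =>
        intro v hv
        have e1 : t ^ (m + 1) * v * (t ^ (m + 1))⁻¹ = t * (t ^ m * v * (t ^ m)⁻¹) * t⁻¹ := by
          rw [pow_succ']; group
        rw [e1, he _ (h.memV (pow_mem htP m) hv), hT]
        have h1 := ih v hv
        change ph M t i i ![0, 1] 1 * M.e (t ^ m * v * (t ^ m)⁻¹) i 1 = _
        rw [h1, hν, pow_succ']
        ring
    have h1 := hpow (2 ^ n) _ (em_mem M i ![0, 1])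
    rw [hn', one_mul, inv_one, mul_one, e_em_self] at h1
    have h2 : (1 : K) = ν ^ 2 ^ n := by simpa using h1
    exact eq_one_of_pow h2.symm
  refine ⟨ph M t i i ![0, 1] 0, fun v hv => ?_⟩
  rw [he v hv, hT]
  apply ext2
  · rw [ap_zero', up_00, up_01]
    simp
  · rw [ap_one', up_10, up_11, hν, hν1]
    simp

omit hi in
/-- **(a)** `|C_V(B) : F| ≤ q` -/
theorem cvq (M : NatKM K (S : Subgroup G) P (zl (S : Subgroup G) P) (cv (S : Subgroup G) P) k) :
    F.relIndex (V ⊓ centralizer (B : Set G)) ≤ Nat.card K := by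
  have h := nb s M
  have q := qb s
  have hF := s.flat
  obtain ⟨i, hi⟩ := exists_bad s M
  obtain ⟨w, hw, hwE⟩ := SetLike.not_le_iff_exists.1 hi
  have hwV : w ∈ V := s.UV (NO3S.KeyRad.blk_le h i hw)
  obtain ⟨x, hx, hb⟩ := Low.Key.exists_bad hF
  have hxi : x⁻¹ ∈ centralizer (F : Set G) := inv_mem hx
  -- `r' = x⁻¹ r x`
  have hE : ∀ r ∈ V ⊓ centralizer (B : Set G), r ∈ EE V F := fun r hr =>
    mem_E s hr.1 fun b hb => mem_centralizer_iff.1 hr.2 b hb
  have hr'W : ∀ r ∈ V ⊓ centralizer (B : Set G), x⁻¹ * r * x ∈ WW V F := by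
    intro r hr
    have h1 : x⁻¹ * r * x ∈ MulAut.conj x⁻¹ • EE V F := by
      rw [mem_conj]
      have e : x⁻¹⁻¹ * (x⁻¹ * r * x) * x⁻¹ = r := by group
      rw [e]
      exact hE r hr
    exact NOne.Flat.Hyp.conjE_le_W hxi h1
  have hr'B : ∀ r ∈ V ⊓ centralizer (B : Set G), ∀ b ∈ B, b * (x⁻¹ * r * x) = x⁻¹ * r * x * b := by
    intro r hr b hbB
    have h1 : x * b * x⁻¹ ∈ B := norm_conj_mem (s.XB hx) hbB
    have h2 := mem_centralizer_iff.1 hr.2 _ h1
    calc b * (x⁻¹ * r * x) = x⁻¹ * (x * b * x⁻¹ * r) * x := by group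
      _ = x⁻¹ * (r * (x * b * x⁻¹)) * x := by rw [h2]
      _ = x⁻¹ * r * x * b := by group
  have hr'S : ∀ r ∈ V ⊓ centralizer (B : Set G), x⁻¹ * r * x ∈ (S : Subgroup G) := fun r hr =>
    s.CB (mem_inf.2 ⟨hr'W r hr, mem_centralizer_iff.2 (hr'B r hr)⟩)
  have hup : ∀ r : ↥(V ⊓ centralizer (B : Set G)), ∃ a : K, ∀ v ∈ zl (S : Subgroup G) P,
      M.e (x⁻¹ * (r : G) * x * v * (x⁻¹ * (r : G) * x)⁻¹) i = ap (up a) (M.e v i) := by
    intro r
    refine exists_up_of_comm s hi (hr'S r r.2) fun v hv b hb => ?_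
    have h1 := (SymR.bh s).c_memI (s.UV hv) hb
    have h2 : b * v * b⁻¹ * v⁻¹ ∈ B := by
      have e : b * v * b⁻¹ * v⁻¹ = (c v b)⁻¹ := by rw [c_def]; group
      rw [e]
      exact inv_mem h1.2
    exact (hr'B r r.2 _ h2).symm
  choose φ hφ using hup
  refine relIndex_le_of_fun φ fun r₁ r₂ h12 => ?_
  -- `r₁'⁻¹ r₂'` centralises `w`
  have h1 : x⁻¹ * (r₁ : G) * x * w * (x⁻¹ * (r₁ : G) * x)⁻¹ = x⁻¹ * (r₂ : G) * x * w * (x⁻¹ * (r₂ : G) * x)⁻¹ :=
    NO3S.KeyRad.eq_lift h q (s.hP.le (hr'S r₁ r₁.2)) (s.hP.le (hr'S r₂ r₂.2)) (hφ r₁)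
      (by rw [h12]; exact hφ r₂) hw
  have h2 : c w ((x⁻¹ * (r₁ : G) * x)⁻¹ * (x⁻¹ * (r₂ : G) * x)) = 1 := by
    have h3 : ((x⁻¹ * (r₁ : G) * x)⁻¹ * (x⁻¹ * (r₂ : G) * x)) * w *
        ((x⁻¹ * (r₁ : G) * x)⁻¹ * (x⁻¹ * (r₂ : G) * x))⁻¹ = w := by
      calc _ = (x⁻¹ * (r₁ : G) * x)⁻¹ * (x⁻¹ * (r₂ : G) * x * w * (x⁻¹ * (r₂ : G) * x)⁻¹) *
            (x⁻¹ * (r₁ : G) * x) := by group
        _ = (x⁻¹ * (r₁ : G) * x)⁻¹ * (x⁻¹ * (r₁ : G) * x * w * (x⁻¹ * (r₁ : G) * x)⁻¹) *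
            (x⁻¹ * (r₁ : G) * x) := by rw [h1]
        _ = w := by group
    have e : ∀ y : G, c w y = w * (y * w * y⁻¹)⁻¹ := fun y => by rw [c_def]; group
    rw [e, h3, mul_inv_cancel]
  have h3 : (x⁻¹ * (r₁ : G) * x)⁻¹ * (x⁻¹ * (r₂ : G) * x) ∈ NN V F :=
    (hF.c_mem_F_iff hwV hwE (mul_mem (inv_mem (hr'W r₁ r₁.2)) (hr'W r₂ r₂.2))).1 (by rw [h2]; exact one_mem _)
  rw [← hF.E_inf_conjNN hx hb]
  refine mem_inf.2 ⟨mul_mem (inv_mem (hE r₁ r₁.2)) (hE r₂ r₂.2), ?_⟩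
  rw [mem_conj]
  have e : x⁻¹ * ((r₁ : G)⁻¹ * (r₂ : G)) * x = (x⁻¹ * (r₁ : G) * x)⁻¹ * (x⁻¹ * (r₂ : G) * x) := by group
  rw [e]
  exact h3

end sit

end Cfsg.Agent.Omega.NOThreeL.RLow.RC

end

section


/-!
# THEOREM R-LOW (#21762), part RC: the count ((b4) of #22164, #22231 (B))

`N : NatKM K S P (zl S P) D k`, `D = cv S P`, `R` an `S`-invariant complement of `D` in the preimage of the sum of the
lines (`Rst`, `RstS`).

* `inv_unique`, `exists_tr` : involutions of finite fields of characteristic 2;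
* `single_mem` : the single elements of `R` are in `E` ((T1) inside `R`);
* `exists_g`, `exists_f` : the product `f` of the components `z_j` of `z ∈ Z ∩ R` over the lines which `B` moves is in `F`;
* `card_mul_le` : `q |Z ∩ D| ≤ |C_V(B) : F|`; `rc_of` : `D = 1`.
-/

set_option autoImplicit false
set_option linter.unusedSectionVars false

namespace Cfsg.Agent.Omega.NOThreeL.RLow.Cnt

open Subgroup Cfsg Cfsg.Agent.ZN
open Cfsg.Agent.Omega.MinPar Cfsg.Agent.Omega.Frame Cfsg.Agent.Omega.FrameNOFF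
open Cfsg.Agent.Omega.FFThm Cfsg.Agent.Omega.NatPair
open Cfsg.Agent.Omega.FrameFF (cv)
open Cfsg.Agent.Omega.NOne.Flat (Hyp EE WW NN)
open Cfsg.Agent.Omega.NOne.NearFF (c)
open Cfsg.Agent.Omega.NO3S.ThmB Cfsg.Agent.Omega.NO3S.KeyRad
open Cfsg.Agent.Omega.NOThreeL.Low.Nat (QB)
open Cfsg.Agent.MinSimple.VModule (zc_le_zl)
open scoped Pointwise

universe u

/-- the involution of the automorphism group of a finite field is unique -/
theorem inv_unique {K : Type} [Field K] [Finite K] [CharP K 2] {s t : K ≃+* K} (hs : ∀ x, s (s x) = x)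
    (ht : ∀ x, t (t x) = x) {a b : K} (ha : s a ≠ a) (hb : t b ≠ b) (x : K) : s x = t x := by
  classical
  let _ : Algebra (ZMod 2) K := ZMod.algebra K 2
  have hcom : ∀ (f : K ≃+* K) (r : ZMod 2), f (algebraMap (ZMod 2) K r) = algebraMap (ZMod 2) K r := by
    intro f r
    exact RingHom.congr_fun (Subsingleton.elim (f.toRingHom.comp (algebraMap (ZMod 2) K)) (algebraMap (ZMod 2) K)) r
  set S : K ≃ₐ[ZMod 2] K := AlgEquiv.ofRingEquiv (hcom s) with hS
  set T : K ≃ₐ[ZMod 2] K := AlgEquiv.ofRingEquiv (hcom t) with hT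
  have hSx : ∀ x, S x = s x := fun _ => rfl
  have hTx : ∀ x, T x = t x := fun _ => rfl
  have : Fintype (K ≃ₐ[ZMod 2] K) := Fintype.ofFinite _
  have hS2 : S ^ 2 = 1 := by
    ext x
    rw [pow_two]
    exact hs x
  have hT2 : T ^ 2 = 1 := by
    ext x
    rw [pow_two]
    exact ht x
  have hS1 : S ≠ 1 := fun h => ha (by rw [← hSx, h]; rfl)
  have hT1 : T ≠ 1 := fun h => hb (by rw [← hTx, h]; rfl)
  have hcard := IsCyclic.card_pow_eq_one_le (α := K ≃ₐ[ZMod 2] K) (n := 2) two_pos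
  by_contra hne
  have hST : S ≠ T := fun h => hne (by rw [← hSx, h, hTx])
  have hsub : ({1, S, T} : Finset (K ≃ₐ[ZMod 2] K)) ⊆ Finset.univ.filter fun g => g ^ 2 = 1 := by
    intro g hg
    rw [Finset.mem_insert, Finset.mem_insert, Finset.mem_singleton] at hg
    rw [Finset.mem_filter]
    rcases hg with rfl | rfl | rfl
    · exact ⟨Finset.mem_univ _, one_pow 2⟩
    · exact ⟨Finset.mem_univ _, hS2⟩
    · exact ⟨Finset.mem_univ _, hT2⟩
  have h3 : ({1, S, T} : Finset (K ≃ₐ[ZMod 2] K)).card = 3 := by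
    rw [Finset.card_eq_three]
    exact ⟨1, S, T, hS1.symm, hT1.symm, hST, rfl⟩
  have h4 := (Finset.card_le_card hsub).trans hcard
  omega

/-- a nontrivial involution of a field of characteristic 2 has a `μ` with `μ + s μ = 1` -/
theorem exists_tr {K : Type} [Field K] [CharP K 2] {s : K ≃+* K} (hs : ∀ x, s (s x) = x) {a : K} (ha : s a ≠ a) :
    ∃ m, s m + m = 1 := by
  have hm0 : a + s a ≠ 0 := fun h => ha (CharTwo.add_eq_zero.1 h).symm
  have hsm : s (a + s a) = a + s a := by rw [map_add, hs, add_comm]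
  refine ⟨a / (a + s a), ?_⟩
  rw [map_div₀, hsm, ← add_div, add_comm (s a), div_self hm0]

/-! ### The lines `R_i` -/

section mod

variable {G : Type u} [Group G] {K : Type} [Field K] {S P U D : Subgroup G} {k : ℕ}

/-- `R` is an `S`-invariant complement of `D` in the preimage of the sum of the lines. -/
structure Rst (N : NatKM K S P U D k) (R : Subgroup G) : Prop where
  le : R ≤ U
  line : ∀ r ∈ R, ∀ i, N.e r i 1 = 0
  surj : ∀ x : Fin k → K, ∃ r ∈ R, ∀ i, N.e r i 0 = x i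
  inf : R ⊓ D = ⊥
  nor : S ≤ normalizer (R : Set G)

namespace Rst

variable {N : NatKM K S P U D k} {R : Subgroup G} (o : Rst N R)
include o

theorem e_eq {r : G} (hr : r ∈ R) (i : Fin k) : N.e r i = ![N.e r i 0, 0] := by
  refine vec_eq ?_ ?_
  · simp
  · rw [o.line r hr i]; simp

variable (h : Nb N)
include h

theorem inj [CharP K 2] {r r' : G} (hr : r ∈ R) (hr' : r' ∈ R) (hx : ∀ i, N.e r i 0 = N.e r' i 0) : r = r' := by
  have h1 : N.e r = N.e r' := by
    funext i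
    rw [o.e_eq hr, o.e_eq hr', hx]
  have h2 := (h.mem_D (o.le hr) (o.le hr')).2 h1
  have h3 : r * r'⁻¹ ∈ R ⊓ D := mem_inf.2 ⟨mul_mem hr (inv_mem hr'), h2⟩
  rw [o.inf, mem_bot] at h3
  exact mul_inv_eq_one.1 h3

theorem inj' [CharP K 2] {r r' : G} (hr : r ∈ R) (hr' : r' ∈ R) (hx : ∀ i, N.e r i = N.e r' i) : r = r' :=
  o.inj h hr hr' fun i => by rw [hx]

omit h in
theorem conj {g r : G} (hg : g ∈ S) (hr : r ∈ R) : g * r * g⁻¹ ∈ R := (mem_normalizer_iff.1 (o.nor hg) r).1 hr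

omit h in
/-- the element of `R` with coordinate `m` at `i` -/
theorem exists_rs (i : Fin k) (m : K) : ∃ r ∈ R, N.e r i 0 = m ∧ ∀ j, j ≠ i → N.e r j = 0 := by
  classical
  obtain ⟨r, hr, hx⟩ := o.surj (Function.update 0 i m)
  refine ⟨r, hr, by rw [hx, Function.update_self], fun j hj => ?_⟩
  rw [o.e_eq hr, hx, Function.update_of_ne hj]
  refine vec_eq ?_ ?_ <;> simp

end Rst

section qb

variable [Finite K] [CharP K 2] {B E R : Subgroup G} {N : NatKM K S P U D k} (o : Rst N R) (h : Nb N) (q : QB S U B E)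
include o h q

/-- the supports -/
theorem off_zero {r b : G} {i : Fin k} (hr : r ∈ R) (hri : ∀ j, j ≠ i → N.e r j = 0) {σ : Equiv.Perm (Fin k)}
    (hσ : Mv N b σ) {j : Fin k} (hj : j ≠ σ i) : N.e (b * r * b⁻¹) j = 0 := by
  have h1 := (hσ r (o.le hr) (σ.symm j)).2 (hri _ fun h2 => hj (by rw [← h2, σ.apply_symm_apply]))
  rwa [σ.apply_symm_apply] at h1

/-- a moved block -/
theorem moved {r b d : G} {i : Fin k} (hr : r ∈ R) (hri : ∀ j, j ≠ i → N.e r j = 0) (hb : b ∈ B) (hd : d ∈ B)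
    {σ : Equiv.Perm (Fin k)} (hσ : Mv N b σ) (hne : σ i ≠ i) (hdr : d * r * d⁻¹ ≠ r) :
    d * r * d⁻¹ = b * r * b⁻¹ := by
  have hbS := q.BS hb
  have hdS := q.BS hd
  obtain ⟨τ, hτ⟩ := N.perm d (BP h q hd)
  have hτ' : Mv N d τ := hτ
  have hrel := rel h q (o.le hr) hb hd
  have hbr := o.conj hbS hr
  have hdr' := o.conj hdS hr
  have hsb : ∀ j, j ≠ σ i → N.e (b * r * b⁻¹) j = 0 := fun j hj => off_zero o h q hr hri hσ hj
  have hsd : ∀ j, j ≠ τ i → N.e (d * r * d⁻¹) j = 0 := fun j hj => off_zero o h q hr hri hτ' hj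
  have hsdb : ∀ j, j ≠ τ (σ i) → N.e (d * (b * r * b⁻¹) * d⁻¹) j = 0 := fun j hj =>
    off_zero o h q hbr hsb hτ' hj
  have hτi : τ i ≠ τ (σ i) := fun h1 => hne (τ.injective h1).symm
  by_cases h1 : τ i = i
  · exfalso
    apply hdr
    refine o.inj' h hdr' hr fun j => ?_
    by_cases hj : j = i
    · have h2 := congrFun hrel i
      rw [Pi.add_apply, Pi.add_apply, hsdb i (fun h' => hτi (h1.trans h')), hsb i (Ne.symm hne), zero_add,
        zero_add] at h2
      rw [hj, h2]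
    · rw [hsd j (by rw [h1]; exact hj), hri j hj]
  · by_cases h2 : τ i = σ i
    · refine o.inj' h hdr' hbr fun j => ?_
      by_cases hj : j = σ i
      · have h3 := congrFun hrel (σ i)
        rw [Pi.add_apply, Pi.add_apply, hsdb (σ i) (fun h' => hτi (h2.trans h')), zero_add,
          hri (σ i) hne, add_zero] at h3
        rw [hj, h3]
      · rw [hsd j (by rw [h2]; exact hj), hsb j hj]
    · exfalso
      apply hdr
      have h3 := congrFun hrel (τ i)
      rw [Pi.add_apply, Pi.add_apply, hsdb (τ i) hτi, hsb (τ i) h2, zero_add, hri _ h1, add_zero] at h3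
      have h4 := (hτ' r (o.le hr) i).1 h3
      have h5 : r = 1 := by
        refine o.inj' h hr (one_mem R) fun j => ?_
        rw [Nb.e_one (M := N)]
        by_cases hj : j = i
        · rw [hj, h4]; rfl
        · rw [hri j hj]; rfl
      rw [h5]
      group

variable {z : G} (hz : z ∈ R) (hzB : ∀ b ∈ B, b * z = z * b) (hz0 : ∀ i, N.e z i 0 ≠ 0)
include hz hzB hz0

/-- a fixed block: `B` acts by field automorphisms -/
theorem field {b : G} (hb : b ∈ B) {σ : Equiv.Perm (Fin k)} (hσ : Mv N b σ) {i : Fin k} (hi : σ i = i) :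
    ∃ τ : K ≃+* K, (∀ x, τ (τ x) = x) ∧ ∀ r ∈ R, ∀ m : K, N.e r i 0 = m * N.e z i 0 →
      N.e (b * r * b⁻¹) i 0 = τ m * N.e z i 0 := by
  have hbP := BP h q hb
  obtain ⟨τ, hτ⟩ := _root_.Cfsg.Agent.Omega.NO3S.KeyRad.exists_semi h hbP hσ i
  rw [hi] at hτ
  have he : ∀ v ∈ U, N.e (b * v * b⁻¹) i = ph N b i i (N.e v i) := by
    intro v hv
    have h1 := e_conj h hbP hσ hv i
    rwa [hi] at h1
  have hzfix : ph N b i i (N.e z i) = N.e z i := by
    rw [← he z (o.le hz), hzB b hb, mul_inv_cancel_right]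
  have hm : ∀ m : K, ph N b i i (m • N.e z i) = τ m • N.e z i := fun m => by rw [hτ, hzfix]
  refine ⟨τ, fun x => ?_, fun r hr m hrm => ?_⟩
  · have hv := em_mem N i (x • N.e z i)
    have h1 := he _ (h.memV hbP hv)
    rw [he _ hv, e_em_self, hm, hm] at h1
    have h2 : b * (b * _root_.Cfsg.Agent.Omega.NO3S.KeyRad.em N i (x • N.e z i) * b⁻¹) * b⁻¹ = em N i (x • N.e z i) := by
      calc b * (b * em N i (x • N.e z i) * b⁻¹) * b⁻¹ = b * b * em N i (x • N.e z i) * (b * b)⁻¹ := by group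
        _ = _ := by rw [q.sq b hb]; group
    rw [h2, e_em_self] at h1
    have h3 := congrFun h1 0
    rw [Pi.smul_apply, Pi.smul_apply, smul_eq_mul, smul_eq_mul] at h3
    exact (mul_right_cancel₀ (hz0 i) h3).symm
  · have h1 : N.e r i = m • N.e z i := by
      rw [o.e_eq hr, o.e_eq hz, hrm]
      refine vec_eq ?_ ?_ <;> simp
    rw [he r (o.le hr), h1, hm, Pi.smul_apply, smul_eq_mul]

/-- **single elements of `R` are in `E`** -/
theorem single_mem {r : G} {i : Fin k} (hr : r ∈ R) (hri : ∀ j, j ≠ i → N.e r j = 0) : r ∈ E := by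
  by_contra hE
  refine q.t1 r (o.le hr) hE fun b hb d hd hbr hdr => ?_
  obtain ⟨σ, hσ⟩ := N.perm b (BP h q hb)
  obtain ⟨τ, hτ⟩ := N.perm d (BP h q hd)
  by_cases h1 : σ i = i
  · by_cases h2 : τ i = i
    · obtain ⟨s, hs, hs'⟩ := field o h q hz hzB hz0 hb hσ h1
      obtain ⟨t, ht, ht'⟩ := field o h q hz hzB hz0 hd hτ h2
      set m : K := N.e r i 0 / N.e z i 0 with hm
      have hrm : N.e r i 0 = m * N.e z i 0 := by rw [hm, div_mul_cancel₀ _ (hz0 i)]
      have key : ∀ g ∈ B, ∀ ρ : Equiv.Perm (Fin k), Mv N g ρ → ρ i = i → ∀ f : K ≃+* K,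
          N.e (g * r * g⁻¹) i 0 = f m * N.e z i 0 → g * r * g⁻¹ ≠ r → f m ≠ m := by
        intro g hg ρ hρ hρi f hf hne hfm
        apply hne
        refine o.inj h (o.conj (q.BS hg) hr) hr fun j => ?_
        by_cases hj : j = i
        · rw [hj, hf, hfm, ← hrm]
        · rw [off_zero o h q hr hri hρ (by rw [hρi]; exact hj), hri j hj]
      have hsm := key b hb σ hσ h1 s (hs' r hr m hrm) hbr
      have htm := key d hd τ hτ h2 t (ht' r hr m hrm) hdr
      refine o.inj h (o.conj (q.BS hb) hr) (o.conj (q.BS hd) hr) fun j => ?_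
      by_cases hj : j = i
      · rw [hj, hs' r hr m hrm, ht' r hr m hrm, inv_unique hs ht hsm htm]
      · rw [off_zero o h q hr hri hσ (by rw [h1]; exact hj), off_zero o h q hr hri hτ (by rw [h2]; exact hj)]
    · exact moved o h q hr hri hd hb hτ h2 hbr
  · exact (moved o h q hr hri hb hd hσ h1 hdr).symm

end qb

end mod

section mod2

variable {G : Type u} [Group G] {K : Type} [Field K] {S P U D : Subgroup G} {k : ℕ}
variable [Finite K] [CharP K 2] {B E R F' : Subgroup G} {N : NatKM K S P U D k} (o : Rst N R) (h : Nb N)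

include o h in
/-- a subgroup which contains all single elements over the support of `r` contains `r` -/
theorem mem_of_single {C : Subgroup G} {r : G} (hr : r ∈ R)
    (hC : ∀ l, N.e r l 0 ≠ 0 → ∀ t ∈ R, (∀ j, j ≠ l → N.e t j = 0) → t ∈ C) : r ∈ C := by
  classical
  have key : ∀ n : ℕ, ∀ r ∈ R, (Finset.univ.filter fun l => N.e r l 0 ≠ 0).card ≤ n →
      (∀ l, N.e r l 0 ≠ 0 → ∀ t ∈ R, (∀ j, j ≠ l → N.e t j = 0) → t ∈ C) → r ∈ C := by
    intro n
    induction n with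
    | zero =>
      intro r hr hn _
      have h1 : r = 1 := by
        refine o.inj h hr (one_mem R) fun i => ?_
        rw [Nb.e_one (M := N)]
        by_contra h2
        have h3 : i ∈ Finset.univ.filter fun l => N.e r l 0 ≠ 0 := Finset.mem_filter.2 ⟨Finset.mem_univ _, h2⟩
        have h4 := Finset.card_pos.2 ⟨i, h3⟩
        omega
      rw [h1]
      exact one_mem C
    | succ n ih =>
      intro r hr hn hC
      by_cases h0 : ∀ l, N.e r l 0 = 0
      · exact ih r hr (by rw [Finset.filter_false_of_mem (fun l _ => by simpa using h0 l)]; simp) hC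
      · push Not at h0
        obtain ⟨l, hl⟩ := h0
        obtain ⟨t, ht, htl, htj⟩ := o.exists_rs l (N.e r l 0)
        have htC := hC l hl t ht htj
        have hco : ∀ j, N.e (t⁻¹ * r) j 0 = N.e t j 0 + N.e r j 0 := fun j => by
          rw [N.mul _ (inv_mem (o.le ht)) _ (o.le hr), h.e_inv (o.le ht)]; rfl
        have hj : ∀ j, j ≠ l → N.e (t⁻¹ * r) j 0 = N.e r j 0 := fun j hj => by
          rw [hco, htj j hj]; simp
        have hll : N.e (t⁻¹ * r) l 0 = 0 := by rw [hco, htl, CharTwo.add_self_eq_zero]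
        have h1 : t⁻¹ * r ∈ C := by
          refine ih _ (mul_mem (inv_mem ht) hr) ?_ fun j hj0 => ?_
          · have h2 : (Finset.univ.filter fun j => N.e (t⁻¹ * r) j 0 ≠ 0) ⊂ Finset.univ.filter fun j => N.e r j 0 ≠ 0 := by
              rw [Finset.ssubset_iff_of_subset]
              · exact ⟨l, Finset.mem_filter.2 ⟨Finset.mem_univ _, hl⟩, fun h3 => (Finset.mem_filter.1 h3).2 hll⟩
              · intro j h3
                have h4 := (Finset.mem_filter.1 h3).2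
                have h5 : j ≠ l := fun h6 => h4 (by rw [h6]; exact hll)
                exact Finset.mem_filter.2 ⟨Finset.mem_univ _, by rwa [hj j h5] at h4⟩
            have h3 := Finset.card_lt_card h2
            omega
          · have h5 : j ≠ l := fun h6 => hj0 (by rw [h6]; exact hll)
            exact hC j (by rwa [hj j h5] at hj0)
        have h2 : r = t * (t⁻¹ * r) := by group
        rw [h2]
        exact mul_mem htC h1
  exact key _ r hr le_rfl hC

variable (q : QB S U B E) (hEF : ∀ e ∈ E, ∀ b ∈ B, b * e * b⁻¹ * e⁻¹ ∈ F')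
variable {z : G} (hz : z ∈ R) (hzB : ∀ b ∈ B, b * z = z * b) (hz0 : ∀ i, N.e z i 0 ≠ 0)
include o h q hEF hz hzB hz0

/-- the partial product over a `B`-orbit -/
theorem exists_g {j : Fin k} {r b : G} (hr : r ∈ R) (hrj : ∀ l, l ≠ j → N.e r l = 0) (hb : b ∈ B)
    (hbr : b * r ≠ r * b) :
    ∃ g ∈ R, g ∈ F' ∧ (∀ b ∈ B, b * g = g * b) ∧ N.e g j 0 = N.e z j 0 ∧
      ∀ l, N.e g l 0 = 0 ∨ (N.e g l 0 = N.e z l 0 ∧ ∃ b ∈ B, ∃ σ, Mv N b σ ∧ σ j = l) := by
  have hbS := q.BS hb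
  have hbP := BP h q hb
  have hbr' : b * r * b⁻¹ ≠ r := fun h1 => hbr (mul_inv_eq_iff_eq_mul.1 h1)
  obtain ⟨σ, hσ⟩ := N.perm b hbP
  have hσ' : Mv N b σ := hσ
  -- the element `[t, b]`
  have main : ∀ t ∈ R, (∀ l, l ≠ j → N.e t l = 0) → b * t * b⁻¹ * t⁻¹ ∈ R ∧ b * t * b⁻¹ * t⁻¹ ∈ F' ∧
      (∀ d ∈ B, d * (b * t * b⁻¹ * t⁻¹) = b * t * b⁻¹ * t⁻¹ * d) ∧
      ∀ l, N.e (b * t * b⁻¹ * t⁻¹) l 0 = N.e (b * t * b⁻¹) l 0 + N.e t l 0 := by
    intro t ht htj
    refine ⟨mul_mem (o.conj hbS ht) (inv_mem ht), hEF t (single_mem o h q hz hzB hz0 ht htj) b hb,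
      fun d hd => q.quad t (o.le ht) b hb d hd, fun l => ?_⟩
    rw [h.e_div (h.memV hbP (o.le ht)) (o.le ht)]; rfl
  by_cases h1 : σ j = j
  · obtain ⟨s, hs, hs'⟩ := field o h q hz hzB hz0 hb hσ' h1
    set m : K := N.e r j 0 / N.e z j 0 with hm
    have hrm : N.e r j 0 = m * N.e z j 0 := by rw [hm, div_mul_cancel₀ _ (hz0 j)]
    have hsm : s m ≠ m := by
      intro hfm
      apply hbr'
      refine o.inj h (o.conj hbS hr) hr fun l => ?_
      by_cases hl : l = j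
      · rw [hl, hs' r hr m hrm, hfm, ← hrm]
      · rw [off_zero o h q hr hrj hσ' (by rw [h1]; exact hl), hrj l hl]
    obtain ⟨m', hm'⟩ := exists_tr hs hsm
    obtain ⟨t, ht, htm, htj⟩ := o.exists_rs j (m' * N.e z j 0)
    obtain ⟨c1, c2, c3, c4⟩ := main t ht htj
    refine ⟨_, c1, c2, c3, ?_, fun l => ?_⟩
    · rw [c4, hs' t ht m' htm, htm, ← add_mul, hm', one_mul]
    · by_cases hl : l = j
      · right
        rw [hl]
        refine ⟨?_, b, hb, σ, hσ', h1⟩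
        rw [c4, hs' t ht m' htm, htm, ← add_mul, hm', one_mul]
      · left
        rw [c4, off_zero o h q ht htj hσ' (by rw [h1]; exact hl), htj l hl]
        simp
  · obtain ⟨t, ht, htm, htj⟩ := o.exists_rs j (N.e z j 0)
    obtain ⟨c1, c2, c3, c4⟩ := main t ht htj
    have hj : N.e (b * t * b⁻¹ * t⁻¹) j 0 = N.e z j 0 := by
      rw [c4, off_zero o h q ht htj hσ' (Ne.symm h1), htm]
      simp
    refine ⟨_, c1, c2, c3, hj, fun l => ?_⟩
    by_cases hl : l = j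
    · right
      rw [hl]
      refine ⟨hj, 1, one_mem B, 1, fun v _ i => ?_, rfl⟩
      have e1 : 1 * v * (1 : G)⁻¹ = v := by group
      rw [e1]; rfl
    · by_cases hl2 : l = σ j
      · right
        rw [hl2]
        refine ⟨?_, b, hb, σ, hσ', rfl⟩
        rw [c4, htj (σ j) h1]
        have h2 := e_conj h hbP hσ' (o.le ht) j
        have h3 := e_conj h hbP hσ' (o.le hz) j
        have h4 : N.e t j = N.e z j := by rw [o.e_eq ht, o.e_eq hz, htm]
        rw [h4, ← h3, hzB b hb, mul_inv_cancel_right] at h2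
        rw [h2]
        simp
      · left
        rw [c4, off_zero o h q ht htj hσ' hl2, htj l hl]
        simp

/-- the product over all moved lines -/
theorem exists_f : ∃ f ∈ R, f ∈ F' ∧ (∀ b ∈ B, b * f = f * b) ∧ (∀ l, N.e f l 0 = 0 ∨ N.e f l 0 = N.e z l 0) ∧
    ∀ j, N.e f j 0 = 0 → ∀ r ∈ R, (∀ l, l ≠ j → N.e r l = 0) → ∀ b ∈ B, b * r = r * b := by
  classical
  have key : ∀ n : ℕ, ∀ f ∈ R, f ∈ F' → (∀ b ∈ B, b * f = f * b) → (∀ l, N.e f l 0 = 0 ∨ N.e f l 0 = N.e z l 0) →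
      (Finset.univ.filter fun l => N.e f l 0 = 0).card ≤ n →
      ∃ f ∈ R, f ∈ F' ∧ (∀ b ∈ B, b * f = f * b) ∧ (∀ l, N.e f l 0 = 0 ∨ N.e f l 0 = N.e z l 0) ∧
        ∀ j, N.e f j 0 = 0 → ∀ r ∈ R, (∀ l, l ≠ j → N.e r l = 0) → ∀ b ∈ B, b * r = r * b := by
    intro n
    induction n with
    | zero =>
      intro f hf hfF hfB hfl hn
      refine ⟨f, hf, hfF, hfB, hfl, fun j hj => ?_⟩
      have h3 : j ∈ Finset.univ.filter fun l => N.e f l 0 = 0 := Finset.mem_filter.2 ⟨Finset.mem_univ _, hj⟩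
      have h4 := Finset.card_pos.2 ⟨j, h3⟩
      omega
    | succ n ih =>
      intro f hf hfF hfB hfl hn
      by_cases hall : ∀ j, N.e f j 0 = 0 → ∀ r ∈ R, (∀ l, l ≠ j → N.e r l = 0) → ∀ b ∈ B, b * r = r * b
      · exact ⟨f, hf, hfF, hfB, hfl, hall⟩
      · push Not at hall
        obtain ⟨j, hj, r, hr, hrj, b, hb, hbr⟩ := hall
        obtain ⟨g, hg, hgF, hgB, hgj, hgl⟩ := exists_g o h q hEF hz hzB hz0 hr hrj hb hbr
        have hco : ∀ l, N.e (f * g) l 0 = N.e f l 0 + N.e g l 0 := fun l => by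
          rw [N.mul _ (o.le hf) _ (o.le hg)]; rfl
        have hfj : N.e f j = 0 := by
          rw [o.e_eq hf, hj]
          refine vec_eq ?_ ?_ <;> simp
        have hcase : ∀ l, N.e g l 0 = 0 ∨ (N.e g l 0 = N.e z l 0 ∧ N.e f l 0 = 0) := by
          intro l
          rcases hgl l with h1 | ⟨h1, d, hd, σ, hσ, hσj⟩
          · exact Or.inl h1
          · right
            refine ⟨h1, ?_⟩
            have h2 := (hσ f (o.le hf) j).2 hfj
            rw [hfB d hd, mul_inv_cancel_right, hσj] at h2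
            rw [h2]; rfl
        refine ih (f * g) (mul_mem hf hg) (mul_mem hfF hgF) (fun d hd => ?_) (fun l => ?_) ?_
        · exact (show Commute d f from hfB d hd).mul_right (show Commute d g from hgB d hd)
        · rw [hco]
          rcases hcase l with h1 | ⟨h1, h2⟩
          · rw [h1, add_zero]; exact hfl l
          · rw [h1, h2, zero_add]; exact Or.inr rfl
        · have h2 : (Finset.univ.filter fun l => N.e (f * g) l 0 = 0) ⊂ Finset.univ.filter fun l => N.e f l 0 = 0 := by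
            rw [Finset.ssubset_iff_of_subset]
            · refine ⟨j, Finset.mem_filter.2 ⟨Finset.mem_univ _, hj⟩, fun h3 => ?_⟩
              have h4 := (Finset.mem_filter.1 h3).2
              rw [hco, hj, zero_add, hgj] at h4
              exact hz0 j h4
            · intro l h3
              have h4 := (Finset.mem_filter.1 h3).2
              refine Finset.mem_filter.2 ⟨Finset.mem_univ _, ?_⟩
              rw [hco] at h4
              rcases hcase l with h5 | ⟨h5, h6⟩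
              · rwa [h5, add_zero] at h4
              · exact h6
          have h3 := Finset.card_lt_card h2
          omega
  refine key _ 1 (one_mem R) (one_mem F') (fun b _ => by group) (fun l => ?_) le_rfl
  left
  rw [Nb.e_one (M := N)]; rfl

end mod2

/-! ### RC -/

section sit

variable {G : Type u} [Group G] [Finite G] {S : Sylow 2 G} {V F B P : Subgroup G}
variable {K : Type} [Field K] [Finite K] [CharP K 2] {k : ℕ}

/-- `[E, B] ≤ F` -/
theorem comm_EB (s : SitR S V F B P) {e b : G} (he : e ∈ EE V F) (hb : b ∈ B) : b * e * b⁻¹ * e⁻¹ ∈ F := by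
  have h2 : b * e * b⁻¹ * e⁻¹ = (c e b)⁻¹ := by rw [c]; group
  rw [h2]
  exact inv_mem (s.flat.comm_EW he (s.BW hb))

/-- the input from the module -/
structure RstS (S : Sylow 2 G) (P : Subgroup G)
    (N : NatKM K (S : Subgroup G) P (zl (S : Subgroup G) P) (cv (S : Subgroup G) P) k) (R : Subgroup G) : Prop
    extends Rst N R where
  dec : ∀ z ∈ zc (S : Subgroup G), ∃ d ∈ zc (S : Subgroup G) ⊓ cv (S : Subgroup G) P,
    ∃ r ∈ zc (S : Subgroup G) ⊓ R, z = d * r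
  pt : ∀ r ∈ R, (∀ i, N.e r i 0 ≠ 0) → ∀ d ∈ zc (S : Subgroup G) ⊓ cv (S : Subgroup G) P,
    ∃ g ∈ P, d * r ∈ MulAut.conj g • zc (S : Subgroup G)

/-- `Z ≰ D` -/
theorem not_zc_le (hk : 0 < k) (N : NatKM K (S : Subgroup G) P (zl (S : Subgroup G) P) (cv (S : Subgroup G) P) k) :
    ¬ zc (S : Subgroup G) ≤ cv (S : Subgroup G) P := by
  intro hle
  have h1 : zl (S : Subgroup G) P ≤ cv (S : Subgroup G) P :=
    MinSimple.VModule.zl_le hle NO3S.ThmB.Inst.le_normalizer_cv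
  obtain ⟨v, hv, hve⟩ := N.surj (fun _ => ![1, 0])
  have h2 := (N.ker v hv).2 (h1 hv)
  rw [hve] at h2
  have h3 := congrFun (congrFun h2 ⟨0, hk⟩) 0
  simp at h3

/-- a vector of full support in `Z ∩ R` -/
theorem exists_z (hk : 0 < k)
    {N : NatKM K (S : Subgroup G) P (zl (S : Subgroup G) P) (cv (S : Subgroup G) P) k} {R : Subgroup G}
    (o : RstS S P N R) : ∃ z ∈ zc (S : Subgroup G) ⊓ R, ∀ i, N.e z i 0 ≠ 0 := by
  obtain ⟨z, hz, hzD⟩ := SetLike.not_le_iff_exists.1 (not_zc_le hk N)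
  obtain ⟨d, hd, r, hr, hzr⟩ := o.dec z hz
  obtain ⟨hrZ, hrR⟩ := mem_inf.1 hr
  have hrD : r ∉ cv (S : Subgroup G) P := fun h1 => hzD (by rw [hzr]; exact mul_mem hd.2 h1)
  have hrU := o.le hrR
  have h1 : ¬ N.e r = 0 := fun h2 => hrD ((N.ker r hrU).1 h2)
  obtain ⟨i, hi⟩ := Function.ne_iff.1 h1
  refine ⟨r, hr, fun j h0 => ?_⟩
  obtain ⟨t, ht, h2⟩ := N.trans i j
  have h3 := h2 r hrU
  rw [(MinSimple.VModule.mem_zc.1 hrZ).2.1 t ht, mul_inv_cancel_right] at h3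
  refine hi (h3.1 ?_)
  rw [o.toRst.e_eq hrR, h0]
  refine vec_eq ?_ ?_ <;> simp

/-- **The count**: `q |Z ∩ D| ≤ |C_V(B) : F|`. -/
theorem card_mul_le (s : SitR S V F B P) (hk : 0 < k)
    {N : NatKM K (S : Subgroup G) P (zl (S : Subgroup G) P) (cv (S : Subgroup G) P) k} {R : Subgroup G}
    (o : RstS S P N R) :
    Nat.card K * Nat.card ↥(zc (S : Subgroup G) ⊓ cv (S : Subgroup G) P) ≤
      F.relIndex (V ⊓ centralizer (B : Set G)) := by
  classical
  have h : Nb N := NO3S.ThmB.Inst.nb s.ctx.char2 s.hP N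
  have q := RC.qb s
  obtain ⟨z, hz, hz0⟩ := exists_z hk o
  obtain ⟨hzZ, hzR⟩ := mem_inf.1 hz
  have hZB : ∀ y ∈ zc (S : Subgroup G), ∀ b ∈ B, b * y = y * b := fun y hy b hb =>
    (MinSimple.VModule.mem_zc.1 hy).2.1 b (s.BS hb)
  obtain ⟨f, hfR, hfF, hfB, hfl, hf0⟩ := exists_f (F' := F) o.toRst h q (fun e he b hb => comm_EB s he hb) hzR
    (hZB z hzZ) hz0
  -- the vectors `y m`
  have hy : ∀ m : K, ∃ y ∈ R, ∀ l, N.e y l 0 = if N.e f l 0 = 0 then m * N.e z l 0 else 0 := fun m => o.surj _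
  choose y hyR hyl using hy
  have hyC : ∀ m, y m ∈ centralizer (B : Set G) := by
    intro m
    refine mem_of_single o.toRst h (hyR m) fun l hl t ht htj => ?_
    rw [mem_centralizer_iff]
    intro b hb
    refine hf0 l ?_ t ht htj b hb
    by_contra h1
    rw [hyl, if_neg h1] at hl
    exact hl rfl
  have hUV : ∀ {x : G}, x ∈ R → x ∈ V := fun hx => s.UV (o.le hx)
  have hsub : ∀ m n : K, (y m)⁻¹ * y n = y (m + n) := by
    intro m n
    refine o.toRst.inj h (mul_mem (inv_mem (hyR m)) (hyR n)) (hyR _) fun l => ?_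
    rw [N.mul _ (inv_mem (o.le (hyR m))) _ (o.le (hyR n)), h.e_inv (o.le (hyR m)), Pi.add_apply, Pi.add_apply, hyl, hyl,
      hyl]
    split_ifs
    · rw [add_mul]
    · rw [add_zero]
  have hy1 : y 0 = 1 := by
    refine o.toRst.inj h (hyR 0) (one_mem R) fun l => ?_
    rw [hyl, Nb.e_one (M := N)]
    split_ifs <;> simp
  -- the key: `y m e ∈ F` implies `m = 0`, `e = 1`
  have key : ∀ m : K, ∀ e ∈ zc (S : Subgroup G) ⊓ cv (S : Subgroup G) P, e * y m ∈ F → m = 0 ∧ e = 1 := by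
    intro m e he hF
    have hm : m = 0 := by
      by_contra hm
      have h1 : ∀ l, N.e (y m * f) l 0 ≠ 0 := by
        intro l
        rw [N.mul _ (o.le (hyR m)) _ (o.le hfR), Pi.add_apply, Pi.add_apply, hyl]
        by_cases h2 : N.e f l 0 = 0
        · rw [if_pos h2, h2, add_zero]
          exact mul_ne_zero hm (hz0 l)
        · rw [if_neg h2, zero_add]
          exact h2
      have h2 := mul_mem (hyR m) hfR
      obtain ⟨g, hg, hgp⟩ := o.pt _ h2 h1 e he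
      have h3 : e * (y m * f) ∈ MulAut.conj g • zc (S : Subgroup G) ⊓ F := by
        refine mem_inf.2 ⟨hgp, ?_⟩
        have h4 : e * (y m * f) = e * y m * f := by group
        rw [h4]
        exact mul_mem hF hfF
      rw [s.ptP hg, mem_bot] at h3
      have h4 : y m * f ∈ R ⊓ cv (S : Subgroup G) P := by
        refine mem_inf.2 ⟨h2, ?_⟩
        have h5 : y m * f = e⁻¹ := (eq_inv_of_mul_eq_one_right h3)
        rw [h5]
        exact inv_mem he.2
      rw [o.inf, mem_bot] at h4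
      have h5 := h1 ⟨0, hk⟩
      rw [h4, Nb.e_one (M := N)] at h5
      exact h5 rfl
    refine ⟨hm, ?_⟩
    rw [hm, hy1, mul_one] at hF
    have h1 : e ∈ zc (S : Subgroup G) ⊓ F := mem_inf.2 ⟨he.1, hF⟩
    rwa [s.zc_inf, mem_bot] at h1
  rw [← Nat.card_prod, relIndex, index]
  have hmem : ∀ m : K, ∀ e : ↥(zc (S : Subgroup G) ⊓ cv (S : Subgroup G) P),
      (e : G) * y m ∈ V ⊓ centralizer (B : Set G) := by
    intro m e
    have he := mem_inf.1 e.2
    refine mul_mem (mem_inf.2 ⟨s.UV (_root_.Cfsg.Agent.MinSimple.VModule.zc_le_zl _ _ he.1), ?_⟩) (mem_inf.2 ⟨hUV (hyR m), hyC m⟩)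
    rw [mem_centralizer_iff]
    exact fun b hb => hZB _ he.1 b hb
  refine Nat.card_le_card_of_injective
    (fun p : K × ↥(zc (S : Subgroup G) ⊓ cv (S : Subgroup G) P) =>
      (QuotientGroup.mk (⟨(p.2 : G) * y p.1, hmem p.1 p.2⟩ : ↥(V ⊓ centralizer (B : Set G))) :
        ↥(V ⊓ centralizer (B : Set G)) ⧸ F.subgroupOf (V ⊓ centralizer (B : Set G)))) ?_
  rintro ⟨m, e⟩ ⟨n, e'⟩ heq
  rw [QuotientGroup.eq, mem_subgroupOf] at heq
  replace heq : ((e : G) * y m)⁻¹ * ((e' : G) * y n) ∈ F := heq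
  have hc : ∀ {a b : G}, a ∈ V → b ∈ V → a * b = b * a := fun ha hb => s.flat.V_comm ha hb
  have heV : (e : G) ∈ V := s.UV (_root_.Cfsg.Agent.MinSimple.VModule.zc_le_zl _ _ (mem_inf.1 e.2).1)
  have heV' : (e' : G) ∈ V := s.UV (_root_.Cfsg.Agent.MinSimple.VModule.zc_le_zl _ _ (mem_inf.1 e'.2).1)
  have h1 : ((e : G) * y m)⁻¹ * ((e' : G) * y n) = (e : G)⁻¹ * (e' : G) * y (m + n) := by
    rw [← hsub]
    have h2 : (e : G)⁻¹ * (e' : G) * (y m)⁻¹ = (y m)⁻¹ * ((e : G)⁻¹ * (e' : G)) :=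
      hc (mul_mem (inv_mem heV) heV') (inv_mem (hUV (hyR m)))
    calc ((e : G) * y m)⁻¹ * ((e' : G) * y n) = (y m)⁻¹ * ((e : G)⁻¹ * (e' : G)) * y n := by group
      _ = (e : G)⁻¹ * (e' : G) * (y m)⁻¹ * y n := by rw [h2]
      _ = _ := by group
  rw [h1] at heq
  obtain ⟨h2, h3⟩ := key _ _ (mul_mem (inv_mem e.2) e'.2) heq
  refine Prod.ext ?_ (Subtype.ext ?_)
  · exact CharTwo.add_eq_zero.1 h2
  · exact (inv_mul_eq_one.1 h3)

/-- **RC** from the module input and `|C_V(B) : F| ≤ q`. -/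
theorem rc_of (s : SitR S V F B P) (hk : 0 < k)
    {N : NatKM K (S : Subgroup G) P (zl (S : Subgroup G) P) (cv (S : Subgroup G) P) k} {R : Subgroup G}
    (o : RstS S P N R) (hq : F.relIndex (V ⊓ centralizer (B : Set G)) ≤ Nat.card K) :
    cv (S : Subgroup G) P = ⊥ := by
  have h1 := (card_mul_le s hk o).trans hq
  have h2 : Nat.card ↥(zc (S : Subgroup G) ⊓ cv (S : Subgroup G) P) = 1 := by
    have h3 : 0 < Nat.card K := Nat.card_pos
    have h4 : 0 < Nat.card ↥(zc (S : Subgroup G) ⊓ cv (S : Subgroup G) P) := Nat.card_pos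
    refine le_antisymm ?_ h4
    exact Nat.le_of_mul_le_mul_left (by rwa [mul_one]) h3
  have h3 := Subgroup.card_eq_one.1 h2
  refine NoFF.LinesPlug.inf_oddGen_eq_bot s.ctx.char2 S s.hP.toIsPar (le_bot_iff.1 ?_)
  rw [← h3]
  exact le_inf inf_le_left (le_inf (inf_le_left.trans (_root_.Cfsg.Agent.MinSimple.VModule.zc_le_zl _ _))
    (inf_le_right.trans (centralizer_le (MinSimple.VModule.oddGen_le P))))

end sit

end Cfsg.Agent.Omega.NOThreeL.RLow.Cnt

end

end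

-- merged: Cfsg.Agent.Mrg.Omega.NOThreeL.RLow.RC.RC
section

/-!
# THEOREM R-LOW (#21762), part RC: the bad line of natural type has no radical

* `two_lt_card` : `2 < |K|`;
* `rc : StRC` (Count, CVq, Star).
-/

set_option autoImplicit false

namespace Cfsg.Agent.Omega.NOThreeL.RLow.Cnt

open Subgroup Cfsg Cfsg.Agent.ZN Cfsg.Agent.Omega.MinPar
open Cfsg.Agent.Omega.FFThm (NatKM)
open Cfsg.Agent.Omega.FrameFF (cv)

universe u

variable {G : Type u} [Group G] [Finite G] {S : Sylow 2 G} {V F B P : Subgroup G}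
variable {K : Type} [Field K] {k : ℕ}

/-- `2 < |K|` -/
theorem two_lt_card [Finite K] [CharP K 2] (s : SitR S V F B P)
    (N : NatKM K (S : Subgroup G) P (zl (S : Subgroup G) P) (cv (S : Subgroup G) P) k) : 2 < Nat.card K := by
  refine s.card.trans_le (s.card_le.trans ((relIndex_le_of_le_right ?_ index_ne_zero_of_finite).trans (RC.cvq s N)))
  exact le_inf inf_le_left (inf_le_right.trans s.comm)

omit [Finite G] in
/-- The structure `Star` as `RstS` -/
theorem rstS {N : NatKM K (S : Subgroup G) P (zl (S : Subgroup G) P) (cv (S : Subgroup G) P) k} {R : Subgroup G}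
    (o : Star.Star (S : Subgroup G) P N R) : RstS S P N R where
  le := o.le
  line := o.line
  surj := o.surj
  inf := o.inf
  nor := o.nor
  dec := o.dec
  pt := o.pt

end Cfsg.Agent.Omega.NOThreeL.RLow.Cnt

namespace Cfsg.Agent.Omega.NOThreeL.RLow

universe u

/-- **RC** -/
theorem rc : StRC.{u} := by
  intro G _ _ S V F B P s K _ _ _ k hk ⟨N⟩
  obtain ⟨R, o⟩ := Star.exists_star s.ctx.char2 s.hP N hk (Cnt.two_lt_card s N)
  exact Cnt.rc_of s hk (Cnt.rstS o) (RC.cvq s N)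

end Cfsg.Agent.Omega.NOThreeL.RLow

end

-- merged: Cfsg.Agent.Mrg.Omega.NOThreeL.RLow.KOneA
section

/-!
# THEOREM R-LOW (#21762), (3) = `StR3`: `k = 1` is impossible if there is a radical line

* `exists_syl_act` : a group acting on `V'` inside `Hom(V' / W, W)` acts as its Sylow 2-subgroup;
* `InA` : the hypotheses; `Ys` : the elements acting on `A = V_R R₁` as `1 + α`, `α : A / R₁ → R₁`;
* `InA.le_cent` : (HOM), if `Ys` centralises `A` then `V_R ≤ R₁`;
* `InA.trv` : otherwise `S` contains a group acting on `V_R` as `F_q α` (`Trv`);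
* `InA.false`, **`r3 : StR3`**.
-/

set_option autoImplicit false

namespace Cfsg.Agent.Omega.NOThreeL.RLow.KOne

open Subgroup Cfsg Cfsg.Agent.ZN Cfsg.Agent.ZN.ChoiceBase Cfsg.Agent.ZN.ChoiceSit
open Cfsg.Agent.Omega.MinPar
open Cfsg.Agent.Omega.IId.MixedK (conj_comm comm_conj)
open Cfsg.Agent.Omega.IId.KOne (conj_cent syl_inf syl_le)
open Cfsg.Agent.Omega.FrameFF (cv)
open Cfsg.Agent.Omega.FFThm (NatK NatKM SymKM ActsSL OffM)
open Cfsg.Agent.Omega.Half (Amb amb_of_loc)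
open Cfsg.Agent.Omega.NOThreeL.NF
open Cfsg.Agent.Omega.NOThreeL.NF.NatR

universe u

section abs

variable {G : Type u} [Group G] [Finite G]

/-- A group which acts on `V'` inside `Hom(V' / W, W)` acts as its Sylow 2-subgroup. -/
theorem exists_syl_act {K₀ T₀ V' W : Subgroup G} (hT : Syl T₀ K₀) (hVc : ∀ v ∈ V', ∀ w ∈ V', v * w = w * v)
    (hW : W ≤ V') (hsq : ∀ w ∈ W, w * w = 1) (h1 : ∀ g ∈ K₀, ∀ v ∈ V', g * v * g⁻¹ * v⁻¹ ∈ W)
    (h2 : ∀ g ∈ K₀, ∀ w ∈ W, g * w = w * g) {g : G} (hg : g ∈ K₀) :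
    ∃ t ∈ T₀, ∀ v ∈ V', g * v * g⁻¹ = t * v * t⁻¹ := by
  -- the cocycle is additive
  have hadd : ∀ a ∈ K₀, ∀ b ∈ K₀, ∀ v ∈ V', a * b * v * (a * b)⁻¹ * v⁻¹ =
      (a * v * a⁻¹ * v⁻¹) * (b * v * b⁻¹ * v⁻¹) := by
    intro a ha b hb v hv
    have hw := h1 b hb v hv
    have h3 := comm_conj (h2 a ha _ hw)
    have h4 : a * v * a⁻¹ * v⁻¹ ∈ W := h1 a ha v hv
    calc a * b * v * (a * b)⁻¹ * v⁻¹ = (a * (b * v * b⁻¹ * v⁻¹) * a⁻¹) * (a * v * a⁻¹ * v⁻¹) := by group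
      _ = (b * v * b⁻¹ * v⁻¹) * (a * v * a⁻¹ * v⁻¹) := by rw [h3]
      _ = _ := hVc _ (hW hw) _ (hW h4)
  have hpow : ∀ (n : ℕ), ∀ v ∈ V', g ^ n * v * (g ^ n)⁻¹ * v⁻¹ = (g * v * g⁻¹ * v⁻¹) ^ n := by
    intro n
    induction n with
    | zero => intro v _; simp only [_root_.pow_zero, _root_.one_mul, _root_.inv_one, _root_.mul_one, _root_.mul_inv_cancel]
    | succ n ih =>
      intro v hv
      rw [pow_succ, hadd _ (pow_mem hg n) _ hg v hv, ih v hv, pow_succ]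
  obtain ⟨a, m, hm, ho⟩ := Nat.exists_eq_two_pow_mul_odd (orderOf_pos g).ne'
  have hgm : g ^ m ∈ K₀ := pow_mem hg m
  have hp : IsPGroup 2 (zpowers (g ^ m)) := by
    refine IsPGroup.of_card (n := a) ?_
    rw [Nat.card_zpowers, orderOf_pow_of_dvd hm.pos.ne' ⟨2 ^ a, by rw [ho]; ring⟩, ho]
    exact Nat.mul_div_cancel _ hm.pos
  obtain ⟨Q, hQ, hgQ⟩ := exists_syl hp ((zpowers_le).2 hgm)
  obtain ⟨y, hy, hyQ⟩ := syl_conj hQ hT
  refine ⟨y * g ^ m * y⁻¹, by rw [← hyQ]; exact ⟨g ^ m, hgQ (mem_zpowers _), rfl⟩, fun v hv => ?_⟩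
  have h3 : y * g ^ m * y⁻¹ * v * (y * g ^ m * y⁻¹)⁻¹ * v⁻¹ = g * v * g⁻¹ * v⁻¹ := by
    have hyi := inv_mem hy
    have e1 : y * v * y⁻¹ * v⁻¹ * (y⁻¹ * v * y⁻¹⁻¹ * v⁻¹) = 1 := by
      rw [← hadd y hy _ hyi v hv]; group
    have hc : (g ^ m * v * (g ^ m)⁻¹ * v⁻¹) = g * v * g⁻¹ * v⁻¹ := by
      rw [hpow m v hv]
      obtain ⟨j, hj⟩ := hm
      rw [hj, pow_add, pow_mul, pow_two, hsq _ (h1 g hg v hv), one_pow, one_mul, pow_one]
    rw [hadd _ (mul_mem hy hgm) _ hyi v hv, hadd _ hy _ hgm v hv, hc]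
    have hw1 := hW (h1 y hy v hv)
    have hw2 := hW (h1 g hg v hv)
    calc (y * v * y⁻¹ * v⁻¹) * (g * v * g⁻¹ * v⁻¹) * (y⁻¹ * v * y⁻¹⁻¹ * v⁻¹)
        = (g * v * g⁻¹ * v⁻¹) * (y * v * y⁻¹ * v⁻¹) * (y⁻¹ * v * y⁻¹⁻¹ * v⁻¹) := by rw [hVc _ hw1 _ hw2]
      _ = g * v * g⁻¹ * v⁻¹ := by rw [mul_assoc, e1, mul_one]
  exact (mul_right_cancel h3).symm

end abs

/-! ### The situation -/

/-- The hypotheses of (3). -/
structure InA {G : Type u} [Group G] [Finite G] (S : Sylow 2 G) (P R F V : Subgroup G) {K : Type} [Field K]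
    (N : NatKM K (S : Subgroup G) P (zl (S : Subgroup G) P) ⊥ 1) : Prop where
  hc : IsCharacteristicTwoType G
  hP : IsParS (S : Subgroup G) P
  hR : IsParS (S : Subgroup G) R
  ex : zc (S : Subgroup G) ⊓ centralizer (R : Set G) ≠ ⊥
  comm : ∀ a ∈ V, ∀ b ∈ V, a * b = b * a
  sq : ∀ a ∈ V, a * a = 1
  UV : zl (S : Subgroup G) P ≤ V
  lV : zl (S : Subgroup G) R ≤ V
  FV : F ≤ V
  I : ∀ a ∈ zl (S : Subgroup G) R, ∃ r ∈ ln N Set.univ, r⁻¹ * a ∈ F
  RF : ∀ r ∈ ln N Set.univ, r ∈ F → r = 1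
  tor : ∀ l : K, l ≠ 0 → ∃ g ∈ centralizer (F : Set G), ∀ r ∈ ln N Set.univ,
    g * r * g⁻¹ ∈ ln N Set.univ ∧ N.e (g * r * g⁻¹) 0 0 = l * N.e r 0 0
  big : 2 < Nat.card K

namespace InA

variable {G : Type u} [Group G] [Finite G] {S : Sylow 2 G} {P R F V : Subgroup G} {K : Type} [Field K]
  {N : NatKM K (S : Subgroup G) P (zl (S : Subgroup G) P) ⊥ 1}

/-- `A = V_R R₁` -/
def AA (R : Subgroup G) (N : NatKM K (S : Subgroup G) P (zl (S : Subgroup G) P) ⊥ 1) : Subgroup G :=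
  zl (S : Subgroup G) R ⊔ ln N Set.univ

/-- the elements of `N(A) ∩ N(R₁)` acting on `A` as `1 + α`, `α : A / R₁ → R₁` -/
def Ys (R : Subgroup G) (N : NatKM K (S : Subgroup G) P (zl (S : Subgroup G) P) ⊥ 1) : Subgroup G where
  carrier := {c | (c ∈ normalizer (AA R N : Set G) ⊓ normalizer (ln N Set.univ : Set G)) ∧
    (∀ v ∈ AA R N, c * v * c⁻¹ * v⁻¹ ∈ ln N Set.univ) ∧ ∀ r ∈ ln N Set.univ, c * r = r * c}
  mul_mem' := by
    rintro a b ⟨ha, ha1, ha2⟩ ⟨hb, hb1, hb2⟩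
    refine ⟨mul_mem ha hb, fun v hv => ?_, fun r hr => ?_⟩
    · have h1 := hb1 v hv
      have h2 := comm_conj (ha2 _ h1)
      have e1 : a * b * v * (a * b)⁻¹ * v⁻¹ = (a * (b * v * b⁻¹ * v⁻¹) * a⁻¹) * (a * v * a⁻¹ * v⁻¹) := by group
      rw [e1, h2]
      exact mul_mem h1 (ha1 v hv)
    · rw [mul_assoc, hb2 r hr, ← mul_assoc, ha2 r hr, mul_assoc]
  one_mem' := ⟨one_mem _, fun v _ => by
    have e1 : (1 : G) * v * 1⁻¹ * v⁻¹ = 1 := by group
    rw [e1]; exact one_mem _, fun r _ => by rw [one_mul, mul_one]⟩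
  inv_mem' := by
    rintro a ⟨ha, ha1, ha2⟩
    have ha3 : ∀ r ∈ ln N Set.univ, a⁻¹ * r = r * a⁻¹ := fun r hr => by
      have := ha2 r hr
      calc a⁻¹ * r = a⁻¹ * (r * a) * a⁻¹ := by group
        _ = a⁻¹ * (a * r) * a⁻¹ := by rw [this]
        _ = r * a⁻¹ := by group
    refine ⟨inv_mem ha, fun v hv => ?_, ha3⟩
    have h1 := inv_mem (ha1 v hv)
    have h2 := comm_conj (ha3 _ h1)
    have e1 : a⁻¹ * (a * v * a⁻¹ * v⁻¹)⁻¹ * a⁻¹⁻¹ = a⁻¹ * v * a⁻¹⁻¹ * v⁻¹ := by group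
    rw [e1] at h2
    rw [h2]
    exact h1

theorem mem_Ys {c : G} : c ∈ Ys R N ↔ (c ∈ normalizer (AA R N : Set G) ⊓ normalizer (ln N Set.univ : Set G)) ∧
    (∀ v ∈ AA R N, c * v * c⁻¹ * v⁻¹ ∈ ln N Set.univ) ∧ ∀ r ∈ ln N Set.univ, c * r = r * c := Iff.rfl

variable (h : InA S P R F V N)
include h

theorem amb : Amb (S : Subgroup G) P (zl (S : Subgroup G) P) := amb_of_loc h.hc S h.hP.isLoc

theorem ambR : Amb (S : Subgroup G) R (zl (S : Subgroup G) R) := amb_of_loc h.hc S h.hR.isLoc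

theorem rV : ln N Set.univ ≤ V := (ln_le _).trans h.UV

theorem AV : AA R N ≤ V := sup_le h.lV h.rV

omit h in
theorem lA : zl (S : Subgroup G) R ≤ AA R N := le_sup_left

omit h in
theorem rA : ln N Set.univ ≤ AA R N := le_sup_right

theorem SA : (S : Subgroup G) ≤ normalizer (AA R N : Set G) := by
  have h1 : (S : Subgroup G) ≤ normalizer (zl (S : Subgroup G) R : Set G) := h.ambR.TH.trans h.ambR.HV
  have h2 := norm_root (N := N) h.amb
  intro s hs
  rw [mem_normalizer_iff_cj]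
  rw [AA, cj, Subgroup.map_sup]
  have e1 := mem_normalizer_iff_cj.1 (h1 hs)
  have e2 := mem_normalizer_iff_cj.1 (h2 hs)
  rw [cj] at e1 e2
  rw [e1, e2]

/-- `A = R₁ (A ∩ F)` -/
theorem dec {v : G} (hv : v ∈ AA R N) : ∃ r ∈ ln N Set.univ, ∃ f ∈ AA R N ⊓ F, v = r * f := by
  have hc : zl (S : Subgroup G) R ≤ normalizer (ln N Set.univ : Set G) := fun x hx => by
    rw [mem_normalizer_iff]
    intro y
    constructor
    · intro hy
      rw [h.comm x (h.lV hx) y (h.rV hy), mul_inv_cancel_right]; exact hy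
    · intro hy
      have h1 := h.comm x (h.lV hx) _ (h.rV hy)
      have e1 : y = x * y * x⁻¹ := by
        have h2 : x * (x * y * x⁻¹) * x⁻¹ = x * y * x⁻¹ := by rw [h1]; group
        have h3 := congrArg (fun t => x⁻¹ * t * x) h2
        simpa only [mul_assoc, _root_.inv_mul_cancel_left, _root_.inv_mul_cancel, _root_.mul_one] using h3.symm
      rw [e1]; exact hy
  obtain ⟨x, hx, r, hr, rfl⟩ := mem_sup_norm hc hv
  obtain ⟨r', hr', hf⟩ := h.I x hx
  refine ⟨r * r', mul_mem hr hr', r'⁻¹ * x, mem_inf.2 ⟨mul_mem (inv_mem (rA hr')) (lA hx), hf⟩, ?_⟩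
  rw [h.comm x (h.lV hx) r (h.rV hr)]; group

theorem conjF {g f : G} (hg : g ∈ centralizer (F : Set G)) (hf : f ∈ F) : g * f * g⁻¹ = f := by
  have := mem_centralizer_iff.1 hg f hf
  rw [← this]; group

/-- an element of `C(F)` normalising `R₁` in the sense of the torus acts on `A` -/
theorem tor_mem {g : G} (hg : g ∈ centralizer (F : Set G)) (hr : ∀ r ∈ ln N Set.univ, g * r * g⁻¹ ∈ ln N Set.univ) :
    g ∈ normalizer (AA R N : Set G) ⊓ normalizer (ln N Set.univ : Set G) ∧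
      ∀ v ∈ AA R N, g * v * g⁻¹ * v⁻¹ ∈ ln N Set.univ := by
  have h1 : ∀ v ∈ AA R N, g * v * g⁻¹ * v⁻¹ ∈ ln N Set.univ := by
    intro v hv
    obtain ⟨r, hr', f, hf, rfl⟩ := h.dec hv
    have e1 : g * (r * f) * g⁻¹ * (r * f)⁻¹ = (g * r * g⁻¹) * (g * f * g⁻¹) * f⁻¹ * r⁻¹ := by group
    rw [e1, h.conjF hg hf.2, mul_inv_cancel_right]
    exact mul_mem (hr r hr') (inv_mem hr')
  refine ⟨⟨mem_normalizer_of_cj_le ?_, mem_normalizer_of_cj_le ?_⟩, h1⟩
  · rintro _ ⟨v, hv, rfl⟩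
    have h2 := mul_mem (rA (h1 v hv)) hv
    change g * v * g⁻¹ ∈ AA R N
    rwa [inv_mul_cancel_right] at h2
  · rintro _ ⟨v, hv, rfl⟩
    exact hr v hv

theorem Ys_conj {g c : G} (hg : g ∈ normalizer (AA R N : Set G) ⊓ normalizer (ln N Set.univ : Set G))
    (hc : c ∈ Ys R N) : g * c * g⁻¹ ∈ Ys R N := by
  obtain ⟨h1, h2, h3⟩ := mem_Ys.1 hc
  refine mem_Ys.2 ⟨mul_mem (mul_mem hg h1) (inv_mem hg), fun v hv => ?_, fun r hr => ?_⟩
  · have hv' : g⁻¹ * v * g ∈ AA R N := by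
      have := (mem_normalizer_iff.1 (inv_mem hg.1) v).1 hv
      rwa [inv_inv] at this
    have h4 := (mem_normalizer_iff.1 hg.2 _).1 (h2 _ hv')
    have e1 : g * (c * (g⁻¹ * v * g) * c⁻¹ * (g⁻¹ * v * g)⁻¹) * g⁻¹ = g * c * g⁻¹ * v * (g * c * g⁻¹)⁻¹ * v⁻¹ := by
      group
    rwa [e1] at h4
  · have hr' : g⁻¹ * r * g ∈ ln N Set.univ := by
      have := (mem_normalizer_iff.1 (inv_mem hg.2) r).1 hr
      rwa [inv_inv] at this
    have h4 := h3 _ hr'
    calc g * c * g⁻¹ * r = g * (c * (g⁻¹ * r * g)) * g⁻¹ := by group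
      _ = g * ((g⁻¹ * r * g) * c) * g⁻¹ := by rw [h4]
      _ = r * (g * c * g⁻¹) := by group

theorem zF {z : G} (hz : z ∈ zc (S : Subgroup G)) (hzF : z ∈ F) : z = 1 :=
  h.RF z (zc_le_root h.amb hz) hzF

theorem e_eq {r r' : G} (hr : r ∈ ln N Set.univ) (hr' : r' ∈ ln N Set.univ) (he : N.e r 0 0 = N.e r' 0 0) :
    r = r' := by
  refine e_inj (M := N) (ln_le _ hr) (ln_le _ hr') ?_
  funext j
  obtain rfl : j = 0 := Subsingleton.elim _ _
  refine NatPair.ext2 he ?_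
  rw [(mem_root.1 hr).2, (mem_root.1 hr').2]

theorem e_mul {r r' : G} (hr : r ∈ ln N Set.univ) (hr' : r' ∈ ln N Set.univ) :
    N.e (r * r') 0 0 = N.e r 0 0 + N.e r' 0 0 := by
  rw [N.mul r (ln_le _ hr) r' (ln_le _ hr')]; rfl

omit h in
theorem e_one' : N.e 1 0 0 = 0 := by rw [NatR.e_one]; rfl

/-- **(HOM)**: if `Ys` centralises `A`, then `V_R ≤ R₁`. -/
theorem le_root [Finite K] (hY : Ys R N ≤ centralizer (AA R N : Set G)) : zl (S : Subgroup G) R ≤ ln N Set.univ := by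
  have hSr := norm_root (N := N) h.amb
  -- `A ∩ F` is `S`-invariant
  have key : ∀ t ∈ (S : Subgroup G), ∀ x ∈ AA R N ⊓ F, t * x * t⁻¹ ∈ AA R N ⊓ F := by
    intro t ht x hx
    have hyA : t * x * t⁻¹ ∈ AA R N := (mem_normalizer_iff.1 (h.SA ht) x).1 hx.1
    obtain ⟨r, hr, f, hf, hrf⟩ := h.dec hyA
    obtain ⟨c, σ, hσ⟩ := semi (N := N) h.amb ht
    obtain ⟨l, hl0, hl1⟩ := RA.exists_ne_zero_one h.big
    have hL : ∀ y : K, (lineF N).e y ∈ ln N Set.univ := fun y => ((lineF N).mem _).2 ⟨y, rfl⟩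
    have he : ∀ y : K, N.e ((lineF N).e y) 0 0 = y := fun y => by
      have := NO1.NSix.e_em_self N.toNatK 0 ![y, 0]
      exact congrFun this 0
    obtain ⟨g, hgF, hg⟩ := h.tor l hl0
    obtain ⟨g', hgF', hg'⟩ := h.tor (σ l) ((map_ne_zero σ).2 hl0)
    obtain ⟨hgM, hgA⟩ := h.tor_mem hgF fun r hr => (hg r hr).1
    obtain ⟨hgM', hgA'⟩ := h.tor_mem hgF' fun r hr => (hg' r hr).1
    have htM : t ∈ normalizer (AA R N : Set G) ⊓ normalizer (ln N Set.univ : Set G) := ⟨h.SA ht, hSr ht⟩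
    -- `g` acts on the line as the multiplication by `l`
    have hgl : ∀ y : K, g * (lineF N).e y * g⁻¹ = (lineF N).e (l * y) := fun y =>
      h.e_eq (hg _ (hL y)).1 (hL _) (by rw [(hg _ (hL y)).2, he, he])
    have hgl' : ∀ y : K, g' * (lineF N).e y * g'⁻¹ = (lineF N).e (σ l * y) := fun y =>
      h.e_eq (hg' _ (hL y)).1 (hL _) (by rw [(hg' _ (hL y)).2, he, he])
    -- `u = g'⁻¹ (t g t⁻¹)` is in `Ys`
    have hu : g'⁻¹ * (t * g * t⁻¹) ∈ Ys R N := by
      have hM : t * g * t⁻¹ ∈ normalizer (AA R N : Set G) ⊓ normalizer (ln N Set.univ : Set G) :=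
        mul_mem (mul_mem htM hgM) (inv_mem htM)
      have hA1 : ∀ v ∈ AA R N, t * g * t⁻¹ * v * (t * g * t⁻¹)⁻¹ * v⁻¹ ∈ ln N Set.univ := by
        intro v hv
        have hv' : t⁻¹ * v * t ∈ AA R N := by
          have := (mem_normalizer_iff.1 (inv_mem htM.1) v).1 hv
          rwa [inv_inv] at this
        have h4 := (mem_normalizer_iff.1 htM.2 _).1 (hgA _ hv')
        have e1 : t * (g * (t⁻¹ * v * t) * g⁻¹ * (t⁻¹ * v * t)⁻¹) * t⁻¹ =
            t * g * t⁻¹ * v * (t * g * t⁻¹)⁻¹ * v⁻¹ := by group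
        rwa [e1] at h4
      refine mem_Ys.2 ⟨mul_mem (inv_mem hgM') hM, fun v hv => ?_, fun r hr => ?_⟩
      · have h5 := hA1 v hv
        have h6 := (mem_normalizer_iff.1 (inv_mem hgM'.2) _).1 h5
        have h7 : g'⁻¹ * v * g'⁻¹⁻¹ * v⁻¹ ∈ ln N Set.univ := by
          have h8 := (mem_normalizer_iff.1 (inv_mem hgM'.2) _).1 (inv_mem (hgA' v hv))
          have e1 : g'⁻¹ * (g' * v * g'⁻¹ * v⁻¹)⁻¹ * g'⁻¹⁻¹ = g'⁻¹ * v * g'⁻¹⁻¹ * v⁻¹ := by group
          rwa [e1] at h8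
        have e1 : g'⁻¹ * (t * g * t⁻¹) * v * (g'⁻¹ * (t * g * t⁻¹))⁻¹ * v⁻¹ =
            (g'⁻¹ * (t * g * t⁻¹ * v * (t * g * t⁻¹)⁻¹ * v⁻¹) * g'⁻¹⁻¹) * (g'⁻¹ * v * g'⁻¹⁻¹ * v⁻¹) := by group
        rw [e1]
        exact mul_mem h6 h7
      · obtain ⟨y, rfl⟩ := ((lineF N).mem r).1 hr
        -- `t g t⁻¹` acts as the multiplication by `σ l`
        have hty : ∀ y : K, t * g * t⁻¹ * (lineF N).e y * (t * g * t⁻¹)⁻¹ = (lineF N).e (σ l * y) := by
          intro y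
          obtain ⟨y', hy'⟩ := ((lineF N).mem _).1 ((mem_normalizer_iff.1 (inv_mem htM.2) _).1 (hL y))
          have hy2 : t * (lineF N).e y' * t⁻¹ = (lineF N).e y := by rw [hy']; group
          have e1 : t * g * t⁻¹ * (lineF N).e y * (t * g * t⁻¹)⁻¹ =
              t * (g * (t⁻¹ * (lineF N).e y * t⁻¹⁻¹) * g⁻¹) * t⁻¹ := by group
          rw [e1, ← hy', hgl, hσ, map_mul]
          rw [hσ] at hy2
          have h9 := (lineF N).inj hy2
          congr 1
          rw [← h9]; ring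
        have h10 : g'⁻¹ * (lineF N).e (σ l * y) * g'⁻¹⁻¹ = (lineF N).e y := by
          rw [← hgl']; group
        apply conj_comm
        calc g'⁻¹ * (t * g * t⁻¹) * (lineF N).e y * (g'⁻¹ * (t * g * t⁻¹))⁻¹
            = g'⁻¹ * (t * g * t⁻¹ * (lineF N).e y * (t * g * t⁻¹)⁻¹) * g'⁻¹⁻¹ := by group
          _ = _ := by rw [hty, h10]
    have huc := hY hu
    have h11 := comm_conj (mem_centralizer_iff.1 huc _ hyA).symm
    -- `t g t⁻¹` centralises `y`
    have h12 : t * g * t⁻¹ * (t * x * t⁻¹) * (t * g * t⁻¹)⁻¹ = t * x * t⁻¹ := by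
      calc t * g * t⁻¹ * (t * x * t⁻¹) * (t * g * t⁻¹)⁻¹ = t * (g * x * g⁻¹) * t⁻¹ := by group
        _ = _ := by rw [h.conjF hgF hx.2]
    have h13 : g' * (t * x * t⁻¹) * g'⁻¹ = t * x * t⁻¹ := by
      have e1 : g'⁻¹ * (t * g * t⁻¹) * (t * x * t⁻¹) * (g'⁻¹ * (t * g * t⁻¹))⁻¹ =
          g'⁻¹ * (t * g * t⁻¹ * (t * x * t⁻¹) * (t * g * t⁻¹)⁻¹) * g' := by group
      rw [e1, h12] at h11
      calc g' * (t * x * t⁻¹) * g'⁻¹ = g' * (g'⁻¹ * (t * x * t⁻¹) * g') * g'⁻¹ := by rw [h11]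
        _ = _ := by group
    rw [hrf] at h13 ⊢
    have h14 : g' * r * g'⁻¹ = r := by
      have e1 : g' * (r * f) * g'⁻¹ = (g' * r * g'⁻¹) * (g' * f * g'⁻¹) := by group
      rw [e1, h.conjF hgF' hf.2] at h13
      exact mul_right_cancel h13
    have h15 := (hg' r hr).2
    rw [h14] at h15
    have h16 : N.e r 0 0 = 0 := by
      by_contra h0
      have h17 : σ l = 1 := by
        have h18 : 1 * N.e r 0 0 = σ l * N.e r 0 0 := by rw [one_mul]; exact h15
        exact (mul_right_cancel₀ h0 h18).symm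
      exact hl1 ((map_eq_one_iff σ σ.injective).1 h17)
    have h17 : r = 1 := h.e_eq hr (one_mem _) (by rw [h16, e_one'])
    rw [h17, one_mul]
    exact hf
  -- so `A ∩ F = 1`
  have hbot : AA R N ⊓ F = ⊥ := by
    by_contra hne
    obtain ⟨z, hz, hzc, hz1⟩ := MinSimple.CaseD8.exists_mem_zc S.isPGroup' (C := AA R N ⊓ F)
      (inf_le_left.trans (sup_le h.ambR.VT ((ln_le _).trans h.amb.VT)))
      (fun t ht => mem_normalizer_of_cj_le (by
        rintro _ ⟨x, hx, rfl⟩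
        exact key t ht x hx)) hne
    exact hz1 (h.zF hzc hz.2)
  intro x hx
  obtain ⟨r, hr, f, hf, rfl⟩ := h.dec (lA hx)
  rw [hbot, mem_bot] at hf
  rw [hf, mul_one]
  exact hr

/-! #### (3a) -/

theorem syl_Ys : Syl ((S : Subgroup G) ⊓ Ys R N) (Ys R N) := by
  have hSM : (S : Subgroup G) ≤ normalizer (AA R N : Set G) ⊓ normalizer (ln N Set.univ : Set G) :=
    le_inf h.SA (norm_root h.amb)
  exact syl_inf (syl_of_sylow hSM) (fun c hc => (mem_Ys.1 hc).1) fun g hg c hc => h.Ys_conj hg hc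

/-- `t` acts on `A` as `l α`, where `c` acts as `α` -/
def Act (R : Subgroup G) (N : NatKM K (S : Subgroup G) P (zl (S : Subgroup G) P) ⊥ 1) (c t : G) (l : K) : Prop :=
  ∀ v ∈ AA R N, N.e (t * v * t⁻¹ * v⁻¹) 0 0 = l * N.e (c * v * c⁻¹ * v⁻¹) 0 0

theorem act_mul {c a b : G} {l m : K} (ha : a ∈ Ys R N) (hb : b ∈ Ys R N) (h1 : Act R N c a l)
    (h2 : Act R N c b m) : Act R N c (a * b) (l + m) := by
  obtain ⟨-, ha1, ha2⟩ := mem_Ys.1 ha
  obtain ⟨-, hb1, hb2⟩ := mem_Ys.1 hb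
  intro v hv
  have h4 := comm_conj (ha2 _ (hb1 v hv))
  have e1 : a * b * v * (a * b)⁻¹ * v⁻¹ = (b * v * b⁻¹ * v⁻¹) * (a * v * a⁻¹ * v⁻¹) := by
    calc a * b * v * (a * b)⁻¹ * v⁻¹ = (a * (b * v * b⁻¹ * v⁻¹) * a⁻¹) * (a * v * a⁻¹ * v⁻¹) := by group
      _ = _ := by rw [h4]
  rw [e1, h.e_mul (hb1 v hv) (ha1 v hv), h1 v hv, h2 v hv]
  ring

/-- every multiple of `α` is induced by `S` -/
theorem exists_act {c : G} (hc : c ∈ Ys R N) (l : K) : ∃ t ∈ (S : Subgroup G) ⊓ Ys R N, Act R N c t l := by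
  by_cases hl : l = 0
  · refine ⟨1, one_mem _, fun v _ => ?_⟩
    have e1 : (1 : G) * v * 1⁻¹ * v⁻¹ = 1 := by group
    rw [e1, e_one', hl, zero_mul]
  obtain ⟨g, hgF, hg⟩ := h.tor l hl
  obtain ⟨hgM, hgA⟩ := h.tor_mem hgF fun r hr => (hg r hr).1
  have hc' := h.Ys_conj hgM hc
  obtain ⟨-, hc1, hc2⟩ := mem_Ys.1 hc
  obtain ⟨t, ht, hact⟩ := exists_syl_act h.syl_Ys (V' := AA R N) (W := ln N Set.univ)
    (fun v hv w hw => h.comm v (h.AV hv) w (h.AV hw)) rA (fun w hw => h.sq w (h.rV hw))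
    (fun g hg => (mem_Ys.1 hg).2.1) (fun g hg => (mem_Ys.1 hg).2.2) hc'
  refine ⟨t, ht, fun v hv => ?_⟩
  rw [← hact v hv]
  obtain ⟨r, hr, f, hf, rfl⟩ := h.dec hv
  -- `[c, r f] = [c, f]`
  have key : ∀ r ∈ ln N Set.univ, c * (r * f) * c⁻¹ * (r * f)⁻¹ = c * f * c⁻¹ * f⁻¹ := by
    intro r hr
    have h1 := hc1 f hf.1
    have h2 := comm_conj (hc2 r hr)
    calc c * (r * f) * c⁻¹ * (r * f)⁻¹ = (c * r * c⁻¹) * (c * f * c⁻¹ * f⁻¹) * r⁻¹ := by group
      _ = r * (c * f * c⁻¹ * f⁻¹) * r⁻¹ := by rw [h2]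
      _ = (c * f * c⁻¹ * f⁻¹) * r * r⁻¹ := by rw [h.comm r (h.rV hr) _ (h.rV h1)]
      _ = _ := by group
  have hgr : g⁻¹ * r * g ∈ ln N Set.univ := by
    have := (mem_normalizer_iff.1 (inv_mem hgM.2) r).1 hr
    rwa [inv_inv] at this
  have hgf : g⁻¹ * f * g = f := by
    have := h.conjF (inv_mem hgF) hf.2
    rwa [inv_inv] at this
  have e1 : g * c * g⁻¹ * (r * f) * (g * c * g⁻¹)⁻¹ * (r * f)⁻¹ =
      g * (c * ((g⁻¹ * r * g) * (g⁻¹ * f * g)) * c⁻¹ * ((g⁻¹ * r * g) * (g⁻¹ * f * g))⁻¹) * g⁻¹ := by group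
  rw [e1, hgf, key _ hgr, key r hr]
  exact (hg _ (hc1 f hf.1)).2

/-- the group of the multiples of `α` induced by `S` -/
def Ec (h : InA S P R F V N) (c : G) : Subgroup G where
  carrier := {t | t ∈ (S : Subgroup G) ⊓ Ys R N ∧ ∃ l, Act R N c t l}
  mul_mem' := by
    rintro a b ⟨ha, l, hl⟩ ⟨hb, m, hm⟩
    exact ⟨mul_mem ha hb, l + m, h.act_mul ha.2 hb.2 hl hm⟩
  one_mem' := ⟨one_mem _, 0, fun v _ => by
    have e1 : (1 : G) * v * 1⁻¹ * v⁻¹ = 1 := by group
    rw [e1, e_one', zero_mul]⟩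
  inv_mem' := by
    rintro a ⟨ha, l, hl⟩
    refine ⟨inv_mem ha, -l, fun v hv => ?_⟩
    obtain ⟨-, h1, h2⟩ := mem_Ys.1 ha.2
    have h3 := inv_mem (h1 v hv)
    have h4 : a⁻¹ * (a * v * a⁻¹ * v⁻¹)⁻¹ * a⁻¹⁻¹ = (a * v * a⁻¹ * v⁻¹)⁻¹ := by
      apply comm_conj
      have h5 := h2 _ h3
      calc a⁻¹ * (a * v * a⁻¹ * v⁻¹)⁻¹ = a⁻¹ * ((a * v * a⁻¹ * v⁻¹)⁻¹ * a) * a⁻¹ := by group
        _ = a⁻¹ * (a * (a * v * a⁻¹ * v⁻¹)⁻¹) * a⁻¹ := by rw [h5]
        _ = _ := by group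
    have e1 : a⁻¹ * v * a⁻¹⁻¹ * v⁻¹ = (a * v * a⁻¹ * v⁻¹)⁻¹ := by
      rw [← h4]; group
    rw [e1, NatR.e_inv (M := N) (ln_le _ (h1 v hv)), Pi.neg_apply, Pi.neg_apply, hl v hv]
    ring

theorem eq_one_of {t v : G} (ht : t ∈ Ys R N) (hv : v ∈ AA R N) (h0 : N.e (t * v * t⁻¹ * v⁻¹) 0 0 = 0) :
    t * v = v * t := by
  have h1 : t * v * t⁻¹ * v⁻¹ = 1 := h.e_eq ((mem_Ys.1 ht).2.1 v hv) (one_mem _) (by rw [h0, e_one'])
  exact conj_comm (mul_inv_eq_one.1 h1)

theorem eq_zero_of {t v : G} (h0 : t * v = v * t) : N.e (t * v * t⁻¹ * v⁻¹) 0 0 = 0 := by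
  rw [comm_conj h0, mul_inv_cancel, e_one']

/-- if `c` moves `A`, it moves `V_R` -/
theorem exists_moved {c : G} (hc : c ∈ Ys R N) (hcA : c ∉ centralizer (AA R N : Set G)) :
    ∃ x ∈ zl (S : Subgroup G) R, N.e (c * x * c⁻¹ * x⁻¹) 0 0 ≠ 0 := by
  by_contra hcon
  push Not at hcon
  have h1 : AA R N ≤ centralizer ({c} : Set G) := by
    refine sup_le (fun x hx => ?_) fun r hr => ?_
    · rw [mem_centralizer_singleton_iff]
      exact (h.eq_one_of hc (lA hx) (hcon x hx)).symm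
    · rw [mem_centralizer_singleton_iff]
      exact ((mem_Ys.1 hc).2.2 r hr).symm
  refine hcA (mem_centralizer_iff.2 fun v hv => ?_)
  exact mem_centralizer_singleton_iff.1 (h1 hv)

/-- **(3a)**: `S` contains a group acting on `V_R` as `F_q α`. -/
theorem trv [Finite K] {c : G} (hc : c ∈ Ys R N) (hcA : c ∉ centralizer (AA R N : Set G)) :
    Trv (zl (S : Subgroup G) R) (h.Ec c) (ln N Set.univ) := by
  obtain ⟨x, hx, hx0⟩ := h.exists_moved hc hcA
  have hex : ∀ l : K, ∃ t ∈ h.Ec c, Act R N c t l := fun l => by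
    obtain ⟨t, ht, hl⟩ := h.exists_act hc l
    exact ⟨t, ⟨ht, l, hl⟩, hl⟩
  have hYs : ∀ {t : G}, t ∈ h.Ec c → t ∈ Ys R N := fun ht => ht.1.2
  have hnl : ∀ t ∈ h.Ec c, t * x * t⁻¹ * x⁻¹ ∈ zl (S : Subgroup G) R := fun t ht =>
    mul_mem (h.ambR.conj_mem (h.hR.le ht.1.1) hx) (inv_mem hx)
  refine ⟨h.ambR.comm, fun r hr => h.sq r (h.rV hr), fun r hr => ?_, fun a ha r hr => (mem_Ys.1 (hYs ha)).2.2 r hr,
    fun a ha v hv => (mem_Ys.1 (hYs ha)).2.1 v (lA hv), ?_, ?_, ?_⟩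
  · -- `R₁ ≤ V_R`
    obtain ⟨t, ht, hl⟩ := hex (N.e r 0 0 / N.e (c * x * c⁻¹ * x⁻¹) 0 0)
    have h1 := hl x (lA hx)
    rw [div_mul_cancel₀ _ hx0] at h1
    have h2 := h.e_eq ((mem_Ys.1 (hYs ht)).2.1 x (lA hx)) hr h1
    rw [← h2]
    exact hnl t ht
  · rintro a ⟨ha, l, hl⟩ hac v hv hav b ⟨hb, m, hm⟩
    have hl0 : l ≠ 0 := by
      rintro rfl
      refine hac (mem_centralizer_iff.2 fun w hw => ?_)
      refine (h.eq_one_of ha.2 (lA hw) ?_).symm
      rw [hl w (lA hw), zero_mul]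
    have h1 := hl v (lA hv)
    rw [h.eq_zero_of hav] at h1
    have h2 : N.e (c * v * c⁻¹ * v⁻¹) 0 0 = 0 := (mul_eq_zero.1 h1.symm).resolve_left hl0
    refine h.eq_one_of hb.2 (lA hv) ?_
    rw [hm v (lA hv), h2, mul_zero]
  · intro hle
    obtain ⟨t, ht, hl⟩ := hex 1
    have h1 := hl x (lA hx)
    rw [one_mul, h.eq_zero_of (mem_centralizer_iff.1 (hle ht) x hx).symm] at h1
    exact hx0 h1.symm
  · -- the count
    choose τ hτ hτl using hex
    have h1 : Function.Injective (fun p : ↥(ln N Set.univ) × ↥(h.Ec c ⊓ centralizer (zl (S : Subgroup G) R : Set G)) =>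
        (⟨τ (N.e p.1 0 0) * p.2, mul_mem (hτ _) p.2.2.1⟩ : ↥(h.Ec c))) := by
      rintro ⟨⟨r, hr⟩, ⟨a, ha⟩⟩ ⟨⟨r', hr'⟩, ⟨a', ha'⟩⟩ heq
      have heq' : τ (N.e r 0 0) * a = τ (N.e r' 0 0) * a' := congrArg Subtype.val heq
      have hcoord : ∀ (r a : G), a ∈ h.Ec c ⊓ centralizer (zl (S : Subgroup G) R : Set G) →
          N.e (τ (N.e r 0 0) * a * x * (τ (N.e r 0 0) * a)⁻¹ * x⁻¹) 0 0 =
            N.e r 0 0 * N.e (c * x * c⁻¹ * x⁻¹) 0 0 := by
        intro r a ha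
        have h2 : a * x * a⁻¹ = x := comm_conj (mem_centralizer_iff.1 ha.2 x hx).symm
        have e1 : τ (N.e r 0 0) * a * x * (τ (N.e r 0 0) * a)⁻¹ * x⁻¹ =
            τ (N.e r 0 0) * (a * x * a⁻¹) * (τ (N.e r 0 0))⁻¹ * x⁻¹ := by group
        rw [e1, h2]
        exact hτl _ x (lA hx)
      have h3 := hcoord r a ha
      rw [heq', hcoord r' a' ha'] at h3
      have h4 : r' = r := h.e_eq hr' hr (mul_right_cancel₀ hx0 h3)
      subst h4
      have h5 := mul_left_cancel heq'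
      subst h5
      rfl
    have h2 := Nat.card_le_card_of_injective _ h1
    rwa [Nat.card_prod] at h2

/-- **(3)**. -/
theorem false [Finite K] [CharP K 2] : False := by
  by_cases hY : Ys R N ≤ centralizer (AA R N : Set G)
  · exact false_of_le_root h.hc h.hP N h.hR h.ex (h.le_root hY)
  · obtain ⟨c, hc, hcA⟩ := Set.not_subset.1 hY
    have T := h.trv hc hcA
    have hES : h.Ec c ≤ (S : Subgroup G) := fun t ht => ht.1.1
    have hcon := (FFBr.ffthmM G S R (FFThm.syl_of_sylow S h.hR.le) h.hR.toIsMinPar (h.hR.isLoc.char2 S h.hc)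
      ⟨h.Ec c, hES.trans h.hR.le, T.offM⟩).2
    refine T.false_line h.hc h.hR hcon hES fun hbot => ?_
    obtain ⟨e, he, he1⟩ : ∃ e : G, e ∈ zc (S : Subgroup G) ⊓ centralizer (R : Set G) ∧ e ≠ 1 := by
      by_contra hcon
      push Not at hcon
      exact h.ex ((Subgroup.eq_bot_iff_forall _).2 hcon)
    have h1 : e ∈ ln N Set.univ ⊓ cv (S : Subgroup G) R :=
      ⟨zc_le_root h.amb he.1, h.ambR.zc he.1, centralizer_le (MinSimple.VModule.oddGen_le R) he.2⟩
    rw [hbot] at h1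
    exact he1 (mem_bot.1 h1)

end InA

/-- **R3.** -/
theorem r3 : StR3.{u} := by
  intro G _ _ S V F B P K _ _ _ N β s hT R hR hex hRV hRB
  have hA := amb_of_loc s.ctx.char2 S s.hP.isLoc
  have hrt : ∀ v, v ∈ ln N Set.univ ↔ Low.Rtv N 0 v := by
    intro v
    rw [mem_root]
    constructor
    · rintro ⟨h1, h2⟩
      exact ⟨⟨h1, fun j hj => absurd (Subsingleton.elim _ _) hj⟩, h2⟩
    · rintro ⟨⟨h1, -⟩, h2⟩
      exact ⟨h1, h2⟩
  have hcommV : ∀ a ∈ V, ∀ b ∈ V, a * b = b * a := fun a ha b hb => s.flat.V_comm ha hb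
  have hsqV : ∀ a ∈ V, a * a = 1 := fun a ha => by rw [← pow_two]; exact s.flat.sq a ha
  have h : InA S P R F V N := by
    refine ⟨s.ctx.char2, s.hP, hR, hex, hcommV, hsqV, s.UV, hRV, s.flat.F_le_V, fun a ha => ?_, fun r hr hrF => ?_,
      fun l hl => ?_, ?_⟩
    · obtain ⟨r, hr, hrF⟩ := s.I a ⟨hRV ha, hRB ha⟩
      exact ⟨r, (hrt r).2 hr, hrF⟩
    · exact s.blkF r ((hrt r).1 hr).1 hrF
    · obtain ⟨g, hg, h1⟩ := hT l hl
      refine ⟨g, hg, fun r hr => ?_⟩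
      obtain ⟨h2, h3⟩ := h1 r ((hrt r).1 hr)
      exact ⟨(hrt _).2 h2, h3⟩
    · have h1 : Nat.card (zc (S : Subgroup G)) ≤ Nat.card (ln N Set.univ) :=
        Subgroup.card_le_of_le (zc_le_root hA)
      rw [(lineF N).card] at h1
      exact lt_of_lt_of_le s.card h1
  exact h.false

end Cfsg.Agent.Omega.NOThreeL.RLow.KOne

end

-- merged: Cfsg.Agent.Mrg.Omega.NOThreeL.RLow.Final
section

/-!
# THEOREM R-LOW (#21762, helper597), complete

Box R of NO-3L (`Data S`, some `C_Z(P) ≠ 1`), not (A); K-free.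

* `parts : Parts` : RA (helper703), RB (helper961), RC (helper703, 535, 343, 652; text helper343 (b4) / helper535),
  RD (helper342, 652), RE (helper19), RF (helper883), R2 (helper319; LEMMA HALF helper535), R3 (helper920, 190, 770);
* `zl_MZ_le` : **`V* = ⟨Z^⟨P*(S)⟩⟩ ≤ Q = O₂(C_G(Z))` if `V*` is not FF**;
* `zl_LL_le`, `rr_le` : `⟨Z^L⟩ ≤ Q` for `L = LL S (RR S)`, `RR S ≤ Q` (V* FF or not).
-/

set_option autoImplicit false

namespace Cfsg.Agent.Omega.NOThreeL.RLow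

open Subgroup Cfsg Cfsg.Agent.ZN Cfsg.Agent.Omega.MinPar Cfsg.Agent.Omega.Frame Cfsg.Agent.Omega.FrameNOFF
open Cfsg.Agent.Omega.Node.NO3L (Data)
open Cfsg.Agent.Omega.NOThreeL.Basic (CaseA)
open Cfsg.Agent.Omega.NOThreeL.Merge (MZ)
open Cfsg.Agent.Omega.NO3S (FFMod)
open Cfsg.Agent.Omega.NOThreeL.RZ (RR LL)

universe u

/-- **All parts of THEOREM R-LOW.** -/
theorem parts : Parts.{u} where
  ra := ra
  rb := SymR.rb
  rc := rc
  rd := RD.rd
  re := re
  rf := CER.stRF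
  r2 := r2
  r3 := KOne.r3

variable {G : Type u} [Group G] [Finite G] {S : Sylow 2 G}

end Cfsg.Agent.Omega.NOThreeL.RLow

end

private theorem dce_f5ee28bc9660 : _root_.True := by
  try have : _root_.True := by simp only [_root_.Cfsg.Agent.Omega.NOThreeL.RLow.KOne.InA.AA.eq_1]
  exact _root_.True.intro
end
end
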